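import Mathlib

set_option autoImplicit false

namespace Cfsg.Agent.Lib.Helper99

open Matrix

section basic
variable {F : Type*} [Field F]

/-- Cayley–Hamilton for `2 × 2` matrices. -/
lemma sq_eq_trace_smul_sub_det (x : Matrix (Fin 2) (Fin 2) F) :
    x * x = x.trace • x - x.det • (1 : Matrix (Fin 2) (Fin 2) F) := by
  ext i j
  fin_cases i <;> fin_cases j <;>
    simp [Matrix.mul_apply, Fin.sum_univ_two, Matrix.det_fin_two, Matrix.trace_fin_two] <;> ring

/-- the companion matrix with determinant one and trace `t` -/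
def comp2 (t : F) : Matrix (Fin 2) (Fin 2) F := !![0, -1; 1, t]

lemma comp2_det (t : F) : (comp2 t).det = 1 := by simp [comp2, Matrix.det_fin_two]

/-- the centraliser of a non-scalar `2 × 2` matrix `z` is `F[z]` -/
lemma exists_eq_add_smul_of_commute {z x : Matrix (Fin 2) (Fin 2) F}
    (hz : ∀ c : F, z ≠ c • (1 : Matrix (Fin 2) (Fin 2) F)) (hxz : x * z = z * x) :
    ∃ α β : F, x = α • (1 : Matrix (Fin 2) (Fin 2) F) + β • z := by
  have e00 := congrFun (congrFun hxz 0) 0
  have e01 := congrFun (congrFun hxz 0) 1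
  have e10 := congrFun (congrFun hxz 1) 0
  have e11 := congrFun (congrFun hxz 1) 1
  simp only [Matrix.mul_apply, Fin.sum_univ_two] at e00 e01 e10 e11
  by_cases h01 : z 0 1 ≠ 0
  · obtain ⟨β, hβ⟩ : ∃ β, x 0 1 = β * z 0 1 := ⟨x 0 1 / z 0 1, by field_simp⟩
    have h10 : x 1 0 = β * z 1 0 := by
      apply mul_left_cancel₀ h01
      linear_combination (-1 : F) * e00 + z 1 0 * hβ
    have h11 : x 1 1 = x 0 0 - β * z 0 0 + β * z 1 1 := by
      apply mul_left_cancel₀ h01
      linear_combination (-1 : F) * e01 + (z 1 1 - z 0 0) * hβ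
    refine ⟨x 0 0 - β * z 0 0, β, ?_⟩
    ext i j
    fin_cases i <;> fin_cases j <;> simp [Matrix.smul_apply, Matrix.add_apply]
    · exact hβ
    · exact h10
    · exact h11
  · rw [not_not] at h01
    by_cases h10 : z 1 0 ≠ 0
    · obtain ⟨β, hβ⟩ : ∃ β, x 1 0 = β * z 1 0 := ⟨x 1 0 / z 1 0, by field_simp⟩
      have h01' : x 0 1 = β * z 0 1 := by
        apply mul_left_cancel₀ h10
        linear_combination e00 + z 0 1 * hβ
      have h11 : x 1 1 = x 0 0 - β * z 0 0 + β * z 1 1 := by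
        apply mul_left_cancel₀ h10
        linear_combination e10 + (z 1 1 - z 0 0) * hβ
      refine ⟨x 0 0 - β * z 0 0, β, ?_⟩
      ext i j
      fin_cases i <;> fin_cases j <;> simp [Matrix.smul_apply, Matrix.add_apply]
      · exact h01'
      · exact hβ
      · exact h11
    · rw [not_not] at h10
      have hne : z 0 0 ≠ z 1 1 := by
        intro heq
        apply hz (z 0 0)
        ext i j
        fin_cases i <;> fin_cases j <;> simp [h01, h10, heq]
      have hsub : z 0 0 - z 1 1 ≠ 0 := sub_ne_zero.mpr hne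
      have hx01 : x 0 1 = 0 := by
        have : x 0 1 * (z 0 0 - z 1 1) = 0 := by linear_combination (-1 : F) * e01 + x 0 0 * h01 - x 1 1 * h01
        rcases mul_eq_zero.mp this with h | h
        · exact h
        · exact absurd h hsub
      have hx10 : x 1 0 = 0 := by
        have : x 1 0 * (z 0 0 - z 1 1) = 0 := by linear_combination e10 - x 1 1 * h10 + x 0 0 * h10
        rcases mul_eq_zero.mp this with h | h
        · exact h
        · exact absurd h hsub
      obtain ⟨β, hβ⟩ : ∃ β, x 0 0 - x 1 1 = β * (z 0 0 - z 1 1) :=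
        ⟨(x 0 0 - x 1 1) / (z 0 0 - z 1 1), by field_simp⟩
      refine ⟨x 0 0 - β * z 0 0, β, ?_⟩
      ext i j
      fin_cases i <;> fin_cases j <;> simp [Matrix.smul_apply, Matrix.add_apply, h01, h10, hx01, hx10]
      linear_combination (-1 : F) * hβ

end basic

section finite
variable {F : Type*} [Field F] [Fintype F]

open Polynomial in
/-- a nondegenerate diagonal binary form over a finite field of odd order is universal -/
lemma exists_sq_add_mul_sq (hodd : Fintype.card F % 2 = 1) (δ γ : F) (hδ : δ ≠ 0) :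
    ∃ m u : F, m ^ 2 + δ * u ^ 2 = γ := by
  let f : F[X] := X ^ 2
  let g : F[X] := C δ * X ^ 2 - C γ
  have hg2 : degree g = 2 := by
    have h1 : degree (C δ * X ^ 2 : F[X]) = 2 := degree_C_mul_X_pow 2 hδ
    have h2 : (0 : WithBot ℕ) < degree (C δ * X ^ 2 : F[X]) := by rw [h1]; decide
    rw [degree_sub_C h2, h1]
  obtain ⟨a, b, hab⟩ := FiniteField.exists_root_sum_quadratic (f := f) (g := g) (degree_X_pow 2) hg2 hodd
  refine ⟨a, b, ?_⟩
  simp only [f, g, eval_C, eval_X, eval_pow, eval_sub, eval_mul] at hab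
  linear_combination hab

/-- a `2 × 2` matrix of determinant one whose trace `t` has `t² ≠ 4` is conjugate to the companion
matrix by a matrix of determinant one -/
lemma exists_conj_comp2 (hodd : Fintype.card F % 2 = 1) (h2 : (2 : F) ≠ 0)
    (x : Matrix (Fin 2) (Fin 2) F) (hdet : x.det = 1) (hdisc : x.trace ^ 2 - 4 ≠ 0) :
    ∃ g : Matrix (Fin 2) (Fin 2) F, g.det = 1 ∧ x * g = g * comp2 x.trace := by
  rw [Matrix.det_fin_two] at hdet
  rw [Matrix.trace_fin_two] at hdisc
  -- solve Q(s,u) = 1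
  have key : ∃ s u : F, x 1 0 * s ^ 2 + (x 1 1 - x 0 0) * s * u - x 0 1 * u ^ 2 = 1 := by
    by_cases hc : x 1 0 = 0
    · have hda : x 1 1 - x 0 0 ≠ 0 := by
        intro h
        apply hdisc
        rw [hc] at hdet
        have h' : x 1 1 = x 0 0 := sub_eq_zero.mp h
        rw [h'] at hdet ⊢
        linear_combination (4 : F) * hdet
      refine ⟨(1 + x 0 1) / (x 1 1 - x 0 0), 1, ?_⟩
      rw [hc]
      field_simp
      ring
    · have h4 : (4 : F) ≠ 0 := by
        have : (4 : F) = 2 * 2 := by norm_num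
        rw [this]; exact mul_ne_zero h2 h2
      have hδ : -((x 0 0 + x 1 1) ^ 2 - 4) ≠ 0 := neg_ne_zero.mpr hdisc
      obtain ⟨m, u, hmu⟩ := exists_sq_add_mul_sq hodd (-((x 0 0 + x 1 1) ^ 2 - 4)) (4 * x 1 0) hδ
      have h2c : 2 * x 1 0 ≠ 0 := mul_ne_zero h2 hc
      obtain ⟨s, hs⟩ : ∃ s, 2 * x 1 0 * s = m - (x 1 1 - x 0 0) * u :=
        ⟨(m - (x 1 1 - x 0 0) * u) / (2 * x 1 0), by field_simp⟩
      refine ⟨s, u, ?_⟩
      apply mul_left_cancel₀ (mul_ne_zero h4 hc)
      linear_combination (2 * x 1 0 * s + m + (x 1 1 - x 0 0) * u) * hs + hmu + 4 * u ^ 2 * hdet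
  obtain ⟨s, u, hsu⟩ := key
  refine ⟨!![s, x 0 0 * s + x 0 1 * u; u, x 1 0 * s + x 1 1 * u], ?_, ?_⟩
  · rw [Matrix.det_fin_two]
    simp only [Matrix.of_apply, Matrix.cons_val', Matrix.cons_val_zero, Matrix.cons_val_one,
      Matrix.cons_val_fin_one]
    linear_combination hsu
  · ext i j
    fin_cases i <;> fin_cases j <;>
      simp [comp2, Matrix.mul_apply, Fin.sum_univ_two, Matrix.trace_fin_two]
    · linear_combination (-s) * hdet
    · linear_combination (-u) * hdet

/-- two `2 × 2` matrices of determinant one with the same trace `t`, `t² ≠ 4`, are conjugate by a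
matrix of determinant one -/
lemma exists_conj_of_trace_eq (hodd : Fintype.card F % 2 = 1) (h2 : (2 : F) ≠ 0)
    (x y : Matrix (Fin 2) (Fin 2) F) (hx : x.det = 1) (hy : y.det = 1) (htr : x.trace = y.trace)
    (hdisc : x.trace ^ 2 - 4 ≠ 0) :
    ∃ g : Matrix (Fin 2) (Fin 2) F, g.det = 1 ∧ x * g = g * y := by
  obtain ⟨g1, hg1, e1⟩ := exists_conj_comp2 hodd h2 x hx hdisc
  obtain ⟨g2, hg2, e2⟩ := exists_conj_comp2 hodd h2 y hy (htr ▸ hdisc)
  have hu2 : IsUnit g2.det := by rw [hg2]; exact isUnit_one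
  refine ⟨g1 * g2⁻¹, ?_, ?_⟩
  · rw [Matrix.det_mul, Matrix.det_nonsing_inv, hg1, hg2]; simp
  · have e3 : comp2 x.trace = g2⁻¹ * y * g2 := by
      rw [htr, Matrix.mul_assoc, e2, ← Matrix.mul_assoc, Matrix.nonsing_inv_mul _ hu2, Matrix.one_mul]
    calc x * (g1 * g2⁻¹) = (x * g1) * g2⁻¹ := by rw [Matrix.mul_assoc]
      _ = g1 * comp2 x.trace * g2⁻¹ := by rw [e1]
      _ = g1 * (g2⁻¹ * y * g2) * g2⁻¹ := by rw [e3]
      _ = g1 * g2⁻¹ * y * (g2 * g2⁻¹) := by simp only [Matrix.mul_assoc]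
      _ = g1 * g2⁻¹ * y := by rw [Matrix.mul_nonsing_inv _ hu2, Matrix.mul_one]

end finite

end Cfsg.Agent.Lib.Helper99
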