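import Mathlib
import Cfsg.Prelude.Def_Transfer
import Cfsg.Prelude.Def_PLocal

set_option autoImplicit false

namespace Cfsg.Agent.Lib.Helper99

open Cfsg

section basic

variable {G : Type*} [Group G] {p : ℕ}

lemma isEA_iff (A : Subgroup G) :
    IsElementaryAbelian p A ↔ (∀ a ∈ A, ∀ b ∈ A, a * b = b * a) ∧ ∀ a ∈ A, a ^ p = 1 := by
  unfold IsElementaryAbelian
  rw [isMulCommutative_iff]
  constructor
  · rintro ⟨h1, h2⟩
    refine ⟨fun a ha b hb => ?_, h2⟩
    have := h1 ⟨a, ha⟩ ⟨b, hb⟩
    exact congrArg Subtype.val this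
  · rintro ⟨h1, h2⟩
    refine ⟨fun a b => ?_, h2⟩
    exact Subtype.ext (h1 a a.2 b b.2)

lemma isEA_bot : IsElementaryAbelian p (⊥ : Subgroup G) := by
  rw [isEA_iff]
  constructor
  · intro a ha b hb
    rw [Subgroup.mem_bot] at ha hb
    rw [ha, hb]
  · intro a ha
    rw [Subgroup.mem_bot] at ha
    rw [ha, one_pow]

lemma isEA_mono {A B : Subgroup G} (h : A ≤ B) (hB : IsElementaryAbelian p B) :
    IsElementaryAbelian p A := by
  rw [isEA_iff] at hB ⊢
  exact ⟨fun a ha b hb => hB.1 a (h ha) b (h hb), fun a ha => hB.2 a (h ha)⟩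

lemma isEA_map_iff {H : Type*} [Group H] (f : H →* G) (hf : Function.Injective f) (A : Subgroup H) :
    IsElementaryAbelian p (A.map f) ↔ IsElementaryAbelian p A := by
  rw [isEA_iff, isEA_iff]
  constructor
  · rintro ⟨h1, h2⟩
    refine ⟨fun a ha b hb => ?_, fun a ha => ?_⟩
    · apply hf
      rw [map_mul, map_mul]
      exact h1 _ (Subgroup.mem_map_of_mem f ha) _ (Subgroup.mem_map_of_mem f hb)
    · apply hf
      rw [map_pow, map_one]
      exact h2 _ (Subgroup.mem_map_of_mem f ha)
  · rintro ⟨h1, h2⟩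
    refine ⟨?_, ?_⟩
    · rintro _ ⟨a, ha, rfl⟩ _ ⟨b, hb, rfl⟩
      rw [← map_mul, ← map_mul, h1 a ha b hb]
    · rintro _ ⟨a, ha, rfl⟩
      rw [← map_pow, h2 a ha, map_one]

lemma isEA_map {H : Type*} [Group H] (f : H →* G) (A : Subgroup H) (hA : IsElementaryAbelian p A) :
    IsElementaryAbelian p (A.map f) := by
  rw [isEA_iff] at hA ⊢
  obtain ⟨h1, h2⟩ := hA
  refine ⟨?_, ?_⟩
  · rintro _ ⟨a, ha, rfl⟩ _ ⟨b, hb, rfl⟩
    rw [← map_mul, ← map_mul, h1 a ha b hb]
  · rintro _ ⟨a, ha, rfl⟩
    rw [← map_pow, h2 a ha, map_one]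

lemma isEA_isPGroup [Fact p.Prime] {A : Subgroup G} (hA : IsElementaryAbelian p A) : IsPGroup p A := by
  intro a
  refine ⟨1, ?_⟩
  rw [pow_one]
  exact Subtype.ext (by simpa using hA.2 a a.2)

/-- the subgroup generated by an elementary abelian subgroup and a commuting elementary abelian
subgroup is elementary abelian -/
lemma isEA_sup {A B : Subgroup G} (hA : IsElementaryAbelian p A) (hB : IsElementaryAbelian p B)
    (hAB : ∀ a ∈ A, ∀ b ∈ B, a * b = b * a) : IsElementaryAbelian p (A ⊔ B) := by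
  rw [isEA_iff] at hA hB ⊢
  have hgen : ∀ x ∈ ((A : Set G) ∪ B), ∀ y ∈ ((A : Set G) ∪ B), x * y = y * x := by
    rintro x (hx | hx) y (hy | hy)
    · exact hA.1 x hx y hy
    · exact hAB x hx y hy
    · exact (hAB y hy x hx).symm
    · exact hB.1 x hx y hy
  have hcl : A ⊔ B = Subgroup.closure ((A : Set G) ∪ B) := by
    rw [Subgroup.closure_union, Subgroup.closure_eq, Subgroup.closure_eq]
  have hcomm : ∀ x ∈ A ⊔ B, ∀ y ∈ A ⊔ B, x * y = y * x := by
    intro x hx y hy
    rw [hcl] at hx hy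
    have hc := Subgroup.isMulCommutative_closure hgen
    have := (isMulCommutative_iff.mp hc) (⟨x, hx⟩ : Subgroup.closure ((A : Set G) ∪ B)) ⟨y, hy⟩
    exact congrArg Subtype.val this
  refine ⟨hcomm, ?_⟩
  intro x hx
  have hx' := hx
  rw [hcl] at hx'
  induction hx' using Subgroup.closure_induction with
  | mem x hx0 =>
    rcases hx0 with h | h
    · exact hA.2 x h
    · exact hB.2 x h
  | one => exact one_pow p
  | mul x y hx0 hy0 ihx ihy =>
    rw [← hcl] at hx0 hy0
    have hc : Commute x y := hcomm x hx0 y hy0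
    rw [hc.mul_pow, ihx hx0, ihy hy0, one_mul]
  | inv x hx0 ih =>
    rw [← hcl] at hx0
    rw [inv_pow, ih hx0, inv_one]

end basic

section maxEA

variable {G : Type*} [Group G] {p : ℕ}

lemma maxEA_nonempty [Finite G] : (maxElementaryAbelianSubgroups p G).Nonempty := by
  classical
  have hfin : (Set.univ : Set (Subgroup G)).Finite := Set.finite_univ
  obtain ⟨A, hA, hmax⟩ := Set.Finite.exists_maximalFor (fun A : Subgroup G => Nat.card A)
    {A : Subgroup G | IsElementaryAbelian p A} (Set.toFinite _) ⟨⊥, isEA_bot⟩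
  refine ⟨A, hA, fun B hB => ?_⟩
  by_contra hlt
  rw [not_le] at hlt
  exact absurd (hmax hB hlt.le) (not_le.mpr hlt)

/-- transport of maximal elementary abelian subgroups along an injective hom whose range
contains one maximal elementary abelian subgroup of the target -/
lemma mem_maxEA_map_iff {H : Type*} [Group H] (f : H →* G) (hf : Function.Injective f)
    (h0 : ∃ A₀ ∈ maxElementaryAbelianSubgroups p G, A₀ ≤ f.range) (A : Subgroup H) :
    A ∈ maxElementaryAbelianSubgroups p H ↔ A.map f ∈ maxElementaryAbelianSubgroups p G := by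
  obtain ⟨A₀, hA₀, hle⟩ := h0
  constructor
  · rintro ⟨hA, hmax⟩
    refine ⟨(isEA_map_iff f hf A).mpr hA, fun B hB => ?_⟩
    rw [Subgroup.card_map_of_injective hf]
    have h1 : Nat.card B ≤ Nat.card A₀ := hA₀.2 B hB
    have h2 : (A₀.comap f).map f = A₀ := by
      rw [Subgroup.map_comap_eq, inf_eq_right.mpr hle]
    have h3 : IsElementaryAbelian p (A₀.comap f) := by
      rw [← isEA_map_iff f hf, h2]; exact hA₀.1
    have h4 := hmax _ h3
    rw [← Subgroup.card_map_of_injective hf, h2] at h4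
    exact h1.trans h4
  · rintro ⟨hA, hmax⟩
    refine ⟨(isEA_map_iff f hf A).mp hA, fun B hB => ?_⟩
    have := hmax (B.map f) ((isEA_map_iff f hf B).mpr hB)
    rwa [Subgroup.card_map_of_injective hf, Subgroup.card_map_of_injective hf] at this

lemma maxEA_map_equiv (φ : G ≃* G) {A : Subgroup G} (hA : A ∈ maxElementaryAbelianSubgroups p G) :
    A.map φ.toMonoidHom ∈ maxElementaryAbelianSubgroups p G := by
  refine (mem_maxEA_map_iff φ.toMonoidHom φ.injective ⟨A, hA, ?_⟩ A).mp hA
  intro x _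
  exact ⟨φ.symm x, by simp⟩

lemma le_thompson {A : Subgroup G} (hA : A ∈ maxElementaryAbelianSubgroups p G) :
    A ≤ thompsonSubgroup p G := le_sSup hA

/-- `J(U)` viewed in `G`, for a subgroup `U` containing one maximal elementary abelian subgroup, is the
join of the maximal elementary abelian subgroups of `G` contained in `U`. -/
lemma thompsonSubgroupOf_eq (U : Subgroup G)
    (h0 : ∃ A₀ ∈ maxElementaryAbelianSubgroups p G, A₀ ≤ U) :
    thompsonSubgroupOf p U = sSup {B | B ∈ maxElementaryAbelianSubgroups p G ∧ B ≤ U} := by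
  have h0' : ∃ A₀ ∈ maxElementaryAbelianSubgroups p G, A₀ ≤ U.subtype.range := by
    simpa using h0
  unfold thompsonSubgroupOf thompsonSubgroup
  apply le_antisymm
  · rw [Subgroup.map_le_iff_le_comap]
    apply sSup_le
    intro A hA
    rw [← Subgroup.map_le_iff_le_comap]
    apply le_sSup
    refine ⟨(mem_maxEA_map_iff U.subtype U.subtype_injective h0' A).mp hA, ?_⟩
    exact Subgroup.map_subtype_le A
  · apply sSup_le
    rintro B ⟨hB, hBU⟩
    have h2 : (B.comap U.subtype).map U.subtype = B := by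
      rw [Subgroup.map_comap_eq, Subgroup.range_subtype, inf_eq_right.mpr hBU]
    rw [← h2]
    apply Subgroup.map_mono
    apply le_sSup
    rw [mem_maxEA_map_iff U.subtype U.subtype_injective h0', h2]
    exact hB

end maxEA

end Cfsg.Agent.Lib.Helper99
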