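import Mathlib
import Cfsg.Prelude.Def_Classical

set_option autoImplicit false

namespace Cfsg.Agent.Lib.Helper99

open Cfsg Finset

section norm

variable {F : Type*} [Field F] [Fintype F] [DecidableEq F] {q : ℕ}

omit [DecidableEq F] in
lemma herm_q_ge_two (hF : Fintype.card F = q ^ 2) : 2 ≤ q := by
  have h1 : 1 < Fintype.card F := Fintype.one_lt_card
  rw [hF] at h1
  by_contra h
  have : q = 0 ∨ q = 1 := by omega
  rcases this with rfl | rfl <;> simp at h1

omit [DecidableEq F] in
lemma herm_pow_qq (hF : Fintype.card F = q ^ 2) (x : F) : x ^ (q * q) = x := by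
  have := FiniteField.pow_card x
  rwa [hF, sq] at this

lemma herm_norm_mem (hF : Fintype.card F = q ^ 2) (x : F) : (x * x ^ q) ^ q = x * x ^ q := by
  rw [mul_pow, ← pow_mul, herm_pow_qq hF, mul_comm]

/-- the fibre of the norm map over `s` -/
def normFib (q : ℕ) (s : F) : Finset F := univ.filter (fun x => x * x ^ q = s)

/-- the non-zero elements of the fixed field of `x ↦ x ^ q` -/
def fixNZ (F : Type*) [Field F] [Fintype F] [DecidableEq F] (q : ℕ) : Finset F :=
  univ.filter (fun s => s ≠ 0 ∧ s ^ q = s)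

lemma mem_fixNZ {s : F} : s ∈ fixNZ F q ↔ s ≠ 0 ∧ s ^ q = s := by
  simp [fixNZ]

lemma card_normFib_le (s : F) : (normFib q s).card ≤ q + 1 := by
  have hsub : normFib q s ⊆ (Polynomial.nthRoots (q + 1) s).toFinset := by
    intro x hx
    simp only [normFib, mem_filter, mem_univ, true_and] at hx
    rw [Multiset.mem_toFinset, Polynomial.mem_nthRoots (Nat.succ_pos q), pow_succ', hx]
  calc (normFib q s).card ≤ (Polynomial.nthRoots (q + 1) s).toFinset.card := card_le_card hsub
    _ ≤ Multiset.card (Polynomial.nthRoots (q + 1) s) := Multiset.toFinset_card_le _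
    _ ≤ q + 1 := Polynomial.card_nthRoots _ _

lemma card_fixNZ_le (hq : 2 ≤ q) : (fixNZ F q).card ≤ q - 1 := by
  have hsub : fixNZ F q ⊆ (Polynomial.nthRoots (q - 1) (1 : F)).toFinset := by
    intro s hs
    rw [mem_fixNZ] at hs
    rw [Multiset.mem_toFinset, Polynomial.mem_nthRoots (by omega)]
    have h1 : s ^ (q - 1) * s = 1 * s := by
      rw [← pow_succ, one_mul]
      have : q - 1 + 1 = q := by omega
      rw [this]; exact hs.2
    exact mul_right_cancel₀ hs.1 h1
  calc (fixNZ F q).card ≤ (Polynomial.nthRoots (q - 1) (1 : F)).toFinset.card := card_le_card hsub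
    _ ≤ Multiset.card (Polynomial.nthRoots (q - 1) (1 : F)) := Multiset.toFinset_card_le _
    _ ≤ q - 1 := Polynomial.card_nthRoots _ _

lemma normFib_zero : normFib q (0 : F) = {0} := by
  ext x
  simp only [normFib, mem_filter, mem_univ, true_and, mem_singleton]
  constructor
  · intro h
    rcases mul_eq_zero.mp h with h | h
    · exact h
    · exact pow_eq_zero_iff (by
        rintro rfl
        simp at h) |>.mp h
  · rintro rfl
    simp

lemma sum_card_normFib (hF : Fintype.card F = q ^ 2) :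
    ∑ s ∈ fixNZ F q, (normFib q s).card + 1 = q ^ 2 := by
  have hmaps : ∀ x ∈ (univ : Finset F), x * x ^ q ∈ insert (0 : F) (fixNZ F q) := by
    intro x _
    rw [mem_insert, mem_fixNZ]
    by_cases h : x * x ^ q = 0
    · exact Or.inl h
    · exact Or.inr ⟨h, herm_norm_mem hF x⟩
  have h := Finset.card_eq_sum_card_fiberwise hmaps
  rw [Finset.card_univ, hF, Finset.sum_insert (by simp [mem_fixNZ])] at h
  have h0 : (univ.filter (fun x : F => x * x ^ q = 0)).card = 1 := by
    have := normFib_zero (F := F) (q := q)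
    unfold normFib at this
    rw [this, card_singleton]
  rw [h0] at h
  unfold normFib
  omega

lemma card_fixNZ_and_normFib (hF : Fintype.card F = q ^ 2) :
    (fixNZ F q).card = q - 1 ∧ ∀ s ∈ fixNZ F q, (normFib q s).card = q + 1 := by
  have hq := herm_q_ge_two hF
  have hsum := sum_card_normFib hF
  have hT := card_fixNZ_le (F := F) hq
  obtain ⟨r, rfl⟩ : ∃ r, q = r + 2 := ⟨q - 2, by omega⟩
  have hall : ∀ s ∈ fixNZ F (r + 2), (normFib (r + 2) s).card = r + 2 + 1 := by
    by_contra hcon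
    push Not at hcon
    obtain ⟨s₀, hs₀, hne⟩ := hcon
    have hlt : (normFib (r + 2) s₀).card < r + 2 + 1 :=
      lt_of_le_of_ne (card_normFib_le s₀) hne
    have := Finset.sum_lt_sum (f := fun s => (normFib (r + 2) s).card) (g := fun _ => r + 2 + 1)
      (s := fixNZ F (r + 2)) (fun s _ => card_normFib_le s) ⟨s₀, hs₀, hlt⟩
    rw [Finset.sum_const, smul_eq_mul] at this
    have h2 : (fixNZ F (r + 2)).card * (r + 2 + 1) ≤ (r + 2 - 1) * (r + 2 + 1) :=
      Nat.mul_le_mul_right _ hT
    have h3 : (r + 2 - 1) * (r + 2 + 1) + 1 = (r + 2) ^ 2 := by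
      have : r + 2 - 1 = r + 1 := by omega
      rw [this]; ring
    omega
  refine ⟨?_, hall⟩
  rw [Finset.sum_congr rfl hall, Finset.sum_const, smul_eq_mul] at hsum
  have h3 : (r + 2 - 1) * (r + 2 + 1) + 1 = (r + 2) ^ 2 := by
    have : r + 2 - 1 = r + 1 := by omega
    rw [this]; ring
  have h4 : (fixNZ F (r + 2)).card * (r + 2 + 1) = (r + 2 - 1) * (r + 2 + 1) := by omega
  exact Nat.eq_of_mul_eq_mul_right (by omega) h4

omit [DecidableEq F] in
/-- the fixed set of `x ↦ x ^ q` is closed under subtraction -/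
lemma fix_sub (hF : Fintype.card F = q ^ 2) {s t : F} (hs : s ^ q = s) (ht : t ^ q = t) :
    (t - s) ^ q = t - s := by
  obtain ⟨p, hchar⟩ := CharP.exists F
  have := hchar
  obtain ⟨f, hp, hcard⟩ := FiniteField.card F p
  have : Fact p.Prime := ⟨hp⟩
  have hdvd : q ∣ p ^ (f : ℕ) := by
    rw [← hcard, hF]; exact dvd_pow_self q (by norm_num)
  obtain ⟨k, _, rfl⟩ := (Nat.dvd_prime_pow hp).mp hdvd
  rw [sub_pow_char_pow, hs, ht]

end norm

section count

variable {F : Type*} [Field F] [Fintype F] {q : ℕ}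

/-- number of vectors of `F ^ n` of hermitian norm `t` -/
noncomputable def hcnt (F : Type*) [Field F] (q n : ℕ) (t : F) : ℕ :=
  Nat.card {v : Fin n → F // hermForm n F q v v = t}

lemma hcnt_zero_zero : hcnt F q 0 (0 : F) = 1 := by
  unfold hcnt hermForm
  simp

omit [Fintype F] in
lemma hcnt_zero_ne {t : F} (ht : t ≠ 0) : hcnt F q 0 t = 0 := by
  unfold hcnt hermForm
  simp only [univ_eq_empty, sum_empty]
  have : IsEmpty {v : Fin 0 → F // (0 : F) = t} := ⟨fun v => ht v.2.symm⟩
  exact Nat.card_of_isEmpty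

lemma hcnt_succ (n : ℕ) (t : F) : hcnt F q (n + 1) t = ∑ x : F, hcnt F q n (t - x * x ^ q) := by
  classical
  unfold hcnt
  rw [← Nat.card_sigma]
  apply Nat.card_congr
  refine (Equiv.subtypeEquiv (Fin.consEquiv (fun _ : Fin (n + 1) => F)).symm
    (q := fun y : F × (Fin n → F) =>
    hermForm n F q y.2 y.2 = t - y.1 * y.1 ^ q) ?_).trans
    (Equiv.subtypeProdEquivSigmaSubtype (fun (x : F) (w : Fin n → F) =>
      hermForm n F q w w = t - x * x ^ q))
  intro v
  unfold hermForm
  rw [Fin.sum_univ_succ]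
  simp only [Fin.consEquiv_symm_apply, Fin.tail]
  constructor
  · intro h; rw [← h]; ring
  · intro h; rw [h]; ring

/-- the recursively defined counts: `(A n, Z n)` = (number of vectors of a fixed non-zero norm
in the fixed field, number of vectors of norm 0) -/
def hAZ (q : ℕ) : ℕ → ℕ × ℕ
  | 0 => (0, 1)
  | n + 1 => ((hAZ q n).1 + (q + 1) * ((hAZ q n).2 + (q - 2) * (hAZ q n).1),
      (hAZ q n).2 + (q + 1) * ((q - 1) * (hAZ q n).1))

theorem hcnt_eq (hF : Fintype.card F = q ^ 2) (n : ℕ) :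
    hcnt F q n (0 : F) = (hAZ q n).2 ∧
      ∀ t : F, t ≠ 0 → t ^ q = t → hcnt F q n t = (hAZ q n).1 := by
  classical
  have hq := herm_q_ge_two hF
  obtain ⟨hTcard, hfib⟩ := card_fixNZ_and_normFib hF
  induction n with
  | zero =>
    refine ⟨hcnt_zero_zero, fun t ht _ => hcnt_zero_ne ht⟩
  | succ n ih =>
    obtain ⟨ihZ, ihA⟩ := ih
    -- general fibre decomposition
    have hdecomp : ∀ t : F, hcnt F q (n + 1) t =
        hcnt F q n t + (q + 1) * ∑ s ∈ fixNZ F q, hcnt F q n (t - s) := by
      intro t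
      rw [hcnt_succ]
      have hmaps : ∀ x ∈ (univ : Finset F), x * x ^ q ∈ insert (0 : F) (fixNZ F q) := by
        intro x _
        rw [mem_insert, mem_fixNZ]
        by_cases h : x * x ^ q = 0
        · exact Or.inl h
        · exact Or.inr ⟨h, herm_norm_mem hF x⟩
      rw [← Finset.sum_fiberwise_of_maps_to' hmaps (fun s => hcnt F q n (t - s)),
        Finset.sum_insert (by simp [mem_fixNZ])]
      congr 1
      · have := normFib_zero (F := F) (q := q)
        unfold normFib at this
        rw [this, sum_singleton, sub_zero]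
      · rw [Finset.mul_sum]
        apply Finset.sum_congr rfl
        intro s hs
        rw [Finset.sum_const, smul_eq_mul]
        have := hfib s hs
        unfold normFib at this
        rw [this]
    constructor
    · rw [hdecomp 0, ihZ]
      show _ = (hAZ q n).2 + (q + 1) * ((q - 1) * (hAZ q n).1)
      congr 2
      rw [← hTcard, ← smul_eq_mul, ← Finset.sum_const]
      apply Finset.sum_congr rfl
      intro s hs
      rw [mem_fixNZ] at hs
      apply ihA
      · simpa using hs.1
      · have := fix_sub hF hs.2 (zero_pow (by omega : q ≠ 0) : (0 : F) ^ q = 0)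
        exact this
    · intro t ht0 htq
      rw [hdecomp t, ihA t ht0 htq]
      show _ = (hAZ q n).1 + (q + 1) * ((hAZ q n).2 + (q - 2) * (hAZ q n).1)
      congr 2
      have htT : t ∈ fixNZ F q := mem_fixNZ.mpr ⟨ht0, htq⟩
      rw [← Finset.add_sum_erase _ _ htT, sub_self, ihZ]
      congr 1
      have hcard : ((fixNZ F q).erase t).card = q - 2 := by
        rw [Finset.card_erase_of_mem htT, hTcard]; omega
      rw [← hcard, ← smul_eq_mul, ← Finset.sum_const]
      apply Finset.sum_congr rfl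
      intro s hs
      rw [mem_erase, mem_fixNZ] at hs
      apply ihA
      · exact sub_ne_zero.mpr (Ne.symm hs.1)
      · exact fix_sub hF hs.2.2 htq

/-- closed form over `ℤ` -/
lemma hAZ_closed (hq : 2 ≤ q) (n : ℕ) :
    (q : ℤ) * ((hAZ q n).1 : ℤ) = (q : ℤ) ^ n * ((q : ℤ) ^ n - (-1) ^ n) ∧
    ((hAZ q n).2 : ℤ) = (q : ℤ) ^ (2 * n) - ((q : ℤ) - 1) * ((hAZ q n).1 : ℤ) := by
  induction n with
  | zero => simp [hAZ]
  | succ n ih =>
    obtain ⟨ihA, ihZ⟩ := ih
    have h2 : ((q - 2 : ℕ) : ℤ) = (q : ℤ) - 2 := by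
      rw [Nat.cast_sub hq]; rfl
    have h1 : ((q - 1 : ℕ) : ℤ) = (q : ℤ) - 1 := by
      rw [Nat.cast_sub (by omega)]; rfl
    have hA' : ((hAZ q (n + 1)).1 : ℤ) =
        ((q : ℤ) + 1) * (q : ℤ) ^ (2 * n) - (q : ℤ) * ((hAZ q n).1 : ℤ) := by
      show (((hAZ q n).1 + (q + 1) * ((hAZ q n).2 + (q - 2) * (hAZ q n).1) : ℕ) : ℤ) = _
      push_cast
      rw [h2, ihZ]; ring
    constructor
    · rw [hA', mul_sub, ← mul_assoc (q : ℤ) (q : ℤ), mul_assoc (q : ℤ) (q : ℤ), ihA]
      ring
    · show (((hAZ q n).2 + (q + 1) * ((q - 1) * (hAZ q n).1) : ℕ) : ℤ) = _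
      rw [hA']
      push_cast
      rw [h1, ihZ]; ring

end count

end Cfsg.Agent.Lib.Helper99
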