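import Mathlib
import Cfsg.Prelude.Def_Classical
import Cfsg.Agent.Lib.Helper19.UnitaryDet
import Cfsg.Agent.Lib.Helper08.SUCenter
import Cfsg.Agent.Lib.Helper46.UnitaryField

set_option autoImplicit false

namespace Cfsg.Agent.Lib.Helper99.HermONB

open Cfsg.Agent.Lib.Helper19 (frobQ frobQ_apply pow_q_pow_q add_pow_q sum_pow_q q_pos one_lt_q)

universe u

open scoped Matrix

section form

variable {F : Type*} [Field F] {V : Type u} [AddCommGroup V] [Module F V]

/-- a nondegenerate hermitian form with respect to `x ↦ x ^ q` -/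
structure HForm (q : ℕ) (h : V → V → F) : Prop where
  add_left : ∀ x x' y, h (x + x') y = h x y + h x' y
  smul_left : ∀ (c : F) x y, h (c • x) y = c * h x y
  conj : ∀ x y, h y x = (h x y) ^ q
  nondeg : ∀ x, (∀ y, h x y = 0) → x = 0

variable [Fintype F] {q : ℕ} {h : V → V → F}

theorem HForm.add_right (hF : Fintype.card F = q ^ 2) (hh : HForm q h) (x y y' : V) :
    h x (y + y') = h x y + h x y' := by
  rw [hh.conj (y + y') x, hh.add_left, add_pow_q hF, ← hh.conj, ← hh.conj]

omit [Fintype F] in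
theorem HForm.smul_right (hh : HForm q h) (c : F) (x y : V) :
    h x (c • y) = c ^ q * h x y := by
  rw [hh.conj (c • y) x, hh.smul_left, mul_pow, ← hh.conj]

omit [Fintype F] in
theorem HForm.zero_left (hh : HForm q h) (y : V) : h 0 y = 0 := by
  have := hh.smul_left 0 0 y
  rwa [zero_smul, zero_mul] at this

theorem HForm.zero_right (hF : Fintype.card F = q ^ 2) (hh : HForm q h) (x : V) : h x 0 = 0 := by
  rw [hh.conj 0 x, hh.zero_left, zero_pow (q_pos hF).ne']

omit [Fintype F] in
theorem HForm.sum_left (hh : HForm q h) {ι : Type*} (s : Finset ι) (c : ι → F) (v : ι → V)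
    (y : V) : h (∑ i ∈ s, c i • v i) y = ∑ i ∈ s, c i * h (v i) y := by
  classical
  induction s using Finset.induction_on with
  | empty => simp [hh.zero_left]
  | insert a s ha ih =>
    rw [Finset.sum_insert ha, Finset.sum_insert ha, hh.add_left, hh.smul_left, ih]

end form

section onb

variable {F : Type*} [Field F] [Fintype F] {q : ℕ}

/-- orthonormal families of full size exist -/
theorem exists_orthonormal (hF : Fintype.card F = q ^ 2) (h2 : (2 : F) ≠ 0) :
    ∀ (n : ℕ) (V : Type u) [AddCommGroup V] [Module F V] [FiniteDimensional F V]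
      (h : V → V → F), HForm q h → Module.finrank F V = n →
      ∃ e : Fin n → V, ∀ i j, h (e i) (e j) = if i = j then 1 else 0 := by
  intro n
  induction n with
  | zero =>
    intro V _ _ _ h _ _
    exact ⟨Fin.elim0, fun i => i.elim0⟩
  | succ n ih =>
    intro V _ _ _ h hh hn
    have hq0 : q ≠ 0 := (q_pos hF).ne'
    have hq1 : 1 < q := one_lt_q hF
    -- a non-isotropic vector
    have hex : ∃ v, h v v ≠ 0 := by
      by_contra hall
      push Not at hall
      have hpos : 0 < Module.finrank F V := by omega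
      obtain ⟨x, hx⟩ := Module.finrank_pos_iff_exists_ne_zero.mp hpos
      have hy' : ∃ y, h x y ≠ 0 := by
        by_contra hno
        push Not at hno
        exact hx (hh.nondeg x hno)
      obtain ⟨y, hy⟩ := hy'
      obtain ⟨r, hr⟩ : ∃ r, r = h x y := ⟨_, rfl⟩
      rw [← hr] at hy
      obtain ⟨c, hc⟩ : ∃ c : F, c ^ q = r⁻¹ := ⟨(r⁻¹) ^ q, pow_q_pow_q hF _⟩
      have h1 : h x (c • y) = 1 := by rw [hh.smul_right, hc, ← hr, inv_mul_cancel₀ hy]
      have h1' : h (c • y) x = 1 := by rw [hh.conj x (c • y), h1, one_pow]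
      have h3 := hall (x + c • y)
      rw [hh.add_left, hh.add_right hF, hh.add_right hF, hall x, hall (c • y), h1, h1'] at h3
      apply h2
      rw [← h3]; ring
    obtain ⟨v, hv⟩ := hex
    -- normalise
    obtain ⟨r, hr⟩ : ∃ r, r = h v v := ⟨_, rfl⟩
    rw [← hr] at hv
    have hrq : r ^ q = r := by rw [hr]; exact (hh.conj v v).symm
    have hrq1 : r ^ (q - 1) = 1 := by
      have h1 : r ^ (q - 1) * r = 1 * r := by
        rw [← pow_succ, Nat.sub_add_cancel (by omega), hrq, one_mul]
      exact mul_right_cancel₀ hv h1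
    have hy : (Units.mk0 r⁻¹ (inv_ne_zero hv)) ^ (q - 1) = 1 := by
      apply Units.ext
      rw [Units.val_pow_eq_pow_val, Units.val_mk0, Units.val_one, inv_pow, hrq1, inv_one]
    obtain ⟨x, hx⟩ := Cfsg.Agent.Lib.Helper46.exists_pow_eq_of_pow_eq_one (C := Fˣ) (q + 1) (q - 1)
      (Cfsg.Agent.Lib.Helper46.card_units_eq hF) _ hy
    have hc : (x : F) ^ (q + 1) = r⁻¹ := by
      have := congrArg Units.val hx
      rwa [Units.val_pow_eq_pow_val, Units.val_mk0] at this
    obtain ⟨e₀, he₀def⟩ : ∃ e₀ : V, e₀ = (x : F) • v := ⟨_, rfl⟩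
    have he₀ : h e₀ e₀ = 1 := by
      rw [he₀def, hh.smul_left, hh.smul_right, ← hr, ← mul_assoc, ← pow_succ', hc,
        inv_mul_cancel₀ hv]
    let φ : V →ₗ[F] F :=
      { toFun := fun w => h w e₀
        map_add' := fun a b => hh.add_left a b e₀
        map_smul' := fun a b => by
          simp only [RingHom.id_apply, smul_eq_mul]
          exact hh.smul_left a b e₀ }
    have hφ : ∀ w, φ w = h w e₀ := fun _ => rfl
    have hsurj : Function.Surjective φ := fun a =>
      ⟨a • e₀, by rw [hφ, hh.smul_left, he₀, mul_one]⟩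
    have hWn : Module.finrank F (LinearMap.ker φ) = n := by
      have := LinearMap.finrank_range_add_finrank_ker φ
      rw [LinearMap.range_eq_top.mpr hsurj, finrank_top, Module.finrank_self, hn] at this
      omega
    have hmemW : ∀ w : LinearMap.ker φ, h (w : V) e₀ = 0 := fun w => LinearMap.mem_ker.mp w.2
    have hW : HForm q (fun w w' : LinearMap.ker φ => h (w : V) (w' : V)) := by
      refine ⟨fun a b c => hh.add_left _ _ _, fun c a b => hh.smul_left _ _ _,
        fun a b => hh.conj _ _, ?_⟩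
      intro w hw
      apply Subtype.ext
      apply hh.nondeg
      intro y
      have hyW : y - (h y e₀) • e₀ ∈ LinearMap.ker φ := by
        rw [LinearMap.mem_ker, map_sub, hφ, hφ, hh.smul_left, he₀, mul_one, sub_self]
      have h1 := hw ⟨_, hyW⟩
      simp only at h1
      have h3 : y = (y - (h y e₀) • e₀) + (h y e₀) • e₀ := by abel
      rw [h3, hh.add_right hF, h1, hh.smul_right, hmemW w, mul_zero, add_zero]
    obtain ⟨e', he'⟩ := ih (LinearMap.ker φ) (fun w w' => h (w : V) (w' : V)) hW hWn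
    refine ⟨Fin.cons e₀ (fun i => ((e' i : LinearMap.ker φ) : V)), ?_⟩
    intro i j
    refine Fin.cases ?_ (fun i' => ?_) i <;> refine Fin.cases ?_ (fun j' => ?_) j
    · simp [he₀]
    · rw [Fin.cons_zero, Fin.cons_succ, hh.conj, hmemW, zero_pow hq0,
        if_neg (Fin.succ_ne_zero j').symm]
    · rw [Fin.cons_zero, Fin.cons_succ, hmemW, if_neg (Fin.succ_ne_zero i')]
    · rw [Fin.cons_succ, Fin.cons_succ, he' i' j']
      simp only [Fin.succ_inj]

/-- orthonormal bases exist -/
theorem exists_basis (hF : Fintype.card F = q ^ 2) (h2 : (2 : F) ≠ 0)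
    {V : Type u} [AddCommGroup V] [Module F V] [FiniteDimensional F V] (h : V → V → F)
    (hh : HForm q h) (n : ℕ) (hn0 : 0 < n) (hn : Module.finrank F V = n) :
    ∃ b : Module.Basis (Fin n) F V, ∀ i j, h (b i) (b j) = if i = j then 1 else 0 := by
  classical
  haveI : Nonempty (Fin n) := ⟨⟨0, hn0⟩⟩
  obtain ⟨e, he⟩ := exists_orthonormal hF h2 n V h hh hn
  have hli : LinearIndependent F e := by
    rw [linearIndependent_iff']
    intro s c hc i hi
    have h1 := hh.sum_left s c e (e i)
    rw [hc, hh.zero_left] at h1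
    simp only [he, mul_ite, mul_one, mul_zero] at h1
    rw [Finset.sum_ite_eq' s i] at h1
    simpa [hi] using h1.symm
  refine ⟨basisOfLinearIndependentOfCardEqFinrank hli (by rw [Fintype.card_fin, hn]), ?_⟩
  intro i j
  rw [coe_basisOfLinearIndependentOfCardEqFinrank]
  exact he i j

omit [Fintype F] in
/-- in an orthonormal basis the form is the standard one -/
theorem form_eq_hermForm {V : Type u} [AddCommGroup V] [Module F V] {h : V → V → F}
    (hh : HForm q h) {n : ℕ} (b : Module.Basis (Fin n) F V)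
    (hb : ∀ i j, h (b i) (b j) = if i = j then 1 else 0) (x y : V) :
    h x y = Cfsg.hermForm n F q (b.repr x) (b.repr y) := by
  classical
  have hy : ∀ (y : V) (i : Fin n), h y (b i) = b.repr y i := by
    intro y i
    conv_lhs => rw [← b.sum_repr y]
    rw [hh.sum_left]
    simp only [hb, mul_ite, mul_one, mul_zero]
    rw [Finset.sum_ite_eq' Finset.univ i]
    simp
  conv_lhs => rw [← b.sum_repr x]
  rw [hh.sum_left]
  unfold Cfsg.hermForm
  apply Finset.sum_congr rfl
  intro i _
  rw [hh.conj y (b i), hy]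

/-- an isometry of determinant one of a three-dimensional hermitian space gives an element of
`SU_3` with the same scalar powers -/
theorem exists_SU_of_isometry (hF : Fintype.card F = q ^ 2) (h2 : (2 : F) ≠ 0)
    {V : Type u} [AddCommGroup V] [Module F V] [FiniteDimensional F V]
    (hV : Module.finrank F V = 3) (h : V → V → F) (hh : HForm q h) (T : V →ₗ[F] V)
    (hT : ∀ x y, h (T x) (T y) = h x y) (hdet : LinearMap.det T = 1) :
    ∃ g : Cfsg.SU 3 F q, ∀ (j : ℕ) (c : F),
      ((g : Matrix.SpecialLinearGroup (Fin 3) F) : Matrix (Fin 3) (Fin 3) F) ^ j =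
        Matrix.scalar (Fin 3) c ↔ T ^ j = algebraMap F (Module.End F V) c := by
  classical
  obtain ⟨b, hb⟩ := exists_basis hF h2 h hh 3 (by norm_num) hV
  obtain ⟨M, hM⟩ : ∃ M, M = LinearMap.toMatrixAlgEquiv b T := ⟨_, rfl⟩
  have hM' : M = LinearMap.toMatrix b b T := hM
  have hMdet : M.det = 1 := by rw [hM', LinearMap.det_toMatrix, hdet]
  have hmem : ∀ u v : Fin 3 → F, Cfsg.hermForm 3 F q (M *ᵥ u) (M *ᵥ v) =
      Cfsg.hermForm 3 F q u v := by
    intro u v
    have hu : ⇑(b.repr (b.equivFun.symm u)) = u := by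
      rw [← Module.Basis.equivFun_apply]; exact b.equivFun.apply_symm_apply u
    have hv : ⇑(b.repr (b.equivFun.symm v)) = v := by
      rw [← Module.Basis.equivFun_apply]; exact b.equivFun.apply_symm_apply v
    rw [← hu, ← hv, hM', LinearMap.toMatrix_mulVec_repr, LinearMap.toMatrix_mulVec_repr,
      ← form_eq_hermForm hh b hb, ← form_eq_hermForm hh b hb, hT]
  refine ⟨⟨⟨M, hMdet⟩, (Cfsg.Agent.Lib.Helper08.mem_SU_iff _).mpr hmem⟩, ?_⟩
  intro j c
  show M ^ j = Matrix.scalar (Fin 3) c ↔ _
  have h1 : M ^ j = LinearMap.toMatrixAlgEquiv b (T ^ j) := by rw [map_pow, hM]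
  have h3 : Matrix.scalar (Fin 3) c =
      LinearMap.toMatrixAlgEquiv b (algebraMap F (Module.End F V) c) := by
    rw [AlgEquiv.commutes]; rfl
  rw [h1, h3]
  exact (LinearMap.toMatrixAlgEquiv b).injective.eq_iff

/-- the dictionary for `PSU_3` -/
theorem mk_pow_eq_one_iff_PSU (hF : Fintype.card F = q ^ 2) (g : Cfsg.SU 3 F q) (j : ℕ) :
    (QuotientGroup.mk g : Cfsg.PSU 3 F q) ^ j = 1 ↔
      ∃ c : F, ((g : Matrix.SpecialLinearGroup (Fin 3) F) : Matrix (Fin 3) (Fin 3) F) ^ j =
        Matrix.scalar (Fin 3) c := by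
  rw [← QuotientGroup.mk_pow, QuotientGroup.eq_one_iff]
  have hcoe : (((g ^ j : Cfsg.SU 3 F q) : Matrix.SpecialLinearGroup (Fin 3) F) :
      Matrix (Fin 3) (Fin 3) F) =
      ((g : Matrix.SpecialLinearGroup (Fin 3) F) : Matrix (Fin 3) (Fin 3) F) ^ j := by
    rw [Subgroup.coe_pow, Matrix.SpecialLinearGroup.coe_pow]
  constructor
  · intro hz
    obtain ⟨c, _, _, hc⟩ := Cfsg.Agent.Lib.Helper08.center_SU_scalar hF (by norm_num) (g ^ j) hz
    exact ⟨c, by rw [← hcoe, hc, Matrix.scalar_apply]⟩
  · rintro ⟨c, hc⟩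
    rw [Matrix.scalar_apply] at hc
    have hc1 : c * c ^ q = 1 := by
      have h := (Cfsg.Agent.Lib.Helper08.mem_SU_iff (g ^ j).1).mp (g ^ j).2
        (Pi.single 0 1) (Pi.single 0 1)
      rw [Cfsg.Agent.Lib.Helper19.hermForm_single_single hF, if_pos rfl, hcoe, hc] at h
      unfold Cfsg.hermForm at h
      rw [Finset.sum_eq_single (0 : Fin 3)] at h
      · simpa [Matrix.mulVec_diagonal] using h
      · intro i _ hi
        simp [Matrix.mulVec_diagonal, hi]
      · intro h'; exact absurd (Finset.mem_univ _) h'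
    have hc3 : c ^ 3 = 1 := by
      have hdet := (g ^ j).1.2
      rw [hcoe, hc, Matrix.det_diagonal, Finset.prod_const, Finset.card_univ,
        Fintype.card_fin] at hdet
      exact hdet
    obtain ⟨z, hz, hzc⟩ := Cfsg.Agent.Lib.Helper08.scalar_mem_SU_center (q := q) (n := 3) c hc1 hc3
    have : z = g ^ j := by
      apply Subtype.ext
      apply Subtype.ext
      rw [hzc, hcoe, hc]
    rw [← this]
    exact hz

end onb

end Cfsg.Agent.Lib.Helper99.HermONB
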