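import Mathlib
import Cfsg.Agent.Lib.Helper98.Sy1
import Cfsg.Agent.Lib.Helper98.Elus3

/-!
# K-OTs pack (S5973 + S5987, architect helper99): shared definitions

Elements of prime order of `Ω⁺_{2d}(q)` / `Ω⁻_{2d}(q)` (ALL characteristics) and totally singular `m`-spaces.
Everything is written for a quadratic form `Q : QuadraticForm F V` with polar form `QuadraticMap.polarBilin Q`.
-/

set_option autoImplicit false

namespace Cfsg.Agent.Lib.Helper99.OTs

universe u
variable {F : Type u} [Field F] {V : Type u} [AddCommGroup V] [Module F V]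

/-- `W` is totally singular for `Q` -/
def TS (Q : QuadraticForm F V) (W : Submodule F V) : Prop := ∀ w ∈ W, Q w = 0

/-- `y` is an isometry of `Q` -/
def QIso (Q : QuadraticForm F V) (y : V →ₗ[F] V) : Prop := ∀ v, Q (y v) = Q v

/-- the subspace `U` (nondegenerate, of even dimension) is of plus type: it contains a totally singular subspace of half
its dimension -/
def PlusOn (Q : QuadraticForm F V) (U : Submodule F V) : Prop :=
  ∃ Z : Submodule F V, Z ≤ U ∧ TS Q Z ∧ 2 * Module.finrank F Z = Module.finrank F U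

theorem ts_bot (Q : QuadraticForm F V) : TS Q (⊥ : Submodule F V) := by
  intro w hw
  rw [Submodule.mem_bot] at hw
  rw [hw, map_zero]

theorem plusOn_bot (Q : QuadraticForm F V) : PlusOn Q (⊥ : Submodule F V) :=
  ⟨⊥, le_refl _, ts_bot Q, by simp⟩

theorem TS.mono {Q : QuadraticForm F V} {W W' : Submodule F V} (h : TS Q W) (hle : W' ≤ W) : TS Q W' :=
  fun w hw => h w (hle hw)

/-- a totally singular subspace is totally isotropic for the polar form -/
theorem TS.ort {Q : QuadraticForm F V} {W : Submodule F V} (h : TS Q W) :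
    Cfsg.Agent.Lib.Helper98.Sy.Ort (QuadraticMap.polarBilin Q) W W := by
  intro u hu v hv
  show QuadraticMap.polar Q u v = 0
  unfold QuadraticMap.polar
  rw [h _ (W.add_mem hu hv), h u hu, h v hv]
  simp

theorem TS.sup {Q : QuadraticForm F V} {W W' : Submodule F V} (h : TS Q W) (h' : TS Q W')
    (ho : Cfsg.Agent.Lib.Helper98.Sy.Ort (QuadraticMap.polarBilin Q) W W') : TS Q (W ⊔ W') := by
  intro x hx
  obtain ⟨u, hu, v, hv, rfl⟩ := Submodule.mem_sup.mp hx
  have h1 : QuadraticMap.polar Q u v = 0 := ho u hu v hv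
  have h2 : Q (u + v) = Q u + Q v + QuadraticMap.polar Q u v := by
    unfold QuadraticMap.polar
    ring
  rw [h2, h u hu, h' v hv, h1]
  simp

theorem QIso.iso {Q : QuadraticForm F V} {y : V →ₗ[F] V} (h : QIso Q y) :
    Cfsg.Agent.Lib.Helper98.Sy.Iso (QuadraticMap.polarBilin Q) y := by
  intro u v
  show QuadraticMap.polar Q (y u) (y v) = QuadraticMap.polar Q u v
  unfold QuadraticMap.polar
  rw [← map_add, h, h, h]

theorem polarBilin_symm (Q : QuadraticForm F V) (u v : V) :
    QuadraticMap.polarBilin Q u v = QuadraticMap.polarBilin Q v u :=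
  QuadraticMap.polar_comm Q u v

end Cfsg.Agent.Lib.Helper99.OTs
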