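import Cfsg.Agent.Lib.Helper99.OTsC
import Cfsg.Agent.Lib.Helper79.OTsO3
import Cfsg.Agent.Lib.Helper63.OTsO6

/-!
# K-OTs pack (S5973 + S5987): leaf O4 `plusOn_V0_iff` (597304), exact spec signature
-/

set_option autoImplicit false

namespace Cfsg.Agent.Lib.Helper99.OTs

open Module Cfsg.Agent.Lib.Helper98.Elus Cfsg.Agent.Lib.Helper98.Sy

universe u
variable {F : Type u} [Field F] {V : Type u} [AddCommGroup V] [Module F V]

/-- O4: THE TYPE RULE `type V0 = type V * type V1`, all characteristics -/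
theorem plusOn_V0_iff [Fintype F] [FiniteDimensional F V] (Q : QuadraticForm F V) (hV : NonDeg (QuadraticMap.polarBilin Q) ⊤)
    (d : ℕ) (hd : finrank F V = 2 * d)
    (p f : ℕ) [Fact p.Prime] (hF : Fintype.card F = p ^ f) (r : ℕ) [Fact r.Prime] (hpr : p ≠ r) (hr2 : r ≠ 2)
    (hrF : (r : F) ≠ 0) (y : V →ₗ[F] V) (hy : y ^ r = 1) (hiso : QIso Q y) :
    PlusOn Q (V0 y) ↔ (PlusOn Q ⊤ ↔ (Odd (orderOf ((Fintype.card F : ℕ) : ZMod r)) ∨
      Even (finrank F (V1 r y) / orderOf ((Fintype.card F : ℕ) : ZMod r)))) := by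
  have hS := polarBilin_symm Q
  have hR : (QuadraticMap.polarBilin Q).IsRefl := fun a b h => by rw [hS]; exact h
  obtain ⟨hnd0, hnd1⟩ := Cfsg.Agent.Lib.Helper05.OsEl.nonDeg_inf_parts hR r hrF y hy hiso.iso ⊤ hV
    (fun _ _ => Submodule.mem_top)
  rw [top_inf_eq] at hnd0 hnd1
  exact plusOn_V0_iff_of Q hV d hd p f hF r hpr hr2 hrF y hy hiso
    (fun U hU e he => Cfsg.Agent.Lib.Helper79.OTs.card_singular Q U hU e he)
    (fun hp1 hp => Cfsg.Agent.Lib.Helper63.OTs.plusOn_cancel Q hV (V0 y) (V1 r y) hnd0 hnd1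
      (Cfsg.Agent.Lib.Helper98.Sy.ort_V0_V1 r hrF y hy hiso.iso) (V0_sup_V1 r hrF y hy) hp1 hp)

end Cfsg.Agent.Lib.Helper99.OTs
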