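import Cfsg.Agent.Lib.Helper99.OTsD
import Cfsg.Agent.Lib.Helper50.IsometryDisc

/-!
# K-OTs pack (S5973 + S5987): leaf O9 `exists_fixed_part` (597309): a nondegenerate quadratic space of prescribed type
-/

set_option autoImplicit false

namespace Cfsg.Agent.Lib.Helper99.OTs

open Module Cfsg.Agent.Lib.Helper98.Elus Cfsg.Agent.Lib.Helper98.Sy

universe u
variable {F : Type u} [Field F]

/-- over a finite field there is `ζ` with `t ^ 2 + t + ζ` without roots -/
theorem exists_no_root [Fintype F] : ∃ ζ : F, ∀ t : F, t ^ 2 + t + ζ ≠ 0 := by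
  classical
  have hninj : ¬ Function.Injective (fun t : F => t ^ 2 + t) := by
    intro hinj
    have h1 : (fun t : F => t ^ 2 + t) 0 = (fun t : F => t ^ 2 + t) (-1) := by
      simp
    have h2 : (0 : F) = -1 := hinj h1
    have h3 : (1 : F) = 0 := by linear_combination h2
    exact one_ne_zero h3
  have hnsurj : ¬ Function.Surjective (fun t : F => t ^ 2 + t) := fun hs =>
    hninj (Finite.injective_iff_surjective.mpr hs)
  rw [Function.Surjective] at hnsurj
  push Not at hnsurj
  obtain ⟨c, hc⟩ := hnsurj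
  refine ⟨-c, fun t ht => hc t ?_⟩
  show t ^ 2 + t = c
  linear_combination ht

/-- O9: a nondegenerate quadratic space of dimension `2 e` of prescribed type -/
theorem exists_fixed_part [Fintype F] (e : ℕ) (τ : Prop) (hτ : ¬ τ → 1 ≤ e) :
    ∃ (V : Type u) (_ : AddCommGroup V) (_ : Module F V) (_ : FiniteDimensional F V)
      (Q : QuadraticForm F V),
      NonDeg (QuadraticMap.polarBilin Q) ⊤ ∧ finrank F V = 2 * e ∧ (PlusOn Q ⊤ ↔ τ) := by
  classical
  by_cases h : τ
  · refine ⟨(Fin e ⊕ Fin e → F), inferInstance, inferInstance, inferInstance,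
      Cfsg.Agent.Lib.Helper50.QPlus e F, nonDeg_QPlus e, ?_, ?_⟩
    · rw [Module.finrank_pi, Fintype.card_sum, Fintype.card_fin]
      ring
    · exact ⟨fun _ => h, fun _ => plusOn_QPlus e⟩
  · obtain ⟨k, rfl⟩ : ∃ k, e = k + 1 := ⟨e - 1, by have := hτ h; omega⟩
    obtain ⟨ζ, hζ⟩ := exists_no_root (F := F)
    have hab := Cfsg.Agent.Lib.Helper50.anis_of_irred ζ hζ
    refine ⟨((Fin k ⊕ Fin k) ⊕ Fin 2 → F), inferInstance, inferInstance, inferInstance,
      Cfsg.Agent.Lib.Helper50.QMinus k F 1 ζ, nonDeg_QMinus k 1 ζ hab, ?_, ?_⟩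
    · rw [Module.finrank_pi, Fintype.card_sum, Fintype.card_sum, Fintype.card_fin, Fintype.card_fin]
      ring
    · exact ⟨fun hp => absurd hp (not_plusOn_QMinus k 1 ζ hab), fun ht => absurd ht h⟩

end Cfsg.Agent.Lib.Helper99.OTs
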