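import Mathlib
import Cfsg.Prelude.Def_Local
import Cfsg.Agent.Lib.Helper12.GLDefs
import Cfsg.Agent.Lib.Helper29.PCore

/-!
# Keystone K-S1301-GL-3a: the local step of Glauberman's automorphism theorem
-/

set_option autoImplicit false
universe u

namespace Cfsg.Agent.Lib.Helper99.GL

open Cfsg.Agent.Lib.Helper12.GL

section aux

variable {X : Type u} [Group X]

theorem fix_iff {Q : Subgroup X} {a : MulAut X} (haQ : ∀ q ∈ Q, a q = q) (z : X) :
    a z ∈ Q ↔ z ∈ Q := by
  constructor
  · intro h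
    have h1 : a (a z) = a z := haQ _ h
    have h2 : a z = z := a.injective h1
    rw [← h2]; exact h
  · intro h
    rw [haQ z h]; exact h

/-- an automorphism fixing `Q` pointwise and normalizing `V` maps `locSub Q V` into itself -/
theorem map_mem_locSub {Q : Subgroup X} {V : Subgroup (MulAut X)} {a : MulAut X}
    (haQ : ∀ q ∈ Q, a q = q) (haV : ∀ v ∈ V, a⁻¹ * v * a ∈ V) {y : X} (hy : y ∈ locSub Q V) :
    a y ∈ locSub Q V := by
  obtain ⟨hyN, hyV⟩ := hy
  refine ⟨?_, ?_⟩
  · rw [Subgroup.mem_normalizer_iff]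
    intro h
    have e : a y * h * (a y)⁻¹ = a (y * (a⁻¹ h) * y⁻¹) := by
      simp [map_mul, map_inv]
    rw [e, fix_iff haQ, ← (Subgroup.mem_normalizer_iff.mp hyN) (a⁻¹ h), ← fix_iff haQ (a⁻¹ h),
      MulAut.apply_inv_self]
  · intro v hv
    have e : a y * (v (a y))⁻¹ = a (y * ((a⁻¹ * v * a) y)⁻¹) := by
      simp [map_mul, map_inv, MulAut.mul_apply]
    rw [e, fix_iff haQ]
    exact hyV _ (haV v hv)

end aux

theorem local_fix (X : Type u) [Group X] [Finite X] (hIH : GLBelow X)
    (hO : Cfsg.pPrimeCore 2 X = ⊥) (hP : Cfsg.pCore 2 X ≤ Subgroup.center X)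
    (S : Sylow 2 X) (R : Subgroup (MulAut X)) (b : MulAut X) (hSP : SPair S R b)
    (V : Subgroup (MulAut X)) (hVR : V ≤ R) (hVc : ∀ v ∈ V, ∀ r ∈ R, v * r = r * v)
    (hVb : b ∈ Subgroup.normalizer (V : Set (MulAut X)))
    (Q : Subgroup X) (hQS : Q ≤ (S : Subgroup X))
    (hSyl : ¬ 2 ∣ ((S : Subgroup X) ⊓ locSub Q V).relIndex (locSub Q V)) :
    ∀ y ∈ locSub Q V, ∀ v ∈ V, v y = y := by
  have hQp : IsPGroup 2 ↥Q := S.isPGroup'.to_le hQS
  by_cases htop : locSub Q V = ⊤
  · -- the case where `Q` is normal and `V` acts through central elements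
    have hall : ∀ y : X, y ∈ locSub Q V := fun y => by rw [htop]; exact Subgroup.mem_top y
    have hQn : Q.Normal := by
      rw [← Subgroup.normalizer_eq_top_iff]
      rw [eq_top_iff]
      intro y _
      exact (hall y).1
    have hQcore : Q ≤ Cfsg.pCore 2 X :=
      le_sSup (show Q ∈ {N : Subgroup X | N.Normal ∧ IsPGroup 2 N} from ⟨hQn, hQp⟩)
    have hQc : Q ≤ Subgroup.center X := le_trans hQcore hP
    intro y _ v hv
    have hδ : ∀ y : X, y * (v y)⁻¹ ∈ Q := fun y => (hall y).2 v hv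
    let δ : X →* ↥Q := MonoidHom.mk' (fun y => ⟨y * (v y)⁻¹, hδ y⟩) (by
      intro y z
      apply Subtype.ext
      have hc := Subgroup.mem_center_iff.mp (hQc (hδ z)) (v y)⁻¹
      show y * z * (v (y * z))⁻¹ = y * (v y)⁻¹ * (z * (v z)⁻¹)
      rw [map_mul, mul_inv_rev]
      calc y * z * ((v z)⁻¹ * (v y)⁻¹) = y * ((z * (v z)⁻¹) * (v y)⁻¹) := by group
        _ = y * ((v y)⁻¹ * (z * (v z)⁻¹)) := by rw [hc]
        _ = y * (v y)⁻¹ * (z * (v z)⁻¹) := by group)
    have hSker : (S : Subgroup X) ≤ δ.ker := by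
      intro s hs
      rw [MonoidHom.mem_ker]
      apply Subtype.ext
      show s * (v s)⁻¹ = 1
      rw [hSP.fixR v (hVR hv) s hs, mul_inv_cancel]
    have h1 : δ.ker.index ∣ (S : Subgroup X).index := Subgroup.index_dvd_of_le hSker
    have h2 : δ.ker.index = Nat.card δ.range := Subgroup.index_ker δ
    obtain ⟨k, hk⟩ := (hQp.to_subgroup δ.range).exists_card_eq
    have h3 : ¬ 2 ∣ (S : Subgroup X).index := S.not_dvd_index
    have hk0 : k = 0 := by
      by_contra hne
      apply h3
      refine dvd_trans ?_ h1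
      rw [h2, hk]
      exact dvd_pow_self 2 hne
    have h4 : δ.ker = ⊤ := by
      rw [← Subgroup.index_eq_one, h2, hk, hk0, pow_zero]
    have h5 : y ∈ δ.ker := by rw [h4]; exact Subgroup.mem_top y
    have h6 := congrArg Subtype.val (MonoidHom.mem_ker.mp h5)
    have h7 : y * (v y)⁻¹ = 1 := h6
    have := mul_inv_eq_one.mp h7
    exact this.symm
  · -- the case of a proper local subgroup: induction
    have hlt : Nat.card ↥(locSub Q V) < Nat.card X :=
      Cfsg.Agent.Lib.Helper29.card_lt_of_lt_top _ (lt_top_iff_ne_top.mpr htop)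
    have stab_of : ∀ a : MulAut X, (∀ q ∈ Q, a q = q) → (∀ v ∈ V, a⁻¹ * v * a ∈ V) →
        (∀ v ∈ V, a * v * a⁻¹ ∈ V) → a ∈ stab (locSub Q V) := by
      intro a h1 h2 h3 y
      constructor
      · intro h
        have h1' : ∀ q ∈ Q, a⁻¹ q = q := by
          intro q hq
          have := h1 q hq
          calc a⁻¹ q = a⁻¹ (a q) := by rw [this]
            _ = q := MulAut.inv_apply_self _ _ _
        have := map_mem_locSub (a := a⁻¹) h1' (by simpa using h3) h
        simpa using this
      · exact map_mem_locSub h1 h2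
    have hRstab : R ≤ stab (locSub Q V) := by
      intro r hr
      apply stab_of r (fun q hq => hSP.fixR r hr q (hQS hq))
      · intro v hv
        have := hVc v hv r hr
        have e : r⁻¹ * v * r = v := by rw [mul_assoc, this, ← mul_assoc, inv_mul_cancel, one_mul]
        rw [e]; exact hv
      · intro v hv
        have := hVc v hv r hr
        have e : r * v * r⁻¹ = v := by rw [← this, mul_assoc, mul_inv_cancel, mul_one]
        rw [e]; exact hv
    have hbstab : b ∈ stab (locSub Q V) := by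
      apply stab_of b (fun q hq => hSP.fixb q (hQS hq))
      · intro v hv
        have hb' : b⁻¹ ∈ Subgroup.normalizer (V : Set (MulAut X)) := Subgroup.inv_mem _ hVb
        have := (Subgroup.mem_normalizer_iff.mp hb' v).mp hv
        simpa using this
      · intro v hv
        exact (Subgroup.mem_normalizer_iff.mp hVb v).mp hv
    set N' : Subgroup X := locSub Q V with hN'
    set A₀ : Subgroup (MulAut X) := stab N' with hA₀
    set ρ : ↥A₀ →* MulAut ↥N' := restr N' with hρ
    set b₀ : ↥A₀ := ⟨b, hbstab⟩ with hb₀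
    set R₀ : Subgroup ↥A₀ := R.subgroupOf A₀ with hR₀
    have hS'p : IsPGroup 2 ↥(((S : Subgroup X) ⊓ N').subgroupOf N') :=
      (S.isPGroup'.to_le inf_le_left).comap_subtype
    have hS'i : ¬ 2 ∣ (((S : Subgroup X) ⊓ N').subgroupOf N').index := hSyl
    set S' : Sylow 2 ↥N' := hS'p.toSylow hS'i with hS'
    have hSP' : SPair S' (R₀.map ρ) (ρ b₀) := by
      refine ⟨?_, ?_, ?_, ?_, ?_, ?_⟩
      · exact (hSP.isP.comap_subtype).map ρ
      · have h1 : orderOf (ρ b₀) ∣ orderOf b₀ := orderOf_map_dvd ρ b₀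
        have h2 : orderOf b₀ = orderOf b := Subgroup.orderOf_mk b hbstab
        exact Odd.of_dvd_nat (h2 ▸ hSP.odd) h1
      · have h1 : b₀ ∈ Subgroup.normalizer (R₀ : Set ↥A₀) := by
          rw [Subgroup.mem_normalizer_iff]
          intro h
          have := Subgroup.mem_normalizer_iff.mp hSP.norm (h : MulAut X)
          simpa [R₀, Subgroup.mem_subgroupOf] using this
        exact Subgroup.le_normalizer_map ρ (Subgroup.mem_map_of_mem ρ h1)
      · have h0 : ⁅R₀, Subgroup.zpowers b₀⁆ = R₀ := by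
          apply Subgroup.map_injective A₀.subtype_injective
          rw [Subgroup.map_commutator, MonoidHom.map_zpowers]
          have e1 : R₀.map A₀.subtype = R := by
            rw [hR₀, Subgroup.subgroupOf_map_subtype]; exact inf_eq_left.mpr hRstab
          rw [e1]; exact hSP.comm
        rw [← MonoidHom.map_zpowers, ← Subgroup.map_commutator, h0]
      · rintro r' ⟨r₀, hr₀, rfl⟩ s hs
        apply Subtype.ext
        have hs' : (s : X) ∈ (S : Subgroup X) := by
          have := (IsPGroup.mem_toSylow hS'p hS'i).mp hs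
          rw [Subgroup.mem_subgroupOf] at this
          exact this.1
        exact hSP.fixR (r₀ : MulAut X) hr₀ s hs'
      · intro s hs
        apply Subtype.ext
        have hs' : (s : X) ∈ (S : Subgroup X) := by
          have := (IsPGroup.mem_toSylow hS'p hS'i).mp hs
          rw [Subgroup.mem_subgroupOf] at this
          exact this.1
        exact hSP.fixb s hs'
    intro y hy v hv
    have hvR : v ∈ R := hVR hv
    have hvA : v ∈ A₀ := hRstab hvR
    have key := hIH ↥N' hlt S' (R₀.map ρ) (ρ b₀) hSP' (ρ ⟨v, hvA⟩)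
      (Subgroup.mem_map_of_mem ρ (show (⟨v, hvA⟩ : ↥A₀) ∈ R₀ from hvR)) ⟨y, hy⟩
    set e' : ↥N' := (⟨y, hy⟩ : ↥N')⁻¹ * (ρ ⟨v, hvA⟩) ⟨y, hy⟩ with he'
    have hval : (e' : X) = y⁻¹ * v y := rfl
    have heQ : y⁻¹ * v y ∈ Q := by
      have h1 := hy.2 v hv
      have h2 := Q.inv_mem h1
      have h3 := (Subgroup.mem_normalizer_iff.mp (Subgroup.inv_mem _ hy.1) _).mp h2
      convert h3 using 1
      group
    have hodd : (Nat.card (Cfsg.pPrimeCore 2 ↥N')).Coprime 2 :=
      Cfsg.Agent.Lib.Helper29.pPrimeCore_coprime 2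
    have ho1 : orderOf e' ∣ Nat.card (Cfsg.pPrimeCore 2 ↥N') := by
      have := orderOf_dvd_natCard (⟨e', key⟩ : ↥(Cfsg.pPrimeCore 2 ↥N'))
      rwa [Subgroup.orderOf_mk] at this
    obtain ⟨k, hk⟩ := (IsPGroup.iff_orderOf.mp hQp) ⟨y⁻¹ * v y, heQ⟩
    rw [Subgroup.orderOf_mk] at hk
    have ho3 : orderOf e' = orderOf (y⁻¹ * v y) := by
      rw [← hval, Subgroup.orderOf_coe]
    have hk0 : k = 0 := by
      by_contra hne
      have h2 : 2 ∣ Nat.card (Cfsg.pPrimeCore 2 ↥N') := by
        refine dvd_trans ?_ ho1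
        rw [ho3, hk]
        exact dvd_pow_self 2 hne
      have := Nat.Coprime.eq_one_of_dvd hodd.symm h2
      omega
    rw [hk0, pow_zero, orderOf_eq_one_iff] at hk
    have := inv_mul_eq_one.mp hk
    exact this.symm

end Cfsg.Agent.Lib.Helper99.GL
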