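import Mathlib
import Cfsg.Prelude.Def_GeometricClasses

/-!
# Field subalgebras of matrix algebras (extension-field structures)

`K` is a subalgebra of the `n × n` matrices which is a field of degree `n` over `F`.  We show that
`K` is its own centraliser and construct the Frobenius element of its normaliser.
-/

set_option autoImplicit false

namespace Cfsg.Agent.Lib.Helper99.FieldSub

open Matrix

section basic

variable {F : Type*} [Field F] {n : ℕ}
variable (K : Subalgebra F (Matrix (Fin n) (Fin n) F)) {k : ℕ}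
  (hK : Cfsg.Geo.IsFieldSubalgebra k K)

include hK

theorem exists_inv {b : Matrix (Fin n) (Fin n) F} (hb : b ∈ K) (hb0 : b ≠ 0) :
    ∃ c ∈ K, b * c = 1 ∧ c * b = 1 := by
  obtain ⟨c, hc, h⟩ := hK.inv b hb hb0
  exact ⟨c, hc, h, by rw [hK.comm c hc b hb]; exact h⟩

theorem eq_zero_of_mulVec_eq_zero {b : Matrix (Fin n) (Fin n) F} (hb : b ∈ K) (hb0 : b ≠ 0)
    {v : Fin n → F} (h : b *ᵥ v = 0) : v = 0 := by
  obtain ⟨c, _, _, h2⟩ := exists_inv K hK hb hb0
  calc v = (c * b) *ᵥ v := by rw [h2, one_mulVec]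
    _ = c *ᵥ (b *ᵥ v) := by rw [mulVec_mulVec]
    _ = 0 := by rw [h, mulVec_zero]

theorem eq_zero_or_eq_zero_of_mul_eq_zero {a b : Matrix (Fin n) (Fin n) F} (ha : a ∈ K)
    (h : a * b = 0) : a = 0 ∨ b = 0 := by
  by_cases ha0 : a = 0
  · exact Or.inl ha0
  · right
    obtain ⟨c, _, _, h2⟩ := exists_inv K hK ha ha0
    calc b = (c * a) * b := by rw [h2, one_mul]
      _ = c * (a * b) := by rw [mul_assoc]
      _ = 0 := by rw [h, mul_zero]

theorem isField [NeZero n] : IsField ↥K where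
  exists_pair_ne := ⟨0, 1, by
    intro h
    have := congrArg Subtype.val h
    simp at this⟩
  mul_comm := fun a b => Subtype.ext (hK.comm a.1 a.2 b.1 b.2)
  mul_inv_cancel := by
    intro a ha
    obtain ⟨y, hy, hxy⟩ := hK.inv a.1 a.2 (fun h => ha (Subtype.ext h))
    exact ⟨⟨y, hy⟩, Subtype.ext hxy⟩

/-- Fermat's little theorem in `K`. -/
theorem pow_card_pow [Fintype F] [NeZero n] {b : Matrix (Fin n) (Fin n) F} (hb : b ∈ K) :
    b ^ (Fintype.card F ^ k) = b := by
  classical
  letI : Field ↥K := (isField K hK).toField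
  haveI : Fintype ↥K := Fintype.ofFinite _
  have h1 : Fintype.card ↥K = Fintype.card F ^ k := by
    rw [Module.card_eq_pow_finrank (K := F) (V := ↥K), hK.finrank_eq]
  have h2 := FiniteField.pow_card (⟨b, hb⟩ : ↥K)
  rw [h1] at h2
  have := congrArg Subtype.val h2
  simpa using this

/-- Some element of `K` is moved by the Frobenius map. -/
theorem exists_pow_card_ne [Fintype F] [NeZero n] (hk : 2 ≤ k) :
    ∃ θ ∈ K, θ ^ Fintype.card F ≠ θ := by
  classical
  letI : Field ↥K := (isField K hK).toField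
  haveI : Fintype ↥K := Fintype.ofFinite _
  have h1 : Fintype.card ↥K = Fintype.card F ^ k := by
    rw [Module.card_eq_pow_finrank (K := F) (V := ↥K), hK.finrank_eq]
  obtain ⟨u, hu⟩ := IsCyclic.exists_generator (α := (↥K)ˣ)
  have hou : orderOf u = Fintype.card F ^ k - 1 := by
    rw [orderOf_eq_card_of_forall_mem_zpowers hu, Nat.card_eq_fintype_card, Fintype.card_units, h1]
  refine ⟨((u : ↥K) : Matrix (Fin n) (Fin n) F), (u : ↥K).2, ?_⟩
  intro h
  have h2 : (u : ↥K) ^ Fintype.card F = (u : ↥K) := Subtype.ext (by simpa using h)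
  have hq : 2 ≤ Fintype.card F := Fintype.one_lt_card
  have h3 : u ^ (Fintype.card F - 1) = 1 := by
    apply Units.ext
    rw [Units.val_pow_eq_pow_val, Units.val_one]
    have h4 : (u : ↥K) ^ (Fintype.card F - 1) * (u : ↥K) = 1 * (u : ↥K) := by
      rw [← pow_succ, Nat.sub_add_cancel (by omega), h2, one_mul]
    exact mul_right_cancel₀ u.ne_zero h4
  have h5 := orderOf_dvd_of_pow_eq_one h3
  rw [hou] at h5
  have h6 := Nat.le_of_dvd (by omega) h5
  have h7 : Fintype.card F ^ 2 ≤ Fintype.card F ^ k := Nat.pow_le_pow_right (by omega) hk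
  obtain ⟨A, hA⟩ : ∃ A, A = Fintype.card F ^ k := ⟨_, rfl⟩
  rw [← hA] at h6 h7
  have h8 : Fintype.card F * 2 ≤ Fintype.card F ^ 2 := by nlinarith
  omega

end basic

section degree_n

variable {F : Type*} [Field F] {n : ℕ} [NeZero n]
variable (K : Subalgebra F (Matrix (Fin n) (Fin n) F))
  (hK : Cfsg.Geo.IsFieldSubalgebra n K)

/-- evaluation at a vector -/
def evalMap (v₀ : Fin n → F) : ↥K →ₗ[F] (Fin n → F) where
  toFun b := (b : Matrix (Fin n) (Fin n) F) *ᵥ v₀
  map_add' a b := by simp [add_mulVec]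
  map_smul' c b := by simp [smul_mulVec]

include hK

theorem evalMap_bijective {v₀ : Fin n → F} (hv₀ : v₀ ≠ 0) :
    Function.Bijective (evalMap K v₀) := by
  have hinj : Function.Injective (evalMap K v₀) := by
    rw [← LinearMap.ker_eq_bot, LinearMap.ker_eq_bot']
    intro b hb
    by_contra hb0
    exact hv₀ (eq_zero_of_mulVec_eq_zero K hK b.2 (fun h => hb0 (Subtype.ext h)) hb)
  refine ⟨hinj, ?_⟩
  have hfr : Module.finrank F ↥K = Module.finrank F (Fin n → F) := by
    rw [hK.finrank_eq, Module.finrank_fin_fun]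
  exact (LinearMap.injective_iff_surjective_of_finrank_eq_finrank hfr).mp hinj

theorem exists_mulVec_eq {v₀ : Fin n → F} (hv₀ : v₀ ≠ 0) (v : Fin n → F) :
    ∃ b ∈ K, b *ᵥ v₀ = v := by
  obtain ⟨b, hb⟩ := (evalMap_bijective K hK hv₀).2 v
  exact ⟨b.1, b.2, hb⟩

/-- `K` is its own centraliser. -/
theorem mem_of_commute (M : Matrix (Fin n) (Fin n) F) (hM : ∀ b ∈ K, M * b = b * M) : M ∈ K := by
  have hv₀ : (Pi.single 0 1 : Fin n → F) ≠ 0 := by
    intro h
    have := congrFun h 0
    simp at this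
  obtain ⟨c, hc, hcv⟩ := exists_mulVec_eq K hK hv₀ (M *ᵥ Pi.single 0 1)
  have : M = c := by
    apply Matrix.mulVec_injective
    funext v
    obtain ⟨b, hb, hbv⟩ := exists_mulVec_eq K hK hv₀ v
    rw [← hbv, mulVec_mulVec, hM b hb, ← mulVec_mulVec, ← hcv, mulVec_mulVec, mulVec_mulVec,
      hK.comm b hb c hc]
  rw [this]
  exact hc

end degree_n

section frob

variable {F : Type*} [Field F] [Fintype F] {n : ℕ} [NeZero n]
variable (K : Subalgebra F (Matrix (Fin n) (Fin n) F))
  (hK : Cfsg.Geo.IsFieldSubalgebra n K)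

/-- the base vector -/
def v0 (F : Type*) [Field F] (n : ℕ) [NeZero n] : Fin n → F := Pi.single 0 1

omit [Fintype F] in
theorem v0_ne : v0 F n ≠ 0 := by
  intro h
  have := congrFun h 0
  simp [v0] at this

/-- evaluation at the base vector as a linear equivalence -/
noncomputable def evalEquiv : ↥K ≃ₗ[F] (Fin n → F) :=
  LinearEquiv.ofBijective (evalMap K (v0 F n)) (evalMap_bijective K hK v0_ne)

omit [Fintype F] in
theorem evalEquiv_apply (b : ↥K) :
    evalEquiv K hK b = (b : Matrix (Fin n) (Fin n) F) *ᵥ v0 F n := rfl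

/-- The Frobenius map of `K` as an `F`-linear map. -/
noncomputable def frobLin (p : ℕ) [Fact p.Prime] [CharP F p] : ↥K →ₗ[F] ↥K where
  toFun b := ⟨b.1 ^ Fintype.card F, K.pow_mem b.2 _⟩
  map_add' a b := by
    apply Subtype.ext
    obtain ⟨f, _, hf⟩ := FiniteField.card F p
    show (a.1 + b.1) ^ Fintype.card F = a.1 ^ Fintype.card F + b.1 ^ Fintype.card F
    rw [hf]
    exact add_pow_char_pow_of_commute p _ (hK.comm a.1 a.2 b.1 b.2)
  map_smul' c b := by
    apply Subtype.ext
    show (c • b.1) ^ Fintype.card F = c • b.1 ^ Fintype.card F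
    rw [smul_pow, FiniteField.pow_card]

/-- The Frobenius element normalising `K`. -/
noncomputable def frobMat (p : ℕ) [Fact p.Prime] [CharP F p] : Matrix (Fin n) (Fin n) F :=
  LinearMap.toMatrix' ((evalEquiv K hK).toLinearMap ∘ₗ frobLin K hK p ∘ₗ
    (evalEquiv K hK).symm.toLinearMap)

variable (p : ℕ) [Fact p.Prime] [CharP F p]

theorem frobMat_mulVec {b : Matrix (Fin n) (Fin n) F} (hb : b ∈ K) :
    frobMat K hK p *ᵥ (b *ᵥ v0 F n) = (b ^ Fintype.card F) *ᵥ v0 F n := by
  have h1 : (evalEquiv K hK).symm (b *ᵥ v0 F n) = ⟨b, hb⟩ := by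
    rw [LinearEquiv.symm_apply_eq]
    rfl
  unfold frobMat
  rw [LinearMap.toMatrix'_mulVec]
  simp only [LinearMap.comp_apply, LinearEquiv.coe_coe, h1]
  rfl

theorem frobMat_mul {b : Matrix (Fin n) (Fin n) F} (hb : b ∈ K) :
    frobMat K hK p * b = b ^ Fintype.card F * frobMat K hK p := by
  apply Matrix.mulVec_injective
  funext v
  obtain ⟨c, hc, hcv⟩ := exists_mulVec_eq K hK v0_ne v
  rw [← hcv, ← mulVec_mulVec, mulVec_mulVec _ b c, frobMat_mulVec K hK p (K.mul_mem hb hc),
    ← mulVec_mulVec, frobMat_mulVec K hK p hc, mulVec_mulVec,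
    Commute.mul_pow (show Commute b c from hK.comm b hb c hc)]

theorem frobMat_pow_mulVec (j : ℕ) {c : Matrix (Fin n) (Fin n) F} (hc : c ∈ K) :
    (frobMat K hK p ^ j) *ᵥ (c *ᵥ v0 F n) = (c ^ (Fintype.card F ^ j)) *ᵥ v0 F n := by
  induction j with
  | zero => simp
  | succ j ih =>
    rw [pow_succ', ← mulVec_mulVec, ih, frobMat_mulVec K hK p (K.pow_mem hc _), ← pow_mul,
      ← pow_succ]

theorem frobMat_pow : frobMat K hK p ^ n = 1 := by
  apply Matrix.mulVec_injective
  funext v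
  obtain ⟨c, hc, hcv⟩ := exists_mulVec_eq K hK v0_ne v
  rw [← hcv, frobMat_pow_mulVec K hK p n hc, pow_card_pow K hK hc, one_mulVec]

end frob

section prime_degree

variable {F : Type*} [Field F] {n : ℕ} [NeZero n]

/-- An element of `K` commuting with an element that does not centralise `K` is a scalar, when
the degree is prime. -/
theorem fix_eq_scalar (hn : n.Prime) (K : Subalgebra F (Matrix (Fin n) (Fin n) F))
    (hK : Cfsg.Geo.IsFieldSubalgebra n K) (y : Matrix (Fin n) (Fin n) F)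
    {θ : Matrix (Fin n) (Fin n) F} (hθ : θ ∈ K) (hne : y * θ ≠ θ * y)
    {b : Matrix (Fin n) (Fin n) F} (hb : b ∈ K) (hyb : y * b = b * y) :
    ∃ a : F, b = a • (1 : Matrix (Fin n) (Fin n) F) := by
  classical
  letI : Field ↥K := (isField K hK).toField
  let S : IntermediateField F ↥K :=
    { carrier := {c | y * c.1 = c.1 * y}
      mul_mem' := by
        intro c d hc hd
        show y * (c.1 * d.1) = c.1 * d.1 * y
        rw [← mul_assoc, hc, mul_assoc, hd, mul_assoc]
      add_mem' := by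
        intro c d hc hd
        show y * (c.1 + d.1) = (c.1 + d.1) * y
        rw [mul_add, add_mul, hc, hd]
      algebraMap_mem' := by
        intro r
        show y * (algebraMap F (Matrix (Fin n) (Fin n) F) r) =
          (algebraMap F (Matrix (Fin n) (Fin n) F) r) * y
        rw [Algebra.commutes]
      inv_mem' := by
        intro c hc
        by_cases hc0 : c = 0
        · rw [hc0, _root_.inv_zero]
          show y * (0 : Matrix (Fin n) (Fin n) F) = 0 * y
          rw [mul_zero, zero_mul]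
        · have h1 : c * c⁻¹ = 1 := mul_inv_cancel₀ hc0
          have h1' : c.1 * (c⁻¹).1 = 1 := congrArg Subtype.val h1
          have h2' : (c⁻¹).1 * c.1 = 1 := by rw [hK.comm _ (c⁻¹).2 _ c.2]; exact h1'
          show y * (c⁻¹).1 = (c⁻¹).1 * y
          calc y * (c⁻¹).1 = ((c⁻¹).1 * c.1) * y * (c⁻¹).1 := by rw [h2', one_mul]
            _ = (c⁻¹).1 * (c.1 * y) * (c⁻¹).1 := by simp only [mul_assoc]
            _ = (c⁻¹).1 * (y * c.1) * (c⁻¹).1 := by rw [hc]
            _ = (c⁻¹).1 * y * (c.1 * (c⁻¹).1) := by simp only [mul_assoc]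
            _ = (c⁻¹).1 * y := by rw [h1', mul_one] }
  have hprime : (Module.finrank F ↥K).Prime := by rw [hK.finrank_eq]; exact hn
  have := IntermediateField.isSimpleOrder_of_finrank_prime F ↥K hprime
  rcases eq_bot_or_eq_top S with h | h
  · have hbS : (⟨b, hb⟩ : ↥K) ∈ S := hyb
    rw [h, IntermediateField.mem_bot] at hbS
    obtain ⟨a, ha⟩ := hbS
    refine ⟨a, ?_⟩
    have := congrArg Subtype.val ha
    rw [Algebra.algebraMap_eq_smul_one] at this
    simpa using this.symm
  · exfalso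
    have hθS : (⟨θ, hθ⟩ : ↥K) ∈ S := by rw [h]; exact IntermediateField.mem_top
    exact hne hθS

/-- Eigenspaces of a non-scalar element of the normaliser of `K` are at most one-dimensional. -/
theorem eigenspace_le_one (hn : n.Prime) (K : Subalgebra F (Matrix (Fin n) (Fin n) F))
    (hK : Cfsg.Geo.IsFieldSubalgebra n K) {y yinv : Matrix (Fin n) (Fin n) F}
    (h1 : y * yinv = 1) (hN : ∀ b ∈ K, y * b * yinv ∈ K)
    (hns : ∀ a : F, y ≠ a • (1 : Matrix (Fin n) (Fin n) F))
    {c : F} {v w : Fin n → F} (hv0 : v ≠ 0) (hv : y *ᵥ v = c • v) (hw : y *ᵥ w = c • w) :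
    ∃ a : F, w = a • v := by
  have h2 : yinv * y = 1 := mul_eq_one_comm.mp h1
  have hscal : ∀ a : F, a • (1 : Matrix (Fin n) (Fin n) F) ∈ K := fun a =>
    K.smul_mem K.one_mem a
  by_cases hc : ∀ θ ∈ K, y * θ = θ * y
  · exfalso
    have hyK : y ∈ K := mem_of_commute K hK y hc
    have hyc : y - c • (1 : Matrix (Fin n) (Fin n) F) ∈ K := K.sub_mem hyK (hscal c)
    have hyc0 : y - c • (1 : Matrix (Fin n) (Fin n) F) ≠ 0 := fun h => hns c (sub_eq_zero.mp h)
    apply hv0
    apply eq_zero_of_mulVec_eq_zero K hK hyc hyc0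
    rw [sub_mulVec, hv, smul_mulVec, one_mulVec, sub_self]
  · push Not at hc
    obtain ⟨θ, hθ, hne⟩ := hc
    obtain ⟨b, hb, hbv⟩ := exists_mulVec_eq K hK hv0 w
    obtain ⟨b', hb'def⟩ : ∃ b', b' = y * b * yinv := ⟨_, rfl⟩
    have hb' : b' ∈ K := hb'def ▸ hN b hb
    have hyb : y * b = b' * y := by rw [hb'def, mul_assoc, h2, mul_one]
    have hc0 : c ≠ 0 := by
      rintro rfl
      rw [zero_smul] at hv
      apply hv0
      calc v = (yinv * y) *ᵥ v := by rw [h2, one_mulVec]
        _ = yinv *ᵥ (y *ᵥ v) := by rw [mulVec_mulVec]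
        _ = 0 := by rw [hv, mulVec_zero]
    have e1 : c • (b' *ᵥ v) = c • (b *ᵥ v) := by
      calc c • (b' *ᵥ v) = b' *ᵥ (y *ᵥ v) := by rw [hv, mulVec_smul]
        _ = (y * b) *ᵥ v := by rw [mulVec_mulVec, hyb]
        _ = y *ᵥ w := by rw [← mulVec_mulVec, hbv]
        _ = c • (b *ᵥ v) := by rw [hw, hbv]
    have e2 : (b' - b) *ᵥ v = 0 := by
      rw [sub_mulVec, sub_eq_zero]
      exact smul_right_injective _ hc0 e1
    have e3 : b' = b := by
      by_contra hbb
      exact hv0 (eq_zero_of_mulVec_eq_zero K hK (K.sub_mem hb' hb) (sub_ne_zero.mpr hbb) e2)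
    rw [e3] at hyb
    obtain ⟨a, ha⟩ := fix_eq_scalar hn K hK y hθ hne hb hyb
    refine ⟨a, ?_⟩
    rw [← hbv, ha, smul_mulVec, one_mulVec]

end prime_degree

end Cfsg.Agent.Lib.Helper99.FieldSub
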