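import Mathlib
import Cfsg.Agent.Lib.Helper99.FieldSub

/-!
# `3 × 3` matrices whose cube is scalar, and the normaliser of a cubic extension field
-/

set_option autoImplicit false

namespace Cfsg.Agent.Lib.Helper99.Cubic3

open Matrix Polynomial

variable {F : Type*} [Field F]

/-- Cayley–Hamilton for `3 × 3` matrices, made explicit. -/
theorem cayley3 (M : Matrix (Fin 3) (Fin 3) F) :
    ∃ a b : F, M.charpoly = X ^ 3 + C a * X ^ 2 + C b * X - C M.det ∧
      M ^ 3 + a • M ^ 2 + b • M - M.det • (1 : Matrix (Fin 3) (Fin 3) F) = 0 := by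
  have hm := M.charpoly_monic
  have hd : M.charpoly.natDegree = 3 := by rw [Matrix.charpoly_natDegree_eq_dim]; simp
  have h0 : M.charpoly.coeff 0 = - M.det := by
    have := Matrix.det_eq_sign_charpoly_coeff M
    simp only [Fintype.card_fin] at this
    rw [this]; ring
  obtain ⟨a, ha⟩ : ∃ a, a = M.charpoly.coeff 2 := ⟨_, rfl⟩
  obtain ⟨b, hb⟩ : ∃ b, b = M.charpoly.coeff 1 := ⟨_, rfl⟩
  have hχ : M.charpoly = X ^ 3 + C a * X ^ 2 + C b * X - C M.det := by
    have h1 := hm.as_sum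
    rw [hd] at h1
    rw [Finset.sum_range_succ, Finset.sum_range_succ, Finset.sum_range_one, h0, ← ha, ← hb] at h1
    rw [h1]
    simp only [pow_zero, pow_one, mul_one, C_neg]
    ring
  refine ⟨a, b, hχ, ?_⟩
  have h := Matrix.aeval_self_charpoly M
  rw [hχ] at h
  simpa [Algebra.algebraMap_eq_smul_one] using h

/-- a matrix with determinant one, cube one, and not scalar has characteristic polynomial
`X ^ 3 - 1`. -/
theorem charpoly_of_cube_eq_one (M : Matrix (Fin 3) (Fin 3) F) (hdet : M.det = 1)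
    (h3 : M ^ 3 = 1) (hns : ∀ c : F, M ≠ c • (1 : Matrix (Fin 3) (Fin 3) F)) :
    M.charpoly = X ^ 3 - 1 := by
  obtain ⟨a, b, hχ, hCH⟩ := cayley3 M
  rw [h3, hdet, one_smul] at hCH
  have h1 : M * (a • M + b • (1 : Matrix (Fin 3) (Fin 3) F)) = 0 := by
    have : M * (a • M + b • (1 : Matrix (Fin 3) (Fin 3) F)) = a • M ^ 2 + b • M := by
      rw [mul_add, mul_smul_comm, mul_smul_comm, mul_one, pow_two]
    rw [this]
    calc a • M ^ 2 + b • M = 1 + a • M ^ 2 + b • M - 1 := by abel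
      _ = 0 := hCH
  have h2 : a • M + b • (1 : Matrix (Fin 3) (Fin 3) F) = 0 := by
    calc a • M + b • (1 : Matrix (Fin 3) (Fin 3) F)
        = M ^ 3 * (a • M + b • (1 : Matrix (Fin 3) (Fin 3) F)) := by rw [h3, one_mul]
      _ = M ^ 2 * (M * (a • M + b • (1 : Matrix (Fin 3) (Fin 3) F))) := by
          rw [← mul_assoc, ← pow_succ]
      _ = 0 := by rw [h1, mul_zero]
  have ha : a = 0 := by
    by_contra ha
    apply hns (-(b / a))
    have : a • M = a • ((-(b / a)) • (1 : Matrix (Fin 3) (Fin 3) F)) := by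
      rw [smul_smul, mul_neg, mul_div_cancel₀ _ ha]
      rw [neg_smul]
      exact eq_neg_of_add_eq_zero_left h2
    exact smul_right_injective _ ha this
  rw [ha, zero_smul, zero_add] at h2
  have hb : b = 0 := by
    rcases smul_eq_zero.mp h2 with h | h
    · exact h
    · exact absurd h one_ne_zero
  rw [hχ, ha, hb, hdet]
  simp

/-- if the cube of a non-scalar matrix of determinant one is the scalar `z ≠ 1`, then `z` is a
cube. -/
theorem exists_cube_root (M : Matrix (Fin 3) (Fin 3) F) (hdet : M.det = 1) (z : F)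
    (h3 : M ^ 3 = z • (1 : Matrix (Fin 3) (Fin 3) F)) (hz : z ≠ 1)
    (hns : ∀ c : F, M ≠ c • (1 : Matrix (Fin 3) (Fin 3) F)) : ∃ c : F, c ^ 3 = z := by
  obtain ⟨a, b, -, hCH⟩ := cayley3 M
  rw [h3, hdet, one_smul] at hCH
  have ha : a ≠ 0 := by
    intro ha
    rw [ha, zero_smul, add_zero] at hCH
    have hb : b ≠ 0 := by
      intro hb
      rw [hb, zero_smul, add_zero] at hCH
      have h1 : (z - 1) • (1 : Matrix (Fin 3) (Fin 3) F) = 0 := by
        rw [sub_smul, one_smul]; exact hCH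
      rcases smul_eq_zero.mp h1 with h | h
      · exact hz (sub_eq_zero.mp h)
      · exact one_ne_zero h
    apply hns ((1 - z) / b)
    have : b • M = b • (((1 - z) / b) • (1 : Matrix (Fin 3) (Fin 3) F)) := by
      rw [smul_smul, mul_div_cancel₀ _ hb, sub_smul, one_smul]
      have e : b • M - (1 - z • (1 : Matrix (Fin 3) (Fin 3) F)) =
          z • (1 : Matrix (Fin 3) (Fin 3) F) + b • M - 1 := by abel
      exact sub_eq_zero.mp (e.trans hCH)
    exact smul_right_injective _ hb this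
  -- `M ^ 2 = α M + β`
  obtain ⟨α, hα⟩ : ∃ α, α = -(b / a) := ⟨_, rfl⟩
  obtain ⟨β, hβ⟩ : ∃ β, β = (1 - z) / a := ⟨_, rfl⟩
  have h2 : M ^ 2 = α • M + β • (1 : Matrix (Fin 3) (Fin 3) F) := by
    have : a • M ^ 2 = a • (α • M + β • (1 : Matrix (Fin 3) (Fin 3) F)) := by
      rw [smul_add, smul_smul, smul_smul, hα, hβ, mul_neg, mul_div_cancel₀ _ ha,
        mul_div_cancel₀ _ ha, sub_smul, one_smul, neg_smul]
      have e : a • M ^ 2 - (-(b • M) + (1 - z • (1 : Matrix (Fin 3) (Fin 3) F))) =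
          z • (1 : Matrix (Fin 3) (Fin 3) F) + a • M ^ 2 + b • M - 1 := by abel
      exact sub_eq_zero.mp (e.trans hCH)
    exact smul_right_injective _ ha this
  have h4 : M ^ 3 = (α ^ 2 + β) • M + (α * β) • (1 : Matrix (Fin 3) (Fin 3) F) := by
    rw [pow_succ, h2, add_mul, smul_mul_assoc, smul_mul_assoc, one_mul, ← pow_two, h2]
    rw [smul_add, smul_smul, smul_smul, add_smul]
    rw [← pow_two]
    abel
  rw [h3] at h4
  have h5 : α ^ 2 + β = 0 := by
    by_contra h5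
    apply hns ((z - α * β) / (α ^ 2 + β))
    have : (α ^ 2 + β) • M =
        (α ^ 2 + β) • (((z - α * β) / (α ^ 2 + β)) • (1 : Matrix (Fin 3) (Fin 3) F)) := by
      rw [smul_smul, mul_div_cancel₀ _ h5, sub_smul, h4]
      abel
    exact smul_right_injective _ h5 this
  rw [h5, zero_smul, zero_add] at h4
  have h6 : z = α * β := by
    have := congrFun (congrFun h4 0) 0
    simpa using this
  refine ⟨-α, ?_⟩
  rw [h6]
  linear_combination (-α) * h5

section normalizer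

variable (K : Subalgebra F (Matrix (Fin 3) (Fin 3) F)) (hK : Cfsg.Geo.IsFieldSubalgebra 3 K)

include hK

/-- An element normalising the cubic field `K` non-trivially whose cube is a scalar satisfies no
polynomial of degree at most two. -/
theorem nondeg_of_normalizes {h hinv : Matrix (Fin 3) (Fin 3) F} (h1 : h * hinv = 1)
    (hN : ∀ b ∈ K, h * b * hinv ∈ K) {z : F} (hz : h ^ 3 = z • (1 : Matrix (Fin 3) (Fin 3) F))
    {θ : Matrix (Fin 3) (Fin 3) F} (hθ : θ ∈ K) (hne : h * θ * hinv ≠ θ) {f₀ f₁ f₂ : F}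
    (hf : f₀ • (1 : Matrix (Fin 3) (Fin 3) F) + f₁ • h + f₂ • h ^ 2 = 0) :
    f₀ = 0 ∧ f₁ = 0 ∧ f₂ = 0 := by
  have h2 : hinv * h = 1 := mul_eq_one_comm.mp h1
  obtain ⟨θ₁, hθ₁def⟩ : ∃ θ₁, θ₁ = h * θ * hinv := ⟨_, rfl⟩
  obtain ⟨θ₂, hθ₂def⟩ : ∃ θ₂, θ₂ = h * θ₁ * hinv := ⟨_, rfl⟩
  have hθ₁ : θ₁ ∈ K := hθ₁def ▸ hN θ hθ
  have hθ₂ : θ₂ ∈ K := hθ₂def ▸ hN θ₁ hθ₁
  -- commutation rules
  have c1 : h * θ = θ₁ * h := by
    rw [hθ₁def, mul_assoc, h2, mul_one]
  have c2 : h * θ₁ = θ₂ * h := by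
    rw [hθ₂def, mul_assoc, h2, mul_one]
  have c3 : h ^ 2 * θ = θ₂ * h ^ 2 := by
    rw [pow_two, mul_assoc, c1, ← mul_assoc, c2, mul_assoc]
  rw [← hθ₁def] at hne
  have hne2 : θ₂ ≠ θ := by
    intro h22
    -- then `h ^ 3 θ = θ₁ h ^ 3`
    have c4 : h ^ 3 * θ = θ₁ * h ^ 3 := by
      rw [pow_succ', mul_assoc, c3, h22, ← mul_assoc, c1, mul_assoc, ← pow_succ']
    rw [hz, smul_mul_assoc, one_mul, mul_smul_comm, mul_one] at c4
    have hz0 : z ≠ 0 := by
      rintro rfl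
      rw [zero_smul] at hz
      have : (1 : Matrix (Fin 3) (Fin 3) F) = 0 := by
        calc (1 : Matrix (Fin 3) (Fin 3) F) = (h * hinv) ^ 3 := by rw [h1, one_pow]
          _ = h ^ 3 * hinv ^ 3 := by
              rw [(show Commute h hinv from by rw [Commute, SemiconjBy, h1, h2]).mul_pow]
          _ = 0 := by rw [hz, zero_mul]
      exact one_ne_zero this
    exact hne (smul_right_injective _ hz0 c4).symm
  obtain ⟨A, hAdef⟩ : ∃ A, A = θ₁ - θ := ⟨_, rfl⟩
  obtain ⟨B, hBdef⟩ : ∃ B, B = θ₂ - θ := ⟨_, rfl⟩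
  have hA : A ∈ K := hAdef ▸ K.sub_mem hθ₁ hθ
  have hB : B ∈ K := hBdef ▸ K.sub_mem hθ₂ hθ
  have hA0 : A ≠ 0 := by rw [hAdef]; exact sub_ne_zero.mpr hne
  have hB0 : B ≠ 0 := by rw [hBdef]; exact sub_ne_zero.mpr hne2
  -- the commutator of the relation with `θ`
  have hcomm : f₁ • (A * h) + f₂ • (B * h ^ 2) = 0 := by
    have e1 : (f₀ • (1 : Matrix (Fin 3) (Fin 3) F) + f₁ • h + f₂ • h ^ 2) * θ -
        θ * (f₀ • (1 : Matrix (Fin 3) (Fin 3) F) + f₁ • h + f₂ • h ^ 2) =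
        f₁ • (A * h) + f₂ • (B * h ^ 2) := by
      rw [add_mul, add_mul, mul_add, mul_add, smul_mul_assoc, smul_mul_assoc, smul_mul_assoc,
        mul_smul_comm, mul_smul_comm, mul_smul_comm, one_mul, mul_one, c1, c3, hAdef, hBdef,
        sub_mul, sub_mul, smul_sub, smul_sub]
      abel
    rw [← e1, hf, zero_mul, mul_zero, sub_zero]
  have hcomm2 : f₁ • A + f₂ • (B * h) = 0 := by
    have : (f₁ • (A * h) + f₂ • (B * h ^ 2)) * hinv = f₁ • A + f₂ • (B * h) := by
      rw [add_mul, smul_mul_assoc, smul_mul_assoc, mul_assoc, h1, mul_one, mul_assoc, pow_two,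
        mul_assoc, h1, mul_one]
    rw [← this, hcomm, zero_mul]
  have hf2 : f₂ = 0 := by
    by_contra hf2
    obtain ⟨B', hB', -, hB'B⟩ := FieldSub.exists_inv K hK hB hB0
    have hh : h = (-(f₁ / f₂)) • (B' * A) := by
      have e2 : B * h = (-(f₁ / f₂)) • A := by
        have : f₂ • (B * h) = f₂ • ((-(f₁ / f₂)) • A) := by
          rw [smul_smul, mul_neg, mul_div_cancel₀ _ hf2, neg_smul]
          exact eq_neg_of_add_eq_zero_right hcomm2
        exact smul_right_injective _ hf2 this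
      calc h = (B' * B) * h := by rw [hB'B, one_mul]
        _ = B' * (B * h) := by rw [mul_assoc]
        _ = (-(f₁ / f₂)) • (B' * A) := by rw [e2, mul_smul_comm]
    have hhK : h ∈ K := by
      rw [hh]
      exact K.smul_mem (K.mul_mem hB' hA) _
    apply hne
    have : θ₁ * h = θ * h := by rw [← c1]; exact hK.comm h hhK θ hθ
    calc θ₁ = θ₁ * h * hinv := by rw [mul_assoc, h1, mul_one]
      _ = θ * h * hinv := by rw [this]
      _ = θ := by rw [mul_assoc, h1, mul_one]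
  rw [hf2, zero_smul, add_zero] at hcomm2
  have hf1 : f₁ = 0 := by
    rcases smul_eq_zero.mp hcomm2 with h | h
    · exact h
    · exact absurd h hA0
  rw [hf1, hf2, zero_smul, zero_smul, add_zero, add_zero] at hf
  have hf0 : f₀ = 0 := by
    rcases smul_eq_zero.mp hf with h | h
    · exact h
    · exact absurd h one_ne_zero
  exact ⟨hf0, hf1, hf2⟩

/-- The characteristic polynomial of such an element. -/
theorem charpoly_of_normalizes {h hinv : Matrix (Fin 3) (Fin 3) F} (h1 : h * hinv = 1)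
    (hN : ∀ b ∈ K, h * b * hinv ∈ K) {z : F} (hz : h ^ 3 = z • (1 : Matrix (Fin 3) (Fin 3) F))
    {θ : Matrix (Fin 3) (Fin 3) F} (hθ : θ ∈ K) (hne : h * θ * hinv ≠ θ) :
    h.charpoly = X ^ 3 - C z ∧ h.det = z := by
  obtain ⟨a, b, hχ, hCH⟩ := cayley3 h
  rw [hz] at hCH
  have hrel : (z - h.det) • (1 : Matrix (Fin 3) (Fin 3) F) + b • h + a • h ^ 2 = 0 := by
    rw [sub_smul, ← hCH]
    abel
  obtain ⟨h0, hb, ha⟩ := nondeg_of_normalizes K hK h1 hN hz hθ hne hrel
  have hd : h.det = z := (sub_eq_zero.mp h0).symm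
  refine ⟨?_, hd⟩
  rw [hχ, ha, hb, hd]
  simp

/-- An element of the normaliser of `K` whose cube is scalar and which satisfies a split
quadratic equation is a scalar. -/
theorem scalar_of_quadratic {h hinv : Matrix (Fin 3) (Fin 3) F} (h1 : h * hinv = 1)
    (hN : ∀ b ∈ K, h * b * hinv ∈ K) {z : F} (hz : h ^ 3 = z • (1 : Matrix (Fin 3) (Fin 3) F))
    (a b : F) (hq : (h - a • (1 : Matrix (Fin 3) (Fin 3) F)) *
      (h - b • (1 : Matrix (Fin 3) (Fin 3) F)) = 0) :
    ∃ c : F, h = c • (1 : Matrix (Fin 3) (Fin 3) F) := by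
  have h2 : hinv * h = 1 := mul_eq_one_comm.mp h1
  by_cases hc : ∀ θ ∈ K, h * θ * hinv = θ
  · have hcomm : ∀ θ ∈ K, h * θ = θ * h := by
      intro θ hθ
      calc h * θ = h * θ * (hinv * h) := by rw [h2, mul_one]
        _ = (h * θ * hinv) * h := by simp only [mul_assoc]
        _ = θ * h := by rw [hc θ hθ]
    have hhK : h ∈ K := FieldSub.mem_of_commute K hK h hcomm
    have hscal : ∀ c : F, c • (1 : Matrix (Fin 3) (Fin 3) F) ∈ K := fun c =>
      K.smul_mem K.one_mem c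
    rcases FieldSub.eq_zero_or_eq_zero_of_mul_eq_zero K hK (K.sub_mem hhK (hscal a)) hq with h | h
    · exact ⟨a, sub_eq_zero.mp h⟩
    · exact ⟨b, sub_eq_zero.mp h⟩
  · exfalso
    push Not at hc
    obtain ⟨θ, hθ, hne⟩ := hc
    have hrel : (a * b) • (1 : Matrix (Fin 3) (Fin 3) F) + (-(a + b)) • h + (1 : F) • h ^ 2 = 0 := by
      rw [← hq, sub_mul, mul_sub, mul_sub, smul_mul_assoc, smul_mul_assoc, one_mul, one_mul,
        mul_smul_comm, mul_one, smul_smul, one_smul, pow_two, neg_smul, add_smul]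
      abel
    exact one_ne_zero (nondeg_of_normalizes K hK h1 hN hz hθ hne hrel).2.2

end normalizer

section canon

/-- the matrix with the given columns -/
def colMat (u₀ u₁ u₂ : Fin 3 → F) : Matrix (Fin 3) (Fin 3) F :=
  Matrix.of fun i j => ![u₀, u₁, u₂] j i

theorem colMat_mulVec (u₀ u₁ u₂ w : Fin 3 → F) :
    colMat u₀ u₁ u₂ *ᵥ w = w 0 • u₀ + w 1 • u₁ + w 2 • u₂ := by
  ext i
  simp [colMat, mulVec, dotProduct, Fin.sum_univ_three]
  ring

theorem mul_colMat (M : Matrix (Fin 3) (Fin 3) F) (u₀ u₁ u₂ : Fin 3 → F) :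
    M * colMat u₀ u₁ u₂ = colMat (M *ᵥ u₀) (M *ᵥ u₁) (M *ᵥ u₂) := by
  ext i j
  fin_cases j <;> simp [colMat, mul_apply, mulVec, dotProduct]

theorem det_ne_zero_of_ker {B : Matrix (Fin 3) (Fin 3) F}
    (h : ∀ w : Fin 3 → F, B *ᵥ w = 0 → w = 0) : B.det ≠ 0 := by
  intro hd
  obtain ⟨w, hw0, hw⟩ := Matrix.exists_mulVec_eq_zero_iff.mpr hd
  exact hw0 (h w hw)

theorem exists_eigvec {M : Matrix (Fin 3) (Fin 3) F} (hχ : M.charpoly = X ^ 3 - 1) {c : F}
    (hc : c ^ 3 = 1) : ∃ v : Fin 3 → F, v ≠ 0 ∧ M *ᵥ v = c • v := by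
  have h1 : (Matrix.scalar (Fin 3) c - M).det = 0 := by
    rw [← Matrix.eval_charpoly, hχ]
    simp [hc]
  obtain ⟨v, hv0, hv⟩ := Matrix.exists_mulVec_eq_zero_iff.mpr h1
  refine ⟨v, hv0, ?_⟩
  rw [sub_mulVec] at hv
  have h2 : Matrix.scalar (Fin 3) c *ᵥ v = c • v := by
    ext i
    simp [Matrix.scalar_apply, mulVec, dotProduct, Matrix.diagonal_apply, Fin.sum_univ_three]
  rw [h2] at hv
  exact (sub_eq_zero.mp hv).symm

theorem cube_eq_one_of_charpoly {M : Matrix (Fin 3) (Fin 3) F} (hχ : M.charpoly = X ^ 3 - 1) :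
    M ^ 3 = 1 := by
  have h := Matrix.aeval_self_charpoly M
  rw [hχ] at h
  simpa [sub_eq_zero] using h

/-- split canonical form -/
theorem split_form {M : Matrix (Fin 3) (Fin 3) F} (hχ : M.charpoly = X ^ 3 - 1) {ω : F}
    (hω : ω ^ 2 + ω + 1 = 0) (h3 : (3 : F) ≠ 0) :
    ∃ B : Matrix (Fin 3) (Fin 3) F, B.det ≠ 0 ∧ M * B = B * Matrix.diagonal ![1, ω, ω ^ 2] := by
  have hω3 : ω ^ 3 = 1 := by linear_combination (ω - 1) * hω
  obtain ⟨u₀, hu₀, hM₀⟩ := exists_eigvec hχ (one_pow 3 : (1 : F) ^ 3 = 1)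
  obtain ⟨u₁, hu₁, hM₁⟩ := exists_eigvec hχ hω3
  obtain ⟨u₂, hu₂, hM₂⟩ := exists_eigvec hχ
    (show (ω ^ 2) ^ 3 = 1 by rw [← pow_mul, mul_comm, pow_mul, hω3, one_pow])
  rw [one_smul] at hM₀
  refine ⟨colMat u₀ u₁ u₂, ?_, ?_⟩
  · apply det_ne_zero_of_ker
    intro w hw
    rw [colMat_mulVec] at hw
    have hw2 : w 0 • u₀ + (w 1 * ω) • u₁ + (w 2 * ω ^ 2) • u₂ = 0 := by
      have := congrArg (fun v => M *ᵥ v) hw
      simp only [mulVec_add, mulVec_smul, hM₀, hM₁, hM₂, mulVec_zero, smul_smul] at this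
      exact this
    have hw3 : w 0 • u₀ + (w 1 * ω * ω) • u₁ + (w 2 * ω ^ 2 * ω ^ 2) • u₂ = 0 := by
      have := congrArg (fun v => M *ᵥ v) hw2
      simp only [mulVec_add, mulVec_smul, hM₀, hM₁, hM₂, mulVec_zero, smul_smul] at this
      exact this
    have e0 : ∀ i, w 0 * u₀ i = 0 := by
      intro i
      have a1 := congrFun hw i
      have a2 := congrFun hw2 i
      have a3 := congrFun hw3 i
      simp only [Pi.add_apply, Pi.smul_apply, smul_eq_mul, Pi.zero_apply] at a1 a2 a3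
      have : 3 * (w 0 * u₀ i) = 0 := by
        linear_combination a1 + a2 + a3 - (w 1 * u₁ i) * hω - (w 2 * u₂ i) * (ω ^ 2 - ω + 1) * hω
      rcases mul_eq_zero.mp this with h | h
      · exact absurd h h3
      · exact h
    have e1 : ∀ i, w 1 * u₁ i = 0 := by
      intro i
      have a1 := congrFun hw i
      have a2 := congrFun hw2 i
      have a3 := congrFun hw3 i
      simp only [Pi.add_apply, Pi.smul_apply, smul_eq_mul, Pi.zero_apply] at a1 a2 a3
      have : 3 * (w 1 * u₁ i) = 0 := by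
        linear_combination a1 + ω ^ 2 * a2 + ω * a3 - (w 0 * u₀ i) * hω
          - (w 1 * u₁ i) * (2 * ω - 2) * hω - (w 2 * u₂ i) * (ω ^ 3 - ω + 1) * hω
      rcases mul_eq_zero.mp this with h | h
      · exact absurd h h3
      · exact h
    have e2 : ∀ i, w 2 * u₂ i = 0 := by
      intro i
      have a1 := congrFun hw i
      have a2 := congrFun hw2 i
      have a3 := congrFun hw3 i
      simp only [Pi.add_apply, Pi.smul_apply, smul_eq_mul, Pi.zero_apply] at a1 a2 a3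
      have : 3 * (w 2 * u₂ i) = 0 := by
        linear_combination a1 + ω * a2 + ω ^ 2 * a3 - (w 0 * u₀ i) * hω
          - (w 1 * u₁ i) * (ω ^ 2 - ω + 1) * hω - (w 2 * u₂ i) * (ω ^ 4 - ω ^ 3 + 2 * ω - 2) * hω
      rcases mul_eq_zero.mp this with h | h
      · exact absurd h h3
      · exact h
    have key : ∀ (a : F) (u : Fin 3 → F), u ≠ 0 → (∀ i, a * u i = 0) → a = 0 := by
      intro a u hu h
      by_contra ha
      apply hu
      funext i
      rcases mul_eq_zero.mp (h i) with h' | h'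
      · exact absurd h' ha
      · exact h'
    funext j
    fin_cases j
    · exact key _ _ hu₀ e0
    · exact key _ _ hu₁ e1
    · exact key _ _ hu₂ e2
  · rw [mul_colMat, hM₀, hM₁, hM₂]
    ext i j
    fin_cases j <;> simp [colMat, mul_apply, Fin.sum_univ_three, Matrix.diagonal_apply] <;> ring

/-- the non-split canonical matrix -/
def Emat (F : Type*) [Field F] : Matrix (Fin 3) (Fin 3) F := !![1, 0, 0; 0, 0, -1; 0, 1, -1]

theorem ne_one_of_charpoly {M : Matrix (Fin 3) (Fin 3) F} (hχ : M.charpoly = X ^ 3 - 1)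
    (h3 : (3 : F) ≠ 0) : M ≠ 1 := by
  rintro rfl
  rw [Matrix.charpoly_one] at hχ
  have := congrArg (fun f => coeff f 1) hχ
  simp only [Fintype.card_fin] at this
  have e : ((X : F[X]) - 1) ^ 3 = X ^ 3 - C 3 * X ^ 2 + C 3 * X - 1 := by
    simp only [map_ofNat]; ring
  rw [e] at this
  simp [coeff_X, coeff_one] at this
  exact h3 this

/-- non-split canonical form -/
theorem nonsplit_form {M : Matrix (Fin 3) (Fin 3) F} (hχ : M.charpoly = X ^ 3 - 1)
    (hno : ∀ c : F, c ^ 2 + c + 1 ≠ 0) (h3 : (3 : F) ≠ 0) :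
    ∃ B : Matrix (Fin 3) (Fin 3) F, B.det ≠ 0 ∧ M * B = B * Emat F := by
  have hM3 : M ^ 3 = 1 := cube_eq_one_of_charpoly hχ
  obtain ⟨u₀, hu₀, hM₀⟩ := exists_eigvec hχ (one_pow 3 : (1 : F) ^ 3 = 1)
  rw [one_smul] at hM₀
  obtain ⟨T, hT⟩ : ∃ T, T = M ^ 2 + M + 1 := ⟨_, rfl⟩
  have hTM : (M - 1) * T = 0 := by
    rw [hT]
    calc (M - 1) * (M ^ 2 + M + 1) = M ^ 3 - 1 := by noncomm_ring
      _ = 0 := by rw [hM3, sub_self]
  have hTdet : T.det = 0 := by
    by_contra hd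
    have hu : IsUnit T.det := isUnit_iff_ne_zero.mpr hd
    have : M - 1 = 0 := by
      calc M - 1 = (M - 1) * (T * T⁻¹) := by rw [Matrix.mul_nonsing_inv T hu, mul_one]
        _ = 0 := by rw [← mul_assoc, hTM, zero_mul]
    exact ne_one_of_charpoly hχ h3 (sub_eq_zero.mp this)
  obtain ⟨y, hy0, hy⟩ := Matrix.exists_mulVec_eq_zero_iff.mpr hTdet
  have hy' : M *ᵥ (M *ᵥ y) + M *ᵥ y + y = 0 := by
    rw [hT] at hy
    simpa [add_mulVec, pow_two, mulVec_mulVec] using hy
  have hMMy : M *ᵥ (M *ᵥ y) = -y - M *ᵥ y := by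
    have : M *ᵥ (M *ᵥ y) - (-y - M *ᵥ y) = M *ᵥ (M *ᵥ y) + M *ᵥ y + y := by abel
    exact sub_eq_zero.mp (this.trans hy')
  refine ⟨colMat u₀ y (M *ᵥ y), ?_, ?_⟩
  · apply det_ne_zero_of_ker
    intro w hw
    rw [colMat_mulVec] at hw
    -- apply `T`
    have hTu : T *ᵥ u₀ = (3 : F) • u₀ := by
      rw [hT]
      simp only [add_mulVec, pow_two, ← mulVec_mulVec, hM₀, one_mulVec]
      ext i
      simp only [Pi.add_apply, Pi.smul_apply, smul_eq_mul]
      ring
    have hTMy : T *ᵥ (M *ᵥ y) = 0 := by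
      have hcomm : T * M = M * T := by rw [hT]; noncomm_ring
      rw [mulVec_mulVec, hcomm, ← mulVec_mulVec, hy, mulVec_zero]
    have h1 : (w 0 * 3) • u₀ = 0 := by
      have := congrArg (fun v => T *ᵥ v) hw
      simp only [mulVec_add, mulVec_smul, hTu, hy, hTMy, smul_zero, add_zero, mulVec_zero,
        smul_smul] at this
      exact this
    have hw0 : w 0 = 0 := by
      rcases smul_eq_zero.mp h1 with h | h
      · rcases mul_eq_zero.mp h with h' | h'
        · exact h'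
        · exact absurd h' h3
      · exact absurd h hu₀
    rw [hw0, zero_smul, zero_add] at hw
    have hw2 : w 2 = 0 := by
      by_contra hw2
      have hMy : M *ᵥ y = (-(w 1 / w 2)) • y := by
        have : w 2 • (M *ᵥ y) = w 2 • ((-(w 1 / w 2)) • y) := by
          rw [smul_smul, mul_neg, mul_div_cancel₀ _ hw2, neg_smul]
          exact eq_neg_of_add_eq_zero_right hw
        exact smul_right_injective _ hw2 this
      obtain ⟨γ, hγ⟩ : ∃ γ, γ = -(w 1 / w 2) := ⟨_, rfl⟩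
      rw [← hγ] at hMy
      rw [hMy, mulVec_smul, hMy, smul_smul] at hy'
      have : (γ * γ + γ + 1) • y = 0 := by
        rw [add_smul, add_smul, one_smul]; exact hy'
      rcases smul_eq_zero.mp this with h | h
      · exact hno γ (by rw [← h]; ring)
      · exact hy0 h
    rw [hw2, zero_smul, add_zero] at hw
    have hw1 : w 1 = 0 := by
      rcases smul_eq_zero.mp hw with h | h
      · exact h
      · exact absurd h hy0
    funext j
    fin_cases j
    · exact hw0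
    · exact hw1
    · exact hw2
  · rw [mul_colMat, hM₀, hMMy]
    ext i j
    fin_cases j <;>
      simp [colMat, Emat, mul_apply, Fin.sum_univ_three] <;> ring

theorem Emat_comm (d : F) :
    Emat F * Matrix.diagonal ![d, 1, 1] = Matrix.diagonal ![d, 1, 1] * Emat F := by
  ext i j
  fin_cases i <;> fin_cases j <;> simp [Emat, mul_apply, Fin.sum_univ_three, Matrix.diagonal_apply]

theorem diag_comm (a b c d : F) :
    Matrix.diagonal ![a, b, c] * Matrix.diagonal ![d, 1, 1] =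
      Matrix.diagonal ![d, 1, 1] * Matrix.diagonal ![a, b, c] := by
  rw [Matrix.diagonal_mul_diagonal, Matrix.diagonal_mul_diagonal]
  congr 1
  funext i
  fin_cases i <;> simp [mul_comm]

/-- two matrices with the same canonical form are conjugate by a matrix of determinant one -/
theorem conj_SL {M M' C₀ B B' : Matrix (Fin 3) (Fin 3) F}
    (hC : ∀ d : F, C₀ * Matrix.diagonal ![d, 1, 1] = Matrix.diagonal ![d, 1, 1] * C₀)
    (hB : B.det ≠ 0) (hB' : B'.det ≠ 0) (hM : M * B = B * C₀) (hM' : M' * B' = B' * C₀) :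
    ∃ P : Matrix (Fin 3) (Fin 3) F, P.det = 1 ∧ M * P = P * M' := by
  have hu' : IsUnit B'.det := isUnit_iff_ne_zero.mpr hB'
  obtain ⟨d, hd⟩ : ∃ d, d = B'.det / B.det := ⟨_, rfl⟩
  obtain ⟨T, hT⟩ : ∃ T, T = Matrix.diagonal ![d, 1, 1] := ⟨_, rfl⟩
  have hTdet : T.det = d := by
    rw [hT, Matrix.det_diagonal]
    simp [Fin.prod_univ_three]
  have h1 : B'⁻¹ * M' = C₀ * B'⁻¹ := by
    calc B'⁻¹ * M' = B'⁻¹ * M' * (B' * B'⁻¹) := by rw [Matrix.mul_nonsing_inv B' hu', mul_one]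
      _ = B'⁻¹ * (M' * B') * B'⁻¹ := by simp only [mul_assoc]
      _ = (B'⁻¹ * B') * C₀ * B'⁻¹ := by rw [hM']; simp only [mul_assoc]
      _ = C₀ * B'⁻¹ := by rw [Matrix.nonsing_inv_mul B' hu', one_mul]
  refine ⟨B * T * B'⁻¹, ?_, ?_⟩
  · rw [Matrix.det_mul, Matrix.det_mul, hTdet, Matrix.det_nonsing_inv, Ring.inverse_eq_inv', hd]
    field_simp
  · calc M * (B * T * B'⁻¹) = (M * B) * T * B'⁻¹ := by simp only [mul_assoc]
      _ = B * (C₀ * T) * B'⁻¹ := by rw [hM]; simp only [mul_assoc]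
      _ = B * T * (C₀ * B'⁻¹) := by rw [hT, hC d]; simp only [mul_assoc]
      _ = B * T * B'⁻¹ * M' := by rw [← h1]; simp only [mul_assoc]

end canon

end Cfsg.Agent.Lib.Helper99.Cubic3
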