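import Mathlib
import Cfsg.Agent.Lib.Helper99.Cubic3

/-!
# Non-abelian matrix groups of order 27 and exponent 3 in dimension three
-/

set_option autoImplicit false
set_option linter.style.haveILetI false
set_option linter.deprecated false

namespace Cfsg.Agent.Lib.Helper99.Extra27

open Matrix Polynomial
open Cfsg.Agent.Lib.Helper99.Cubic3

/-! ### groups of order 27 -/

theorem comm_of_card_dvd_nine {K : Type*} [Group K] [Finite K] (h : Nat.card K ∣ 9) :
    ∀ x y : K, x * y = y * x := by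
  haveI : Fact (Nat.Prime 3) := ⟨Nat.prime_three⟩
  have hmem : Nat.card K ∈ Nat.divisors 9 := Nat.mem_divisors.mpr ⟨h, by norm_num⟩
  have hdiv : Nat.divisors 9 = {1, 3, 9} := by decide
  rw [hdiv] at hmem
  simp only [Finset.mem_insert, Finset.mem_singleton] at hmem
  rcases hmem with h1 | h1 | h1
  · intro x y
    haveI : Subsingleton K := (Nat.card_eq_one_iff_unique.mp h1).1
    exact Subsingleton.elim _ _
  · haveI := isCyclic_of_prime_card h1
    intro x y
    letI := IsCyclic.commGroup (α := K)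
    exact mul_comm x y
  · exact IsPGroup.commutative_of_card_eq_prime_sq (p := 3) (by rw [h1]; norm_num)

theorem comm_central {Q : Type*} [Group Q] [Finite Q] (hcard : Nat.card Q = 27)
    (hna : ¬ ∀ a b : Q, a * b = b * a) (u v w : Q) :
    (u * v * u⁻¹ * v⁻¹) * w = w * (u * v * u⁻¹ * v⁻¹) := by
  classical
  haveI : Fact (Nat.Prime 3) := ⟨Nat.prime_three⟩
  have hQ : IsPGroup 3 Q := IsPGroup.of_card (n := 3) (by rw [hcard]; norm_num)
  haveI : Nontrivial Q := by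
    rw [← Finite.one_lt_card_iff_nontrivial, hcard]; norm_num
  haveI hZnt := hQ.center_nontrivial
  have hidx : (Subgroup.center Q).index * Nat.card (Subgroup.center Q) = 27 := by
    rw [← hcard]; exact Subgroup.index_mul_card _
  have hZ1 : Nat.card (Subgroup.center Q) ≠ 1 := by
    intro h
    rw [Subgroup.card_eq_one] at h
    exact (Subgroup.nontrivial_iff_ne_bot _).mp hZnt h
  have hq : Nat.card (Q ⧸ Subgroup.center Q) = (Subgroup.center Q).index :=
    (Subgroup.index_eq_card _).symm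
  have hmem : Nat.card (Subgroup.center Q) ∈ Nat.divisors 27 :=
    Nat.mem_divisors.mpr ⟨Dvd.intro_left _ hidx, by norm_num⟩
  have hdiv : Nat.divisors 27 = {1, 3, 9, 27} := by decide
  rw [hdiv] at hmem
  simp only [Finset.mem_insert, Finset.mem_singleton] at hmem
  rcases hmem with h | h | h | h
  · exact absurd h hZ1
  · have h9 : Nat.card (Q ⧸ Subgroup.center Q) ∣ 9 := by
      rw [hq]; rw [h] at hidx
      have : (Subgroup.center Q).index = 9 := by omega
      rw [this]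
    have hc := comm_of_card_dvd_nine h9
    have h1 : ((u * v * u⁻¹ * v⁻¹ : Q) : Q ⧸ Subgroup.center Q) = 1 := by
      have := hc (u : Q ⧸ Subgroup.center Q) (v : Q ⧸ Subgroup.center Q)
      simp only [QuotientGroup.mk_mul, QuotientGroup.mk_inv]
      rw [this]; group
    rw [QuotientGroup.eq_one_iff] at h1
    exact (Subgroup.mem_center_iff.mp h1 w).symm
  · exfalso
    have h3 : Nat.card (Q ⧸ Subgroup.center Q) = 3 := by
      rw [hq]; rw [h] at hidx; omega
    haveI := isCyclic_of_prime_card h3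
    exact hna (commutative_of_cyclic_center_quotient (QuotientGroup.mk' (Subgroup.center Q))
      (by rw [QuotientGroup.ker_mk']))
  · exfalso
    have htop : Subgroup.center Q = ⊤ := (Subgroup.card_eq_iff_eq_top _).mp (h.trans hcard.symm)
    apply hna; intro a b
    have hb : b ∈ Subgroup.center Q := htop ▸ Subgroup.mem_top b
    exact (Subgroup.mem_center_iff.mp hb a)

/-! ### linear algebra -/

variable {F : Type*} [Field F]

theorem cube_root_cases {lam : F} (hlam : lam ^ 2 + lam + 1 = 0) {t : F} (ht : t ^ 3 = 1) :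
    t = 1 ∨ t = lam ∨ t = lam ^ 2 := by
  have h : (t - 1) * ((t - lam) * (t - lam ^ 2)) = 0 := by
    linear_combination ht + (-t ^ 2 + lam * t - lam + 1) * hlam
  rcases mul_eq_zero.mp h with h | h
  · left; exact sub_eq_zero.mp h
  · rcases mul_eq_zero.mp h with h | h
    · right; left; exact sub_eq_zero.mp h
    · right; right; exact sub_eq_zero.mp h

theorem lam_cube {lam : F} (hlam : lam ^ 2 + lam + 1 = 0) : lam ^ 3 = 1 := by
  linear_combination (lam - 1) * hlam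

theorem lam4_cube {lam : F} (hlam : lam ^ 2 + lam + 1 = 0) : ((lam ^ 2) ^ 2) ^ 3 = 1 := by
  have : ((lam ^ 2) ^ 2) ^ 3 = (lam ^ 3) ^ 4 := by ring
  rw [this, lam_cube hlam, one_pow]

theorem lam2_cube {lam : F} (hlam : lam ^ 2 + lam + 1 = 0) : (lam ^ 2) ^ 3 = 1 := by
  have : (lam ^ 2) ^ 3 = (lam ^ 3) ^ 2 := by ring
  rw [this, lam_cube hlam, one_pow]

theorem lam_ne_one {lam : F} (hlam : lam ^ 2 + lam + 1 = 0) (h3 : (3 : F) ≠ 0) : lam ≠ 1 := by
  rintro rfl
  apply h3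
  linear_combination hlam

theorem lam_sq_ne_one {lam : F} (hlam : lam ^ 2 + lam + 1 = 0) (h3 : (3 : F) ≠ 0) :
    lam ^ 2 ≠ 1 := by
  intro h
  apply lam_ne_one hlam h3
  have h1 := lam_cube hlam
  calc lam = lam ^ 3 * lam := by rw [h1, one_mul]
    _ = (lam ^ 2) ^ 2 := by ring
    _ = 1 := by rw [h, one_pow]

theorem lam_ne_zero {lam : F} (hlam : lam ^ 2 + lam + 1 = 0) : lam ≠ 0 := by
  rintro rfl
  simp at hlam

theorem mulVec_cube {M : Matrix (Fin 3) (Fin 3) F} (h3 : M ^ 3 = 1) (v : Fin 3 → F) :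
    M *ᵥ (M *ᵥ (M *ᵥ v)) = v := by
  rw [mulVec_mulVec, mulVec_mulVec, ← pow_three', h3, one_mulVec]

/-- eigenvector of a matrix with `M ^ 3 = 1` built from any vector -/
theorem eig_decomp {M : Matrix (Fin 3) (Fin 3) F} (h3 : M ^ 3 = 1) {μ : F} (hμ : μ ^ 3 = 1)
    (v : Fin 3 → F) :
    M *ᵥ (v + μ • (M *ᵥ v) + μ ^ 2 • (M *ᵥ (M *ᵥ v))) =
      μ ^ 2 • (v + μ • (M *ᵥ v) + μ ^ 2 • (M *ᵥ (M *ᵥ v))) := by
  have hM3 := mulVec_cube h3 v
  ext i
  simp only [mulVec_add, mulVec_smul, hM3, Pi.add_apply, Pi.smul_apply, smul_eq_mul]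
  linear_combination (-(M *ᵥ v) i - μ * (M *ᵥ (M *ᵥ v)) i) * hμ

theorem eig_sum {M : Matrix (Fin 3) (Fin 3) F} {lam : F} (hlam : lam ^ 2 + lam + 1 = 0)
    (v : Fin 3 → F) :
    (v + (1 : F) • (M *ᵥ v) + (1 : F) ^ 2 • (M *ᵥ (M *ᵥ v))) +
      (v + lam • (M *ᵥ v) + lam ^ 2 • (M *ᵥ (M *ᵥ v))) +
      (v + lam ^ 2 • (M *ᵥ v) + (lam ^ 2) ^ 2 • (M *ᵥ (M *ᵥ v))) = (3 : F) • v := by
  ext i
  simp only [Pi.add_apply, Pi.smul_apply, smul_eq_mul]
  linear_combination ((M *ᵥ v) i + (M *ᵥ (M *ᵥ v)) i * (lam ^ 2 - lam + 1)) * hlam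

/-- an eigenvector of `M` (`M ^ 3 = 1`) inside an invariant subspace -/
theorem exists_eig {M : Matrix (Fin 3) (Fin 3) F} (h3 : M ^ 3 = 1) {lam : F}
    (hlam : lam ^ 2 + lam + 1 = 0) (h3F : (3 : F) ≠ 0)
    (Pred : (Fin 3 → F) → Prop) (hadd : ∀ x y, Pred x → Pred y → Pred (x + y))
    (hsmul : ∀ (t : F) x, Pred x → Pred (t • x)) (hM : ∀ x, Pred x → Pred (M *ᵥ x))
    (v : Fin 3 → F) (hv : v ≠ 0) (hPv : Pred v) :
    ∃ u, u ≠ 0 ∧ Pred u ∧ ∃ α : F, α ^ 3 = 1 ∧ M *ᵥ u = α • u := by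
  have hl3 := lam_cube hlam
  have hP : ∀ μ : F, Pred (v + μ • (M *ᵥ v) + μ ^ 2 • (M *ᵥ (M *ᵥ v))) := fun μ =>
    hadd _ _ (hadd _ _ hPv (hsmul _ _ (hM _ hPv))) (hsmul _ _ (hM _ (hM _ hPv)))
  by_cases h1 : (v + (1 : F) • (M *ᵥ v) + (1 : F) ^ 2 • (M *ᵥ (M *ᵥ v))) = 0
  · by_cases h2 : (v + lam • (M *ᵥ v) + lam ^ 2 • (M *ᵥ (M *ᵥ v))) = 0
    · by_cases h4 : (v + lam ^ 2 • (M *ᵥ v) + (lam ^ 2) ^ 2 • (M *ᵥ (M *ᵥ v))) = 0
      · exfalso
        have := eig_sum (M := M) hlam v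
        rw [h1, h2, h4, add_zero, add_zero] at this
        rcases smul_eq_zero.mp this.symm with h | h
        · exact h3F h
        · exact hv h
      · exact ⟨_, h4, hP _, (lam ^ 2) ^ 2, lam4_cube hlam,
          eig_decomp h3 (by rw [← pow_mul, mul_comm, pow_mul, hl3, one_pow]) v⟩
    · exact ⟨_, h2, hP _, lam ^ 2, by rw [← pow_mul, mul_comm, pow_mul, hl3, one_pow],
        eig_decomp h3 hl3 v⟩
  · exact ⟨_, h1, hP _, (1 : F) ^ 2, by simp, eig_decomp h3 (one_pow 3) v⟩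

/-- a non-identity matrix with `c ^ 3 = 1` has an eigenvalue different from one -/
theorem exists_eig_ne_one {c : Matrix (Fin 3) (Fin 3) F} (h3 : c ^ 3 = 1) (hc1 : c ≠ 1) {lam : F}
    (hlam : lam ^ 2 + lam + 1 = 0) (h3F : (3 : F) ≠ 0) :
    ∃ (l : F) (v : Fin 3 → F), l ≠ 1 ∧ l ^ 3 = 1 ∧ v ≠ 0 ∧ c *ᵥ v = l • v := by
  have hl3 := lam_cube hlam
  obtain ⟨v, hv⟩ : ∃ v : Fin 3 → F, c *ᵥ v ≠ v := by
    by_contra hcon
    push Not at hcon
    apply hc1
    ext i j
    have := congrFun (hcon (Pi.single j 1)) i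
    simpa [Matrix.one_apply, Pi.single_apply, eq_comm] using this
  by_cases h2 : (v + lam • (c *ᵥ v) + lam ^ 2 • (c *ᵥ (c *ᵥ v))) = 0
  · by_cases h4 : (v + lam ^ 2 • (c *ᵥ v) + (lam ^ 2) ^ 2 • (c *ᵥ (c *ᵥ v))) = 0
    · exfalso
      have hs := eig_sum (M := c) hlam v
      rw [h2, h4, add_zero, add_zero] at hs
      have h1 := eig_decomp h3 (one_pow 3 : (1 : F) ^ 3 = 1) v
      rw [hs, one_pow, one_smul, mulVec_smul] at h1
      apply hv
      have := congrArg (fun w => (3 : F)⁻¹ • w) h1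
      simpa [smul_smul, inv_mul_cancel₀ h3F] using this
    · refine ⟨(lam ^ 2) ^ 2, _, ?_, ?_, h4,
        eig_decomp h3 (by rw [← pow_mul, mul_comm, pow_mul, hl3, one_pow]) v⟩
      · have : (lam ^ 2) ^ 2 = lam := by
          calc (lam ^ 2) ^ 2 = lam ^ 3 * lam := by ring
            _ = lam := by rw [hl3, one_mul]
        rw [this]; exact lam_ne_one hlam h3F
      · exact lam4_cube hlam
  · exact ⟨lam ^ 2, _, lam_sq_ne_one hlam h3F, by rw [← pow_mul, mul_comm, pow_mul, hl3, one_pow],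
      h2, eig_decomp h3 hl3 v⟩


/-! ### standard matrices -/

/-- the cyclic shift -/
def S0 (F : Type*) [Field F] : Matrix (Fin 3) (Fin 3) F := !![0, 0, 1; 1, 0, 0; 0, 1, 0]

/-- a transposition -/
def T0 (F : Type*) [Field F] : Matrix (Fin 3) (Fin 3) F := !![1, 0, 0; 0, 0, 1; 0, 1, 0]

/-- the diagonal generator -/
def A0 (lam : F) : Matrix (Fin 3) (Fin 3) F := Matrix.diagonal ![1, lam, lam ^ 2]

theorem colMat_mul_diagonal (u₀ u₁ u₂ : Fin 3 → F) (d₀ d₁ d₂ : F) :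
    colMat u₀ u₁ u₂ * Matrix.diagonal ![d₀, d₁, d₂] = colMat (d₀ • u₀) (d₁ • u₁) (d₂ • u₂) := by
  ext i j
  fin_cases j <;> simp [colMat, mul_apply, Fin.sum_univ_three, Matrix.diagonal_apply] <;> ring

theorem colMat_mul_S0 (u₀ u₁ u₂ : Fin 3 → F) : colMat u₀ u₁ u₂ * S0 F = colMat u₁ u₂ u₀ := by
  ext i j
  fin_cases j <;> simp [colMat, S0, mul_apply, Fin.sum_univ_three]

theorem indep_core {M : Matrix (Fin 3) (Fin 3) F} {ω : F} (hω : ω ^ 2 + ω + 1 = 0)
    (h3 : (3 : F) ≠ 0) {u₀ u₁ u₂ : Fin 3 → F} (hu₀ : u₀ ≠ 0) (hu₁ : u₁ ≠ 0) (hu₂ : u₂ ≠ 0)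
    (hM₀ : M *ᵥ u₀ = u₀) (hM₁ : M *ᵥ u₁ = ω • u₁) (hM₂ : M *ᵥ u₂ = ω ^ 2 • u₂) :
    (colMat u₀ u₁ u₂).det ≠ 0 := by
  apply det_ne_zero_of_ker
  intro w hw
  rw [colMat_mulVec] at hw
  have hw2 : w 0 • u₀ + (w 1 * ω) • u₁ + (w 2 * ω ^ 2) • u₂ = 0 := by
    have := congrArg (fun v => M *ᵥ v) hw
    simp only [mulVec_add, mulVec_smul, hM₀, hM₁, hM₂, mulVec_zero, smul_smul] at this
    exact this
  have hw3 : w 0 • u₀ + (w 1 * ω * ω) • u₁ + (w 2 * ω ^ 2 * ω ^ 2) • u₂ = 0 := by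
    have := congrArg (fun v => M *ᵥ v) hw2
    simp only [mulVec_add, mulVec_smul, hM₀, hM₁, hM₂, mulVec_zero, smul_smul] at this
    exact this
  have e0 : ∀ i, w 0 * u₀ i = 0 := by
    intro i
    have a1 := congrFun hw i
    have a2 := congrFun hw2 i
    have a3 := congrFun hw3 i
    simp only [Pi.add_apply, Pi.smul_apply, smul_eq_mul, Pi.zero_apply] at a1 a2 a3
    have : 3 * (w 0 * u₀ i) = 0 := by
      linear_combination a1 + a2 + a3 - (w 1 * u₁ i) * hω - (w 2 * u₂ i) * (ω ^ 2 - ω + 1) * hω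
    rcases mul_eq_zero.mp this with h | h
    · exact absurd h h3
    · exact h
  have e1 : ∀ i, w 1 * u₁ i = 0 := by
    intro i
    have a1 := congrFun hw i
    have a2 := congrFun hw2 i
    have a3 := congrFun hw3 i
    simp only [Pi.add_apply, Pi.smul_apply, smul_eq_mul, Pi.zero_apply] at a1 a2 a3
    have : 3 * (w 1 * u₁ i) = 0 := by
      linear_combination a1 + ω ^ 2 * a2 + ω * a3 - (w 0 * u₀ i) * hω
        - (w 1 * u₁ i) * (2 * ω - 2) * hω - (w 2 * u₂ i) * (ω ^ 3 - ω + 1) * hω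
    rcases mul_eq_zero.mp this with h | h
    · exact absurd h h3
    · exact h
  have e2 : ∀ i, w 2 * u₂ i = 0 := by
    intro i
    have a1 := congrFun hw i
    have a2 := congrFun hw2 i
    have a3 := congrFun hw3 i
    simp only [Pi.add_apply, Pi.smul_apply, smul_eq_mul, Pi.zero_apply] at a1 a2 a3
    have : 3 * (w 2 * u₂ i) = 0 := by
      linear_combination a1 + ω * a2 + ω ^ 2 * a3 - (w 0 * u₀ i) * hω
        - (w 1 * u₁ i) * (ω ^ 2 - ω + 1) * hω - (w 2 * u₂ i) * (ω ^ 4 - ω ^ 3 + 2 * ω - 2) * hω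
    rcases mul_eq_zero.mp this with h | h
    · exact absurd h h3
    · exact h
  have key : ∀ (a : F) (u : Fin 3 → F), u ≠ 0 → (∀ i, a * u i = 0) → a = 0 := by
    intro a u hu h
    by_contra ha
    apply hu
    funext i
    rcases mul_eq_zero.mp (h i) with h' | h'
    · exact absurd h' ha
    · exact h'
  funext j
  fin_cases j
  · exact key _ _ hu₀ e0
  · exact key _ _ hu₁ e1
  · exact key _ _ hu₂ e2

/-- the standard form of a pair of matrices of order three commuting up to a central element -/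
theorem std_form {a b c : Matrix (Fin 3) (Fin 3) F} (ha : a ^ 3 = 1) (hb : b ^ 3 = 1)
    (hc : c ^ 3 = 1) (hc1 : c ≠ 1) (hab : a * b = c * b * a) (hca : c * a = a * c)
    (hcb : c * b = b * c) {ω : F} (hω : ω ^ 2 + ω + 1 = 0) (h3F : (3 : F) ≠ 0) :
    ∃ (lam α : F) (P : Matrix (Fin 3) (Fin 3) F), lam ^ 2 + lam + 1 = 0 ∧ α ^ 3 = 1 ∧
      c = lam • (1 : Matrix (Fin 3) (Fin 3) F) ∧ P.det ≠ 0 ∧
      a * P = P * (α • A0 lam) ∧ b * P = P * S0 F := by
  obtain ⟨l, v, hl1, hl3, hv0, hcv⟩ := exists_eig_ne_one hc hc1 hω h3F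
  have hl : l ^ 2 + l + 1 = 0 := by
    have : (l - 1) * (l ^ 2 + l + 1) = 0 := by linear_combination hl3
    rcases mul_eq_zero.mp this with h | h
    · exact absurd (sub_eq_zero.mp h) hl1
    · exact h
  obtain ⟨u, hu0, hcu, α, hα3, hau⟩ := exists_eig ha hω h3F (fun x => c *ᵥ x = l • x)
    (fun x y hx hy => by rw [mulVec_add, hx, hy, smul_add])
    (fun t x hx => by rw [mulVec_smul, hx, smul_comm])
    (fun x hx => by rw [mulVec_mulVec, hca, ← mulVec_mulVec, hx, mulVec_smul])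
    v hv0 hcv
  have hcu' : c *ᵥ u = l • u := hcu
  have hα0 : α ≠ 0 := by
    rintro rfl
    simp at hα3
  have hcbu : c *ᵥ (b *ᵥ u) = l • (b *ᵥ u) := by
    rw [mulVec_mulVec, hcb, ← mulVec_mulVec, hcu', mulVec_smul]
  have hcbbu : c *ᵥ (b *ᵥ (b *ᵥ u)) = l • (b *ᵥ (b *ᵥ u)) := by
    rw [mulVec_mulVec, hcb, ← mulVec_mulVec, hcbu, mulVec_smul]
  have habu : a *ᵥ (b *ᵥ u) = (α * l) • (b *ᵥ u) := by
    rw [mulVec_mulVec, hab, ← mulVec_mulVec, hau, mulVec_smul, ← mulVec_mulVec, hcbu, smul_smul]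
  have habbu : a *ᵥ (b *ᵥ (b *ᵥ u)) = (α * l ^ 2) • (b *ᵥ (b *ᵥ u)) := by
    rw [mulVec_mulVec, hab, ← mulVec_mulVec, habu, mulVec_smul, ← mulVec_mulVec, hcbbu, smul_smul]
    congr 1; ring
  have hb3 := mulVec_cube hb u
  have hbu0 : b *ᵥ u ≠ 0 := by
    intro h
    rw [h, mulVec_zero, mulVec_zero] at hb3
    exact hu0 hb3.symm
  have hbbu0 : b *ᵥ (b *ᵥ u) ≠ 0 := by
    intro h
    rw [h, mulVec_zero] at hb3
    exact hu0 hb3.symm
  have hdet : (colMat u (b *ᵥ u) (b *ᵥ (b *ᵥ u))).det ≠ 0 := by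
    apply indep_core (M := α⁻¹ • a) hl h3F hu0 hbu0 hbbu0
    · rw [smul_mulVec, hau, smul_smul, inv_mul_cancel₀ hα0, one_smul]
    · rw [smul_mulVec, habu, smul_smul, ← mul_assoc, inv_mul_cancel₀ hα0, one_mul]
    · rw [smul_mulVec, habbu, smul_smul, ← mul_assoc, inv_mul_cancel₀ hα0, one_mul]
  refine ⟨l, α, colMat u (b *ᵥ u) (b *ᵥ (b *ᵥ u)), hl, hα3, ?_, hdet, ?_, ?_⟩
  · have hu' : IsUnit (colMat u (b *ᵥ u) (b *ᵥ (b *ᵥ u))).det := isUnit_iff_ne_zero.mpr hdet
    have h1 : c * colMat u (b *ᵥ u) (b *ᵥ (b *ᵥ u)) = l • colMat u (b *ᵥ u) (b *ᵥ (b *ᵥ u)) := by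
      rw [mul_colMat, hcu', hcbu, hcbbu]
      ext i j
      fin_cases j <;> simp [colMat]
    calc c = c * (colMat u (b *ᵥ u) (b *ᵥ (b *ᵥ u)) * (colMat u (b *ᵥ u) (b *ᵥ (b *ᵥ u)))⁻¹) := by
          rw [Matrix.mul_nonsing_inv _ hu', mul_one]
      _ = l • (1 : Matrix (Fin 3) (Fin 3) F) := by
          rw [← mul_assoc, h1, smul_mul_assoc, Matrix.mul_nonsing_inv _ hu']
  · rw [mul_colMat, hau, habu, habbu, A0]
    have : α • Matrix.diagonal ![1, l, l ^ 2] = Matrix.diagonal ![α, α * l, α * l ^ 2] := by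
      ext i j
      fin_cases i <;> fin_cases j <;> simp [Matrix.diagonal_apply]
    rw [this, colMat_mul_diagonal]
  · rw [mul_colMat, hb3, colMat_mul_S0]


/-! ### matrices with two eigenvalues -/

theorem det_colMat (u v w : Fin 3 → F) :
    (colMat u v w).det = u 0 * v 1 * w 2 - u 0 * w 1 * v 2 - v 0 * u 1 * w 2 + v 0 * w 1 * u 2
      + w 0 * u 1 * v 2 - w 0 * v 1 * u 2 := by
  rw [Matrix.det_fin_three]
  simp [colMat] <;> ring

theorem exists_third {u v : Fin 3 → F} (hu : u ≠ 0) (hne : ∀ t : F, v ≠ t • u) :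
    ∃ i : Fin 3, (colMat u v (Pi.single i 1)).det ≠ 0 := by
  by_contra hcon
  push Not at hcon
  have h0 := hcon 0
  have h1 := hcon 1
  have h2 := hcon 2
  rw [det_colMat] at h0 h1 h2
  simp at h0 h1 h2
  obtain ⟨j, hj⟩ : ∃ j, u j ≠ 0 := by
    by_contra h
    push Not at h
    exact hu (funext h)
  apply hne (v j / u j)
  funext k
  simp only [Pi.smul_apply, smul_eq_mul]
  rw [div_mul_eq_mul_div, eq_div_iff hj]
  fin_cases j <;> fin_cases k <;> simp <;> first | ring1 | linear_combination h0 | linear_combination h1 | linear_combination h2 | linear_combination -h0 | linear_combination -h1 | linear_combination -h2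

theorem det_colMat_lin (u v w w' : Fin 3 → F) (s t : F) :
    (colMat u v (s • w + t • w')).det = s * (colMat u v w).det + t * (colMat u v w').det := by
  simp only [det_colMat, Pi.add_apply, Pi.smul_apply, smul_eq_mul]
  ring

theorem mulVec_single_eq_zero {N : Matrix (Fin 3) (Fin 3) F}
    (h : ∀ i : Fin 3, N *ᵥ (Pi.single i 1) = 0) : N = 0 := by
  ext i j
  have := congrFun (h j) i
  simpa using this

/-- a matrix annihilated by `(X - α)(X - β)` is diagonalisable with eigenvalues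
`α, α, β` or `β, β, α` -/
theorem two_eig_form {M : Matrix (Fin 3) (Fin 3) F} {α β : F} (hαβ : α ≠ β)
    (h : (M - α • (1 : Matrix (Fin 3) (Fin 3) F)) * (M - β • (1 : Matrix (Fin 3) (Fin 3) F)) = 0)
    (hα : M ≠ α • (1 : Matrix (Fin 3) (Fin 3) F)) (hβ : M ≠ β • (1 : Matrix (Fin 3) (Fin 3) F)) :
    ∃ B : Matrix (Fin 3) (Fin 3) F, B.det ≠ 0 ∧
      (M * B = B * Matrix.diagonal ![α, α, β] ∨ M * B = B * Matrix.diagonal ![β, β, α]) := by
  have h' : (M - β • (1 : Matrix (Fin 3) (Fin 3) F)) * (M - α • (1 : Matrix (Fin 3) (Fin 3) F)) = 0 := by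
    rw [← h]
    simp only [sub_mul, mul_sub, smul_mul_assoc, mul_smul_comm, one_mul, mul_one]
    module
  -- eigenvector facts
  have eigβ : ∀ w : Fin 3 → F, M *ᵥ ((M - α • (1 : Matrix (Fin 3) (Fin 3) F)) *ᵥ w) =
      β • ((M - α • (1 : Matrix (Fin 3) (Fin 3) F)) *ᵥ w) := by
    intro w
    have := congrArg (fun N => N *ᵥ w) h'
    simp only [← mulVec_mulVec, zero_mulVec] at this
    rw [sub_mulVec, smul_mulVec, one_mulVec] at this
    exact sub_eq_zero.mp this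
  have eigα : ∀ w : Fin 3 → F, M *ᵥ ((M - β • (1 : Matrix (Fin 3) (Fin 3) F)) *ᵥ w) =
      α • ((M - β • (1 : Matrix (Fin 3) (Fin 3) F)) *ᵥ w) := by
    intro w
    have := congrArg (fun N => N *ᵥ w) h
    simp only [← mulVec_mulVec, zero_mulVec] at this
    rw [sub_mulVec, smul_mulVec, one_mulVec] at this
    exact sub_eq_zero.mp this
  obtain ⟨j, hj⟩ : ∃ j : Fin 3, (M - α • (1 : Matrix (Fin 3) (Fin 3) F)) *ᵥ (Pi.single j 1) ≠ 0 := by
    by_contra hcon
    push Not at hcon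
    exact hα (sub_eq_zero.mp (mulVec_single_eq_zero hcon))
  obtain ⟨k, hk⟩ : ∃ k : Fin 3, (M - β • (1 : Matrix (Fin 3) (Fin 3) F)) *ᵥ (Pi.single k 1) ≠ 0 := by
    by_contra hcon
    push Not at hcon
    exact hβ (sub_eq_zero.mp (mulVec_single_eq_zero hcon))
  obtain ⟨uβ, huβ⟩ : ∃ x, x = (M - α • (1 : Matrix (Fin 3) (Fin 3) F)) *ᵥ (Pi.single j 1) := ⟨_, rfl⟩
  obtain ⟨uα, huα⟩ : ∃ x, x = (M - β • (1 : Matrix (Fin 3) (Fin 3) F)) *ᵥ (Pi.single k 1) := ⟨_, rfl⟩
  have hMβ : M *ᵥ uβ = β • uβ := by rw [huβ]; exact eigβ _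
  have hMα : M *ᵥ uα = α • uα := by rw [huα]; exact eigα _
  have huβ0 : uβ ≠ 0 := by rw [huβ]; exact hj
  have huα0 : uα ≠ 0 := by rw [huα]; exact hk
  have hne : ∀ t : F, uβ ≠ t • uα := by
    intro t ht
    have h1 : M *ᵥ uβ = α • uβ := by rw [ht, mulVec_smul, hMα, smul_comm]
    rw [hMβ] at h1
    have h2 : (β - α) • uβ = 0 := by rw [sub_smul, h1, sub_self]
    rcases smul_eq_zero.mp h2 with h3 | h3
    · exact hαβ (sub_eq_zero.mp h3).symm
    · exact huβ0 h3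
  obtain ⟨i, hi⟩ := exists_third huα0 hne
  have hsplit : (β - α) • (Pi.single i (1 : F) : Fin 3 → F) =
      (1 : F) • ((M - α • (1 : Matrix (Fin 3) (Fin 3) F)) *ᵥ (Pi.single i 1)) +
        (-1 : F) • ((M - β • (1 : Matrix (Fin 3) (Fin 3) F)) *ᵥ (Pi.single i 1)) := by
    rw [sub_mulVec, sub_mulVec, smul_mulVec, smul_mulVec, one_mulVec, one_smul, neg_one_smul, sub_smul]
    abel
  have hdet : (β - α) * (colMat uα uβ (Pi.single i 1)).det =
      (colMat uα uβ ((M - α • (1 : Matrix (Fin 3) (Fin 3) F)) *ᵥ (Pi.single i 1))).det -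
        (colMat uα uβ ((M - β • (1 : Matrix (Fin 3) (Fin 3) F)) *ᵥ (Pi.single i 1))).det := by
    have e1 := det_colMat_lin uα uβ (Pi.single i (1 : F)) 0 (β - α) 0
    have e2 := det_colMat_lin uα uβ ((M - α • (1 : Matrix (Fin 3) (Fin 3) F)) *ᵥ (Pi.single i 1))
      ((M - β • (1 : Matrix (Fin 3) (Fin 3) F)) *ᵥ (Pi.single i 1)) 1 (-1)
    rw [← hsplit] at e2
    rw [zero_smul, add_zero] at e1
    linear_combination e2 - e1
  have hne0 : (β - α) * (colMat uα uβ (Pi.single i 1)).det ≠ 0 :=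
    mul_ne_zero (sub_ne_zero.mpr (Ne.symm hαβ)) hi
  by_cases hcase : (colMat uα uβ ((M - α • (1 : Matrix (Fin 3) (Fin 3) F)) *ᵥ (Pi.single i 1))).det = 0
  · -- third vector has eigenvalue α
    obtain ⟨w, hw⟩ : ∃ x, x = (M - β • (1 : Matrix (Fin 3) (Fin 3) F)) *ᵥ (Pi.single i 1) := ⟨_, rfl⟩
    have hMw : M *ᵥ w = α • w := by rw [hw]; exact eigα _
    have hd : (colMat uα uβ w).det ≠ 0 := by
      intro h0
      rw [hcase, ← hw, h0, sub_zero] at hdet
      exact hne0 hdet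
    refine ⟨colMat uα w uβ, ?_, Or.inl ?_⟩
    · intro h0
      apply hd
      rw [det_colMat] at h0 ⊢
      linear_combination -h0
    · rw [mul_colMat, hMα, hMw, hMβ, colMat_mul_diagonal]
  · obtain ⟨w, hw⟩ : ∃ x, x = (M - α • (1 : Matrix (Fin 3) (Fin 3) F)) *ᵥ (Pi.single i 1) := ⟨_, rfl⟩
    have hMw : M *ᵥ w = β • w := by rw [hw]; exact eigβ _
    rw [← hw] at hcase
    refine ⟨colMat uβ w uα, ?_, Or.inr ?_⟩
    · intro h0
      apply hcase
      rw [det_colMat] at h0 ⊢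
      linear_combination h0
    · rw [mul_colMat, hMα, hMw, hMβ, colMat_mul_diagonal]


/-! ### frames -/

/-- the matrix of a group element in the frame `P` -/
def rep (P Pi : Matrix (Fin 3) (Fin 3) F) (g : GL (Fin 3) F) : Matrix (Fin 3) (Fin 3) F :=
  Pi * (g : Matrix (Fin 3) (Fin 3) F) * P

section rep

variable {P Pi : Matrix (Fin 3) (Fin 3) F}

theorem rep_one (hPiP : Pi * P = 1) : rep P Pi 1 = 1 := by
  simp [rep, hPiP]

theorem rep_mul (hPPi : P * Pi = 1) (g h : GL (Fin 3) F) :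
    rep P Pi (g * h) = rep P Pi g * rep P Pi h := by
  unfold rep
  rw [Units.val_mul]
  calc Pi * ((g : Matrix (Fin 3) (Fin 3) F) * (h : Matrix (Fin 3) (Fin 3) F)) * P
      = Pi * (g : Matrix (Fin 3) (Fin 3) F) * 1 * (h : Matrix (Fin 3) (Fin 3) F) * P := by
        simp only [mul_assoc, one_mul]
    _ = Pi * (g : Matrix (Fin 3) (Fin 3) F) * P * (Pi * (h : Matrix (Fin 3) (Fin 3) F) * P) := by
        rw [← hPPi]; simp only [mul_assoc]

theorem rep_pow (hPPi : P * Pi = 1) (hPiP : Pi * P = 1) (g : GL (Fin 3) F) (n : ℕ) :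
    rep P Pi (g ^ n) = rep P Pi g ^ n := by
  induction n with
  | zero => simp [rep_one hPiP]
  | succ n ih => rw [pow_succ, pow_succ, rep_mul hPPi, ih]

theorem rep_inj (hPPi : P * Pi = 1) {g h : GL (Fin 3) F} (hgh : rep P Pi g = rep P Pi h) :
    g = h := by
  apply Units.ext
  unfold rep at hgh
  calc (g : Matrix (Fin 3) (Fin 3) F)
      = (P * Pi) * (g : Matrix (Fin 3) (Fin 3) F) * (P * Pi) := by rw [hPPi, one_mul, mul_one]
    _ = P * (Pi * (g : Matrix (Fin 3) (Fin 3) F) * P) * Pi := by simp only [mul_assoc]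
    _ = P * (Pi * (h : Matrix (Fin 3) (Fin 3) F) * P) * Pi := by rw [hgh]
    _ = (P * Pi) * (h : Matrix (Fin 3) (Fin 3) F) * (P * Pi) := by simp only [mul_assoc]
    _ = (h : Matrix (Fin 3) (Fin 3) F) := by rw [hPPi, one_mul, mul_one]

theorem rep_of_mul (hPiP : Pi * P = 1) {g : GL (Fin 3) F} {G₀ : Matrix (Fin 3) (Fin 3) F}
    (h : (g : Matrix (Fin 3) (Fin 3) F) * P = P * G₀) : rep P Pi g = G₀ := by
  unfold rep
  rw [mul_assoc, h, ← mul_assoc, hPiP, one_mul]

theorem mul_of_rep (hPPi : P * Pi = 1) {g : GL (Fin 3) F} {G₀ : Matrix (Fin 3) (Fin 3) F}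
    (h : rep P Pi g = G₀) : (g : Matrix (Fin 3) (Fin 3) F) * P = P * G₀ := by
  rw [← h]
  unfold rep
  rw [← mul_assoc, ← mul_assoc, hPPi, one_mul]

theorem rep_scalar (hPiP : Pi * P = 1) {g : GL (Fin 3) F} {t : F}
    (h : (g : Matrix (Fin 3) (Fin 3) F) = t • (1 : Matrix (Fin 3) (Fin 3) F)) :
    rep P Pi g = t • (1 : Matrix (Fin 3) (Fin 3) F) := by
  unfold rep
  rw [h, mul_smul_comm, mul_one, smul_mul_assoc, hPiP]

theorem det_rep (hPiP : Pi * P = 1) (g : GL (Fin 3) F) :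
    (rep P Pi g).det = (g : Matrix (Fin 3) (Fin 3) F).det := by
  unfold rep
  have h1 : Pi.det * P.det = 1 := by rw [← Matrix.det_mul, hPiP, Matrix.det_one]
  rw [Matrix.det_mul, Matrix.det_mul]
  calc Pi.det * (g : Matrix (Fin 3) (Fin 3) F).det * P.det
      = (Pi.det * P.det) * (g : Matrix (Fin 3) (Fin 3) F).det := by ring
    _ = _ := by rw [h1, one_mul]

theorem exists_ofRep (hPPi : P * Pi = 1) (hPiP : Pi * P = 1) (X : Matrix (Fin 3) (Fin 3) F)
    (hX : X.det ≠ 0) : ∃ g : GL (Fin 3) F, rep P Pi g = X := by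
  have h1 : P.det * Pi.det = 1 := by rw [← Matrix.det_mul, hPPi, Matrix.det_one]
  have hd : (P * X * Pi).det ≠ 0 := by
    rw [Matrix.det_mul, Matrix.det_mul]
    have : P.det * X.det * Pi.det = (P.det * Pi.det) * X.det := by ring
    rw [this, h1, one_mul]
    exact hX
  refine ⟨Matrix.GeneralLinearGroup.mkOfDetNeZero (P * X * Pi) hd, ?_⟩
  unfold rep
  show Pi * (P * X * Pi) * P = X
  calc Pi * (P * X * Pi) * P = (Pi * P) * X * (Pi * P) := by simp only [mul_assoc]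
    _ = X := by rw [hPiP, one_mul, mul_one]

end rep

/-- a standard frame for the group `R` -/
structure Frame (R : Subgroup (GL (Fin 3) F)) (lam : F) (P Pi : Matrix (Fin 3) (Fin 3) F)
    (a b c : GL (Fin 3) F) : Prop where
  hlam : lam ^ 2 + lam + 1 = 0
  h3F : (3 : F) ≠ 0
  hPPi : P * Pi = 1
  hPiP : Pi * P = 1
  ha : a ∈ R
  hb : b ∈ R
  hc : c ∈ R
  ra : rep P Pi a = A0 lam
  rb : rep P Pi b = S0 F
  rc : (c : Matrix (Fin 3) (Fin 3) F) = lam • (1 : Matrix (Fin 3) (Fin 3) F)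
  hgen : Subgroup.closure {a, b} = R

namespace Frame

variable {R : Subgroup (GL (Fin 3) F)} {lam : F} {P Pi : Matrix (Fin 3) (Fin 3) F}
  {a b c : GL (Fin 3) F}

theorem rep_word (fr : Frame R lam P Pi a b c) (j k : ℕ) :
    rep P Pi (c ^ j * a ^ k) =
      Matrix.diagonal ![lam ^ j, lam ^ j * lam ^ k, lam ^ j * (lam ^ 2) ^ k] := by
  rw [rep_mul fr.hPPi, rep_pow fr.hPPi fr.hPiP, rep_pow fr.hPPi fr.hPiP, fr.ra,
    rep_scalar fr.hPiP fr.rc, A0, Matrix.diagonal_pow]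
  have : (lam • (1 : Matrix (Fin 3) (Fin 3) F)) ^ j = lam ^ j • (1 : Matrix (Fin 3) (Fin 3) F) := by
    rw [_root_.smul_pow, one_pow]
  rw [this, smul_mul_assoc, one_mul]
  ext i i'
  fin_cases i <;> fin_cases i' <;> simp [Matrix.diagonal_apply]

theorem mem_of_diag (fr : Frame R lam P Pi a b c) {g : GL (Fin 3) F} {δ₀ δ₁ δ₂ : F}
    (hg : rep P Pi g = Matrix.diagonal ![δ₀, δ₁, δ₂]) (h0 : δ₀ ^ 3 = 1) (h1 : δ₁ ^ 3 = 1)
    (h012 : δ₀ * δ₁ * δ₂ = 1) : g ∈ R := by
  have hδ0 : δ₀ ≠ 0 := by rintro rfl; simp at h0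
  have hδ1 : δ₁ ≠ 0 := by rintro rfl; simp at h1
  have hl3 := lam_cube fr.hlam
  have hρ : (δ₁ / δ₀) ^ 3 = 1 := by rw [div_pow, h0, h1, div_one]
  obtain ⟨j, hj⟩ : ∃ j : ℕ, δ₀ = lam ^ j := by
    rcases cube_root_cases fr.hlam h0 with h | h | h
    · exact ⟨0, by rw [h, pow_zero]⟩
    · exact ⟨1, by rw [h, pow_one]⟩
    · exact ⟨2, h⟩
  obtain ⟨k, hk⟩ : ∃ k : ℕ, δ₁ / δ₀ = lam ^ k := by
    rcases cube_root_cases fr.hlam hρ with h | h | h
    · exact ⟨0, by rw [h, pow_zero]⟩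
    · exact ⟨1, by rw [h, pow_one]⟩
    · exact ⟨2, h⟩
  have e1 : δ₁ = lam ^ j * lam ^ k := by
    rw [← hj, ← hk]; field_simp
  have e2 : δ₂ = lam ^ j * (lam ^ 2) ^ k := by
    have : (lam ^ 2) ^ k = (lam ^ k) ^ 2 := by ring
    rw [this, ← hj, ← hk]
    field_simp
    have h3 : δ₂ = 1 / (δ₀ * δ₁) := by
      rw [eq_div_iff (mul_ne_zero hδ0 hδ1)]; linear_combination h012
    rw [h3]
    field_simp
    linear_combination (-1 : F) * h1
  have : g = c ^ j * a ^ k := by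
    apply rep_inj fr.hPPi
    rw [hg, fr.rep_word, e1, e2, hj]
  rw [this]
  exact R.mul_mem (R.pow_mem fr.hc j) (R.pow_mem fr.ha k)

theorem mem_normalizer [Finite R] (fr : Frame R lam P Pi a b c) {y : GL (Fin 3) F}
    (hya : y * a * y⁻¹ ∈ R) (hyb : y * b * y⁻¹ ∈ R) : y ∈ Cfsg.Geo.subgroupNormalizer R := by
  unfold Cfsg.Geo.subgroupNormalizer
  apply Subgroup.mem_normalizer_fintype
  intro n hn
  have hn' : n ∈ Subgroup.closure {a, b} := by rw [fr.hgen]; exact hn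
  have hle : Subgroup.closure {a, b} ≤ R.comap (MulAut.conj y).toMonoidHom := by
    rw [Subgroup.closure_le]
    intro g hg
    rcases hg with rfl | rfl
    · exact hya
    · exact hyb
  exact hle hn'

theorem T_mem_normalizer [Finite R] (fr : Frame R lam P Pi a b c) {y : GL (Fin 3) F} {t : F}
    (hy : rep P Pi y = t • T0 F) : y ∈ Cfsg.Geo.subgroupNormalizer R := by
  have hl3 := lam_cube fr.hlam
  have h1 : y * a = a ^ 2 * y := by
    apply rep_inj fr.hPPi
    rw [rep_mul fr.hPPi, rep_mul fr.hPPi, rep_pow fr.hPPi fr.hPiP, hy, fr.ra, A0, Matrix.diagonal_pow]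
    ext i j
    fin_cases i <;> fin_cases j <;>
      simp [T0, mul_apply, Fin.sum_univ_three, Matrix.diagonal_apply]
    all_goals first | ring1 | linear_combination (t * lam) * hl3 | linear_combination (-(t * lam)) * hl3
  have h2 : y * b = b ^ 2 * y := by
    apply rep_inj fr.hPPi
    rw [rep_mul fr.hPPi, rep_mul fr.hPPi, rep_pow fr.hPPi fr.hPiP, hy, fr.rb]
    ext i j
    fin_cases i <;> fin_cases j <;>
      simp [T0, S0, pow_two, mul_apply, Fin.sum_univ_three]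
  apply fr.mem_normalizer
  · rw [h1, mul_inv_cancel_right]; exact R.pow_mem fr.ha 2
  · rw [h2, mul_inv_cancel_right]; exact R.pow_mem fr.hb 2


theorem diag_mem_normalizer [Finite R] (fr : Frame R lam P Pi a b c) {y : GL (Fin 3) F}
    {d₀ d₁ d₂ : F} (hy : rep P Pi y = Matrix.diagonal ![d₀, d₁, d₂])
    (hd₀ : d₀ ≠ 0) (hd₁ : d₁ ≠ 0) (hd₂ : d₂ ≠ 0)
    (h10 : (d₁ / d₀) ^ 3 = 1) (h21 : (d₂ / d₁) ^ 3 = 1) :
    y ∈ Cfsg.Geo.subgroupNormalizer R := by
  have h1 : y * a = a * y := by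
    apply rep_inj fr.hPPi
    rw [rep_mul fr.hPPi, rep_mul fr.hPPi, hy, fr.ra, A0, Matrix.diagonal_mul_diagonal,
      Matrix.diagonal_mul_diagonal]
    congr 1
    funext i
    exact mul_comm _ _
  have h02 : (d₀ / d₂) ^ 3 = 1 := by
    have e : d₀ / d₂ = ((d₁ / d₀) * (d₂ / d₁))⁻¹ := by field_simp
    rw [e, inv_pow, mul_pow, h10, h21, mul_one, inv_one]
  obtain ⟨g, hg⟩ := exists_ofRep fr.hPPi fr.hPiP (Matrix.diagonal ![d₀ / d₂, d₁ / d₀, d₂ / d₁])
    (by
      rw [Matrix.det_diagonal]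
      simp only [Fin.prod_univ_three, Matrix.cons_val_zero, Matrix.cons_val_one,
        Matrix.cons_val_two, Matrix.cons_val]
      have : d₀ / d₂ * (d₁ / d₀) * (d₂ / d₁) = 1 := by field_simp
      simp at this ⊢
      tauto)
  have hgR : g ∈ R := fr.mem_of_diag hg h02 h10 (by field_simp)
  have h2 : y * b = g * b * y := by
    apply rep_inj fr.hPPi
    rw [rep_mul fr.hPPi, rep_mul fr.hPPi, rep_mul fr.hPPi, hy, hg, fr.rb]
    ext i j
    fin_cases i <;> fin_cases j <;>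
      simp [S0, mul_apply, Fin.sum_univ_three, Matrix.diagonal_apply]
    all_goals field_simp
  apply fr.mem_normalizer
  · rw [h1, mul_inv_cancel_right]; exact fr.ha
  · rw [h2, mul_inv_cancel_right]; exact R.mul_mem hgR fr.hb

theorem scalar_of_commute (fr : Frame R lam P Pi a b c) {y : Matrix (Fin 3) (Fin 3) F}
    (hya : y * (a : Matrix (Fin 3) (Fin 3) F) = (a : Matrix (Fin 3) (Fin 3) F) * y)
    (hyb : y * (b : Matrix (Fin 3) (Fin 3) F) = (b : Matrix (Fin 3) (Fin 3) F) * y) :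
    ∃ t : F, y = t • (1 : Matrix (Fin 3) (Fin 3) F) := by
  have haP := mul_of_rep fr.hPPi fr.ra
  have hbP := mul_of_rep fr.hPPi fr.rb
  obtain ⟨Y, hY⟩ : ∃ Y, Y = Pi * y * P := ⟨_, rfl⟩
  have hPY : P * Y = y * P := by
    rw [hY, ← mul_assoc, ← mul_assoc, fr.hPPi, one_mul]
  have key : ∀ (g : GL (Fin 3) F) (G₀ : Matrix (Fin 3) (Fin 3) F),
      (g : Matrix (Fin 3) (Fin 3) F) * P = P * G₀ →
      y * (g : Matrix (Fin 3) (Fin 3) F) = (g : Matrix (Fin 3) (Fin 3) F) * y →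
      Y * G₀ = G₀ * Y := by
    intro g G₀ hgP hyg
    have : P * (Y * G₀) = P * (G₀ * Y) := by
      calc P * (Y * G₀) = (P * Y) * G₀ := by rw [mul_assoc]
        _ = y * (P * G₀) := by rw [hPY, mul_assoc]
        _ = (y * (g : Matrix (Fin 3) (Fin 3) F)) * P := by rw [← hgP, mul_assoc]
        _ = (g : Matrix (Fin 3) (Fin 3) F) * (P * Y) := by rw [hyg, hPY, mul_assoc]
        _ = ((g : Matrix (Fin 3) (Fin 3) F) * P) * Y := by rw [mul_assoc]
        _ = P * (G₀ * Y) := by rw [hgP, mul_assoc]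
    calc Y * G₀ = (Pi * P) * (Y * G₀) := by rw [fr.hPiP, one_mul]
      _ = Pi * (P * (G₀ * Y)) := by rw [mul_assoc, this]
      _ = G₀ * Y := by rw [← mul_assoc, fr.hPiP, one_mul]
  have hA := key a _ haP hya
  have hS := key b _ hbP hyb
  have hl1 := lam_ne_one fr.hlam fr.h3F
  have hl2 := lam_sq_ne_one fr.hlam fr.h3F
  have hl0 := lam_ne_zero fr.hlam
  have hdist : ∀ i j : Fin 3, i ≠ j → (![1, lam, lam ^ 2] : Fin 3 → F) j ≠ ![1, lam, lam ^ 2] i := by
    intro i j hij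
    have hl12 : lam ≠ lam ^ 2 := by
      intro h
      apply hl1
      have : lam * (lam - 1) = 0 := by linear_combination -h
      rcases mul_eq_zero.mp this with h' | h'
      · exact absurd h' hl0
      · exact sub_eq_zero.mp h'
    fin_cases i <;> fin_cases j
    · exact absurd rfl hij
    · show lam ≠ 1
      exact hl1
    · show lam ^ 2 ≠ 1
      exact hl2
    · show (1 : F) ≠ lam
      exact fun h => hl1 h.symm
    · exact absurd rfl hij
    · show lam ^ 2 ≠ lam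
      exact fun h => hl12 h.symm
    · show (1 : F) ≠ lam ^ 2
      exact fun h => hl2 h.symm
    · show lam ≠ lam ^ 2
      exact hl12
    · exact absurd rfl hij
  have hoff : ∀ i j : Fin 3, i ≠ j → Y i j = 0 := by
    intro i j hij
    have e := congrFun (congrFun hA i) j
    rw [A0, Matrix.mul_diagonal, Matrix.diagonal_mul] at e
    have : Y i j * ((![1, lam, lam ^ 2] : Fin 3 → F) j - ![1, lam, lam ^ 2] i) = 0 := by
      linear_combination e
    rcases mul_eq_zero.mp this with h | h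
    · exact h
    · exact absurd (sub_eq_zero.mp h) (hdist i j hij)
  have e10 := congrFun (congrFun hS 1) 0
  have e21 := congrFun (congrFun hS 2) 1
  simp [S0, mul_apply, Fin.sum_univ_three] at e10 e21
  refine ⟨Y 0 0, ?_⟩
  have hYs : Y = Y 0 0 • (1 : Matrix (Fin 3) (Fin 3) F) := by
    ext i j
    by_cases hij : i = j
    · subst hij
      fin_cases i <;> simp [e10, e21]
    · rw [hoff i j hij]
      simp [Matrix.one_apply, hij]
  calc y = (P * Pi) * y * (P * Pi) := by rw [fr.hPPi, one_mul, mul_one]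
    _ = P * (Pi * y * P) * Pi := by simp only [mul_assoc]
    _ = P * (Y 0 0 • (1 : Matrix (Fin 3) (Fin 3) F)) * Pi := by rw [← hY, ← hYs]
    _ = Y 0 0 • (1 : Matrix (Fin 3) (Fin 3) F) := by
        rw [mul_smul_comm, mul_one, smul_mul_assoc, fr.hPPi]

theorem le_SL (fr : Frame R lam P Pi a b c) : R ≤ Cfsg.Geo.specialLinear (Fin 3) F := by
  have hmem : ∀ g : GL (Fin 3) F, (rep P Pi g).det = 1 → g ∈ Cfsg.Geo.specialLinear (Fin 3) F := by
    intro g hg
    unfold Cfsg.Geo.specialLinear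
    rw [MonoidHom.mem_ker, Units.ext_iff, Matrix.GeneralLinearGroup.val_det_apply, Units.val_one,
      ← det_rep fr.hPiP]
    exact hg
  rw [← fr.hgen, Subgroup.closure_le]
  intro g hg
  rcases hg with rfl | rfl
  · apply hmem
    rw [fr.ra, A0, Matrix.det_diagonal]
    simp only [Fin.prod_univ_three, Matrix.cons_val_zero, Matrix.cons_val_one,
      Matrix.cons_val_two, Matrix.cons_val]
    have := lam_cube fr.hlam
    simp
    linear_combination this
  · apply hmem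
    rw [fr.rb, S0, Matrix.det_fin_three]
    simp

end Frame


theorem exists_frame (R : Subgroup (GL (Fin 3) F)) (hR : Nat.card R = 27)
    (hRe : Monoid.exponent R = 3) (hRna : ¬ IsMulCommutative R) {ω : F}
    (hω : ω ^ 2 + ω + 1 = 0) (h3F : (3 : F) ≠ 0) :
    ∃ (lam : F) (P Pi : Matrix (Fin 3) (Fin 3) F) (a b c : GL (Fin 3) F),
      Frame R lam P Pi a b c := by
  classical
  haveI : Finite R := Nat.finite_of_card_ne_zero (by rw [hR]; norm_num)
  have hna : ¬ ∀ x y : R, x * y = y * x := fun h => hRna ⟨⟨h⟩⟩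
  have hna' := hna
  push Not at hna'
  obtain ⟨a', b', hab'⟩ := hna'
  have hpow : ∀ g : R, g ^ 3 = 1 := fun g => by
    have := Monoid.pow_exponent_eq_one g
    rwa [hRe] at this
  obtain ⟨c', hc'⟩ : ∃ c' : R, c' = a' * b' * a'⁻¹ * b'⁻¹ := ⟨_, rfl⟩
  have hcentral : ∀ w : R, c' * w = w * c' := fun w => by
    rw [hc']; exact comm_central hR hna a' b' w
  have habc : a' * b' = c' * b' * a' := by rw [hc']; group
  have hc1 : c' ≠ 1 := by
    intro h
    apply hab'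
    rw [habc, h, one_mul]
  obtain ⟨m, hm⟩ : ∃ m : R → Matrix (Fin 3) (Fin 3) F,
      m = fun g : R => (((g : GL (Fin 3) F)) : Matrix (Fin 3) (Fin 3) F) := ⟨_, rfl⟩
  have m_mul : ∀ g h : R, m (g * h) = m g * m h := by
    intro g h; rw [hm]; simp
  have m_one : m 1 = 1 := by rw [hm]; simp
  have m_pow : ∀ (g : R) (n : ℕ), m (g ^ n) = m g ^ n := by
    intro g n; rw [hm]; simp
  have m_inj : ∀ g h : R, m g = m h → g = h := by
    intro g h hgh
    rw [hm] at hgh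
    exact Subtype.ext (Units.ext hgh)
  have hcube : ∀ g : R, m g ^ 3 = 1 := fun g => by rw [← m_pow, hpow, m_one]
  have hc1m : m c' ≠ 1 := fun h => hc1 (m_inj _ _ (h.trans m_one.symm))
  obtain ⟨lam, α, P, hlam, hα3, hC, hdet, haP, hbP⟩ := std_form (hcube a') (hcube b') (hcube c') hc1m
    (by rw [← m_mul, habc, m_mul, m_mul]) (by rw [← m_mul, hcentral, m_mul])
    (by rw [← m_mul, hcentral, m_mul]) hω h3F
  have hl3 := lam_cube hlam
  obtain ⟨j, hj⟩ : ∃ j : ℕ, lam ^ j * α = 1 := by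
    rcases cube_root_cases hlam hα3 with h | h | h
    · exact ⟨0, by rw [h]; simp⟩
    · exact ⟨2, by rw [h, ← pow_succ]; exact hl3⟩
    · exact ⟨1, by rw [h, pow_one, ← pow_succ']; exact hl3⟩
  have hu : IsUnit P.det := isUnit_iff_ne_zero.mpr hdet
  have hPPi : P * P⁻¹ = 1 := Matrix.mul_nonsing_inv P hu
  have hPiP : P⁻¹ * P = 1 := Matrix.nonsing_inv_mul P hu
  obtain ⟨a, ha⟩ : ∃ a : R, a = c' ^ j * a' := ⟨_, rfl⟩
  have hma : m a = lam ^ j • m a' := by
    rw [ha, m_mul, m_pow, hC, _root_.smul_pow, one_pow, smul_mul_assoc, one_mul]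
  have haP' : m a * P = P * A0 lam := by
    rw [hma, smul_mul_assoc, haP, mul_smul_comm, smul_smul, hj, one_smul]
  have hab2 : a * b' ≠ b' * a := by
    intro h
    apply hab'
    have h1 : c' ^ j * (a' * b') = c' ^ j * (b' * a') := by
      calc c' ^ j * (a' * b') = a * b' := by rw [ha, mul_assoc]
        _ = b' * a := h
        _ = (b' * c' ^ j) * a' := by rw [ha, mul_assoc]
        _ = (c' ^ j * b') * a' := by
            congr 1
            have : Commute c' b' := hcentral b'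
            exact (this.pow_left j).eq.symm
        _ = c' ^ j * (b' * a') := by rw [mul_assoc]
    exact mul_left_cancel h1
  refine ⟨lam, P, P⁻¹, (a : GL (Fin 3) F), (b' : GL (Fin 3) F), (c' : GL (Fin 3) F),
    hlam, h3F, hPPi, hPiP, a.2, b'.2, c'.2, ?_, ?_, ?_, ?_⟩
  · apply rep_of_mul hPiP
    have : ((a : GL (Fin 3) F) : Matrix (Fin 3) (Fin 3) F) = m a := by rw [hm]
    rw [this]; exact haP'
  · apply rep_of_mul hPiP
    have : ((b' : GL (Fin 3) F) : Matrix (Fin 3) (Fin 3) F) = m b' := by rw [hm]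
    rw [this]; exact hbP
  · have : ((c' : GL (Fin 3) F) : Matrix (Fin 3) (Fin 3) F) = m c' := by rw [hm]
    rw [this]; exact hC
  · obtain ⟨K, hK⟩ : ∃ K : Subgroup (GL (Fin 3) F),
        K = Subgroup.closure {(a : GL (Fin 3) F), (b' : GL (Fin 3) F)} := ⟨_, rfl⟩
    rw [← hK]
    have hKR : K ≤ R := by
      rw [hK, Subgroup.closure_le]
      intro g hg
      rcases hg with rfl | rfl
      · exact a.2
      · exact b'.2
    have haK : (a : GL (Fin 3) F) ∈ K := by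
      rw [hK]; exact Subgroup.subset_closure (Set.mem_insert _ _)
    have hbK : (b' : GL (Fin 3) F) ∈ K := by
      rw [hK]; exact Subgroup.subset_closure (Set.mem_insert_of_mem _ rfl)
    have hdvd : Nat.card K ∣ 27 := hR ▸ Subgroup.card_dvd_of_le hKR
    have hmem : Nat.card K ∈ Nat.divisors 27 := Nat.mem_divisors.mpr ⟨hdvd, by norm_num⟩
    have hdiv : Nat.divisors 27 = {1, 3, 9, 27} := by decide
    rw [hdiv] at hmem
    simp only [Finset.mem_insert, Finset.mem_singleton] at hmem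
    have h27 : Nat.card K = 27 := by
      by_contra hne
      have h9 : Nat.card K ∣ 9 := by
        rcases hmem with h | h | h | h
        · rw [h]; norm_num
        · rw [h]; norm_num
        · rw [h]
        · exact absurd h hne
      haveI : Finite K := Finite.of_injective (Subgroup.inclusion hKR) (Subgroup.inclusion_injective hKR)
      have := comm_of_card_dvd_nine h9 ⟨(a : GL (Fin 3) F), haK⟩ ⟨(b' : GL (Fin 3) F), hbK⟩
      have h2 := congrArg Subtype.val this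
      simp only [Subgroup.coe_mul] at h2
      apply hab2
      exact Subtype.ext (by simpa using h2)
    exact Subgroup.eq_of_le_of_card_ge hKR (by rw [h27, hR])

end Cfsg.Agent.Lib.Helper99.Extra27
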