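import Mathlib
import Cfsg.Agent.Lib.Helper99.Extra27
import Cfsg.Agent.Lib.Helper08.GUCard
import Cfsg.Agent.Lib.Helper08.SUCard
import Cfsg.Agent.Lib.Helper19.UnitaryDet
import Cfsg.Agent.Lib.Helper46.UnitaryField

/-!
# Unitary frames in dimension three
-/

set_option autoImplicit false
set_option linter.style.haveILetI false
set_option linter.unusedSimpArgs false
set_option linter.unusedSectionVars false

namespace Cfsg.Agent.Lib.Helper99.Extra27U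

open Matrix
open Cfsg.Agent.Lib.Helper99.Cubic3 Cfsg.Agent.Lib.Helper99.Extra27
open Cfsg.Agent.Lib.Helper08 (hform hform_add_left hform_smul_left hform_smul_right hform_zero_left
  hform_add_right hform_conj hform_nondeg hform_sub_left hform_sub_right IsIsoMat)
open Cfsg.Agent.Lib.Helper19 (pow_q_pow_q add_pow_q q_pos one_lt_q)

variable {F : Type*} [Field F] [Fintype F] {q : ℕ}

/-- existence of elements of prescribed norm -/
theorem exists_norm (hF : Fintype.card F = q ^ 2) {r : F} (hr0 : r ≠ 0) (hrq : r ^ q = r) :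
    ∃ t : F, t ≠ 0 ∧ t ^ (q + 1) = r⁻¹ := by
  have hq1 : 1 < q := one_lt_q hF
  have hrq1 : r ^ (q - 1) = 1 := by
    have h1 : r ^ (q - 1) * r = 1 * r := by
      rw [← pow_succ, Nat.sub_add_cancel (by omega), hrq, one_mul]
    exact mul_right_cancel₀ hr0 h1
  have hy : (Units.mk0 r⁻¹ (inv_ne_zero hr0)) ^ (q - 1) = 1 := by
    apply Units.ext
    rw [Units.val_pow_eq_pow_val, Units.val_mk0, Units.val_one, inv_pow, hrq1, inv_one]
  obtain ⟨x, hx⟩ := Cfsg.Agent.Lib.Helper46.exists_pow_eq_of_pow_eq_one (C := Fˣ) (q + 1) (q - 1)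
    (Cfsg.Agent.Lib.Helper46.card_units_eq hF) _ hy
  refine ⟨(x : F), x.ne_zero, ?_⟩
  have := congrArg Units.val hx
  rwa [Units.val_pow_eq_pow_val, Units.val_mk0] at this

theorem hform_zero_right (hF : Fintype.card F = q ^ 2) (x : Fin 3 → F) :
    hform (Fin 3) F q x 0 = 0 := by
  rw [← hform_conj hF, hform_zero_left, zero_pow (q_pos hF).ne']

theorem hform_eq_zero_symm (hF : Fintype.card F = q ^ 2) {x y : Fin 3 → F}
    (h : hform (Fin 3) F q x y = 0) : hform (Fin 3) F q y x = 0 := by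
  rw [← hform_conj hF, h, zero_pow (q_pos hF).ne']

/-- a matrix with orthonormal columns is an isometry -/
theorem isIso_of_cols (hF : Fintype.card F = q ^ 2) {u₀ u₁ u₂ : Fin 3 → F}
    (h00 : hform (Fin 3) F q u₀ u₀ = 1) (h11 : hform (Fin 3) F q u₁ u₁ = 1)
    (h22 : hform (Fin 3) F q u₂ u₂ = 1) (h01 : hform (Fin 3) F q u₀ u₁ = 0)
    (h02 : hform (Fin 3) F q u₀ u₂ = 0) (h12 : hform (Fin 3) F q u₁ u₂ = 0) :
    IsIsoMat q (colMat u₀ u₁ u₂) := by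
  have h10 := hform_eq_zero_symm hF h01
  have h20 := hform_eq_zero_symm hF h02
  have h21 := hform_eq_zero_symm hF h12
  intro x y
  rw [colMat_mulVec, colMat_mulVec]
  simp only [hform_add_left, hform_smul_left, hform_add_right hF, hform_smul_right, h00, h11, h22,
    h01, h02, h12, h10, h20, h21, mul_zero, mul_one, add_zero, zero_add]
  simp [hform, Fin.sum_univ_three]
  ring

/-- eigenvectors of an isometry for eigenvalues `α`, `β` with `α β^q ≠ 1` are orthogonal -/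
theorem orth_of_eig {M : Matrix (Fin 3) (Fin 3) F} (hM : IsIsoMat q M) {u v : Fin 3 → F}
    {α β : F} (hu : M *ᵥ u = α • u) (hv : M *ᵥ v = β • v) (hαβ : α * β ^ q ≠ 1) :
    hform (Fin 3) F q u v = 0 := by
  have h := hM u v
  rw [hu, hv, hform_smul_left, hform_smul_right, ← mul_assoc] at h
  have h2 : (α * β ^ q - 1) * hform (Fin 3) F q u v = 0 := by linear_combination h
  rcases mul_eq_zero.mp h2 with h3 | h3
  · exact absurd (sub_eq_zero.mp h3) hαβ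
  · exact h3

/-- in a basis whose first vector is orthogonal to the others, the first vector is
non-isotropic -/
theorem nonisotropic_first (hF : Fintype.card F = q ^ 2) {u v w : Fin 3 → F}
    (hdet : (colMat u v w).det ≠ 0) (huv : hform (Fin 3) F q u v = 0)
    (huw : hform (Fin 3) F q u w = 0) : hform (Fin 3) F q u u ≠ 0 := by
  intro huu
  have hu0 : u = 0 := by
    apply hform_nondeg hF
    intro y
    have hu' : IsUnit (colMat u v w).det := isUnit_iff_ne_zero.mpr hdet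
    have hy : y = colMat u v w *ᵥ ((colMat u v w)⁻¹ *ᵥ y) := by
      rw [mulVec_mulVec, Matrix.mul_nonsing_inv _ hu', one_mulVec]
    rw [hy, colMat_mulVec]
    simp only [hform_add_right hF, hform_smul_right, huu, huv, huw, mul_zero, add_zero]
  apply hdet
  rw [det_colMat, hu0]
  simp

/-- normalising a non-isotropic vector -/
theorem exists_normalize (hF : Fintype.card F = q ^ 2) {u : Fin 3 → F}
    (hu : hform (Fin 3) F q u u ≠ 0) :
    ∃ t : F, t ≠ 0 ∧ hform (Fin 3) F q (t • u) (t • u) = 1 := by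
  obtain ⟨t, ht0, ht⟩ := exists_norm hF hu (hform_conj hF u u)
  refine ⟨t, ht0, ?_⟩
  rw [hform_smul_left, hform_smul_right, ← mul_assoc, ← pow_succ', ht, inv_mul_cancel₀ hu]

theorem det_colMat_smul (u v w : Fin 3 → F) (a b c : F) :
    (colMat (a • u) (b • v) (c • w)).det = a * b * c * (colMat u v w).det := by
  simp only [det_colMat, Pi.smul_apply, smul_eq_mul]
  ring

/-- an orthogonal basis can be rescaled to an orthonormal one -/
theorem unitarize (hF : Fintype.card F = q ^ 2) {u₀ u₁ u₂ : Fin 3 → F}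
    (hdet : (colMat u₀ u₁ u₂).det ≠ 0) (h01 : hform (Fin 3) F q u₀ u₁ = 0)
    (h02 : hform (Fin 3) F q u₀ u₂ = 0) (h12 : hform (Fin 3) F q u₁ u₂ = 0) :
    ∃ t₀ t₁ t₂ : F, t₀ ≠ 0 ∧ t₁ ≠ 0 ∧ t₂ ≠ 0 ∧
      IsIsoMat q (colMat (t₀ • u₀) (t₁ • u₁) (t₂ • u₂)) := by
  have h10 := hform_eq_zero_symm hF h01
  have h20 := hform_eq_zero_symm hF h02
  have h21 := hform_eq_zero_symm hF h12
  have n0 := nonisotropic_first hF hdet h01 h02
  have n1 : hform (Fin 3) F q u₁ u₁ ≠ 0 := by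
    apply nonisotropic_first hF (u := u₁) (v := u₀) (w := u₂) _ h10 h12
    intro h
    apply hdet
    rw [det_colMat] at h ⊢
    linear_combination -h
  have n2 : hform (Fin 3) F q u₂ u₂ ≠ 0 := by
    apply nonisotropic_first hF (u := u₂) (v := u₀) (w := u₁) _ h20 h21
    intro h
    apply hdet
    rw [det_colMat] at h ⊢
    linear_combination h
  obtain ⟨t₀, ht₀, e₀⟩ := exists_normalize hF n0
  obtain ⟨t₁, ht₁, e₁⟩ := exists_normalize hF n1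
  obtain ⟨t₂, ht₂, e₂⟩ := exists_normalize hF n2
  refine ⟨t₀, t₁, t₂, ht₀, ht₁, ht₂, isIso_of_cols hF e₀ e₁ e₂ ?_ ?_ ?_⟩
  · rw [hform_smul_left, hform_smul_right, h01, mul_zero, mul_zero]
  · rw [hform_smul_left, hform_smul_right, h02, mul_zero, mul_zero]
  · rw [hform_smul_left, hform_smul_right, h12, mul_zero, mul_zero]


theorem mulVec_col_of_mul_diag {M B : Matrix (Fin 3) (Fin 3) F} {d : Fin 3 → F}
    (h : M * B = B * Matrix.diagonal d) (j : Fin 3) :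
    M *ᵥ (B *ᵥ Pi.single j 1) = d j • (B *ᵥ Pi.single j 1) := by
  rw [mulVec_mulVec, h, ← mulVec_mulVec, Matrix.diagonal_mulVec_single, mul_one, ← mulVec_smul]
  congr 1
  ext i
  simp [Pi.single_apply]

theorem colMat_cols (B : Matrix (Fin 3) (Fin 3) F) :
    colMat (B *ᵥ Pi.single 0 1) (B *ᵥ Pi.single 1 1) (B *ᵥ Pi.single 2 1) = B := by
  ext i j
  fin_cases j <;> simp [colMat]

theorem det_colMat_comb (w₁ w₂ w₃ : Fin 3 → F) (s₁ s₂ s₃ s₄ : F) :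
    (colMat (s₁ • w₁ + s₂ • w₂) (s₃ • w₁ + s₄ • w₂) w₃).det =
      (s₁ * s₄ - s₂ * s₃) * (colMat w₁ w₂ w₃).det := by
  simp only [det_colMat, Pi.add_apply, Pi.smul_apply, smul_eq_mul]
  ring

theorem mul_pow_q_ne_one {α β : F} (hβ : β ^ (q + 1) = 1) (hαβ : α ≠ β) : α * β ^ q ≠ 1 := by
  intro h
  apply hαβ
  calc α = α * β ^ (q + 1) := by rw [hβ, mul_one]
    _ = (α * β ^ q) * β := by rw [pow_succ]; ring
    _ = β := by rw [h, one_mul]

/-- one Gram–Schmidt step inside the plane spanned by `w₁`, `w₂` -/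
theorem orth_step (hF : Fintype.card F = q ^ 2) (w₁ w₂ : Fin 3 → F) (s₁ s₂ s₃' s₄' : F)
    (hN : hform (Fin 3) F q (s₁ • w₁ + s₂ • w₂) (s₁ • w₁ + s₂ • w₂) ≠ 0)
    (hne : s₁ * s₄' - s₂ * s₃' ≠ 0) :
    ∃ s₃ s₄ : F, hform (Fin 3) F q (s₁ • w₁ + s₂ • w₂) (s₃ • w₁ + s₄ • w₂) = 0 ∧
      s₁ * s₄ - s₂ * s₃ ≠ 0 := by
  obtain ⟨v₁, hv₁⟩ : ∃ v₁, v₁ = s₁ • w₁ + s₂ • w₂ := ⟨_, rfl⟩
  obtain ⟨w', hw'⟩ : ∃ w', w' = s₃' • w₁ + s₄' • w₂ := ⟨_, rfl⟩
  rw [← hv₁] at hN ⊢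
  obtain ⟨κ, hκ⟩ : ∃ κ, κ = hform (Fin 3) F q w' v₁ / hform (Fin 3) F q v₁ v₁ := ⟨_, rfl⟩
  refine ⟨s₃' - κ * s₁, s₄' - κ * s₂, ?_, ?_⟩
  · apply hform_eq_zero_symm hF
    have e : (s₃' - κ * s₁) • w₁ + (s₄' - κ * s₂) • w₂ = w' - κ • v₁ := by
      rw [hw', hv₁]
      module
    rw [e, hform_sub_left, hform_smul_left, hκ, div_mul_cancel₀ _ hN, sub_self]
  · intro h
    apply hne
    linear_combination h

/-- an orthogonal pair spanning the plane of `w₁`, `w₂` -/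
theorem exists_orth_pair (hF : Fintype.card F = q ^ 2) (h2 : (2 : F) ≠ 0) {w₁ w₂ w₃ : Fin 3 → F}
    (hdet : (colMat w₁ w₂ w₃).det ≠ 0) (h13 : hform (Fin 3) F q w₁ w₃ = 0)
    (h23 : hform (Fin 3) F q w₂ w₃ = 0) :
    ∃ s₁ s₂ s₃ s₄ : F, hform (Fin 3) F q (s₁ • w₁ + s₂ • w₂) (s₃ • w₁ + s₄ • w₂) = 0 ∧
      s₁ * s₄ - s₂ * s₃ ≠ 0 := by
  by_cases n1 : hform (Fin 3) F q w₁ w₁ = 0
  · by_cases n2 : hform (Fin 3) F q w₂ w₂ = 0
    · obtain ⟨r, hr⟩ : ∃ r, r = hform (Fin 3) F q w₁ w₂ := ⟨_, rfl⟩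
      have hr0 : r ≠ 0 := by
        intro h
        rw [h] at hr
        exact nonisotropic_first hF hdet hr.symm h13 n1
      have hr' : hform (Fin 3) F q w₂ w₁ = r ^ q := by rw [hr, hform_conj hF]
      have hN : hform (Fin 3) F q ((1 : F) • w₁ + r • w₂) ((1 : F) • w₁ + r • w₂) ≠ 0 := by
        simp only [hform_add_left, hform_smul_left, hform_add_right hF, hform_smul_right, n1, n2,
          ← hr, hr', one_pow, one_mul, mul_zero, add_zero, zero_add]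
        intro h
        have : (2 : F) * (r * r ^ q) = 0 := by linear_combination h
        rcases mul_eq_zero.mp this with h' | h'
        · exact h2 h'
        · rcases mul_eq_zero.mp h' with h'' | h''
          · exact hr0 h''
          · exact hr0 (pow_eq_zero_iff (q_pos hF).ne' |>.mp h'')
      obtain ⟨s₃, s₄, h1, h2'⟩ := orth_step hF w₁ w₂ 1 r 0 1 hN (by simp)
      exact ⟨1, r, s₃, s₄, h1, h2'⟩
    · have hN : hform (Fin 3) F q ((0 : F) • w₁ + (1 : F) • w₂) ((0 : F) • w₁ + (1 : F) • w₂) ≠ 0 := by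
        rw [zero_smul, zero_add, one_smul]; exact n2
      obtain ⟨s₃, s₄, h1, h2'⟩ := orth_step hF w₁ w₂ 0 1 1 0 hN (by simp)
      exact ⟨0, 1, s₃, s₄, h1, h2'⟩
  · have hN : hform (Fin 3) F q ((1 : F) • w₁ + (0 : F) • w₂) ((1 : F) • w₁ + (0 : F) • w₂) ≠ 0 := by
      rw [zero_smul, add_zero, one_smul]; exact n1
    obtain ⟨s₃, s₄, h1, h2'⟩ := orth_step hF w₁ w₂ 1 0 0 1 hN (by simp)
    exact ⟨1, 0, s₃, s₄, h1, h2'⟩

/-- unitary diagonalisation with eigenvalues `α, α, β` -/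
theorem unitary_diag_aab (hF : Fintype.card F = q ^ 2) (h2 : (2 : F) ≠ 0)
    {M : Matrix (Fin 3) (Fin 3) F} (hM : IsIsoMat q M) {α β : F} (hαβ : α ≠ β)
    (hβ : β ^ (q + 1) = 1) {B₀ : Matrix (Fin 3) (Fin 3) F} (hB₀ : B₀.det ≠ 0)
    (hMB : M * B₀ = B₀ * Matrix.diagonal ![α, α, β]) :
    ∃ B : Matrix (Fin 3) (Fin 3) F, IsIsoMat q B ∧ M * B = B * Matrix.diagonal ![α, α, β] := by
  obtain ⟨w₁, hw₁⟩ : ∃ w, w = B₀ *ᵥ Pi.single 0 1 := ⟨_, rfl⟩
  obtain ⟨w₂, hw₂⟩ : ∃ w, w = B₀ *ᵥ Pi.single 1 1 := ⟨_, rfl⟩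
  obtain ⟨w₃, hw₃⟩ : ∃ w, w = B₀ *ᵥ Pi.single 2 1 := ⟨_, rfl⟩
  have e₁ : M *ᵥ w₁ = α • w₁ := by rw [hw₁]; exact mulVec_col_of_mul_diag hMB 0
  have e₂ : M *ᵥ w₂ = α • w₂ := by rw [hw₂]; exact mulVec_col_of_mul_diag hMB 1
  have e₃ : M *ᵥ w₃ = β • w₃ := by rw [hw₃]; exact mulVec_col_of_mul_diag hMB 2
  have hne := mul_pow_q_ne_one hβ hαβ
  have hdet : (colMat w₁ w₂ w₃).det ≠ 0 := by rw [hw₁, hw₂, hw₃, colMat_cols]; exact hB₀
  obtain ⟨s₁, s₂, s₃, s₄, horth, hs⟩ := exists_orth_pair hF h2 hdet (orth_of_eig hM e₁ e₃ hne)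
    (orth_of_eig hM e₂ e₃ hne)
  obtain ⟨v₁, hv₁⟩ : ∃ v₁, v₁ = s₁ • w₁ + s₂ • w₂ := ⟨_, rfl⟩
  obtain ⟨v₂, hv₂⟩ : ∃ v₂, v₂ = s₃ • w₁ + s₄ • w₂ := ⟨_, rfl⟩
  rw [← hv₁, ← hv₂] at horth
  have f₁ : M *ᵥ v₁ = α • v₁ := by
    rw [hv₁, mulVec_add, mulVec_smul, mulVec_smul, e₁, e₂]; module
  have f₂ : M *ᵥ v₂ = α • v₂ := by
    rw [hv₂, mulVec_add, mulVec_smul, mulVec_smul, e₁, e₂]; module
  have hdet' : (colMat v₁ v₂ w₃).det ≠ 0 := by
    rw [hv₁, hv₂, det_colMat_comb]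
    exact mul_ne_zero hs hdet
  obtain ⟨t₀, t₁, t₂, -, -, -, hiso⟩ := unitarize hF hdet' horth (orth_of_eig hM f₁ e₃ hne)
    (orth_of_eig hM f₂ e₃ hne)
  refine ⟨_, hiso, ?_⟩
  rw [mul_colMat, colMat_mul_diagonal, mulVec_smul, mulVec_smul, mulVec_smul, f₁, f₂, e₃,
    smul_comm t₀, smul_comm t₁, smul_comm t₂]

/-- unitary diagonalisation of an isometry annihilated by `(X - α)(X - β)` -/
theorem unitary_diag_two (hF : Fintype.card F = q ^ 2) (h2 : (2 : F) ≠ 0)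
    {M : Matrix (Fin 3) (Fin 3) F} (hM : IsIsoMat q M) {α β : F} (hαβ : α ≠ β)
    (hα : α ^ (q + 1) = 1) (hβ : β ^ (q + 1) = 1)
    (h : (M - α • (1 : Matrix (Fin 3) (Fin 3) F)) * (M - β • (1 : Matrix (Fin 3) (Fin 3) F)) = 0)
    (hα' : M ≠ α • (1 : Matrix (Fin 3) (Fin 3) F)) (hβ' : M ≠ β • (1 : Matrix (Fin 3) (Fin 3) F)) :
    ∃ B : Matrix (Fin 3) (Fin 3) F, IsIsoMat q B ∧
      (M * B = B * Matrix.diagonal ![α, α, β] ∨ M * B = B * Matrix.diagonal ![β, β, α]) := by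
  obtain ⟨B₀, hB₀, hB | hB⟩ := two_eig_form hαβ h hα' hβ'
  · obtain ⟨B, h1, h2'⟩ := unitary_diag_aab hF h2 hM hαβ hβ hB₀ hB
    exact ⟨B, h1, Or.inl h2'⟩
  · obtain ⟨B, h1, h2'⟩ := unitary_diag_aab hF h2 hM (Ne.symm hαβ) hα hB₀ hB
    exact ⟨B, h1, Or.inr h2'⟩

/-- unitary diagonalisation with three distinct eigenvalues -/
theorem unitary_diag_distinct (hF : Fintype.card F = q ^ 2)
    {M : Matrix (Fin 3) (Fin 3) F} (hM : IsIsoMat q M) {d₀ d₁ d₂ : F}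
    (h01 : d₀ ≠ d₁) (h02 : d₀ ≠ d₂) (h12 : d₁ ≠ d₂)
    (hd₁ : d₁ ^ (q + 1) = 1) (hd₂ : d₂ ^ (q + 1) = 1)
    {B₀ : Matrix (Fin 3) (Fin 3) F} (hB₀ : B₀.det ≠ 0)
    (hMB : M * B₀ = B₀ * Matrix.diagonal ![d₀, d₁, d₂]) :
    ∃ B : Matrix (Fin 3) (Fin 3) F, IsIsoMat q B ∧ M * B = B * Matrix.diagonal ![d₀, d₁, d₂] := by
  obtain ⟨w₁, hw₁⟩ : ∃ w, w = B₀ *ᵥ Pi.single 0 1 := ⟨_, rfl⟩
  obtain ⟨w₂, hw₂⟩ : ∃ w, w = B₀ *ᵥ Pi.single 1 1 := ⟨_, rfl⟩
  obtain ⟨w₃, hw₃⟩ : ∃ w, w = B₀ *ᵥ Pi.single 2 1 := ⟨_, rfl⟩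
  have e₁ : M *ᵥ w₁ = d₀ • w₁ := by rw [hw₁]; exact mulVec_col_of_mul_diag hMB 0
  have e₂ : M *ᵥ w₂ = d₁ • w₂ := by rw [hw₂]; exact mulVec_col_of_mul_diag hMB 1
  have e₃ : M *ᵥ w₃ = d₂ • w₃ := by rw [hw₃]; exact mulVec_col_of_mul_diag hMB 2
  have hdet : (colMat w₁ w₂ w₃).det ≠ 0 := by rw [hw₁, hw₂, hw₃, colMat_cols]; exact hB₀
  obtain ⟨t₀, t₁, t₂, -, -, -, hiso⟩ := unitarize hF hdet
    (orth_of_eig hM e₁ e₂ (mul_pow_q_ne_one hd₁ h01))
    (orth_of_eig hM e₁ e₃ (mul_pow_q_ne_one hd₂ h02))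
    (orth_of_eig hM e₂ e₃ (mul_pow_q_ne_one hd₂ h12))
  refine ⟨_, hiso, ?_⟩
  rw [mul_colMat, colMat_mul_diagonal, mulVec_smul, mulVec_smul, mulVec_smul, e₁, e₂, e₃,
    smul_comm t₀, smul_comm t₁, smul_comm t₂]


theorem isIso_of_mem_GU {g : GL (Fin 3) F} (hg : g ∈ Cfsg.GU 3 F q) :
    IsIsoMat q (g : Matrix (Fin 3) (Fin 3) F) := hg

theorem mem_GU_of_isIso {g : GL (Fin 3) F} (hg : IsIsoMat q (g : Matrix (Fin 3) (Fin 3) F)) :
    g ∈ Cfsg.GU 3 F q := hg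

theorem S0_single0 : S0 F *ᵥ (Pi.single 0 1 : Fin 3 → F) = Pi.single 1 1 := by
  ext i
  fin_cases i <;> simp [S0, mulVec, dotProduct, Fin.sum_univ_three, Pi.single_apply]

theorem S0_single1 : S0 F *ᵥ (Pi.single 1 1 : Fin 3 → F) = Pi.single 2 1 := by
  ext i
  fin_cases i <;> simp [S0, mulVec, dotProduct, Fin.sum_univ_three, Pi.single_apply]

/-- a frame for a subgroup of the unitary group can be made unitary -/
theorem exists_unitary_frame (hF : Fintype.card F = q ^ 2) {R : Subgroup (GL (Fin 3) F)}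
    (hRU : R ≤ Cfsg.GU 3 F q) {lam : F} {P Pi : Matrix (Fin 3) (Fin 3) F} {a b c : GL (Fin 3) F}
    (fr : Frame R lam P Pi a b c) (hlamq : lam ^ (q + 1) = 1) :
    ∃ P' Pi' : Matrix (Fin 3) (Fin 3) F, Frame R lam P' Pi' a b c ∧ IsIsoMat q P' := by
  have haU : IsIsoMat q (a : Matrix (Fin 3) (Fin 3) F) := isIso_of_mem_GU (hRU fr.ha)
  have hbU : IsIsoMat q (b : Matrix (Fin 3) (Fin 3) F) := isIso_of_mem_GU (hRU fr.hb)
  have haP := mul_of_rep fr.hPPi fr.ra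
  have hbP := mul_of_rep fr.hPPi fr.rb
  rw [A0] at haP
  obtain ⟨w₀, hw₀⟩ : ∃ w, w = P *ᵥ _root_.Pi.single 0 1 := ⟨_, rfl⟩
  obtain ⟨w₁, hw₁⟩ : ∃ w, w = P *ᵥ _root_.Pi.single 1 1 := ⟨_, rfl⟩
  obtain ⟨w₂, hw₂⟩ : ∃ w, w = P *ᵥ _root_.Pi.single 2 1 := ⟨_, rfl⟩
  have e₀ : (a : Matrix (Fin 3) (Fin 3) F) *ᵥ w₀ = (1 : F) • w₀ := by
    rw [hw₀]; exact mulVec_col_of_mul_diag haP 0
  have e₁ : (a : Matrix (Fin 3) (Fin 3) F) *ᵥ w₁ = lam • w₁ := by
    rw [hw₁]; exact mulVec_col_of_mul_diag haP 1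
  have e₂ : (a : Matrix (Fin 3) (Fin 3) F) *ᵥ w₂ = (lam ^ 2) • w₂ := by
    rw [hw₂]; exact mulVec_col_of_mul_diag haP 2
  have b₀ : (b : Matrix (Fin 3) (Fin 3) F) *ᵥ w₀ = w₁ := by
    rw [hw₀, hw₁, mulVec_mulVec, hbP, ← mulVec_mulVec, S0_single0]
  have b₁ : (b : Matrix (Fin 3) (Fin 3) F) *ᵥ w₁ = w₂ := by
    rw [hw₁, hw₂, mulVec_mulVec, hbP, ← mulVec_mulVec, S0_single1]
  have hl1 := lam_ne_one fr.hlam fr.h3F
  have hl2 := lam_sq_ne_one fr.hlam fr.h3F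
  have hl0 := lam_ne_zero fr.hlam
  have hl12 : lam ≠ lam ^ 2 := by
    intro h
    apply hl1
    have : lam * (lam - 1) = 0 := by linear_combination -h
    rcases mul_eq_zero.mp this with h' | h'
    · exact absurd h' hl0
    · exact sub_eq_zero.mp h'
  have hlam2q : (lam ^ 2) ^ (q + 1) = 1 := by rw [← pow_mul, mul_comm, pow_mul, hlamq, one_pow]
  have o01 := orth_of_eig haU e₀ e₁ (mul_pow_q_ne_one hlamq (Ne.symm hl1))
  have o02 := orth_of_eig haU e₀ e₂ (mul_pow_q_ne_one hlam2q (Ne.symm hl2))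
  have o12 := orth_of_eig haU e₁ e₂ (mul_pow_q_ne_one hlam2q hl12)
  have hPdet : P.det ≠ 0 := by
    intro h
    have := congrArg Matrix.det fr.hPPi
    rw [Matrix.det_mul, h, zero_mul, Matrix.det_one] at this
    exact zero_ne_one this
  have hdet : (colMat w₀ w₁ w₂).det ≠ 0 := by rw [hw₀, hw₁, hw₂, colMat_cols]; exact hPdet
  have n0 := nonisotropic_first hF hdet o01 o02
  obtain ⟨t, ht0, ht⟩ := exists_normalize hF n0
  have ht1 : hform (Fin 3) F q (t • w₁) (t • w₁) = 1 := by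
    rw [← b₀, ← mulVec_smul, hbU, ht]
  have ht2 : hform (Fin 3) F q (t • w₂) (t • w₂) = 1 := by
    rw [← b₁, ← mulVec_smul, hbU, ht1]
  have hP' : t • P = colMat (t • w₀) (t • w₁) (t • w₂) := by
    conv_lhs => rw [← colMat_cols P, ← hw₀, ← hw₁, ← hw₂]
    ext i j
    fin_cases j <;> simp [colMat]
  refine ⟨t • P, t⁻¹ • Pi, ?_, ?_⟩
  · have hrep : ∀ g : GL (Fin 3) F, rep (t • P) (t⁻¹ • Pi) g = rep P Pi g := by
      intro g
      unfold rep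
      rw [smul_mul_assoc, smul_mul_assoc, mul_smul_comm, smul_smul, inv_mul_cancel₀ ht0, one_smul]
    exact ⟨fr.hlam, fr.h3F,
      by rw [smul_mul_assoc, mul_smul_comm, smul_smul, mul_inv_cancel₀ ht0, one_smul, fr.hPPi],
      by rw [smul_mul_assoc, mul_smul_comm, smul_smul, inv_mul_cancel₀ ht0, one_smul, fr.hPiP],
      fr.ha, fr.hb, fr.hc, by rw [hrep, fr.ra], by rw [hrep, fr.rb], fr.rc, fr.hgen⟩
  · rw [hP']
    apply isIso_of_cols hF ht ht1 ht2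
    · rw [hform_smul_left, hform_smul_right, o01, mul_zero, mul_zero]
    · rw [hform_smul_left, hform_smul_right, o02, mul_zero, mul_zero]
    · rw [hform_smul_left, hform_smul_right, o12, mul_zero, mul_zero]

open Cfsg.Agent.Lib.Helper19 (normOne mem_normOne det_mem_normOne diagGL diagGL_val det_diagGL
  diagGL_mem_GU) in
/-- conjugacy inside the special unitary group of two elements with the same unitary diagonal
form -/
theorem conj_SU (hF : Fintype.card F = q ^ 2) {x y Bg Bg' : GL (Fin 3) F}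
    (hB : Bg ∈ Cfsg.GU 3 F q) (hB' : Bg' ∈ Cfsg.GU 3 F q) {d₀ d₁ d₂ : F}
    (hx : (x : Matrix (Fin 3) (Fin 3) F) * (Bg : Matrix (Fin 3) (Fin 3) F) =
      (Bg : Matrix (Fin 3) (Fin 3) F) * Matrix.diagonal ![d₀, d₁, d₂])
    (hy : (y : Matrix (Fin 3) (Fin 3) F) * (Bg' : Matrix (Fin 3) (Fin 3) F) =
      (Bg' : Matrix (Fin 3) (Fin 3) F) * Matrix.diagonal ![d₀, d₁, d₂]) :
    ∃ g ∈ Cfsg.GU 3 F q ⊓ Cfsg.Geo.specialLinear (Fin 3) F, g⁻¹ * x * g = y := by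
  obtain ⟨δ, hδ⟩ : ∃ δ : Fˣ, δ = Matrix.GeneralLinearGroup.det Bg' *
      (Matrix.GeneralLinearGroup.det Bg)⁻¹ := ⟨_, rfl⟩
  have hδn : δ ∈ normOne F q := by
    rw [hδ]
    exact Subgroup.mul_mem _ (det_mem_normOne hF Bg' hB')
      (Subgroup.inv_mem _ (det_mem_normOne hF Bg hB))
  obtain ⟨T, hT⟩ : ∃ T : GL (Fin 3) F, T = diagGL ![δ, 1, 1] := ⟨_, rfl⟩
  have hTU : T ∈ Cfsg.GU 3 F q := by
    rw [hT]
    apply diagGL_mem_GU
    intro i
    fin_cases i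
    · exact hδn
    · exact Subgroup.one_mem _
    · exact Subgroup.one_mem _
  have hTdet : Matrix.GeneralLinearGroup.det T = δ := by
    rw [hT, det_diagGL]
    simp [Fin.prod_univ_three]
  have hTval : (T : Matrix (Fin 3) (Fin 3) F) =
      Matrix.diagonal (fun i => ((![δ, 1, 1] : Fin 3 → Fˣ) i : F)) := by
    rw [hT, diagGL_val]
  refine ⟨Bg * T * Bg'⁻¹, Subgroup.mem_inf.mpr ⟨?_, ?_⟩, ?_⟩
  · exact Subgroup.mul_mem _ (Subgroup.mul_mem _ hB hTU) (Subgroup.inv_mem _ hB')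
  · unfold Cfsg.Geo.specialLinear
    rw [MonoidHom.mem_ker, map_mul, map_mul, map_inv, hTdet, hδ]
    rw [mul_comm (Matrix.GeneralLinearGroup.det Bg') _, ← mul_assoc, mul_inv_cancel, one_mul,
      mul_inv_cancel]
  · have hcomm : (T : Matrix (Fin 3) (Fin 3) F) * Matrix.diagonal ![d₀, d₁, d₂] =
        Matrix.diagonal ![d₀, d₁, d₂] * (T : Matrix (Fin 3) (Fin 3) F) := by
      rw [hTval, Matrix.diagonal_mul_diagonal, Matrix.diagonal_mul_diagonal]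
      congr 1
      funext i
      exact mul_comm _ _
    have h1 : ((Bg'⁻¹ : GL (Fin 3) F) : Matrix (Fin 3) (Fin 3) F) *
        (Bg' : Matrix (Fin 3) (Fin 3) F) = 1 := by
      rw [← Units.val_mul, inv_mul_cancel, Units.val_one]
    have h2 : (Bg' : Matrix (Fin 3) (Fin 3) F) *
        ((Bg'⁻¹ : GL (Fin 3) F) : Matrix (Fin 3) (Fin 3) F) = 1 := by
      rw [← Units.val_mul, mul_inv_cancel, Units.val_one]
    have h3 : ((Bg'⁻¹ : GL (Fin 3) F) : Matrix (Fin 3) (Fin 3) F) *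
        (y : Matrix (Fin 3) (Fin 3) F) =
        Matrix.diagonal ![d₀, d₁, d₂] * ((Bg'⁻¹ : GL (Fin 3) F) : Matrix (Fin 3) (Fin 3) F) := by
      calc ((Bg'⁻¹ : GL (Fin 3) F) : Matrix (Fin 3) (Fin 3) F) * (y : Matrix (Fin 3) (Fin 3) F)
          = ((Bg'⁻¹ : GL (Fin 3) F) : Matrix (Fin 3) (Fin 3) F) *
              ((y : Matrix (Fin 3) (Fin 3) F) * (Bg' : Matrix (Fin 3) (Fin 3) F)) *
              ((Bg'⁻¹ : GL (Fin 3) F) : Matrix (Fin 3) (Fin 3) F) := by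
            rw [mul_assoc, mul_assoc, h2, mul_one]
        _ = _ := by rw [hy, ← mul_assoc, h1, one_mul]
    have e : x * (Bg * T * Bg'⁻¹) = (Bg * T * Bg'⁻¹) * y := by
      apply Units.ext
      simp only [Units.val_mul]
      calc (x : Matrix (Fin 3) (Fin 3) F) * ((Bg : Matrix (Fin 3) (Fin 3) F) *
            (T : Matrix (Fin 3) (Fin 3) F) * ((Bg'⁻¹ : GL (Fin 3) F) : Matrix (Fin 3) (Fin 3) F))
          = ((x : Matrix (Fin 3) (Fin 3) F) * (Bg : Matrix (Fin 3) (Fin 3) F)) *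
            (T : Matrix (Fin 3) (Fin 3) F) *
              ((Bg'⁻¹ : GL (Fin 3) F) : Matrix (Fin 3) (Fin 3) F) := by simp only [mul_assoc]
        _ = (Bg : Matrix (Fin 3) (Fin 3) F) * (Matrix.diagonal ![d₀, d₁, d₂] *
            (T : Matrix (Fin 3) (Fin 3) F)) *
              ((Bg'⁻¹ : GL (Fin 3) F) : Matrix (Fin 3) (Fin 3) F) := by
            rw [hx]; simp only [mul_assoc]
        _ = (Bg : Matrix (Fin 3) (Fin 3) F) * (T : Matrix (Fin 3) (Fin 3) F) *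
            (Matrix.diagonal ![d₀, d₁, d₂] *
              ((Bg'⁻¹ : GL (Fin 3) F) : Matrix (Fin 3) (Fin 3) F)) := by
            rw [← hcomm]; simp only [mul_assoc]
        _ = _ := by rw [← h3]; simp only [mul_assoc]
    rw [mul_assoc, e, inv_mul_cancel_left]


theorem isIso_smul {t : F} (ht : t ^ (q + 1) = 1) {M : Matrix (Fin 3) (Fin 3) F}
    (hM : IsIsoMat q M) : IsIsoMat q (t • M) := by
  intro x y
  rw [smul_mulVec, smul_mulVec, hform_smul_left, hform_smul_right, ← mul_assoc, ← pow_succ', ht,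
    one_mul, hM]

theorem isIso_inv_of {P Pi : Matrix (Fin 3) (Fin 3) F} (hP : IsIsoMat q P) (hPPi : P * Pi = 1) :
    IsIsoMat q Pi := by
  intro x y
  rw [← hP (Pi *ᵥ x) (Pi *ᵥ y), mulVec_mulVec, mulVec_mulVec, hPPi, one_mulVec, one_mulVec]

theorem isIso_T0 : IsIsoMat q (T0 F) := by
  intro x y
  simp [hform, T0, mulVec, dotProduct, Fin.sum_univ_three]
  ring

theorem val_of_rep {P Pi : Matrix (Fin 3) (Fin 3) F} (hPPi : P * Pi = 1) {g : GL (Fin 3) F}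
    {G₀ : Matrix (Fin 3) (Fin 3) F} (h : rep P Pi g = G₀) :
    (g : Matrix (Fin 3) (Fin 3) F) = P * G₀ * Pi := by
  rw [← h]
  unfold rep
  calc (g : Matrix (Fin 3) (Fin 3) F)
      = (P * Pi) * (g : Matrix (Fin 3) (Fin 3) F) * (P * Pi) := by rw [hPPi, one_mul, mul_one]
    _ = _ := by simp only [mul_assoc]

/-- the order of the special unitary group as a subgroup of `GL` -/
theorem card_GU_inf_SL (hF : Fintype.card F = q ^ 2) :
    Nat.card ↥(Cfsg.GU 3 F q ⊓ Cfsg.Geo.specialLinear (Fin 3) F) * (q + 1) =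
      Nat.card (Cfsg.GU 3 F q) := by
  have hK : (Cfsg.Agent.Lib.Helper08.detGU hF 3).ker =
      (Cfsg.Geo.specialLinear (Fin 3) F).subgroupOf (Cfsg.GU 3 F q) := by
    ext g
    constructor
    · intro hg
      have h0 : Cfsg.Agent.Lib.Helper08.detGU hF 3 g = 1 := hg
      show (g : GL (Fin 3) F) ∈ Cfsg.Geo.specialLinear (Fin 3) F
      have h1 : Matrix.GeneralLinearGroup.det (g : GL (Fin 3) F) = 1 := by
        rw [← Cfsg.Agent.Lib.Helper08.detGU_val hF g, h0]; rfl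
      exact h1
    · intro hg
      have h0 : Matrix.GeneralLinearGroup.det (g : GL (Fin 3) F) = 1 := hg
      show Cfsg.Agent.Lib.Helper08.detGU hF 3 g = 1
      apply Subtype.ext
      rw [Cfsg.Agent.Lib.Helper08.detGU_val hF g, h0]; rfl
  have h1 := Subgroup.card_mul_index (Cfsg.Agent.Lib.Helper08.detGU hF 3).ker
  rw [Subgroup.index_ker,
    MonoidHom.range_eq_top.mpr (Cfsg.Agent.Lib.Helper08.detGU_surjective hF (by norm_num)),
    Subgroup.card_top, Cfsg.Agent.Lib.Helper19.card_normOne hF, hK] at h1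
  rw [← h1]
  congr 1
  have e1 : (Cfsg.Geo.specialLinear (Fin 3) F).subgroupOf (Cfsg.GU 3 F q) =
      (Cfsg.GU 3 F q ⊓ Cfsg.Geo.specialLinear (Fin 3) F).subgroupOf (Cfsg.GU 3 F q) := by
    rw [inf_comm, Subgroup.inf_subgroupOf_right]
  rw [e1]
  exact (Nat.card_congr (Subgroup.subgroupOfEquivOfLe
    (inf_le_left : Cfsg.GU 3 F q ⊓ Cfsg.Geo.specialLinear (Fin 3) F ≤ Cfsg.GU 3 F q)).toEquiv).symm

end Cfsg.Agent.Lib.Helper99.Extra27U
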