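import Mathlib
import Cfsg.Prelude.Def_GeometricClasses
import Cfsg.Prelude.Def_ClassicalGeometry
import Cfsg.Agent.Lib.Helper38.SpF.Defs

/-!
# K-SpF-F1 (keystone 597512): semilinear isometries of a `K`-symplectic frame, `d = k = 2`
-/

set_option autoImplicit false

namespace Cfsg.Agent.Lib.Helper99.SpF

open Cfsg Cfsg.Geo Cfsg.Agent.Lib.Helper38.SpF
open scoped Matrix MatrixGroups

variable {F : Type*} [Field F]

/-- index type of the four-dimensional space -/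
abbrev I4 := Fin 2 ⊕ Fin 2

theorem mat_ext_mulVec {ι : Type} [Fintype ι] [DecidableEq ι] {A B : Matrix ι ι F}
    (h : ∀ v : ι → F, A *ᵥ v = B *ᵥ v) : A = B := by
  apply Matrix.toLin'.injective
  apply LinearMap.ext
  intro v
  rw [Matrix.toLin'_apply, Matrix.toLin'_apply]
  exact h v

section frame

variable (K : Subalgebra F (Matrix I4 I4 F)) (u0 w0 : I4 → F)

/-- the coordinate map `(a, b) ↦ a u + b w` -/
def Φlin : (↥K × ↥K) →ₗ[F] (I4 → F) where
  toFun ab := (ab.1 : Matrix I4 I4 F) *ᵥ u0 + (ab.2 : Matrix I4 I4 F) *ᵥ w0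
  map_add' x y := by
    simp only [Prod.fst_add, Prod.snd_add, Subalgebra.coe_add, Matrix.add_mulVec]
    abel
  map_smul' c x := by
    simp only [Prod.smul_fst, Prod.smul_snd, Subalgebra.coe_smul, Matrix.smul_mulVec,
      RingHom.id_apply, smul_add]

theorem Φlin_apply (a b : ↥K) :
    Φlin K u0 w0 (a, b) = (a : Matrix I4 I4 F) *ᵥ u0 + (b : Matrix I4 I4 F) *ᵥ w0 := rfl

theorem Φlin_mul (c a b : ↥K) :
    Φlin K u0 w0 (c * a, c * b) = (c : Matrix I4 I4 F) *ᵥ Φlin K u0 w0 (a, b) := by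
  simp only [Φlin_apply, Subalgebra.coe_mul, Matrix.mulVec_add, Matrix.mulVec_mulVec]

/-- a frame with one hyperbolic pair -/
structure Frame1 (lam : ↥K →ₗ[F] F) : Prop where
  lam_ne : lam ≠ 0
  bij : Function.Bijective (Φlin K u0 w0)
  form : ∀ a b a' b' : ↥K, sympForm 2 F (Φlin K u0 w0 (a, b)) (Φlin K u0 w0 (a', b')) =
    lam (a * b' - b * a')

variable {K u0 w0}

/-- the matrix of `Φ ∘ T ∘ Φ⁻¹` -/
noncomputable def Ymat (h : Function.Bijective (Φlin K u0 w0))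
    (T : (↥K × ↥K) →ₗ[F] (↥K × ↥K)) : Matrix I4 I4 F :=
  LinearMap.toMatrix' (((LinearEquiv.ofBijective (Φlin K u0 w0) h).toLinearMap ∘ₗ T) ∘ₗ
    (LinearEquiv.ofBijective (Φlin K u0 w0) h).symm.toLinearMap)

theorem Ymat_mulVec (h : Function.Bijective (Φlin K u0 w0))
    (T : (↥K × ↥K) →ₗ[F] (↥K × ↥K)) (x : ↥K × ↥K) :
    Ymat h T *ᵥ Φlin K u0 w0 x = Φlin K u0 w0 (T x) := by
  unfold Ymat
  rw [LinearMap.toMatrix'_mulVec]
  have e : Φlin K u0 w0 x = LinearEquiv.ofBijective (Φlin K u0 w0) h x := rfl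
  rw [e]
  simp only [LinearMap.comp_apply, LinearEquiv.coe_coe, LinearEquiv.symm_apply_apply]
  rfl

/-- the builder: a semilinear map of the coordinates that respects the form gives an element of
`Sp ∩ N(K)` -/
theorem build {lam : ↥K →ₗ[F] F} (hF : Frame1 K u0 w0 lam)
    (T : (↥K × ↥K) →ₗ[F] (↥K × ↥K)) (τ : ↥K → ↥K) (ε : F) (hε : ε ≠ 0)
    (hTT : ∀ x, T (T x) = ε • x)
    (hform : ∀ a b a' b' : ↥K,
      lam ((T (a, b)).1 * (T (a', b')).2 - (T (a, b)).2 * (T (a', b')).1) = lam (a * b' - b * a'))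
    (hsemi : ∀ c a b : ↥K, T (c * a, c * b) = (τ c * (T (a, b)).1, τ c * (T (a, b)).2)) :
    ∃ y : GL I4 F, y ∈ spGL 2 F ∧ y ∈ subalgebraNormalizer K ∧
      (y : Matrix I4 I4 F) * (y : Matrix I4 I4 F) = ε • (1 : Matrix I4 I4 F) ∧
      ∀ x, (y : Matrix I4 I4 F) *ᵥ Φlin K u0 w0 x = Φlin K u0 w0 (T x) := by
  classical
  set Y : Matrix I4 I4 F := Ymat hF.bij T with hYdef
  have hY : ∀ x, Y *ᵥ Φlin K u0 w0 x = Φlin K u0 w0 (T x) := Ymat_mulVec hF.bij T
  have hsurj : ∀ v : I4 → F, ∃ x, Φlin K u0 w0 x = v := hF.bij.2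
  have hYY : Y * Y = ε • (1 : Matrix I4 I4 F) := by
    apply mat_ext_mulVec
    intro v
    obtain ⟨x, rfl⟩ := hsurj v
    rw [← Matrix.mulVec_mulVec, hY, hY, hTT, map_smul, Matrix.smul_mulVec, Matrix.one_mulVec]
  have hYYi : Y * (ε⁻¹ • Y) = 1 := by
    rw [Matrix.mul_smul, hYY, smul_smul, inv_mul_cancel₀ hε, one_smul]
  have hYiY : (ε⁻¹ • Y) * Y = 1 := by
    rw [Matrix.smul_mul, hYY, smul_smul, inv_mul_cancel₀ hε, one_smul]
  have hsl : ∀ c : ↥K, Y * (c : Matrix I4 I4 F) = (τ c : Matrix I4 I4 F) * Y := by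
    intro c
    apply mat_ext_mulVec
    intro v
    obtain ⟨⟨a, b⟩, rfl⟩ := hsurj v
    rw [← Matrix.mulVec_mulVec, ← Φlin_mul, hY, hsemi, Φlin_mul, ← Matrix.mulVec_mulVec, hY]
  have hconj : ∀ c : ↥K, Y * (c : Matrix I4 I4 F) * (ε⁻¹ • Y) = (τ c : Matrix I4 I4 F) := by
    intro c
    rw [hsl, mul_assoc, hYYi, mul_one]
  have hconj' : ∀ c : ↥K, (ε⁻¹ • Y) * (c : Matrix I4 I4 F) * Y = (τ c : Matrix I4 I4 F) := by
    intro c
    rw [Matrix.smul_mul, hsl, Matrix.smul_mul, mul_assoc, hYY, Matrix.mul_smul, mul_one, smul_smul,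
      inv_mul_cancel₀ hε, one_smul]
  refine ⟨⟨Y, ε⁻¹ • Y, hYYi, hYiY⟩, ?_, ?_, hYY, hY⟩
  · intro p r
    change sympForm 2 F (Y *ᵥ p) (Y *ᵥ r) = sympForm 2 F p r
    obtain ⟨⟨a, b⟩, rfl⟩ := hsurj p
    obtain ⟨⟨a', b'⟩, rfl⟩ := hsurj r
    rw [hY, hY, hF.form]
    have e1 : T (a, b) = ((T (a, b)).1, (T (a, b)).2) := rfl
    have e2 : T (a', b') = ((T (a', b')).1, (T (a', b')).2) := rfl
    rw [e1, e2, hF.form]
    exact hform a b a' b'
  · intro c
    change c ∈ K ↔ Y * c * (ε⁻¹ • Y) ∈ K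
    constructor
    · intro hc
      have := hconj ⟨c, hc⟩
      simp only at this
      rw [this]
      exact (τ ⟨c, hc⟩).2
    · intro hc
      have h3 := hconj' ⟨Y * c * (ε⁻¹ • Y), hc⟩
      simp only at h3
      have h4 : (ε⁻¹ • Y) * (Y * c * (ε⁻¹ • Y)) * Y = c := by
        calc (ε⁻¹ • Y) * (Y * c * (ε⁻¹ • Y)) * Y
            = ((ε⁻¹ • Y) * Y) * c * ((ε⁻¹ • Y) * Y) := by simp only [mul_assoc]
          _ = c := by rw [hYiY, one_mul, mul_one]
      rw [h4] at h3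
      rw [h3]
      exact (τ _).2

end frame

section apply

variable {K : Subalgebra F (Matrix I4 I4 F)} {u0 w0 : I4 → F}

theorem K_mul_neg (a b : ↥K) : a * -b = -(a * b) := by
  apply Subtype.ext
  simp

theorem K_neg_mul (a b : ↥K) : -a * b = -(a * b) := by
  apply Subtype.ext
  simp

/-- the `K`-linear isometry `(a, b) ↦ (-b, a)` of order four -/
theorem exists_sq_neg {lam : ↥K →ₗ[F] F} (hF : Frame1 K u0 w0 lam) :
    ∃ y : GL I4 F, y ∈ spGL 2 F ∧ y ∈ subalgebraNormalizer K ∧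
      (y : Matrix I4 I4 F) * (y : Matrix I4 I4 F) = -1 := by
  set T : (↥K × ↥K) →ₗ[F] (↥K × ↥K) :=
    LinearMap.prod (-(LinearMap.snd F ↥K ↥K)) (LinearMap.fst F ↥K ↥K) with hT
  have hTa : ∀ a b : ↥K, T (a, b) = (-b, a) := fun a b => rfl
  have hTT : ∀ x, T (T x) = (-1 : F) • x := by
    rintro ⟨a, b⟩
    rw [hTa, hTa]
    ext <;> simp
  have hform : ∀ a b a' b' : ↥K,
      lam ((T (a, b)).1 * (T (a', b')).2 - (T (a, b)).2 * (T (a', b')).1) = lam (a * b' - b * a') := by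
    intro a b a' b'
    rw [hTa, hTa]
    congr 1
    simp only
    rw [K_neg_mul, K_mul_neg]
    abel
  have hsemi : ∀ c a b : ↥K, T (c * a, c * b) = (id c * (T (a, b)).1, id c * (T (a, b)).2) := by
    intro c a b
    rw [hTa, hTa]
    simp only [id]
    rw [K_mul_neg]
  obtain ⟨y, h1, h3, h4, -⟩ := build hF T id (-1) (neg_ne_zero.mpr one_ne_zero) hTT hform hsemi
  refine ⟨y, h1, h3, ?_⟩
  rw [h4, neg_smul, one_smul]

/-- rescaling the second vector of the frame -/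
theorem Frame1.rescale {lam : ↥K →ₗ[F] F} (hF : Frame1 K u0 w0 lam)
    (hc : ∀ a b : ↥K, a * b = b * a) (μ ν : ↥K) (hμν : μ * ν = 1)
    (hne : lam ∘ₗ LinearMap.mulLeft F μ ≠ 0) :
    Frame1 K u0 ((μ : Matrix I4 I4 F) *ᵥ w0) (lam ∘ₗ LinearMap.mulLeft F μ) := by
  have hΦ : ∀ a b : ↥K, Φlin K u0 ((μ : Matrix I4 I4 F) *ᵥ w0) (a, b) = Φlin K u0 w0 (a, b * μ) := by
    intro a b
    rw [Φlin_apply, Φlin_apply, Subalgebra.coe_mul, Matrix.mulVec_mulVec]
  refine ⟨hne, ⟨?_, ?_⟩, ?_⟩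
  · rintro ⟨a, b⟩ ⟨a', b'⟩ h
    rw [hΦ, hΦ] at h
    have h3 := hF.bij.1 h
    have h4 : a = a' := congrArg Prod.fst h3
    have h5 : b * μ = b' * μ := congrArg Prod.snd h3
    have h6 : b = b' := by
      calc b = b * μ * ν := by rw [mul_assoc, hμν, mul_one]
        _ = b' * μ * ν := by rw [h5]
        _ = b' := by rw [mul_assoc, hμν, mul_one]
    rw [h4, h6]
  · intro v
    obtain ⟨⟨a, b⟩, hab⟩ := hF.bij.2 v
    refine ⟨(a, b * ν), ?_⟩
    rw [hΦ, mul_assoc, hc ν μ, hμν, mul_one]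
    exact hab
  · intro a b a' b'
    rw [hΦ, hΦ, hF.form]
    simp only [LinearMap.comp_apply, LinearMap.mulLeft_apply]
    congr 1
    have e1 : a * (b' * μ) = μ * (a * b') := by rw [← mul_assoc, hc]
    have e2 : b * μ * a' = μ * (b * a') := by rw [hc b μ, mul_assoc]
    rw [e1, e2, mul_sub]

theorem li_of_nonscalar (θ : ↥K) (h : ∀ c : F, θ ≠ c • (1 : ↥K)) :
    LinearIndependent F ![(1 : ↥K), θ] := by
  have h1 : (1 : ↥K) ≠ 0 := by
    intro h0
    have := congrArg Subtype.val h0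
    simp at this
  rw [LinearIndependent.pair_iff]
  intro s t hst
  have ht : t = 0 := by
    by_contra ht
    apply h (-(t⁻¹ * s))
    have h3 : t • θ = -(s • (1 : ↥K)) := eq_neg_of_add_eq_zero_right hst
    calc θ = t⁻¹ • (t • θ) := by rw [smul_smul, inv_mul_cancel₀ ht, one_smul]
      _ = -(t⁻¹ * s) • (1 : ↥K) := by rw [h3, smul_neg, smul_smul, neg_smul]
  refine ⟨?_, ht⟩
  rw [ht, zero_smul, add_zero] at hst
  rcases smul_eq_zero.mp hst with h | h
  · exact h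
  · exact absurd h h1

theorem exists_nonscalar (hK : IsFieldSubalgebra 2 K) :
    ∃ θ : ↥K, ∀ c : F, θ ≠ c • (1 : ↥K) := by
  by_contra hcon
  push Not at hcon
  have hle : (⊤ : Submodule F ↥K) ≤ Submodule.span F {(1 : ↥K)} := by
    intro a _
    obtain ⟨c, hc⟩ := hcon a
    rw [hc]
    exact Submodule.smul_mem _ _ (Submodule.subset_span rfl)
  have h3 := Submodule.finrank_mono hle
  have h4 : Module.finrank F (Submodule.span F {(1 : ↥K)}) ≤ 1 := by
    refine (finrank_span_le_card _).trans ?_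
    simp
  rw [finrank_top, hK.finrank_eq] at h3
  omega

/-- a generator of trace zero -/
theorem exists_theta (h2 : (2 : F) ≠ 0) (hK : IsFieldSubalgebra 2 K) :
    ∃ (θ : ↥K) (δ : F), θ * θ = δ • (1 : ↥K) ∧ LinearIndependent F ![(1 : ↥K), θ] := by
  obtain ⟨θ₀, hθ₀⟩ := exists_nonscalar hK
  have hli := li_of_nonscalar θ₀ hθ₀
  have hcard : Fintype.card (Fin 2) = Module.finrank F ↥K := by
    rw [hK.finrank_eq]; rfl
  set b := basisOfLinearIndependentOfCardEqFinrank hli hcard with hb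
  have hb0 : b 0 = 1 := by
    rw [hb, coe_basisOfLinearIndependentOfCardEqFinrank]; rfl
  have hb1 : b 1 = θ₀ := by
    rw [hb, coe_basisOfLinearIndependentOfCardEqFinrank]; rfl
  obtain ⟨s₀, c, h4⟩ : ∃ s₀ c : F, θ₀ * θ₀ = s₀ • (1 : ↥K) + (2 * c) • θ₀ := by
    refine ⟨b.repr (θ₀ * θ₀) 0, b.repr (θ₀ * θ₀) 1 / 2, ?_⟩
    have := b.sum_repr (θ₀ * θ₀)
    rw [Fin.sum_univ_two, hb0, hb1] at this
    rw [mul_div_cancel₀ _ h2]
    exact this.symm
  refine ⟨θ₀ - c • 1, s₀ + c * c, ?_, ?_⟩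
  · have e : (θ₀ - c • (1 : ↥K)) * (θ₀ - c • (1 : ↥K)) =
        θ₀ * θ₀ - c • θ₀ - c • θ₀ + (c * c) • (1 : ↥K) := by
      simp only [sub_mul, mul_sub, smul_mul_assoc, mul_smul_comm, one_mul, mul_one, smul_sub,
        smul_smul]
      abel
    rw [e, h4]
    module
  · apply li_of_nonscalar
    intro c' hc'
    apply hθ₀ (c' + c)
    rw [add_smul, ← hc']
    abel

/-- the involution that induces the nontrivial automorphism of `K` -/
theorem exists_sq_one (h2 : (2 : F) ≠ 0) (hK : IsFieldSubalgebra 2 K) {lam : ↥K →ₗ[F] F}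
    (hF : Frame1 K u0 w0 lam) :
    ∃ y : GL I4 F, y ∈ spGL 2 F ∧ y ∈ subalgebraNormalizer K ∧
      (y : Matrix I4 I4 F) * (y : Matrix I4 I4 F) = 1 ∧ (y : Matrix I4 I4 F) ≠ 1 ∧
      (y : Matrix I4 I4 F) ≠ -1 := by
  classical
  have hc : ∀ a b : ↥K, a * b = b * a := fun a b => Subtype.ext (hK.comm a a.2 b b.2)
  have h1ne : (1 : ↥K) ≠ 0 := by
    intro h0
    have := congrArg Subtype.val h0
    simp at this
  have hinv : ∀ a : ↥K, a ≠ 0 → ∃ a' : ↥K, a * a' = 1 := by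
    intro a ha
    obtain ⟨y, hy, hxy⟩ := hK.inv a.1 a.2 (fun h => ha (Subtype.ext h))
    exact ⟨⟨y, hy⟩, Subtype.ext hxy⟩
  obtain ⟨θ, δ, hθθ, hli⟩ := exists_theta h2 hK
  have hli' := LinearIndependent.pair_iff.mp hli
  have hθ0 : θ ≠ 0 := by
    intro h0
    have := hli' 0 1 (by rw [h0]; simp)
    exact one_ne_zero this.2
  have hδ : δ ≠ 0 := by
    intro h0
    rw [h0, zero_smul] at hθθ
    obtain ⟨ν, hν⟩ := hinv θ hθ0
    apply hθ0
    calc θ = θ * (θ * ν) := by rw [hν, mul_one]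
      _ = (θ * θ) * ν := by rw [mul_assoc]
      _ = 0 := by rw [hθθ, zero_mul]
  have hcard : Fintype.card (Fin 2) = Module.finrank F ↥K := by
    rw [hK.finrank_eq]; rfl
  set b := basisOfLinearIndependentOfCardEqFinrank hli hcard with hb
  have hb0 : b 0 = 1 := by
    rw [hb, coe_basisOfLinearIndependentOfCardEqFinrank]; rfl
  have hb1 : b 1 = θ := by
    rw [hb, coe_basisOfLinearIndependentOfCardEqFinrank]; rfl
  -- the automorphism
  set σ : ↥K →ₗ[F] ↥K := b.constr F ![1, -θ] with hσ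
  have hσ1 : σ 1 = 1 := by
    have := b.constr_basis F ![(1 : ↥K), -θ] 0
    rw [hb0] at this
    exact this
  have hσθ : σ θ = -θ := by
    have := b.constr_basis F ![(1 : ↥K), -θ] 1
    rw [hb1] at this
    exact this
  have hσmul : ∀ a a' : ↥K, σ (a * a') = σ a * σ a' := by
    have h : (LinearMap.mul F ↥K).compr₂ σ = (LinearMap.mul F ↥K).compl₁₂ σ σ := by
      apply b.ext
      intro i
      apply b.ext
      intro j
      fin_cases i <;> fin_cases j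
      · simp [hb0, hσ1]
      · simp [hb0, hb1, hσ1, hσθ]
      · simp [hb0, hb1, hσ1, hσθ]
      · simp [hb1, hσθ, hθθ, hσ1]
        rw [K_mul_neg, neg_neg, hθθ]
    intro a a'
    have := LinearMap.congr_fun (LinearMap.congr_fun h a) a'
    simpa using this
  have hσσ : ∀ a : ↥K, σ (σ a) = a := by
    have h : σ ∘ₗ σ = LinearMap.id := by
      apply b.ext
      intro i
      fin_cases i
      · simp [hb0, hσ1]
      · simp [hb1, hσθ]
    intro a
    exact LinearMap.congr_fun h a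
  -- the rescaling
  set μ : ↥K := (δ * lam 1) • (1 : ↥K) - lam θ • θ with hμ
  have hμθ : lam (μ * θ) = 0 := by
    rw [hμ, sub_mul, smul_mul_assoc, smul_mul_assoc, one_mul, hθθ, map_sub, map_smul, map_smul,
      map_smul, smul_eq_mul, smul_eq_mul, smul_eq_mul]
    ring
  have hμ0 : μ ≠ 0 := by
    intro h0
    have h3 : (δ * lam 1) • (1 : ↥K) + (-lam θ) • θ = 0 := by
      rw [neg_smul, ← sub_eq_add_neg]; exact h0
    obtain ⟨h4, h5⟩ := hli' _ _ h3
    have h6 : lam 1 = 0 := by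
      rcases mul_eq_zero.mp h4 with h | h
      · exact absurd h hδ
      · exact h
    have h7 : lam θ = 0 := neg_eq_zero.mp h5
    apply hF.lam_ne
    apply b.ext
    intro i
    fin_cases i
    · simpa [hb0] using h6
    · simpa [hb1] using h7
  obtain ⟨ν, hμν⟩ := hinv μ hμ0
  have hne : lam ∘ₗ LinearMap.mulLeft F μ ≠ 0 := by
    intro h0
    apply hF.lam_ne
    apply LinearMap.ext
    intro z
    have := LinearMap.congr_fun h0 (ν * z)
    simpa [← mul_assoc, hμν] using this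
  have hF' := hF.rescale hc μ ν hμν hne
  have hlamσ : ∀ z : ↥K, (lam ∘ₗ LinearMap.mulLeft F μ) (σ z) = (lam ∘ₗ LinearMap.mulLeft F μ) z := by
    have h : (lam ∘ₗ LinearMap.mulLeft F μ) ∘ₗ σ = lam ∘ₗ LinearMap.mulLeft F μ := by
      apply b.ext
      intro i
      fin_cases i
      · simp [hb0, hσ1]
      · simp [hb1, hσθ, hμθ]
        rw [K_mul_neg, map_neg, hμθ, neg_zero]
    intro z
    exact LinearMap.congr_fun h z
  set T : (↥K × ↥K) →ₗ[F] (↥K × ↥K) := LinearMap.prodMap σ σ with hT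
  have hTa : ∀ a b : ↥K, T (a, b) = (σ a, σ b) := fun a b => rfl
  have hTT : ∀ x, T (T x) = (1 : F) • x := by
    rintro ⟨a, b⟩
    rw [hTa, hTa, hσσ, hσσ, one_smul]
  have hform : ∀ a b a' b' : ↥K,
      (lam ∘ₗ LinearMap.mulLeft F μ) ((T (a, b)).1 * (T (a', b')).2 - (T (a, b)).2 * (T (a', b')).1) =
        (lam ∘ₗ LinearMap.mulLeft F μ) (a * b' - b * a') := by
    intro a b a' b'
    rw [hTa, hTa]
    simp only
    rw [← hσmul, ← hσmul, ← map_sub, hlamσ]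
  have hsemi : ∀ c a b : ↥K, T (c * a, c * b) = (σ c * (T (a, b)).1, σ c * (T (a, b)).2) := by
    intro c a b
    rw [hTa, hTa, hσmul, hσmul]
  obtain ⟨y, h1, h3, h4, h5⟩ := build hF' T σ 1 one_ne_zero hTT hform hsemi
  refine ⟨y, h1, h3, ?_, ?_, ?_⟩
  · rw [h4, one_smul]
  · intro hy1
    have h6 := h5 (θ, 0)
    rw [hy1, Matrix.one_mulVec, hTa, hσθ, map_zero] at h6
    have h7 := congrArg Prod.fst (hF'.bij.1 h6)
    simp only at h7
    have h8 : (2 : F) • θ = 0 := by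
      rw [two_smul]
      nth_rewrite 1 [h7]
      exact neg_add_cancel θ
    rcases smul_eq_zero.mp h8 with h | h
    · exact h2 h
    · exact hθ0 h
  · intro hy1
    have h6 := h5 (1, 0)
    rw [hy1, Matrix.neg_mulVec, Matrix.one_mulVec, hTa, hσ1, map_zero, ← map_neg] at h6
    have h7 := congrArg Prod.fst (hF'.bij.1 h6)
    simp only [Prod.fst_neg] at h7
    have h8 : (2 : F) • (1 : ↥K) = 0 := by
      rw [two_smul]
      nth_rewrite 1 [← h7]
      exact neg_add_cancel 1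
    rcases smul_eq_zero.mp h8 with h | h
    · exact h2 h
    · exact h1ne h

end apply

/-- K-SpF-F1 (597512). -/
theorem exists_invols_of_frame [Fintype F] (h2 : (2 : F) ≠ 0)
    (K : Subalgebra F (Matrix (Fin 2 ⊕ Fin 2) (Fin 2 ⊕ Fin 2) F)) (hS : IsSType 2 2 K)
    (lam : ↥K →ₗ[F] F) (u w : Fin 1 → (Fin 2 ⊕ Fin 2 → F)) (hfr : IsFrame 2 1 K lam u w) :
    (∃ y ∈ spGL 2 F, y ∈ subalgebraNormalizer K ∧
      (y : Matrix (Fin 2 ⊕ Fin 2) (Fin 2 ⊕ Fin 2) F) * (y : Matrix (Fin 2 ⊕ Fin 2) (Fin 2 ⊕ Fin 2) F) = 1 ∧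
      (y : Matrix (Fin 2 ⊕ Fin 2) (Fin 2 ⊕ Fin 2) F) ≠ 1 ∧ (y : Matrix (Fin 2 ⊕ Fin 2) (Fin 2 ⊕ Fin 2) F) ≠ -1) ∧
    (∃ y ∈ spGL 2 F, y ∈ subalgebraNormalizer K ∧
      (y : Matrix (Fin 2 ⊕ Fin 2) (Fin 2 ⊕ Fin 2) F) * (y : Matrix (Fin 2 ⊕ Fin 2) (Fin 2 ⊕ Fin 2) F) = -1) := by
  have hcomb : ∀ a b : Fin 1 → ↥K, comb K u w a b = Φlin K (u 0) (w 0) (a 0, b 0) := by
    intro a b
    unfold comb
    rw [Fin.sum_univ_one, Fin.sum_univ_one]
    rfl
  have hinj : ∀ x x' : (Fin 1 → ↥K) × (Fin 1 → ↥K), comb K u w x.1 x.2 = comb K u w x'.1 x'.2 → x = x' :=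
    fun x x' h => hfr.bij.1 h
  have hsur : ∀ v : Fin 2 ⊕ Fin 2 → F, ∃ x : (Fin 1 → ↥K) × (Fin 1 → ↥K), comb K u w x.1 x.2 = v :=
    fun v => hfr.bij.2 v
  have hF : Frame1 K (u 0) (w 0) lam := by
    refine ⟨hfr.lam_ne, ⟨?_, ?_⟩, ?_⟩
    · rintro ⟨a, b⟩ ⟨a', b'⟩ h
      have h3 : comb K u w (fun _ => a) (fun _ => b) = comb K u w (fun _ => a') (fun _ => b') := by
        rw [hcomb, hcomb]
        exact h
      have h4 := hinj (fun _ => a, fun _ => b) (fun _ => a', fun _ => b') h3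
      have h5 : a = a' := congrFun (congrArg Prod.fst h4) 0
      have h6 : b = b' := congrFun (congrArg Prod.snd h4) 0
      rw [h5, h6]
    · intro v
      obtain ⟨⟨a, b⟩, hab⟩ := hsur v
      refine ⟨(a 0, b 0), ?_⟩
      rw [← hcomb]
      exact hab
    · intro a b a' b'
      have h3 := hfr.form (fun _ => a) (fun _ => b) (fun _ => a') (fun _ => b')
      rw [hcomb, hcomb, Fin.sum_univ_one] at h3
      exact h3
  obtain ⟨y, h1, h3, h4, h5, h6⟩ := exists_sq_one h2 hS.field hF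
  obtain ⟨y', h1', h3', h4'⟩ := exists_sq_neg hF
  exact ⟨⟨y, h1, h3, h4, h5, h6⟩, ⟨y', h1', h3', h4'⟩⟩

end Cfsg.Agent.Lib.Helper99.SpF
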