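import Mathlib
import Cfsg.Prelude.Def_GeometricClasses
import Cfsg.Prelude.Def_ClassicalGeometry
import Cfsg.Agent.Lib.Helper38.SpF.Defs

/-!
# K-SpF-I1 (keystone 597510): an involution of `Sp_{2d}(q)`, `q` odd, with a two-dimensional `-1`-eigenspace
-/

set_option autoImplicit false

namespace Cfsg.Agent.Lib.Helper99.SpF

open Cfsg Cfsg.Geo
open scoped Matrix MatrixGroups

variable {F : Type*} [Field F]

/-- the diagonal of the involution: `-1` at the two positions `inl i0`, `inr i0`, else `1` -/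
def dvec (d : ℕ) (i0 : Fin d) : Fin d ⊕ Fin d → F :=
  fun i => if i = Sum.inl i0 ∨ i = Sum.inr i0 then -1 else 1

theorem dvec_mul_self (d : ℕ) (i0 : Fin d) (i : Fin d ⊕ Fin d) :
    dvec (F := F) d i0 i * dvec d i0 i = 1 := by
  unfold dvec
  split_ifs <;> simp

theorem dvec_inl_mul_inr (d : ℕ) (i0 : Fin d) (i : Fin d) :
    dvec (F := F) d i0 (Sum.inl i) * dvec d i0 (Sum.inr i) = 1 := by
  unfold dvec
  by_cases h : i = i0
  · subst h; simp
  · simp [h]

/-- the involution as an element of `GL` -/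
def xinv (d : ℕ) (i0 : Fin d) : GL (Fin d ⊕ Fin d) F where
  val := Matrix.diagonal (dvec d i0)
  inv := Matrix.diagonal (dvec d i0)
  val_inv := by
    rw [Matrix.diagonal_mul_diagonal, ← Matrix.diagonal_one]
    congr 1
    funext i
    exact dvec_mul_self d i0 i
  inv_val := by
    rw [Matrix.diagonal_mul_diagonal, ← Matrix.diagonal_one]
    congr 1
    funext i
    exact dvec_mul_self d i0 i

theorem xinv_val (d : ℕ) (i0 : Fin d) :
    ((xinv d i0 : GL (Fin d ⊕ Fin d) F) : Matrix (Fin d ⊕ Fin d) (Fin d ⊕ Fin d) F) =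
      Matrix.diagonal (dvec d i0) := rfl

theorem sympForm_eq_sum (d : ℕ) (u v : Fin d ⊕ Fin d → F) :
    sympForm d F u v = ∑ i : Fin d, (u (Sum.inr i) * v (Sum.inl i) - u (Sum.inl i) * v (Sum.inr i)) := by
  unfold sympForm
  simp only [dotProduct, Matrix.mulVec, Matrix.J, Fintype.sum_sum_type, Matrix.fromBlocks_apply₁₁,
    Matrix.fromBlocks_apply₁₂, Matrix.fromBlocks_apply₂₁, Matrix.fromBlocks_apply₂₂,
    Matrix.zero_apply, Matrix.neg_apply, Matrix.one_apply, zero_mul, Finset.sum_const_zero,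
    zero_add, add_zero, neg_mul, ite_mul, one_mul, Finset.sum_neg_distrib,
    Finset.sum_ite_eq, Finset.mem_univ, if_true]
  simp only [mul_neg, Finset.sum_neg_distrib]
  rw [Finset.sum_sub_distrib]
  ring

theorem xinv_mem (d : ℕ) (i0 : Fin d) : (xinv d i0 : GL (Fin d ⊕ Fin d) F) ∈ spGL d F := by
  intro u v
  change sympForm d F (Matrix.diagonal (dvec d i0) *ᵥ u) (Matrix.diagonal (dvec d i0) *ᵥ v) =
    sympForm d F u v
  rw [sympForm_eq_sum, sympForm_eq_sum]
  apply Finset.sum_congr rfl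
  intro i _
  simp only [Matrix.mulVec_diagonal]
  have h := dvec_inl_mul_inr (F := F) d i0 i
  have e1 : dvec d i0 (Sum.inr i) * u (Sum.inr i) * (dvec d i0 (Sum.inl i) * v (Sum.inl i)) =
      (dvec (F := F) d i0 (Sum.inl i) * dvec d i0 (Sum.inr i)) * (u (Sum.inr i) * v (Sum.inl i)) := by
    ring
  have e2 : dvec d i0 (Sum.inl i) * u (Sum.inl i) * (dvec d i0 (Sum.inr i) * v (Sum.inr i)) =
      (dvec (F := F) d i0 (Sum.inl i) * dvec d i0 (Sum.inr i)) * (u (Sum.inl i) * v (Sum.inr i)) := by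
    ring
  rw [e1, e2, h, one_mul, one_mul]

/-- the rank of `x + 1` is `2 d - 2` -/
theorem rank_xinv_add_one (h2 : (2 : F) ≠ 0) (d : ℕ) (i0 : Fin d) :
    (Matrix.diagonal (dvec (F := F) d i0) + 1).rank + 2 = 2 * d := by
  classical
  have h1 : Matrix.diagonal (dvec (F := F) d i0) + 1 =
      Matrix.diagonal (fun i => dvec (F := F) d i0 i + 1) := by
    rw [← Matrix.diagonal_one, Matrix.diagonal_add]
  rw [h1, Matrix.rank_diagonal]
  have h3 : ∀ i : Fin d ⊕ Fin d, dvec (F := F) d i0 i + 1 ≠ 0 ↔ ¬ (i = Sum.inl i0 ∨ i = Sum.inr i0) := by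
    intro i
    unfold dvec
    split_ifs with h
    · simp [h]
    · simp only [h, not_false_eq_true, iff_true]
      rw [one_add_one_eq_two]
      exact h2
  have h4 : Fintype.card {i : Fin d ⊕ Fin d // dvec (F := F) d i0 i + 1 ≠ 0} =
      Fintype.card {i : Fin d ⊕ Fin d // ¬ (i = Sum.inl i0 ∨ i = Sum.inr i0)} :=
    Fintype.card_congr (Equiv.subtypeEquivRight h3)
  rw [h4, Fintype.card_subtype_compl]
  have h5 : Fintype.card {i : Fin d ⊕ Fin d // i = Sum.inl i0 ∨ i = Sum.inr i0} = 2 := by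
    rw [Fintype.card_subtype]
    have : (Finset.univ.filter fun i : Fin d ⊕ Fin d => i = Sum.inl i0 ∨ i = Sum.inr i0) =
        {Sum.inl i0, Sum.inr i0} := by
      ext i
      simp
    rw [this]
    rw [Finset.card_pair (by simp)]
  rw [h5]
  simp only [Fintype.card_sum, Fintype.card_fin]
  have : 1 ≤ d := by
    have := i0.2
    omega
  omega

theorem finrank_ker_eq {ι : Type} [Fintype ι] [DecidableEq ι] (M : Matrix ι ι F) :
    Module.finrank F (LinearMap.ker (Matrix.toLin' M)) + M.rank = Fintype.card ι := by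
  have h := LinearMap.finrank_range_add_finrank_ker (Matrix.toLin' M)
  rw [Module.finrank_fintype_fun_eq_card] at h
  rw [Matrix.rank, ← Matrix.toLin'_apply']
  omega

/-- K-SpF-I1 (597510). -/
theorem exists_invol_two [Fintype F] (h2 : (2 : F) ≠ 0) (d : ℕ) (hd : 2 ≤ d) :
    ∃ x ∈ spGL d F, (x : Matrix (Fin d ⊕ Fin d) (Fin d ⊕ Fin d) F) * (x : Matrix (Fin d ⊕ Fin d) (Fin d ⊕ Fin d) F) = 1 ∧
      (∀ z : F, (x : Matrix (Fin d ⊕ Fin d) (Fin d ⊕ Fin d) F) ≠ z • (1 : Matrix (Fin d ⊕ Fin d) (Fin d ⊕ Fin d) F)) ∧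
      ∀ g ∈ spGL d F,
        Module.finrank F (LinearMap.ker (Matrix.toLin' (((g⁻¹ * x * g : GL (Fin d ⊕ Fin d) F) : Matrix (Fin d ⊕ Fin d) (Fin d ⊕ Fin d) F) + 1))) = 2 := by
  classical
  set i0 : Fin d := ⟨0, by omega⟩ with hi0
  set i1 : Fin d := ⟨1, by omega⟩ with hi1
  refine ⟨xinv d i0, xinv_mem d i0, ?_, ?_, ?_⟩
  · exact (xinv d i0 : GL (Fin d ⊕ Fin d) F).val_inv
  · intro z hz
    rw [xinv_val] at hz
    have e0 := congrFun (congrFun hz (Sum.inl i0)) (Sum.inl i0)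
    have e1 := congrFun (congrFun hz (Sum.inl i1)) (Sum.inl i1)
    have hne : i1 ≠ i0 := by
      intro h
      have := congrArg Fin.val h
      simp [hi0, hi1] at this
    simp [dvec] at e0
    simp [dvec, hne] at e1
    apply h2
    rw [← one_add_one_eq_two]
    nth_rewrite 1 [e1]
    rw [← e0]
    ring
  · intro g _
    have hconj : (((g⁻¹ * xinv d i0 * g : GL (Fin d ⊕ Fin d) F) : Matrix (Fin d ⊕ Fin d) (Fin d ⊕ Fin d) F) + 1) =
        ((g⁻¹ : GL (Fin d ⊕ Fin d) F) : Matrix (Fin d ⊕ Fin d) (Fin d ⊕ Fin d) F) *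
          (Matrix.diagonal (dvec (F := F) d i0) + 1) * (g : Matrix (Fin d ⊕ Fin d) (Fin d ⊕ Fin d) F) := by
      rw [Units.val_mul, Units.val_mul, xinv_val, Matrix.mul_add, Matrix.add_mul, Matrix.mul_one]
      congr 1
      rw [← Units.val_mul, inv_mul_cancel, Units.val_one]
    have hrk : (((g⁻¹ * xinv d i0 * g : GL (Fin d ⊕ Fin d) F) : Matrix (Fin d ⊕ Fin d) (Fin d ⊕ Fin d) F) + 1).rank =
        (Matrix.diagonal (dvec (F := F) d i0) + 1).rank := by
      rw [hconj]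
      rw [Matrix.rank_mul_eq_left_of_isUnit_det _ _ ((Matrix.isUnit_iff_isUnit_det _).mp g.isUnit)]
      rw [Matrix.rank_mul_eq_right_of_isUnit_det _ _ ((Matrix.isUnit_iff_isUnit_det _).mp (g⁻¹).isUnit)]
    have h3 := finrank_ker_eq (((g⁻¹ * xinv d i0 * g : GL (Fin d ⊕ Fin d) F) : Matrix (Fin d ⊕ Fin d) (Fin d ⊕ Fin d) F) + 1)
    have h4 := rank_xinv_add_one h2 d i0
    rw [hrk] at h3
    simp only [Fintype.card_sum, Fintype.card_fin] at h3
    omega

end Cfsg.Agent.Lib.Helper99.SpF
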