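import Mathlib
import Cfsg.Agent.Lib.Helper41.InvBDefs

/-!
# K-IB leaf 14b (392820): the Brauer–Fowler count (pure group theory)
-/

set_option autoImplicit false

namespace Cfsg.Agent.Lib.Helper99.InvB

open Cfsg.Agent.Lib.Helper41.InvB

variable {Γ : Type*} [Group Γ]

/-- the `S`-conjugate `s a s⁻¹` of `a`. -/
def bfD (a : Γ) (S : Subgroup Γ) (s : S) : Γ := (s : Γ) * a * (s : Γ)⁻¹

theorem bfD_mul_self {a : Γ} (ha : a * a = 1) (S : Subgroup Γ) (s : S) :
    bfD a S s * bfD a S s = 1 := by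
  unfold bfD
  have : (s : Γ) * a * (s : Γ)⁻¹ * ((s : Γ) * a * (s : Γ)⁻¹) = (s : Γ) * (a * a) * (s : Γ)⁻¹ := by
    group
  rw [this, ha]; group

theorem bfD_inv {a : Γ} (ha : a * a = 1) (S : Subgroup Γ) (s : S) :
    (bfD a S s)⁻¹ = bfD a S s :=
  inv_eq_of_mul_eq_one_left (bfD_mul_self ha S s)

theorem bfD_mul_mem {a : Γ} (ha : a * a = 1) (S : Subgroup Γ) [S.Normal] (s s' : S) :
    bfD a S s * bfD a S s' ∈ S := by
  have ha' : a⁻¹ = a := inv_eq_of_mul_eq_one_left ha
  have h1 : a * ((s : Γ)⁻¹ * (s' : Γ)) * a⁻¹ ∈ S :=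
    Subgroup.Normal.conj_mem inferInstance _ (S.mul_mem (S.inv_mem s.2) s'.2) a
  have h2 : bfD a S s * bfD a S s' =
      (s : Γ) * (a * ((s : Γ)⁻¹ * (s' : Γ)) * a⁻¹) * (s' : Γ)⁻¹ := by
    unfold bfD
    rw [ha']
    group
  rw [h2]
  exact S.mul_mem (S.mul_mem s.2 h1) (S.inv_mem s'.2)

/-- equal conjugates differ by an element of `C_S(a)`. -/
theorem mem_inf_centralizer_of_bfD_eq {a : Γ} (S : Subgroup Γ) {s s' : S}
    (h : bfD a S s = bfD a S s') :
    (s : Γ)⁻¹ * (s' : Γ) ∈ S ⊓ Subgroup.centralizer {a} := by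
  refine Subgroup.mem_inf.mpr ⟨S.mul_mem (S.inv_mem s.2) s'.2, ?_⟩
  rw [Subgroup.mem_centralizer_singleton_iff]
  unfold bfD at h
  -- s a s⁻¹ = s' a s'⁻¹  ⇒  (s⁻¹ s') a = a (s⁻¹ s')
  have : (s : Γ)⁻¹ * (s' : Γ) * a = (s : Γ)⁻¹ * ((s' : Γ) * a * (s' : Γ)⁻¹) * (s' : Γ) := by group
  rw [this, ← h]
  group

/-- a product of two involutions, both inverting `x`, centralises `x`. -/
theorem mem_centralizer_of_invert {d e x : Γ} (hd : d * d = 1)
    (h1 : d * x * d = x⁻¹) (h2 : e * x * e = x⁻¹) (he : e * e = 1) :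
    d * e ∈ Subgroup.centralizer {x} := by
  rw [Subgroup.mem_centralizer_singleton_iff]
  -- d e x = d (e x e) e⁻¹ ... use e x = x⁻¹ e⁻¹ = x⁻¹ e
  have he' : e⁻¹ = e := inv_eq_of_mul_eq_one_left he
  have hd' : d⁻¹ = d := inv_eq_of_mul_eq_one_left hd
  have e1 : e * x = x⁻¹ * e := by
    have : e * x = (e * x * e) * e⁻¹ := by group
    rw [this, h2, he']
  have d1 : d * x⁻¹ = x * d := by
    have hx : x = d * x⁻¹ * d := by
      have : d * x⁻¹ * d = (d⁻¹ * x * d⁻¹)⁻¹ := by group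
      rw [this, hd', h1, inv_inv]
    have : d * x⁻¹ = (d * x⁻¹ * d) * d⁻¹ := by group
    rw [this, ← hx, hd']
  calc d * e * x = d * (e * x) := by group
    _ = d * (x⁻¹ * e) := by rw [e1]
    _ = (d * x⁻¹) * e := by group
    _ = (x * d) * e := by rw [d1]
    _ = x * (d * e) := by group

section Count

variable [Finite Γ]

open scoped Classical in
/-- **LEAF 14b** Brauer–Fowler count. -/
theorem bf_count (a : Γ) (ha : a * a = 1) (S : Subgroup Γ) [S.Normal]
    (hnc : ¬ S ≤ Subgroup.centralizer {a}) (c : ℕ)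
    (hc : Nat.card ↥(S ⊓ Subgroup.centralizer {a}) ≤ c) :
    ∃ x ∈ S, x ≠ 1 ∧ Nat.card S ≤ 2 * c ^ 2 * Nat.card ↥(S ⊓ Subgroup.centralizer {x}) := by
  by_contra hcon
  push Not at hcon
  have : Fintype S := Fintype.ofFinite S
  set n := Nat.card S with hn
  set k := Nat.card ↥(S ⊓ Subgroup.centralizer {a}) with hk
  have hnpos : 0 < n := Nat.card_pos
  -- 2 k ≤ n
  have h2k : 2 * k ≤ n := by
    have hdvd : k ∣ n := Subgroup.card_dvd_of_le (inf_le_left : S ⊓ Subgroup.centralizer {a} ≤ S)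
    obtain ⟨j, hj⟩ := hdvd
    have hkpos : 0 < k := Nat.card_pos
    have hj1 : j ≠ 1 := by
      intro h1
      rw [h1, mul_one] at hj
      have : S ⊓ Subgroup.centralizer {a} = S :=
        Subgroup.eq_of_le_of_card_ge inf_le_left (by rw [← hn, ← hk, hj])
      exact hnc (this ▸ inf_le_right)
    have hj0 : j ≠ 0 := by
      intro h0
      rw [h0, mul_zero] at hj
      omega
    have : 2 ≤ j := by omega
    calc 2 * k = k * 2 := by ring
      _ ≤ k * j := Nat.mul_le_mul_left _ this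
      _ = n := hj.symm
  -- the product map
  let φ : S × S → S := fun p => ⟨bfD a S p.1 * bfD a S p.2, bfD_mul_mem ha S p.1 p.2⟩
  let F : S → ℕ := fun x => Nat.card {p : S × S // φ p = x}
  have hsum : n * n = ∑ x : S, F x := by
    have h1 : Nat.card (S × S) = n * n := by rw [Nat.card_prod]
    rw [← h1, Nat.card_congr (Equiv.sigmaFiberEquiv φ).symm, Nat.card_sigma]
  -- the fibre over 1
  have hF1 : F 1 ≤ n * k := by
    have hmem : ∀ p : {p : S × S // φ p = 1},
        ((p.1.1 : S) : Γ)⁻¹ * ((p.1.2 : S) : Γ) ∈ S ⊓ Subgroup.centralizer {a} := by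
      intro p
      apply mem_inf_centralizer_of_bfD_eq
      have h1 : bfD a S p.1.1 * bfD a S p.1.2 = 1 := by
        have := congrArg Subtype.val p.2
        simpa [φ] using this
      -- d s' = (d s)⁻¹ = d s
      have h2 : bfD a S p.1.2 = (bfD a S p.1.1)⁻¹ := by
        rw [eq_inv_iff_mul_eq_one, ← h1]
        -- need d s' * d s = 1 from d s * d s' = 1
        have := mul_eq_one_iff_eq_inv.mp h1
        rw [this]; group
      rw [h2, bfD_inv ha]
    let f : {p : S × S // φ p = 1} → S × ↥(S ⊓ Subgroup.centralizer {a}) :=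
      fun p => (p.1.1, ⟨_, hmem p⟩)
    have hf : Function.Injective f := by
      intro p q hpq
      have h1 : p.1.1 = q.1.1 := by
        have := congrArg Prod.fst hpq
        exact this
      have h2 : ((p.1.1 : S) : Γ)⁻¹ * ((p.1.2 : S) : Γ) = ((q.1.1 : S) : Γ)⁻¹ * ((q.1.2 : S) : Γ) :=
        congrArg (fun z => ((z.2 : ↥(S ⊓ Subgroup.centralizer {a})) : Γ)) hpq
      rw [h1] at h2
      have h3 : ((p.1.2 : S) : Γ) = ((q.1.2 : S) : Γ) := mul_left_cancel h2
      apply Subtype.ext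
      exact Prod.ext h1 (Subtype.ext h3)
    have := Nat.card_le_card_of_injective f hf
    rw [Nat.card_prod] at this
    exact this
  -- the other fibres
  have hFx : ∀ x : S, x ≠ 1 →
      F x ≤ Nat.card ↥(S ⊓ Subgroup.centralizer {(x : Γ)}) * (k * k) := by
    intro x hx
    by_cases hne : Nonempty {p : S × S // φ p = x}
    · obtain ⟨p₀⟩ := hne
      -- both conjugates invert x
      have hinv : ∀ p : {p : S × S // φ p = x},
          bfD a S p.1.1 * (x : Γ) * bfD a S p.1.1 = (x : Γ)⁻¹ := by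
        intro p
        have h1 : bfD a S p.1.1 * bfD a S p.1.2 = (x : Γ) := by
          have := congrArg Subtype.val p.2
          simpa [φ] using this
        rw [← h1]
        have e1 := bfD_mul_self ha S p.1.1
        have e2 := bfD_inv ha S p.1.1
        have e3 := bfD_inv ha S p.1.2
        have : bfD a S p.1.1 * (bfD a S p.1.1 * bfD a S p.1.2) * bfD a S p.1.1 =
            (bfD a S p.1.1 * bfD a S p.1.1) * bfD a S p.1.2 * bfD a S p.1.1 := by group
        rw [this, e1, one_mul, mul_inv_rev, e2, e3]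
      let r : Γ → S := Function.invFun (bfD a S)
      have hr : ∀ s : S, bfD a S (r (bfD a S s)) = bfD a S s := fun s =>
        Function.invFun_eq ⟨s, rfl⟩
      have hg : ∀ p : {p : S × S // φ p = x},
          bfD a S p₀.1.1 * bfD a S p.1.1 ∈ S ⊓ Subgroup.centralizer {(x : Γ)} :=
        fun p => Subgroup.mem_inf.mpr ⟨bfD_mul_mem ha S _ _,
          mem_centralizer_of_invert (bfD_mul_self ha S _) (hinv p₀) (hinv p) (bfD_mul_self ha S _)⟩
      have hu : ∀ s : S, ((r (bfD a S s) : S) : Γ)⁻¹ * (s : Γ) ∈ S ⊓ Subgroup.centralizer {a} :=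
        fun s => mem_inf_centralizer_of_bfD_eq S (hr s)
      let f : {p : S × S // φ p = x} →
          ↥(S ⊓ Subgroup.centralizer {(x : Γ)}) ×
            (↥(S ⊓ Subgroup.centralizer {a}) × ↥(S ⊓ Subgroup.centralizer {a})) :=
        fun p => (⟨_, hg p⟩, (⟨_, hu p.1.1⟩, ⟨_, hu p.1.2⟩))
      have hf : Function.Injective f := by
        intro p q hpq
        have h1 : bfD a S p₀.1.1 * bfD a S p.1.1 = bfD a S p₀.1.1 * bfD a S q.1.1 :=
          congrArg (fun z => ((z.1 : ↥(S ⊓ Subgroup.centralizer {(x : Γ)})) : Γ)) hpq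
        have h1' : bfD a S p.1.1 = bfD a S q.1.1 := mul_left_cancel h1
        have h2 : ((r (bfD a S p.1.1) : S) : Γ)⁻¹ * ((p.1.1 : S) : Γ) =
            ((r (bfD a S q.1.1) : S) : Γ)⁻¹ * ((q.1.1 : S) : Γ) :=
          congrArg (fun z => ((z.2.1 : ↥(S ⊓ Subgroup.centralizer {a})) : Γ)) hpq
        rw [h1'] at h2
        have h2' : ((p.1.1 : S) : Γ) = ((q.1.1 : S) : Γ) := mul_left_cancel h2
        have hp : bfD a S p.1.1 * bfD a S p.1.2 = (x : Γ) := by
          have := congrArg Subtype.val p.2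
          simpa [φ] using this
        have hq : bfD a S q.1.1 * bfD a S q.1.2 = (x : Γ) := by
          have := congrArg Subtype.val q.2
          simpa [φ] using this
        have h3' : bfD a S p.1.2 = bfD a S q.1.2 := by
          rw [← hq, h1'] at hp
          exact mul_left_cancel hp
        have h3 : ((r (bfD a S p.1.2) : S) : Γ)⁻¹ * ((p.1.2 : S) : Γ) =
            ((r (bfD a S q.1.2) : S) : Γ)⁻¹ * ((q.1.2 : S) : Γ) :=
          congrArg (fun z => ((z.2.2 : ↥(S ⊓ Subgroup.centralizer {a})) : Γ)) hpq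
        rw [h3'] at h3
        have h3'' : ((p.1.2 : S) : Γ) = ((q.1.2 : S) : Γ) := mul_left_cancel h3
        apply Subtype.ext
        exact Prod.ext (Subtype.ext h2') (Subtype.ext h3'')
      have := Nat.card_le_card_of_injective f hf
      rw [Nat.card_prod, Nat.card_prod] at this
      exact this
    · have : IsEmpty {p : S × S // φ p = x} := not_nonempty_iff.mp hne
      show Nat.card {p : S × S // φ p = x} ≤ _
      rw [Nat.card_of_isEmpty]
      exact Nat.zero_le _
  -- each of the other fibres is small by the contradiction hypothesis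
  have hFx2 : ∀ x : S, x ≠ 1 → 2 * F x ≤ n - 1 := by
    intro x hx
    have hx1 : (x : Γ) ≠ 1 := fun h => hx (Subtype.ext h)
    have h1 := hcon (x : Γ) x.2 hx1
    have h2 := hFx x hx
    have h3 : k * k ≤ c ^ 2 := by
      rw [pow_two]; exact Nat.mul_le_mul hc hc
    have h4 : 2 * F x ≤ 2 * c ^ 2 * Nat.card ↥(S ⊓ Subgroup.centralizer {(x : Γ)}) := by
      calc 2 * F x ≤ 2 * (Nat.card ↥(S ⊓ Subgroup.centralizer {(x : Γ)}) * (k * k)) :=
            Nat.mul_le_mul_left _ h2
        _ ≤ 2 * (Nat.card ↥(S ⊓ Subgroup.centralizer {(x : Γ)}) * c ^ 2) :=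
            Nat.mul_le_mul_left _ (Nat.mul_le_mul_left _ h3)
        _ = _ := by ring
    omega
  -- sum up
  have hsplit : ∑ x : S, F x = F 1 + ∑ x ∈ (Finset.univ : Finset S).erase 1, F x :=
    (Finset.add_sum_erase _ _ (Finset.mem_univ _)).symm
  have hrest : 2 * ∑ x ∈ (Finset.univ : Finset S).erase 1, F x ≤ (n - 1) * (n - 1) := by
    rw [Finset.mul_sum]
    calc ∑ x ∈ (Finset.univ : Finset S).erase 1, 2 * F x
        ≤ ∑ _x ∈ (Finset.univ : Finset S).erase 1, (n - 1) :=
          Finset.sum_le_sum (fun x hx => hFx2 x (Finset.ne_of_mem_erase hx))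
      _ = ((Finset.univ : Finset S).erase 1).card * (n - 1) := by
          rw [Finset.sum_const, smul_eq_mul]
      _ = (n - 1) * (n - 1) := by
          rw [Finset.card_erase_of_mem (Finset.mem_univ _), Finset.card_univ,
            ← Nat.card_eq_fintype_card]
  rw [hsplit] at hsum
  -- arithmetic
  obtain ⟨m, hm⟩ : ∃ m, n = m + 1 := ⟨n - 1, by omega⟩
  rw [hm] at hsum hF1 hrest h2k
  simp only [Nat.add_sub_cancel] at hrest
  nlinarith

end Count

end Cfsg.Agent.Lib.Helper99.InvB
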