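import Mathlib
import Cfsg.Agent.S0776
import Cfsg.Agent.Lib.Helper46.SympTorus
import Cfsg.Agent.Lib.Helper46.ClassicalEmb
import Cfsg.Agent.Lib.Helper07.SpCenter

set_option autoImplicit false

namespace Cfsg.Agent.Lib.Helper99.SpRP

section grp

theorem orderOf_mk_of_coprime {G : Type*} [Group G] (N : Subgroup G) [N.Normal] [Finite N] (g : G)
    (hcop : Nat.Coprime (orderOf g) (Nat.card N)) :
    orderOf (QuotientGroup.mk g : G ⧸ N) = orderOf g := by
  apply Nat.dvd_antisymm
  · exact orderOf_map_dvd (QuotientGroup.mk' N) g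
  · set d := orderOf (QuotientGroup.mk g : G ⧸ N) with hd
    have h1 : g ^ d ∈ N := by
      rw [← QuotientGroup.eq_one_iff, QuotientGroup.mk_pow]; exact pow_orderOf_eq_one _
    have h2 : (g ^ d) ^ Nat.card N = 1 := by
      have := pow_card_eq_one' (G := N) (x := ⟨g ^ d, h1⟩)
      exact congrArg Subtype.val this
    have h3 : orderOf g ∣ d * Nat.card N := by
      apply orderOf_dvd_of_pow_eq_one; rw [pow_mul]; exact h2
    exact hcop.dvd_of_dvd_mul_right h3

theorem exists_orderOf_of_quotient {G : Type*} [Group G] (N : Subgroup G) [N.Normal] [Finite N]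
    (m : ℕ) (hcop : Nat.Coprime m (Nat.card N)) (x : G ⧸ N) (hx : orderOf x = m) :
    ∃ g : G, orderOf g = m := by
  obtain ⟨g₀, rfl⟩ := QuotientGroup.mk_surjective x
  refine ⟨g₀ ^ Nat.card N, ?_⟩
  apply Nat.dvd_antisymm
  · apply orderOf_dvd_of_pow_eq_one
    have h1 : g₀ ^ m ∈ N := by
      rw [← QuotientGroup.eq_one_iff, QuotientGroup.mk_pow, ← hx]; exact pow_orderOf_eq_one _
    rw [← pow_mul, mul_comm, pow_mul]
    have := pow_card_eq_one' (G := N) (x := ⟨g₀ ^ m, h1⟩)
    exact congrArg Subtype.val this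
  · have h2 : orderOf ((QuotientGroup.mk g₀ : G ⧸ N) ^ Nat.card N) = m := by
      rw [← hx]; exact Nat.Coprime.orderOf_pow (by rw [hx]; exact hcop)
    rw [← h2, ← QuotientGroup.mk_pow]
    exact orderOf_map_dvd (QuotientGroup.mk' N) (g₀ ^ Nat.card N)

end grp

section unip

variable (F : Type*) [Field F] (p : ℕ) [Fact p.Prime] [CharP F p]

theorem exists_orderOf_p (m : ℕ) (hm : 1 ≤ m) :
    ∃ u : Matrix.symplecticGroup (Fin m) F, orderOf u = p := by
  let u : Matrix.symplecticGroup (Fin m) F :=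
    ⟨Matrix.fromBlocks 1 1 0 1, Cfsg.Agent.Lib.Helper07.upperBlock_mem (Matrix.transpose_one)⟩
  have hpow : ∀ j : ℕ, ((u ^ j : Matrix.symplecticGroup (Fin m) F) :
      Matrix (Fin m ⊕ Fin m) (Fin m ⊕ Fin m) F) = Matrix.fromBlocks 1 ((j : F) • 1) 0 1 := by
    intro j
    induction j with
    | zero => simp [Matrix.fromBlocks_one]
    | succ j ih =>
      rw [pow_succ]
      show ((u ^ j : Matrix.symplecticGroup (Fin m) F) :
        Matrix (Fin m ⊕ Fin m) (Fin m ⊕ Fin m) F) * Matrix.fromBlocks 1 1 0 1 = _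
      rw [ih, Matrix.fromBlocks_multiply]
      simp [add_smul, add_comm]
  refine ⟨u, orderOf_eq_prime ?_ ?_⟩
  · apply Subtype.ext
    rw [hpow, CharP.cast_eq_zero, zero_smul]
    exact Matrix.fromBlocks_one
  · intro h
    have h1 := congrArg Subtype.val h
    have h2 := congrFun (congrFun h1 (Sum.inl ⟨0, hm⟩)) (Sum.inr ⟨0, hm⟩)
    simp [u] at h2

end unip

section torus

variable {F : Type*} [Field F] [Fintype F]

theorem exists_orderOf_r_even (p : ℕ) [Fact p.Prime] [CharP F p] (η : ℕ) (hη : 0 < η) (r : ℕ) [Fact r.Prime]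
    (hr : r ∣ Fintype.card F ^ η + 1) :
    ∃ s : Matrix.symplecticGroup (Fin η) F, orderOf s = r := by
  classical
  have : NeZero (2 * η) := ⟨by omega⟩
  let K := FiniteField.Extension F p (2 * η)
  have : Fintype K := Fintype.ofFinite K
  have hfin : Module.finrank F K = 2 * η := FiniteField.finrank_extension F p (2 * η)
  have hcardK : Nat.card K = Fintype.card F ^ (2 * η) := by
    rw [FiniteField.natCard_extension, Nat.card_eq_fintype_card]
  have hcardU : Nat.card Kˣ = Fintype.card F ^ (2 * η) - 1 := by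
    rw [Nat.card_eq_fintype_card, Fintype.card_units, ← Nat.card_eq_fintype_card, hcardK]
  have hdvd : r ∣ Nat.card Kˣ := by
    rw [hcardU]
    have h1 : Fintype.card F ^ (2 * η) - 1 =
        (Fintype.card F ^ η + 1) * (Fintype.card F ^ η - 1) := by
      have hpos : 1 ≤ Fintype.card F ^ η := Nat.one_le_pow _ _ Fintype.card_pos
      obtain ⟨c, hc⟩ := Nat.exists_eq_add_of_le hpos
      rw [mul_comm 2 η, pow_mul, hc]
      have : (1 + c) ^ 2 - 1 = (1 + c + 1) * (1 + c - 1) := by
        rw [Nat.add_sub_cancel_left]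
        have : (1 + c) ^ 2 = (1 + c + 1) * c + 1 := by ring
        rw [this, Nat.add_sub_cancel]
      exact this
    rw [h1]
    exact dvd_mul_of_dvd_left hr _
  obtain ⟨ξ, hξ⟩ := exists_prime_orderOf_dvd_card' r hdvd
  let C : Subgroup Kˣ := (powMonoidHom (Fintype.card F ^ η + 1) : Kˣ →* Kˣ).ker
  have hξC : ξ ∈ C := by
    rw [MonoidHom.mem_ker, powMonoidHom_apply]
    exact orderOf_dvd_iff_pow_eq_one.mp (hξ ▸ hr)
  have hC : ∀ u ∈ C, ((u : Kˣ) : K) ^ (Fintype.card F ^ η + 1) = 1 := by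
    intro u hu
    rw [MonoidHom.mem_ker, powMonoidHom_apply] at hu
    rw [← Units.val_pow_eq_pow_val, hu, Units.val_one]
  obtain ⟨φ, hφ⟩ := Cfsg.Agent.Lib.Helper46.exists_hom_Sp_of_torus (F := F) (K := K) η hη hfin η 1
    (by omega) C hC
  refine ⟨φ (fun _ => ⟨ξ, hξC⟩), ?_⟩
  rw [orderOf_injective φ hφ, ← hξ]
  apply orderOf_eq_orderOf_iff.mpr
  intro j
  constructor
  · intro h
    have h1 := congrFun h 0
    simp only [Pi.pow_apply, Pi.one_apply] at h1
    exact congrArg (fun c : C => (c : Kˣ)) h1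
  · intro h
    funext i
    simp only [Pi.pow_apply, Pi.one_apply]
    exact Subtype.ext h

theorem exists_orderOf_r_odd (p : ℕ) [Fact p.Prime] [CharP F p] (η : ℕ) (hη : 0 < η) (r : ℕ) [Fact r.Prime]
    (hr : r ∣ Fintype.card F ^ η - 1) :
    ∃ s : Matrix.symplecticGroup (Fin η) F, orderOf s = r := by
  classical
  have : NeZero η := ⟨by omega⟩
  let K := FiniteField.Extension F p η
  have : Fintype K := Fintype.ofFinite K
  have hfin : Module.finrank F K = η := FiniteField.finrank_extension F p η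
  have hcardK : Nat.card K = Fintype.card F ^ η := by
    rw [FiniteField.natCard_extension, Nat.card_eq_fintype_card]
  have hcardU : Nat.card Kˣ = Fintype.card F ^ η - 1 := by
    rw [Nat.card_eq_fintype_card, Fintype.card_units, ← Nat.card_eq_fintype_card, hcardK]
  have hdvd : r ∣ Nat.card Kˣ := by rw [hcardU]; exact hr
  obtain ⟨ξ, hξ⟩ := exists_prime_orderOf_dvd_card' r hdvd
  let b : Module.Basis (Fin η) F K := Module.finBasisOfFinrankEq F K hfin
  let φ0 : K →* Matrix (Fin η) (Fin η) F :=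
    (Algebra.leftMulMatrix b : K →ₐ[F] Matrix (Fin η) (Fin η) F)
  let Ψ : Kˣ →* Matrix.GeneralLinearGroup (Fin η) F := Units.map φ0
  have hΨ : Function.Injective Ψ := Units.map_injective (Algebra.leftMulMatrix_injective b)
  obtain ⟨Ψ', hΨ'⟩ := Cfsg.Agent.Lib.Helper46.exists_hom_Sp Ψ hΨ
  exact ⟨Ψ' ξ, by rw [orderOf_injective Ψ' hΨ', hξ]⟩

omit [Fintype F] in
theorem exists_orderOf_rp (p : ℕ) [Fact p.Prime] [CharP F p] (n η : ℕ) (hηn : η + 1 ≤ n) (r : ℕ) (hr : r.Prime) (hrp : r ≠ p)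
    (s : Matrix.symplecticGroup (Fin η) F) (hs : orderOf s = r) :
    ∃ g : Matrix.symplecticGroup (Fin n) F, orderOf g = r * p := by
  have hpp : p.Prime := Fact.out
  obtain ⟨u, hu⟩ := exists_orderOf_p F p (n - η) (by omega)
  have hle : η ≤ n := by omega
  refine ⟨Cfsg.Agent.S0776.Psi hle (s, u), ?_⟩
  rw [orderOf_injective _ (Cfsg.Agent.S0776.Psi_injective hle), Prod.orderOf_mk, hs, hu]
  exact ((Nat.coprime_primes hr hpp).mpr hrp).lcm_eq_mul

end torus

end Cfsg.Agent.Lib.Helper99.SpRP
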