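import Cfsg.Agent.Lib.Helper99.OTsDefs
import Cfsg.Agent.Lib.Helper30.OsElE0
import Cfsg.Agent.Lib.Helper32.OsElD
import Cfsg.Agent.Lib.Helper05.OsElB

/-!
# K-OTs pack (S5973 + S5987): leaves O1 `ts_iff_ort` (597301) and O2 `exists_inv_ts_V1` (597302)
-/

set_option autoImplicit false

namespace Cfsg.Agent.Lib.Helper99.OTs

open Module Cfsg.Agent.Lib.Helper98.Elus Cfsg.Agent.Lib.Helper98.Sy

universe u
variable {F : Type u} [Field F] {V : Type u} [AddCommGroup V] [Module F V]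

/-- O1: on an invariant subspace of `V1`: totally singular = totally isotropic for the polar form (all characteristics) -/
theorem ts_iff_ort [FiniteDimensional F V] (Q : QuadraticForm F V) (r : ℕ) (hrF : (r : F) ≠ 0)
    (y : V →ₗ[F] V) (hiso : QIso Q y) (W : Submodule F V) (hW : Inv y W) (hWV1 : W ≤ V1 r y) :
    TS Q W ↔ Ort (QuadraticMap.polarBilin Q) W W := by
  constructor
  · exact TS.ort
  · intro hort
    have hW' : ∀ v ∈ W, (y - 1) v ∈ W := fun v hv => by
      rw [LinearMap.sub_apply]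
      exact W.sub_mem (hW v hv) (by simpa using hv)
    have hinj : Function.Injective ((y - 1).restrict hW') := by
      rw [← LinearMap.ker_eq_bot, eq_bot_iff]
      intro u hu
      have h1 : (y - 1).restrict hW' u = 0 := LinearMap.mem_ker.mp hu
      have h2 : (y - 1) (u : V) = 0 := by
        have := congrArg (fun z : W => (z : V)) h1
        simpa using this
      have h0 : (u : V) ∈ V0 y ⊓ V1 r y := ⟨LinearMap.mem_ker.mpr h2, hWV1 u.2⟩
      rw [V0_inf_V1 r hrF y, Submodule.mem_bot] at h0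
      rw [Submodule.mem_bot]
      exact Subtype.ext h0
    have hsurj : Function.Surjective ((y - 1).restrict hW') :=
      LinearMap.surjective_of_injective hinj
    intro w hw
    obtain ⟨u, hu⟩ := hsurj ⟨w, hw⟩
    have hwu : w = y (u : V) - (u : V) := by
      have := congrArg (fun z : W => (z : V)) hu
      simpa using this.symm
    have hp1 : QuadraticMap.polar Q (y (u : V)) (u : V) = 0 := hort (y u) (hW u u.2) u u.2
    have hp2 : QuadraticMap.polar Q (u : V) (u : V) = 0 := hort u u.2 u u.2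
    have e1 : Q (y (u : V)) = Q (y (u : V) - (u : V)) + Q (u : V) +
        QuadraticMap.polar Q (y (u : V) - (u : V)) (u : V) := by
      rw [← QuadraticMap.map_add, sub_add_cancel]
    rw [QuadraticMap.polar_sub_left, hp1, hp2, hiso (u : V)] at e1
    rw [hwu]
    linear_combination (-1 : F) * e1

/-- O2: invariant totally singular subspaces inside `V1` -/
theorem exists_inv_ts_V1 [Fintype F] [FiniteDimensional F V] (Q : QuadraticForm F V)
    (hV : NonDeg (QuadraticMap.polarBilin Q) ⊤)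
    (p f : ℕ) [Fact p.Prime] (hF : Fintype.card F = p ^ f) (r : ℕ) [Fact r.Prime] (hpr : p ≠ r) (hr2 : r ≠ 2)
    (hrF : (r : F) ≠ 0) (y : V →ₗ[F] V) (hy : y ^ r = 1) (hiso : QIso Q y) :
    cOf (orderOf ((Fintype.card F : ℕ) : ZMod r)) ∣ finrank F (V1 r y) ∧
    (Odd (orderOf ((Fintype.card F : ℕ) : ZMod r)) → ∀ b : ℕ,
      2 * (orderOf ((Fintype.card F : ℕ) : ZMod r) * b) ≤ finrank F (V1 r y) →
      ∃ Z : Submodule F V, Z ≤ V1 r y ∧ Inv y Z ∧ TS Q Z ∧
        finrank F Z = orderOf ((Fintype.card F : ℕ) : ZMod r) * b) ∧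
    (Even (orderOf ((Fintype.card F : ℕ) : ZMod r)) → ∀ b : ℕ,
      (b = 0 ∨ orderOf ((Fintype.card F : ℕ) : ZMod r) *
        (2 * b + (r - 1) / orderOf ((Fintype.card F : ℕ) : ZMod r)) ≤
        finrank F (V1 r y) + orderOf ((Fintype.card F : ℕ) : ZMod r)) →
      ∃ Z : Submodule F V, Z ≤ V1 r y ∧ Inv y Z ∧ TS Q Z ∧
        finrank F Z = orderOf ((Fintype.card F : ℕ) : ZMod r) * b) := by
  have hS := polarBilin_symm Q
  have hR : (QuadraticMap.polarBilin Q).IsRefl := fun a b h => by rw [hS]; exact h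
  have hisoB := hiso.iso
  obtain ⟨hnd0, hnd1⟩ := Cfsg.Agent.Lib.Helper05.OsEl.nonDeg_inf_parts hR r hrF y hy hisoB ⊤ hV
    (fun _ _ => Submodule.mem_top)
  rw [top_inf_eq] at hnd0 hnd1
  obtain ⟨B', y', hB', hy', hS', hV', hiso', hyr', hg', hback⟩ :=
    Cfsg.Agent.Lib.Helper30.OsEl.restrict_props hS r y hy hisoB (V1 r y) (inv_V1 r y) hnd1 le_rfl
  obtain ⟨hdvd, hDodd, hDeven⟩ :=
    Cfsg.Agent.Lib.Helper32.OsEl.exists_ts_V1top hS' hV' p f hF r hpr hr2 hrF y' hyr' hiso' hg'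
  have htrans : ∀ k : ℕ, (∃ Z : Submodule F ↥(V1 r y), Inv y' Z ∧ Ort B' Z Z ∧ finrank F Z = k) →
      ∃ Z1 : Submodule F V, Z1 ≤ V1 r y ∧ Inv y Z1 ∧ TS Q Z1 ∧ finrank F Z1 = k := by
    rintro k ⟨Z, hZinv, hZort, hZd⟩
    obtain ⟨h1, h2', h3, h4⟩ := hback Z hZinv hZort
    exact ⟨Z.map (V1 r y).subtype, h3, h1, (ts_iff_ort Q r hrF y hiso _ h1 h3).mpr h2',
      by rw [h4, hZd]⟩
  exact ⟨hdvd, fun hodd b hb => htrans _ (hDodd hodd b hb),
    fun heven b hb => htrans _ (hDeven heven b hb)⟩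

end Cfsg.Agent.Lib.Helper99.OTs
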