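import Cfsg.Agent.Lib.Helper99.OTsA
import Cfsg.Agent.Lib.Helper98.Elus15
import Cfsg.Agent.Lib.Helper98.Sy4

/-!
# K-OTs pack (S5973 + S5987): the abstract existence theorem (core, with the type rule O4 and the Witt index leaf O5 as hypotheses)
-/

set_option autoImplicit false

namespace Cfsg.Agent.Lib.Helper99.OTs

open Module Cfsg.Agent.Lib.Helper98.Elus Cfsg.Agent.Lib.Helper98.Sy

universe u
variable {F : Type u} [Field F] {V : Type u} [AddCommGroup V] [Module F V]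

/-- gluing a totally singular subspace of `V0` and an invariant totally singular subspace of `V1` -/
theorem glue_parts [FiniteDimensional F V] (Q : QuadraticForm F V) (r : ℕ) (hrF : (r : F) ≠ 0)
    (y : V →ₗ[F] V) (hy : y ^ r = 1) (hiso : QIso Q y) (Z0 Z1 : Submodule F V)
    (h0 : Z0 ≤ V0 y) (hts0 : TS Q Z0) (h1 : Z1 ≤ V1 r y) (hinv1 : Inv y Z1) (hts1 : TS Q Z1) :
    Inv y (Z0 ⊔ Z1) ∧ TS Q (Z0 ⊔ Z1) ∧ finrank F ↥(Z0 ⊔ Z1) = finrank F Z0 + finrank F Z1 := by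
  have hort01 : Ort (QuadraticMap.polarBilin Q) (V0 y) (V1 r y) :=
    Cfsg.Agent.Lib.Helper98.Sy.ort_V0_V1 r hrF y hy hiso.iso
  refine ⟨?_, ?_, ?_⟩
  · intro v hv
    obtain ⟨a, ha, b, hb, rfl⟩ := Submodule.mem_sup.mp hv
    rw [map_add]
    have ha' : y a = a := (mem_V0 y a).mp (h0 ha)
    rw [ha']
    exact Submodule.add_mem _ (Submodule.mem_sup_left ha) (Submodule.mem_sup_right (hinv1 b hb))
  · exact TS.sup hts0 hts1 (fun u hu v hv => hort01 u (h0 hu) v (h1 hv))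
  · have h := Submodule.finrank_sup_add_finrank_inf_eq Z0 Z1
    have hinf : Z0 ⊓ Z1 = ⊥ := by
      rw [eq_bot_iff, ← V0_inf_V1 r hrF y]
      exact inf_le_inf h0 h1
    rw [hinf, finrank_bot] at h
    omega

theorem exists_fixed_ts_of [Fintype F] [FiniteDimensional F V] (Q : QuadraticForm F V)
    (hV : NonDeg (QuadraticMap.polarBilin Q) ⊤) (d : ℕ) (hd : finrank F V = 2 * d)
    (p f : ℕ) [Fact p.Prime] (hF : Fintype.card F = p ^ f) (r : ℕ) [Fact r.Prime] (hpr : p ≠ r)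
    (hr2 : r ≠ 2) (hrF : (r : F) ≠ 0) (y : V →ₗ[F] V) (hy : y ^ r = 1) (hiso : QIso Q y)
    (m : ℕ) (hmd : m < d)
    (htype : PlusOn Q (V0 y) ↔ (PlusOn Q ⊤ ↔ (Odd (orderOf ((Fintype.card F : ℕ) : ZMod r)) ∨
      Even (finrank F (V1 r y) / orderOf ((Fintype.card F : ℕ) : ZMod r)))))
    (hwitt : ∀ s : ℕ, 2 * s + 2 ≤ finrank F (V0 y) →
      ∃ Z : Submodule F V, Z ≤ V0 y ∧ TS Q Z ∧ finrank F Z = s)
    (hodd : Odd (orderOf ((Fintype.card F : ℕ) : ZMod r)) → ∀ j, 1 ≤ j →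
      2 * (orderOf ((Fintype.card F : ℕ) : ZMod r) * j) ≤ 2 * d →
      (¬ PlusOn Q ⊤ → 2 * (orderOf ((Fintype.card F : ℕ) : ZMod r) * j) + 2 ≤ 2 * d) →
      ∃ b s, m = orderOf ((Fintype.card F : ℕ) : ZMod r) * b + s ∧ b ≤ j ∧
        2 * s ≤ 2 * d - 2 * (orderOf ((Fintype.card F : ℕ) : ZMod r) * j) ∧
        (¬ PlusOn Q ⊤ → 2 * s + 2 ≤ 2 * d - 2 * (orderOf ((Fintype.card F : ℕ) : ZMod r) * j)))
    (heven : Even (orderOf ((Fintype.card F : ℕ) : ZMod r)) → ∀ j, 1 ≤ j →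
      orderOf ((Fintype.card F : ℕ) : ZMod r) * j ≤ 2 * d →
      (¬ (PlusOn Q ⊤ ↔ Even j) → orderOf ((Fintype.card F : ℕ) : ZMod r) * j + 2 ≤ 2 * d) →
      ∃ b s, m = orderOf ((Fintype.card F : ℕ) : ZMod r) * b + s ∧
        (b = 0 ∨ 2 * b + (r - 1) / orderOf ((Fintype.card F : ℕ) : ZMod r) ≤ j + 1) ∧
        2 * s ≤ 2 * d - orderOf ((Fintype.card F : ℕ) : ZMod r) * j ∧
        (¬ (PlusOn Q ⊤ ↔ Even j) → 2 * s + 2 ≤ 2 * d - orderOf ((Fintype.card F : ℕ) : ZMod r) * j)) :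
    ∃ W : Submodule F V, Inv y W ∧ TS Q W ∧ finrank F W = m := by
  have hi1 : 1 ≤ orderOf ((Fintype.card F : ℕ) : ZMod r) := orderOf_card_pos p f hF r hpr
  set i := orderOf ((Fintype.card F : ℕ) : ZMod r) with hi
  have hdim : finrank F (V0 y) + finrank F (V1 r y) = 2 * d := by
    have h := finrank_inf_V0_add_inf_V1 r hrF y hy ⊤ (fun _ _ => Submodule.mem_top)
    rw [top_inf_eq, top_inf_eq, finrank_top, hd] at h
    exact h
  obtain ⟨hcdvd, hOdd, hEven⟩ := exists_inv_ts_V1 Q hV p f hF r hpr hr2 hrF y hy hiso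
  rw [← hi] at hcdvd hOdd hEven
  obtain ⟨c', hc'⟩ := cOf_even i
  -- the Witt index of `V0`
  have hZ0 : ∀ s : ℕ, 2 * s ≤ finrank F (V0 y) → (¬ PlusOn Q (V0 y) → 2 * s + 2 ≤ finrank F (V0 y)) →
      ∃ Z : Submodule F V, Z ≤ V0 y ∧ TS Q Z ∧ finrank F Z = s := by
    intro s hs1 hs2
    by_cases hlt : 2 * s + 2 ≤ finrank F (V0 y)
    · exact hwitt s hlt
    · have hplus : PlusOn Q (V0 y) := by
        by_contra hcon
        exact hlt (hs2 hcon)
      obtain ⟨Z, hZ1, hZ2, hZ3⟩ := hplus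
      refine ⟨Z, hZ1, hZ2, ?_⟩
      obtain ⟨e, he⟩ := hcdvd
      omega
  -- no blocks
  by_cases hj0 : finrank F (V1 r y) = 0
  · obtain ⟨Z, hZ1, hZ2, hZ3⟩ := hwitt m (by omega)
    refine ⟨Z, ?_, hZ2, hZ3⟩
    intro v hv
    rw [(mem_V0 y v).mp (hZ1 hv)]
    exact hv
  have hV0bot : finrank F (V0 y) = 0 → PlusOn Q (V0 y) := by
    intro h0
    have : V0 y = ⊥ := Submodule.finrank_eq_zero.mp h0
    rw [this]
    exact plusOn_bot Q
  rcases Nat.even_or_odd i with hie | hio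
  · -- `i` even
    have hci : cOf i = i := by
      unfold cOf
      rw [if_pos hie]
    rw [hci] at hcdvd
    obtain ⟨j, hj⟩ := hcdvd
    have hj1 : 1 ≤ j := by
      rcases Nat.eq_zero_or_pos j with h | h
      · rw [h, mul_zero] at hj
        exact absurd hj hj0
      · exact h
    have hdiv : finrank F (V1 r y) / i = j := by
      rw [hj]
      exact Nat.mul_div_cancel_left j (by omega)
    rw [hdiv] at htype
    have htype' : PlusOn Q (V0 y) ↔ (PlusOn Q ⊤ ↔ Even j) := by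
      rw [htype]
      constructor
      · intro h
        rw [h]
        constructor
        · rintro (h1 | h1)
          · exact absurd hie (Nat.not_even_iff_odd.mpr h1)
          · exact h1
        · intro h1
          exact Or.inr h1
      · intro h
        rw [h]
        constructor
        · intro h1
          exact Or.inr h1
        · rintro (h1 | h1)
          · exact absurd hie (Nat.not_even_iff_odd.mpr h1)
          · exact h1
    have hadm : ¬ (PlusOn Q ⊤ ↔ Even j) → i * j + 2 ≤ 2 * d := by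
      intro hcon
      have h1 : ¬ PlusOn Q (V0 y) := fun h => hcon (htype'.mp h)
      have h2 : finrank F (V0 y) ≠ 0 := fun h => h1 (hV0bot h)
      have hpar : Even (i * j) := hie.mul_right j
      obtain ⟨e, he⟩ := hpar
      omega
    obtain ⟨b, s, hm, hb, hs1, hs2⟩ := heven hie j hj1 (by omega) hadm
    obtain ⟨Z1, hZ1a, hZ1b, hZ1c, hZ1d⟩ := hEven hie b (by
      rcases hb with hb | hb
      · left; exact hb
      · right
        rw [hj]
        calc i * (2 * b + (r - 1) / i) ≤ i * (j + 1) := Nat.mul_le_mul_left i hb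
          _ = i * j + i := by ring)
    obtain ⟨Z0, hZ0a, hZ0b, hZ0c⟩ := hZ0 s (by omega) (by
      intro hcon
      have := hs2 (fun h => hcon (htype'.mpr h))
      omega)
    obtain ⟨g1, g2, g3⟩ := glue_parts Q r hrF y hy hiso Z0 Z1 hZ0a hZ0b hZ1a hZ1b hZ1c
    exact ⟨Z0 ⊔ Z1, g1, g2, by rw [g3, hZ0c, hZ1d]; omega⟩
  · -- `i` odd
    have hci : cOf i = 2 * i := by
      unfold cOf
      rw [if_neg (Nat.not_even_iff_odd.mpr hio)]
    rw [hci] at hcdvd
    obtain ⟨j, hj⟩ := hcdvd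
    have hj1 : 1 ≤ j := by
      rcases Nat.eq_zero_or_pos j with h | h
      · rw [h, mul_zero] at hj
        exact absurd hj hj0
      · exact h
    have htype' : PlusOn Q (V0 y) ↔ PlusOn Q ⊤ := by
      rw [htype]
      constructor
      · intro h
        exact h.mpr (Or.inl hio)
      · intro h
        exact ⟨fun _ => Or.inl hio, fun _ => h⟩
    have hij : 2 * i * j = 2 * (i * j) := by ring
    have hadm : ¬ PlusOn Q ⊤ → 2 * (i * j) + 2 ≤ 2 * d := by
      intro hcon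
      have h1 : ¬ PlusOn Q (V0 y) := fun h => hcon (htype'.mp h)
      have h2 : finrank F (V0 y) ≠ 0 := fun h => h1 (hV0bot h)
      omega
    obtain ⟨b, s, hm, hb, hs1, hs2⟩ := hodd hio j hj1 (by omega) hadm
    obtain ⟨Z1, hZ1a, hZ1b, hZ1c, hZ1d⟩ := hOdd hio b (by
      rw [hj, hij]
      have := Nat.mul_le_mul_left i hb
      omega)
    obtain ⟨Z0, hZ0a, hZ0b, hZ0c⟩ := hZ0 s (by omega) (by
      intro hcon
      have := hs2 (fun h => hcon (htype'.mpr h))
      omega)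
    obtain ⟨g1, g2, g3⟩ := glue_parts Q r hrF y hy hiso Z0 Z1 hZ0a hZ0b hZ1a hZ1b hZ1c
    exact ⟨Z0 ⊔ Z1, g1, g2, by rw [g3, hZ0c, hZ1d]; omega⟩

end Cfsg.Agent.Lib.Helper99.OTs
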