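import Mathlib
import Cfsg.Agent.Lib.Helper49.RSU3Defs

set_option autoImplicit false
set_option linter.unusedSectionVars false
set_option linter.unusedVariables false

namespace Cfsg.Agent.Lib.Helper99.RSU3

open Matrix Cfsg.Agent.Lib.Helper49.StSU Cfsg.Agent.Lib.Helper49.RSU3

variable {F : Type*} [Field F] [Fintype F] {q : ℕ}

/-- L16 -/
theorem span_five (hq5 : q = 5) (hF : Fintype.card F = q ^ 2) (c : F) (hc : c ^ 5 ≠ c)
    (S : Set F) (h1 : (1 : F) ∈ S)
    (hadd : ∀ a ∈ S, ∀ b ∈ S, a + b ∈ S) (hmul : ∀ a ∈ S, c * a ∈ S) : ∀ x : F, x ∈ S := by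
  classical
  have hcard : Fintype.card F = 25 := by rw [hF, hq5]; norm_num
  have h25 : ((25 : ℕ) : F) = 0 := by rw [← hcard]; exact Nat.cast_card_eq_zero F
  have h5 : ((5 : ℕ) : F) = 0 := by
    have : ((5 : ℕ) : F) * ((5 : ℕ) : F) = 0 := by rw [← Nat.cast_mul]; exact h25
    exact mul_self_eq_zero.mp this
  have hr : ringChar F = 5 := CharP.ringChar_of_prime_eq_zero Nat.prime_five h5
  have : CharP F 5 := hr ▸ ringChar.charP F
  have : Fact (Nat.Prime 5) := ⟨Nat.prime_five⟩
  let φ : ZMod 5 →+* F := ZMod.castHom (dvd_refl 5) F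
  have hφinj : Function.Injective φ := φ.injective
  have hφ5 : ∀ z : ZMod 5, φ z ^ 5 = φ z := fun z => by
    rw [← map_pow]
    congr 1
    exact ZMod.pow_card z
  have hnat : ∀ n : ℕ, ((n + 1 : ℕ) : F) ∈ S := by
    intro n
    induction n with
    | zero => simpa using h1
    | succ k ih =>
      have := hadd _ ih _ h1
      rw [Nat.cast_add (k + 1) 1, Nat.cast_one]
      exact this
  have hzero : (0 : F) ∈ S := by
    have := hnat 4
    rwa [show ((4 + 1 : ℕ) : F) = 0 from h5] at this
  have hφS : ∀ a : ZMod 5, φ a ∈ S := by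
    intro a
    have ha : φ a = ((a.val : ℕ) : F) := by
      rw [← map_natCast φ, ZMod.natCast_zmod_val]
    rw [ha]
    rcases Nat.eq_zero_or_pos a.val with h | h
    · rw [h, Nat.cast_zero]; exact hzero
    · obtain ⟨k, hk⟩ := Nat.exists_eq_succ_of_ne_zero h.ne'
      rw [hk]; exact hnat k
  let f : ZMod 5 × ZMod 5 → F := fun p => φ p.1 + φ p.2 * c
  have hfinj : Function.Injective f := by
    rintro ⟨x, y⟩ ⟨x', y'⟩ h
    simp only [f] at h
    by_cases hy : y = y'
    · subst hy
      have : φ x = φ x' := add_right_cancel h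
      rw [hφinj this]
    · exfalso
      apply hc
      have hne : φ y - φ y' ≠ 0 := by
        intro h0
        exact hy (hφinj (sub_eq_zero.mp h0))
      have hceq : c = φ ((x' - x) / (y - y')) := by
        rw [map_div₀, map_sub, map_sub, eq_div_iff hne]
        linear_combination h
      rw [hceq, hφ5]
  have hfbij : Function.Bijective f := by
    rw [Fintype.bijective_iff_injective_and_card]
    refine ⟨hfinj, ?_⟩
    rw [Fintype.card_prod, ZMod.card, hcard]
  intro x
  obtain ⟨⟨a, b⟩, rfl⟩ := hfbij.2 x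
  show φ a + φ b * c ∈ S
  rw [mul_comm]
  exact hadd _ (hφS a) _ (hmul _ (hφS b))

end Cfsg.Agent.Lib.Helper99.RSU3
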