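import Mathlib
import Cfsg.Agent.Lib.Helper69.StNDefs

set_option autoImplicit false

/-!
# K-StN pack (S2401), leaf A12 (keystone 240101, architect helper69): `conj_far`, `conj_row`
-/

namespace Cfsg.Agent.Lib.Helper99.StN

open Cfsg.Agent.Lib.Helper69.StN Matrix

variable {n : ℕ} {K : Type*} [Field K] {S : Type*} [Group S] {X : Fin n → Fin n → K → S}

/-- conjugation by a commuting root element -/
theorem conj_comm (hX : IsSt X) {i j k l : Fin n} (hij : i ≠ j) (hkl : k ≠ l) (hil : i ≠ l)
    (hjk : j ≠ k) (s t : K) : X i j s * X k l t * (X i j s)⁻¹ = X k l t := by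
  rw [hX.comm i j k l hij hkl hil hjk s t, mul_assoc, mul_inv_cancel, mul_one]

/-- the commutator relation as a conjugation formula -/
theorem conj_three (hX : IsSt X) {a b c : Fin n} (hab : a ≠ b) (hbc : b ≠ c) (hac : a ≠ c)
    (s r : K) : X a b s * X b c r * (X a b s)⁻¹ = X a c (s * r) * X b c r := by
  rw [← hX.comm3 a b c hab hbc hac s r]
  group

theorem conj_far (hX : IsSt X) {i j k l : Fin n} (hij : i ≠ j) (hkl : k ≠ l)
    (hki : k ≠ i) (hkj : k ≠ j) (hli : l ≠ i) (hlj : l ≠ j) (u t : K) :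
    w X i j u * X k l t * (w X i j u)⁻¹ = X k l t := by
  have h1 : ∀ s : K, X i j s * X k l t = X k l t * X i j s := fun s =>
    hX.comm i j k l hij hkl hli.symm hkj.symm s t
  have h2 : ∀ s : K, X j i s * X k l t = X k l t * X j i s := fun s =>
    hX.comm j i k l hij.symm hkl hlj.symm hki.symm s t
  have h3 : w X i j u * X k l t = X k l t * w X i j u := by
    unfold w
    calc X i j u * X j i (-u⁻¹) * X i j u * X k l t
        = X i j u * X j i (-u⁻¹) * (X i j u * X k l t) := by group
      _ = X i j u * X j i (-u⁻¹) * (X k l t * X i j u) := by rw [h1]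
      _ = X i j u * (X j i (-u⁻¹) * X k l t) * X i j u := by group
      _ = X i j u * (X k l t * X j i (-u⁻¹)) * X i j u := by rw [h2]
      _ = (X i j u * X k l t) * X j i (-u⁻¹) * X i j u := by group
      _ = (X k l t * X i j u) * X j i (-u⁻¹) * X i j u := by rw [h1]
      _ = X k l t * (X i j u * X j i (-u⁻¹) * X i j u) := by group
  rw [h3, mul_assoc, mul_inv_cancel, mul_one]

theorem conj_row (hX : IsSt X) {i j k : Fin n} (hij : i ≠ j) (hik : i ≠ k) (hjk : j ≠ k)
    {u : K} (hu : u ≠ 0) (t : K) :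
    w X i j u * X i k t * (w X i j u)⁻¹ = X j k (-u⁻¹ * t) ∧
    w X i j u * X j k t * (w X i j u)⁻¹ = X i k (u * t) := by
  -- the two root elements on the column `k` commute
  have hcomm : ∀ s r : K, X i k s * X j k r = X j k r * X i k s := fun s r =>
    hX.comm i k j k hik hjk hik hjk.symm s r
  have hw : ∀ Y : S, w X i j u * Y * (w X i j u)⁻¹ =
      X i j u * (X j i (-u⁻¹) * (X i j u * Y * (X i j u)⁻¹) * (X j i (-u⁻¹))⁻¹) * (X i j u)⁻¹ := by
    intro Y
    unfold w
    group
  constructor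
  · rw [hw]
    -- step 1: `X i j u` commutes with `X i k t`
    rw [conj_comm hX hij hik hik hij.symm u t]
    -- step 2
    rw [conj_three hX hij.symm hik hjk (-u⁻¹) t]
    -- step 3
    have e : X i j u * (X j k (-u⁻¹ * t) * X i k t) * (X i j u)⁻¹ =
        (X i j u * X j k (-u⁻¹ * t) * (X i j u)⁻¹) * (X i j u * X i k t * (X i j u)⁻¹) := by group
    rw [e, conj_three hX hij hjk hik u (-u⁻¹ * t), conj_comm hX hij hik hik hij.symm u t]
    have e2 : u * (-u⁻¹ * t) = -t := by
      field_simp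
    rw [e2]
    calc X i k (-t) * X j k (-u⁻¹ * t) * X i k t
        = X j k (-u⁻¹ * t) * (X i k (-t) * X i k t) := by rw [hcomm, mul_assoc]
      _ = X j k (-u⁻¹ * t) := by rw [hX.add i k hik, neg_add_cancel, hX.zero hik, mul_one]
  · rw [hw]
    -- step 1
    rw [conj_three hX hij hjk hik u t]
    -- step 2
    have e : X j i (-u⁻¹) * (X i k (u * t) * X j k t) * (X j i (-u⁻¹))⁻¹ =
        (X j i (-u⁻¹) * X i k (u * t) * (X j i (-u⁻¹))⁻¹) *
          (X j i (-u⁻¹) * X j k t * (X j i (-u⁻¹))⁻¹) := by group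
    rw [e, conj_three hX hij.symm hik hjk (-u⁻¹) (u * t),
      conj_comm hX hij.symm hjk hjk hij (-u⁻¹) t]
    have e2 : -u⁻¹ * (u * t) = -t := by
      field_simp
    rw [e2]
    have e3 : X j k (-t) * X i k (u * t) * X j k t = X i k (u * t) := by
      rw [← hcomm, mul_assoc, hX.add j k hjk, neg_add_cancel, hX.zero hjk, mul_one]
    rw [e3]
    -- step 3
    exact conj_comm hX hij hik hik hij.symm u (u * t)

end Cfsg.Agent.Lib.Helper99.StN
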