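import Mathlib
import Cfsg.Agent.Lib.Helper32.BG151B
import Cfsg.Agent.Lib.Helper48.BG144G1
import Cfsg.Agent.Lib.Helper31.FittingHall
import Cfsg.Agent.Lib.Helper33.CNFrob
import Cfsg.Agent.Lib.Helper71.BG11a
import Cfsg.Agent.Lib.Helper55.Basic
import Cfsg.Agent.S1350

/-!
# K-1381-E1 (keystone 138105, architect helper71): `(M')_F = M_F` for type `P₂`
-/

set_option autoImplicit false

namespace Cfsg.Agent.Lib.Helper99.BG1381

open Cfsg Subgroup

variable {G : Type*} [Group G] [Finite G]

omit [Finite G] in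
/-- `|D| * D.relIndex M = |M|` for `D ≤ M`. -/
theorem card_mul_relIndex_of_le {D M : Subgroup G} (h : D ≤ M) :
    Nat.card D * D.relIndex M = Nat.card M := by
  have h1 := Subgroup.card_mul_index (D.subgroupOf M)
  have h2 : Nat.card ↥(D.subgroupOf M) = Nat.card D :=
    Nat.card_congr (Subgroup.subgroupOfEquivOfLe h).toEquiv
  rw [h2] at h1
  exact h1

omit [Finite G] in
/-- the derived subgroup of `M` is normalized by `M` -/
theorem cj_commutator_self {M : Subgroup G} {m : G} (hm : m ∈ M) :
    Cfsg.Agent.Lib.Helper55.cj m ⁅M, M⁆ = ⁅M, M⁆ := by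
  have h1 : Cfsg.Agent.Lib.Helper55.cj m M = M := Cfsg.Agent.Lib.Helper55.cj_eq_self_of_mem hm
  show (⁅M, M⁆).map (MulAut.conj m).toMonoidHom = ⁅M, M⁆
  rw [Subgroup.map_commutator]
  have h2 : M.map (MulAut.conj m).toMonoidHom = M := h1
  rw [h2]

/-- the version of the keystone with the derived subgroup abstracted -/
theorem fittingHallOf_derived_aux (hG : IsMinSimpleOddOrder G) {M K U D : Subgroup G}
    (hM : IsCoatom M) (hDdef : D = ⁅M, M⁆)
    (hKU : IsSigmaDecomposition M K U) (hp : (Nat.card K).Prime)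
    (hnil : Group.IsNilpotent (sigmaCore M)) (hF : fittingHallOf M = sigmaCore M)
    (hd : D = U ⊔ sigmaCore M) (hcompl : IsComplIn D K M) :
    fittingHallOf D = fittingHallOf M := by
  have hDM : D ≤ M := hcompl.1
  have hSD : sigmaCore M ≤ D := by
    rw [hd]; exact le_sup_right
  have hS := Cfsg.Agent.S1350.result hG M hM
  apply le_antisymm
  · -- `(M')_F ≤ M_F`
    have hFD : fittingHallOf D ≤ D := Cfsg.Agent.Lib.Helper31.fittingHallOf_le _
    have hFM : fittingHallOf D ≤ M := le_trans hFD hDM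
    -- normalized by `M`
    have hnorm : M ≤ normalizer (fittingHallOf D : Set G) := by
      intro m hm
      rw [← Cfsg.Agent.Lib.Helper55.cj_eq_self_iff]
      have h1 : fittingHallOf (Cfsg.Agent.Lib.Helper55.cj m D)
          = Cfsg.Agent.Lib.Helper55.cj m (fittingHallOf D) :=
        Cfsg.Agent.Lib.Helper48.BG144.fittingHallOf_cj m D
      have h2 : Cfsg.Agent.Lib.Helper55.cj m D = D := by
        rw [hDdef]; exact cj_commutator_self hm
      rw [h2] at h1
      exact h1.symm
    -- nilpotent
    have hnil' : Group.IsNilpotent ↥(fittingHallOf D) := by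
      have hn := Cfsg.Agent.Lib.Helper33.fittingHall_isNilpotent ↥D
      exact Group.nilpotent_of_mulEquiv
        ((fittingHall ↥D).equivMapOfInjective D.subtype D.subtype_injective)
    -- orders
    have hc1 : Nat.card D * Nat.card K = Nat.card M :=
      Cfsg.Agent.Lib.Helper31.IsComplIn.card_mul hcompl
    have hc2 := card_mul_relIndex_of_le hDM
    have hc3 := card_mul_relIndex_of_le hKU.hall.1
    have hDpos : 0 < Nat.card D := Nat.card_pos
    have hKpos : 0 < Nat.card K := Nat.card_pos
    have hrelD : D.relIndex M = Nat.card K := by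
      apply Nat.eq_of_mul_eq_mul_left hDpos
      rw [hc2, hc1]
    have hrelK : K.relIndex M = Nat.card D := by
      apply Nat.eq_of_mul_eq_mul_left hKpos
      rw [hc3, ← hc1, mul_comm]
    have hpk : Nat.card K ∈ kappa M := hKU.hall.2.1 _ hp dvd_rfl
    have hpD : ¬ Nat.card K ∣ Nat.card D := by
      have := hKU.hall.2.2 _ hp hpk
      rwa [hrelK] at this
    have hpF : ¬ Nat.card K ∣ Nat.card (fittingHallOf D) := fun h =>
      hpD (dvd_trans h (Subgroup.card_dvd_of_le hFD))
    have hsub : (fittingHallOf D).subgroupOf D = fittingHall ↥D := by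
      show ((fittingHall ↥D).map D.subtype).comap D.subtype = _
      exact Subgroup.comap_map_eq_self_of_injective D.subtype_injective _
    have hcopD : (Nat.card (fittingHallOf D)).Coprime ((fittingHallOf D).relIndex D) := by
      rw [Cfsg.Agent.Lib.Helper31.card_fittingHallOf]
      show (Nat.card (fittingHall ↥D)).Coprime ((fittingHallOf D).subgroupOf D).index
      rw [hsub]
      exact Cfsg.Agent.Lib.Helper31.fittingHall_coprime ↥D
    have hcop : (Nat.card (fittingHallOf D)).Coprime ((fittingHallOf D).relIndex M) := by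
      rw [← Subgroup.relIndex_mul_relIndex _ _ _ hFD hDM, hrelD]
      apply Nat.Coprime.mul_right hcopD
      exact ((Nat.Prime.coprime_iff_not_dvd hp).2 hpF).symm
    exact Cfsg.Agent.Lib.Helper32.BG151.le_fittingHallOf hFM hnorm hnil' hcop
  · -- `M_F = M_σ ≤ (M')_F`
    rw [hF]
    apply Cfsg.Agent.Lib.Helper32.BG151.le_fittingHallOf hSD
    · exact le_trans hDM (Cfsg.Agent.Lib.Helper71.BG11.le_normalizer_sigmaCore M)
    · exact hnil
    · apply Nat.coprime_of_dvd
      intro r hr hr1 hr2
      have hrs : r ∈ sigma M := hS.1.2.1 r hr hr1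
      have hnd : ¬ r ∣ (sigmaCore M).relIndex M := hS.1.2.2 r hr hrs
      apply hnd
      rw [← Subgroup.relIndex_mul_relIndex _ _ _ hSD hDM]
      exact Dvd.dvd.mul_right hr2 _

/-- KEYSTONE 138105  K-1381-E1. -/
theorem fittingHallOf_derived (hG : IsMinSimpleOddOrder G) {M K U : Subgroup G} (hM : IsCoatom M)
    (hKU : IsSigmaDecomposition M K U) (hp : (Nat.card K).Prime)
    (hnil : Group.IsNilpotent (sigmaCore M)) (hF : fittingHallOf M = sigmaCore M)
    (hd : ⁅M, M⁆ = U ⊔ sigmaCore M) (hcompl : IsComplIn ⁅M, M⁆ K M) :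
    fittingHallOf ⁅M, M⁆ = fittingHallOf M :=
  fittingHallOf_derived_aux hG hM rfl hKU hp hnil hF hd hcompl

end Cfsg.Agent.Lib.Helper99.BG1381
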