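import Mathlib
import Cfsg.Agent.Lib.Helper45.SLCard

/-!
# Semisimple elements commuting with unipotent elements in `SL_n(q)` / `PSL_n(q)`

Orbit counting on invariant subspaces (`core_false`), lifting commuting pairs from `PSL_n` to `SL_n`
(`lift_commute`, `exists_nilpotent`), and divisibility of `|SL_m(q)|` by primes dividing `q^j - 1`.
-/

set_option autoImplicit false

namespace Cfsg.Agent.Lib.Helper99.UnipCent


section core

variable {F V : Type*} [Field F] [AddCommGroup V] [Module F V] [Finite V]

/-- orbit counting for an operator of prime order on an invariant subspace -/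
theorem card_inv_modEq (X : V →ₗ[F] V) (r : ℕ) [Fact r.Prime] (hX : X ^ r = 1)
    (U : Submodule F V) (hU : ∀ u ∈ U, X u ∈ U) :
    Nat.card U ≡ Nat.card ↥(U ⊓ LinearMap.ker (X - 1)) [MOD r] := by
  classical
  have : Fintype U := Fintype.ofFinite _
  let Y : U →ₗ[F] U := X.restrict hU
  have hY : Y ^ r = 1 := by
    rw [Module.End.pow_restrict]
    ext u
    simp [hX]
  let f : Function.End U := (Y : U → U)
  have hf : f ^ r ^ 1 = 1 := by
    rw [pow_one]
    have h1 : ((f ^ r : Function.End U) : U → U) = (f : U → U)^[r] :=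
      hom_coe_pow (fun g : Function.End U ↦ (g : U → U)) rfl (fun g h ↦ rfl) f r
    have h2 : ((Y ^ r : U →ₗ[F] U) : U → U) = (Y : U → U)^[r] := Module.End.coe_pow Y r
    have h3 : (f ^ r : Function.End U) = ((Y ^ r : U →ₗ[F] U) : U → U) := by
      rw [h2]; exact h1
    rw [h3, hY]
    rfl
  have hmain := Equiv.Perm.card_fixedPoints_modEq (p := r) (n := 1) hf
  rw [← Nat.card_eq_fintype_card, ← Nat.card_eq_fintype_card] at hmain
  have hfix : ∀ u : U, u ∈ Function.fixedPoints f ↔ (u : V) ∈ U ⊓ LinearMap.ker (X - 1) := by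
    intro u
    rw [Submodule.mem_inf, LinearMap.mem_ker, LinearMap.sub_apply, sub_eq_zero]
    constructor
    · intro h
      have h' : Y u = u := h
      have h'' : X (u : V) = (u : V) := congrArg Subtype.val h'
      exact ⟨u.2, by simpa using h''⟩
    · rintro ⟨_, h⟩
      change Y u = u
      apply Subtype.ext
      change X (u : V) = (u : V)
      simpa using h
  have e : ↥(Function.fixedPoints f) ≃ ↥(U ⊓ LinearMap.ker (X - 1)) :=
    { toFun := fun u => ⟨(u.1 : V), (hfix u.1).mp u.2⟩
      invFun := fun w => ⟨⟨w.1, w.2.1⟩, (hfix ⟨w.1, w.2.1⟩).mpr w.2⟩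
      left_inv := fun u => rfl
      right_inv := fun w => rfl }
  rw [Nat.card_congr e] at hmain
  exact hmain

/-- the dichotomy on dimensions of invariant subspaces -/
theorem finrank_dichotomy (X : V →ₗ[F] V) (r : ℕ) [Fact r.Prime] (hX : X ^ r = 1)
    (hr : Nat.Coprime (Nat.card F) r) (m : ℕ)
    (H : ∀ j, 1 ≤ j → j ≤ m → ¬ (Nat.card F ^ j ≡ 1 [MOD r]))
    (U : Submodule F V) (hU : ∀ u ∈ U, X u ∈ U) :
    Module.finrank F ↥(U ⊓ LinearMap.ker (X - 1)) = Module.finrank F U ∨
      m + 1 + Module.finrank F ↥(U ⊓ LinearMap.ker (X - 1)) ≤ Module.finrank F U := by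
  have h := card_inv_modEq X r hX U hU
  rw [Module.natCard_eq_pow_finrank (K := F) (V := U),
    Module.natCard_eq_pow_finrank (K := F) (V := ↥(U ⊓ LinearMap.ker (X - 1)))] at h
  have hle : Module.finrank F ↥(U ⊓ LinearMap.ker (X - 1)) ≤ Module.finrank F U :=
    Submodule.finrank_mono inf_le_left
  set d := Module.finrank F U
  set d' := Module.finrank F ↥(U ⊓ LinearMap.ker (X - 1))
  obtain ⟨k, hk⟩ := Nat.exists_eq_add_of_le hle
  rw [hk, pow_add] at h
  have h1 : Nat.card F ^ k ≡ 1 [MOD r] := by
    have h2 : Nat.card F ^ d' * Nat.card F ^ k ≡ Nat.card F ^ d' * 1 [MOD r] := by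
      rw [mul_one]; exact h
    have hc : Nat.Coprime r (Nat.card F ^ d') := (Nat.Coprime.pow_left _ hr).symm
    exact Nat.ModEq.cancel_left_of_coprime hc h2
  rcases Nat.eq_zero_or_pos k with h0 | hpos
  · left; omega
  · right
    by_contra hlt
    exact H k hpos (by omega) h1

omit [Finite V] in
/-- a nonzero nilpotent map has a nonzero vector in both its kernel and its range -/
theorem ker_inf_range_ne_bot [Nontrivial V] (N : V →ₗ[F] V) (hN : IsNilpotent N) (hN0 : N ≠ 0) :
    LinearMap.ker N ⊓ LinearMap.range N ≠ ⊥ := by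
  classical
  have hex : ∃ t, N ^ t = 0 := hN
  set t := Nat.find hex with ht
  have htz : N ^ t = 0 := Nat.find_spec hex
  have ht2 : 2 ≤ t := by
    by_contra hlt
    have : t = 0 ∨ t = 1 := by omega
    rcases this with h0 | h1
    · rw [h0, pow_zero] at htz
      exact one_ne_zero htz
    · rw [h1, pow_one] at htz
      exact hN0 htz
  have hmin : N ^ (t - 1) ≠ 0 := Nat.find_min hex (by omega)
  obtain ⟨v, hv⟩ : ∃ v, (N ^ (t - 1)) v ≠ 0 := by
    by_contra hcon
    push Not at hcon
    exact hmin (LinearMap.ext hcon)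
  intro hbot
  apply hv
  have hmem : (N ^ (t - 1)) v ∈ LinearMap.ker N ⊓ LinearMap.range N := by
    refine ⟨?_, ?_⟩
    · rw [SetLike.mem_coe, LinearMap.mem_ker, ← Module.End.mul_apply, ← pow_succ',
        show t - 1 + 1 = t by omega, htz]
      rfl
    · refine ⟨(N ^ (t - 2)) v, ?_⟩
      rw [← Module.End.mul_apply, ← pow_succ', show t - 2 + 1 = t - 1 by omega]
  rw [hbot] at hmem
  exact (Submodule.mem_bot F).mp hmem

/-- the core contradiction -/
theorem core_false (X N : V →ₗ[F] V) (r : ℕ) [Fact r.Prime] (hX : X ^ r = 1) (hX1 : X ≠ 1)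
    (hN : IsNilpotent N) (hN0 : N ≠ 0) (hcomm : ∀ v, N (X v) = X (N v))
    (hr : Nat.Coprime (Nat.card F) r) (hn : 3 ≤ Module.finrank F V)
    (H : ∀ j, 1 ≤ j → j ≤ Module.finrank F V - 2 → ¬ (Nat.card F ^ j ≡ 1 [MOD r])) : False := by
  have : Nontrivial V := Module.nontrivial_of_finrank_pos (R := F) (by omega)
  -- invariance
  have hK : ∀ u ∈ LinearMap.ker N, X u ∈ LinearMap.ker N := by
    intro u hu
    rw [LinearMap.mem_ker] at hu ⊢
    rw [hcomm, hu, map_zero]
  have hI : ∀ u ∈ LinearMap.range N, X u ∈ LinearMap.range N := by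
    rintro _ ⟨v, rfl⟩
    exact ⟨X v, hcomm v⟩
  have hT : ∀ u ∈ (⊤ : Submodule F V), X u ∈ (⊤ : Submodule F V) := fun _ _ => Submodule.mem_top
  -- the fixed space has dimension at most one
  have hf : Module.finrank F (LinearMap.ker (X - 1)) ≤ 1 := by
    have h := finrank_dichotomy X r hX hr (Module.finrank F V - 2) H ⊤ hT
    rw [top_inf_eq, finrank_top] at h
    rcases h with h | h
    · exfalso
      apply hX1
      have htop : (LinearMap.ker (X - 1)) = ⊤ := Submodule.eq_top_of_finrank_eq h
      ext v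
      have hv : v ∈ (LinearMap.ker (X - 1)) := by rw [htop]; exact Submodule.mem_top
      rw [LinearMap.mem_ker, LinearMap.sub_apply, sub_eq_zero] at hv
      exact hv
    · omega
  have hrn := LinearMap.finrank_range_add_finrank_ker N
  have hkn : Module.finrank F (LinearMap.ker N) < Module.finrank F V := by
    by_contra hge
    have hle : Module.finrank F (LinearMap.ker N) ≤ Module.finrank F V := Submodule.finrank_le _
    have htop : LinearMap.ker N = ⊤ := Submodule.eq_top_of_finrank_eq (by omega)
    exact hN0 (LinearMap.ker_eq_top.mp htop)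
  have hJ := ker_inf_range_ne_bot N hN hN0
  have hk1 : 1 ≤ Module.finrank F (LinearMap.ker N) := by
    by_contra hlt
    have h0 : Module.finrank F (LinearMap.ker N) = 0 := by omega
    have hb : LinearMap.ker N = ⊥ := Submodule.finrank_eq_zero.mp h0
    apply hJ
    rw [hb, bot_inf_eq]
  have dK := finrank_dichotomy X r hX hr (Module.finrank F V - 2) H (LinearMap.ker N) hK
  have dI := finrank_dichotomy X r hX hr (Module.finrank F V - 2) H (LinearMap.range N) hI
  rcases dK with dK | dK
  · -- the kernel lies in the fixed space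
    have hKle : LinearMap.ker N ≤ (LinearMap.ker (X - 1)) := by
      have := Submodule.eq_of_le_of_finrank_eq (inf_le_left : LinearMap.ker N ⊓ (LinearMap.ker (X - 1)) ≤ LinearMap.ker N) dK
      rw [← this]; exact inf_le_right
    have hk : Module.finrank F (LinearMap.ker N) ≤ 1 := le_trans (Submodule.finrank_mono hKle) hf
    rcases dI with dI | dI
    · have hIle : LinearMap.range N ≤ (LinearMap.ker (X - 1)) := by
        have := Submodule.eq_of_le_of_finrank_eq
          (inf_le_left : LinearMap.range N ⊓ (LinearMap.ker (X - 1)) ≤ LinearMap.range N) dI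
        rw [← this]; exact inf_le_right
      have hi : Module.finrank F (LinearMap.range N) ≤ 1 := le_trans (Submodule.finrank_mono hIle) hf
      omega
    · have h0 : Module.finrank F ↥(LinearMap.range N ⊓ (LinearMap.ker (X - 1))) = 0 := by omega
      have hb : LinearMap.range N ⊓ (LinearMap.ker (X - 1)) = ⊥ := Submodule.finrank_eq_zero.mp h0
      apply hJ
      rw [eq_bot_iff, ← hb]
      exact le_inf inf_le_right (le_trans inf_le_left hKle)
  · have h0 : Module.finrank F ↥(LinearMap.ker N ⊓ (LinearMap.ker (X - 1))) = 0 := by omega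
    have hb : LinearMap.ker N ⊓ (LinearMap.ker (X - 1)) = ⊥ := Submodule.finrank_eq_zero.mp h0
    rcases dI with dI | dI
    · have hIle : LinearMap.range N ≤ (LinearMap.ker (X - 1)) := by
        have := Submodule.eq_of_le_of_finrank_eq
          (inf_le_left : LinearMap.range N ⊓ (LinearMap.ker (X - 1)) ≤ LinearMap.range N) dI
        rw [← this]; exact inf_le_right
      apply hJ
      rw [eq_bot_iff, ← hb]
      exact le_inf inf_le_left (le_trans inf_le_right hIle)
    · omega

end core

section lift

variable {F : Type*} [Field F] [Fintype F] (p : ℕ) [Fact p.Prime] [CharP F p] {n : ℕ}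

local notation "S" => Matrix.SpecialLinearGroup (Fin n) F
local notation "P" => Matrix.ProjectiveSpecialLinearGroup (Fin n) F

/-- central-commutator power rule -/
theorem pow_mul_comm_central {G : Type*} [Group G] (A B z : G) (hz : z ∈ Subgroup.center G)
    (h : A * B = B * A * z) (k : ℕ) : A ^ k * B = B * A ^ k * z ^ k := by
  induction k with
  | zero => simp
  | succ k ih =>
    have hzc : ∀ g : G, g * z = z * g := fun g => Subgroup.mem_center_iff.mp hz g
    have hzk : ∀ g : G, g * z ^ k = z ^ k * g := fun g =>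
      Subgroup.mem_center_iff.mp (Subgroup.pow_mem _ hz k) g
    calc A ^ (k + 1) * B = A * (A ^ k * B) := by rw [pow_succ', mul_assoc]
      _ = A * (B * A ^ k * z ^ k) := by rw [ih]
      _ = (A * B) * A ^ k * z ^ k := by simp only [mul_assoc]
      _ = (B * A * z) * A ^ k * z ^ k := by rw [h]
      _ = B * A * (z * A ^ k) * z ^ k := by simp only [mul_assoc]
      _ = B * A * (A ^ k * z) * z ^ k := by rw [hzc (A ^ k)]
      _ = B * (A * A ^ k) * (z * z ^ k) := by simp only [mul_assoc]
      _ = B * A ^ (k + 1) * z ^ (k + 1) := by rw [← pow_succ', ← pow_succ']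

omit [Fintype F] in
/-- lifts of commuting elements of `PSL` commute when one has order `p` -/
theorem lift_commute (A B : S) (hA : (QuotientGroup.mk A : P) ^ p = 1)
    (hc : Commute (QuotientGroup.mk A : P) (QuotientGroup.mk B)) : A * B = B * A := by
  have h1 : (QuotientGroup.mk (B * A) : P) = QuotientGroup.mk (A * B) := by
    rw [QuotientGroup.mk_mul, QuotientGroup.mk_mul]; exact hc.eq.symm
  rw [QuotientGroup.eq] at h1
  set z : S := (B * A)⁻¹ * (A * B) with hz
  have hAB : A * B = B * A * z := by rw [hz]; group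
  have hAp : A ^ p ∈ Subgroup.center S := by
    rw [← QuotientGroup.mk_pow] at hA
    exact (QuotientGroup.eq_one_iff _).mp hA
  have h2 := pow_mul_comm_central A B z h1 hAB p
  have h3 : A ^ p * B = B * A ^ p := (Subgroup.mem_center_iff.mp hAp B).symm
  have hzp : z ^ p = 1 := by
    rw [h3] at h2
    exact (mul_eq_left.mp h2.symm)
  obtain ⟨l, _, hl⟩ := Matrix.SpecialLinearGroup.mem_center_iff.mp h1
  have hz1 : z = 1 := by
    rcases Nat.eq_zero_or_pos n with rfl | hn
    · exact Subsingleton.elim _ _
    · have : Nonempty (Fin n) := ⟨⟨0, hn⟩⟩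
      have e1 : ((z ^ p : S) : Matrix (Fin n) (Fin n) F) = Matrix.scalar (Fin n) (l ^ p) := by
        rw [Matrix.SpecialLinearGroup.coe_pow, ← hl, map_pow]
      rw [hzp, Matrix.SpecialLinearGroup.coe_one, ← map_one (Matrix.scalar (Fin n)),
        Matrix.scalar_inj] at e1
      have hl1 : l = 1 := by
        have : frobenius F p l = frobenius F p 1 := by
          rw [frobenius_def, frobenius_def, one_pow]; exact e1.symm
        exact frobenius_inj F p this
      apply Subtype.ext
      rw [← hl, hl1, map_one, Matrix.SpecialLinearGroup.coe_one]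
  rw [hAB, hz1, mul_one]

end lift

section arith

variable {F : Type*} [Field F] [Fintype F]

open Cfsg.Agent.Lib.Helper45

/-- a factor of the order of `GL_m` -/
theorem factor_dvd_card_GL (m : ℕ) (i : ℕ) (hi : i < m) :
    (Fintype.card F ^ m - Fintype.card F ^ i) ∣ Nat.card (GL (Fin m) F) := by
  rw [Matrix.card_GL_field]
  exact Finset.dvd_prod_of_mem (fun j : Fin m => Fintype.card F ^ m - Fintype.card F ^ (j : ℕ))
    (Finset.mem_univ (⟨i, hi⟩ : Fin m))

/-- two factors of the order of `GL_m` -/
theorem two_factors_dvd_card_GL (m : ℕ) (hm : 2 ≤ m) :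
    (Fintype.card F ^ m - 1) * (Fintype.card F ^ m - Fintype.card F ^ (m - 1)) ∣
      Nat.card (GL (Fin m) F) := by
  rw [Matrix.card_GL_field]
  have hne : (⟨0, by omega⟩ : Fin m) ≠ ⟨m - 1, by omega⟩ := by
    intro h
    have := congrArg Fin.val h
    simp only at this
    omega
  have hsub : ({⟨0, by omega⟩, ⟨m - 1, by omega⟩} : Finset (Fin m)) ⊆ Finset.univ :=
    Finset.subset_univ _
  have h := Finset.prod_dvd_prod_of_subset _ _
    (fun j : Fin m => Fintype.card F ^ m - Fintype.card F ^ (j : ℕ)) hsub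
  rw [Finset.prod_pair hne] at h
  simpa using h

theorem prime_dvd_card_SL (r : ℕ) (hr : r.Prime) (m : ℕ) (hm : 2 ≤ m) (j : ℕ) (hj1 : 1 ≤ j)
    (hjm : j ≤ m) (hdvd : r ∣ Fintype.card F ^ j - 1) :
    r ∣ Nat.card (Matrix.SpecialLinearGroup (Fin m) F) := by
  have : Nonempty (Fin m) := ⟨⟨0, by omega⟩⟩
  have hSL := card_SL_mul (n := Fin m) (F := F)
  have hq : 2 ≤ Fintype.card F := Fintype.one_lt_card
  have hq1 : 0 < Fintype.card F - 1 := by omega
  by_cases h1 : r ∣ Fintype.card F - 1
  · -- `q^m - 1` divides the order of `SL_m`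
    have h2 := two_factors_dvd_card_GL (F := F) m hm
    have e : Fintype.card F ^ m - Fintype.card F ^ (m - 1) =
        Fintype.card F ^ (m - 1) * (Fintype.card F - 1) := by
      have : Fintype.card F ^ m = Fintype.card F ^ (m - 1) * Fintype.card F := by
        rw [← pow_succ]; congr 1; omega
      rw [this, Nat.mul_sub, mul_one]
    rw [e, ← hSL, ← mul_assoc] at h2
    have h3 : (Fintype.card F ^ m - 1) * Fintype.card F ^ (m - 1) ∣
        Nat.card (Matrix.SpecialLinearGroup (Fin m) F) := Nat.dvd_of_mul_dvd_mul_right hq1 h2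
    have h4 : Fintype.card F - 1 ∣ Fintype.card F ^ m - 1 := by
      simpa only [one_pow] using Nat.sub_dvd_pow_sub_pow (Fintype.card F) 1 m
    exact dvd_trans (dvd_trans h1 h4) (dvd_trans (dvd_mul_right _ _) h3)
  · have hj2 : 2 ≤ j := by
      by_contra hlt
      have : j = 1 := by omega
      rw [this, pow_one] at hdvd
      exact h1 hdvd
    have h2 := factor_dvd_card_GL (F := F) m (m - j) (by omega)
    have e : Fintype.card F ^ m - Fintype.card F ^ (m - j) =
        Fintype.card F ^ (m - j) * (Fintype.card F ^ j - 1) := by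
      have : Fintype.card F ^ m = Fintype.card F ^ (m - j) * Fintype.card F ^ j := by
        rw [← pow_add]; congr 1; omega
      rw [this, Nat.mul_sub, mul_one]
    rw [e, ← hSL] at h2
    have h3 : r ∣ Nat.card (Matrix.SpecialLinearGroup (Fin m) F) * (Fintype.card F - 1) :=
      dvd_trans (dvd_trans hdvd (dvd_mul_left _ _)) h2
    rcases (Nat.Prime.dvd_mul hr).mp h3 with h | h
    · exact h
    · exact absurd h h1

end arith

section final

variable {F : Type*} [Field F] [Fintype F] (p : ℕ) [Fact p.Prime] [CharP F p] {n : ℕ}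

local notation "S" => Matrix.SpecialLinearGroup (Fin n) F
local notation "P" => Matrix.ProjectiveSpecialLinearGroup (Fin n) F

/-- a lift of an element of order `p` is a scalar plus a nonzero nilpotent matrix -/
theorem exists_nilpotent (hn : 0 < n) (A : S) (hA : (QuotientGroup.mk A : P) ^ p = 1)
    (hA1 : (QuotientGroup.mk A : P) ≠ 1) :
    ∃ c : F, ((A : Matrix (Fin n) (Fin n) F) - Matrix.scalar (Fin n) c) ^ p = 0 ∧
      (A : Matrix (Fin n) (Fin n) F) - Matrix.scalar (Fin n) c ≠ 0 := by
  have : Nonempty (Fin n) := ⟨⟨0, hn⟩⟩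
  have hAp : A ^ p ∈ Subgroup.center S := by
    rw [← QuotientGroup.mk_pow] at hA
    exact (QuotientGroup.eq_one_iff _).mp hA
  obtain ⟨ζ, _, hζ⟩ := Matrix.SpecialLinearGroup.mem_center_iff.mp hAp
  obtain ⟨c, hc⟩ := surjective_frobenius F p ζ
  rw [frobenius_def] at hc
  refine ⟨c, ?_, ?_⟩
  · have hcomm : Commute (A : Matrix (Fin n) (Fin n) F) (Matrix.scalar (Fin n) c) :=
      (Matrix.scalar_commute c (fun r' => Commute.all c r') _).symm
    rw [sub_pow_char_of_commute p hcomm, ← map_pow, hc, hζ, Matrix.SpecialLinearGroup.coe_pow,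
      sub_self]
  · intro h0
    apply hA1
    rw [QuotientGroup.eq_one_iff, Matrix.SpecialLinearGroup.mem_center_iff]
    have hAc : (A : Matrix (Fin n) (Fin n) F) = Matrix.scalar (Fin n) c := sub_eq_zero.mp h0
    refine ⟨c, ?_, hAc.symm⟩
    have hdet : (A : Matrix (Fin n) (Fin n) F).det = 1 := A.2
    rw [hAc] at hdet
    simpa using hdet

end final


end Cfsg.Agent.Lib.Helper99.UnipCent
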