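import Mathlib
import Cfsg.Agent.Lib.Helper99.UnipCent

/-!
# Cyclic vectors for matrices of prime order `n` in dimension `n`
-/

set_option autoImplicit false

namespace Cfsg.Agent.Lib.Helper99.CyclicN

open Matrix Polynomial

variable {F : Type*} [Field F] {n : ℕ}

/-- the Krylov matrix with columns `v, M v, …, M ^ (n - 1) v` -/
def krylov (M : Matrix (Fin n) (Fin n) F) (v : Fin n → F) : Matrix (Fin n) (Fin n) F :=
  Matrix.of fun r i => (M ^ (i : ℕ) *ᵥ v) r

theorem krylov_mulVec (M : Matrix (Fin n) (Fin n) F) (v c : Fin n → F) :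
    krylov M v *ᵥ c = (∑ i, c i • M ^ (i : ℕ)) *ᵥ v := by
  rw [Matrix.sum_mulVec]
  ext r
  simp only [krylov, mulVec, dotProduct, Matrix.of_apply, Finset.sum_apply, Matrix.smul_apply,
    smul_eq_mul]
  apply Finset.sum_congr rfl
  intro i _
  rw [Finset.sum_mul]
  apply Finset.sum_congr rfl
  intro s _
  ring

/-- the cyclic shift matrix -/
def shift (F : Type*) [Field F] (n : ℕ) [NeZero n] : Matrix (Fin n) (Fin n) F :=
  Matrix.of fun k i => if k = i + 1 then 1 else 0

theorem mul_krylov [NeZero n] {M : Matrix (Fin n) (Fin n) F} (hM : M ^ n = 1) (v : Fin n → F) :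
    M * krylov M v = krylov M v * shift F n := by
  ext r i
  have h1 : (M * krylov M v) r i = (M ^ ((i : ℕ) + 1) *ᵥ v) r := by
    rw [pow_succ', ← mulVec_mulVec]
    simp only [krylov, Matrix.mul_apply, Matrix.of_apply, mulVec, dotProduct]
  have h2 : (krylov M v * shift F n) r i = (M ^ ((i + 1 : Fin n) : ℕ) *ᵥ v) r := by
    simp only [krylov, shift, Matrix.mul_apply, Matrix.of_apply, mul_ite, mul_one, mul_zero,
      Finset.sum_ite_eq', Finset.mem_univ, if_true]
  rw [h1, h2]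
  have h3 : ((i + 1 : Fin n) : ℕ) = ((i : ℕ) + 1) % n := by
    rw [Fin.val_add]
    by_cases hn1 : n = 1
    · subst hn1; simp
    · have : 1 < n := by
        have := NeZero.ne n
        omega
      rw [Fin.val_one' , Nat.mod_eq_of_lt this]
  rw [h3, ← pow_eq_pow_mod _ hM]

theorem det_ne_zero_of_ker {B : Matrix (Fin n) (Fin n) F}
    (h : ∀ w : Fin n → F, B *ᵥ w = 0 → w = 0) : B.det ≠ 0 := by
  intro hd
  obtain ⟨w, hw0, hw⟩ := Matrix.exists_mulVec_eq_zero_iff.mpr hd
  exact hw0 (h w hw)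

theorem aeval_mulVec_eigen {M : Matrix (Fin n) (Fin n) F} {u : Fin n → F} {a : F}
    (h : M *ᵥ u = a • u) (g : F[X]) : (aeval M g) *ᵥ u = (eval a g) • u := by
  induction g using Polynomial.induction_on with
  | C c =>
    simp only [aeval_C, eval_C, Algebra.algebraMap_eq_smul_one, smul_mulVec, one_mulVec]
  | add p q hp hq =>
    rw [map_add, add_mulVec, hp, hq, eval_add, add_smul]
  | monomial k c ih =>
    rw [pow_succ, ← mul_assoc, map_mul, aeval_X, ← mulVec_mulVec, h, mulVec_smul, ih, eval_mul_X,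
      smul_smul, mul_comm]

/-- sum of coefficients times powers as a polynomial -/
theorem aeval_sum (M : Matrix (Fin n) (Fin n) F) (c : Fin n → F) :
    aeval M (∑ i : Fin n, C (c i) * X ^ (i : ℕ)) = ∑ i, c i • M ^ (i : ℕ) := by
  rw [map_sum]
  apply Finset.sum_congr rfl
  intro i _
  rw [map_mul, aeval_C, map_pow, aeval_X, Algebra.algebraMap_eq_smul_one, smul_mul_assoc, one_mul]

theorem coeff_sum (c : Fin n → F) (i : Fin n) :
    (∑ k : Fin n, C (c k) * X ^ (k : ℕ)).coeff (i : ℕ) = c i := by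
  rw [Polynomial.finsetSum_coeff]
  rw [Finset.sum_eq_single i]
  · simp
  · intro k _ hk
    rw [coeff_C_mul, coeff_X_pow, if_neg, mul_zero]
    intro h
    exact hk (Fin.ext h.symm)
  · intro h
    exact absurd (Finset.mem_univ i) h

/-- a sum of a fixed vector and a vector killed by the cyclotomic polynomial is cyclic -/
theorem cyclic_of [hn : Fact n.Prime] (hnF : (n : F) ≠ 0) (hirr : Irreducible (cyclotomic n F))
    {M : Matrix (Fin n) (Fin n) F} {u₀ w : Fin n → F} (hu₀ : u₀ ≠ 0)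
    (hMu : M *ᵥ u₀ = u₀) (hw : w ≠ 0) (hMw : (aeval M (cyclotomic n F)) *ᵥ w = 0) :
    (krylov M (u₀ + w)).det ≠ 0 := by
  apply det_ne_zero_of_ker
  intro c hc
  rw [krylov_mulVec, ← aeval_sum] at hc
  obtain ⟨g, hg⟩ : ∃ g, g = ∑ i : Fin n, C (c i) * X ^ (i : ℕ) := ⟨_, rfl⟩
  rw [← hg] at hc
  have hMu' : M *ᵥ u₀ = (1 : F) • u₀ := by rw [one_smul]; exact hMu
  rw [mulVec_add, aeval_mulVec_eigen hMu' g] at hc
  -- apply the cyclotomic polynomial
  have h1 : (aeval M (cyclotomic n F)) *ᵥ ((eval 1 g) • u₀ + (aeval M g) *ᵥ w) = 0 := by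
    rw [hc, mulVec_zero]
  rw [mulVec_add, mulVec_smul, aeval_mulVec_eigen hMu' (cyclotomic n F), eval_one_cyclotomic_prime,
    mulVec_mulVec, ← map_mul, mul_comm, map_mul, ← mulVec_mulVec, hMw, mulVec_zero, add_zero,
    smul_smul] at h1
  have hg1 : eval 1 g = 0 := by
    rcases smul_eq_zero.mp h1 with h | h
    · rcases mul_eq_zero.mp h with h' | h'
      · exact h'
      · exact absurd h' hnF
    · exact absurd h hu₀
  rw [hg1, zero_smul, zero_add] at hc
  -- divisibility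
  have hd1 : cyclotomic n F ∣ g := by
    by_contra hnd
    obtain ⟨a, b, hab⟩ := (hirr.coprime_iff_not_dvd.mpr hnd)
    apply hw
    have := congrArg (fun f => (aeval M f) *ᵥ w) hab
    simp only [map_add, map_mul, map_one, add_mulVec, one_mulVec, ← mulVec_mulVec, hMw, hc,
      mulVec_zero, add_zero] at this
    exact this.symm
  have hd2 : (X - C 1 : F[X]) ∣ g := dvd_iff_isRoot.mpr hg1
  have hcop : IsCoprime (X - C 1 : F[X]) (cyclotomic n F) := by
    apply (irreducible_X_sub_C (1 : F)).coprime_iff_not_dvd.mpr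
    intro h
    have := dvd_iff_isRoot.mp h
    rw [IsRoot, eval_one_cyclotomic_prime] at this
    exact hnF this
  have hd3 : (X : F[X]) ^ n - C 1 ∣ g := by
    have e : (X : F[X]) ^ n - C 1 = (X - C 1) * cyclotomic n F := by
      rw [mul_comm, map_one, cyclotomic_prime_mul_X_sub_one F n]
    rw [e]
    exact hcop.mul_dvd hd2 hd1
  have hdeg : g.degree < ((X : F[X]) ^ n - C 1).degree := by
    rw [degree_X_pow_sub_C hn.out.pos (1 : F), hg]
    exact degree_sum_fin_lt c
  have hg0 : g = 0 := eq_zero_of_dvd_of_degree_lt hd3 hdeg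
  funext i
  rw [← coeff_sum c i, ← hg, hg0, coeff_zero, Pi.zero_apply]

/-- two matrices of order `n` with cyclic vectors are conjugate -/
theorem conj_of_cyclic [NeZero n] {M M' : Matrix (Fin n) (Fin n) F} (hM : M ^ n = 1)
    (hM' : M' ^ n = 1) {v v' : Fin n → F} (hv : (krylov M v).det ≠ 0)
    (hv' : (krylov M' v').det ≠ 0) :
    ∃ P : Matrix (Fin n) (Fin n) F, P.det ≠ 0 ∧ M * P = P * M' := by
  obtain ⟨B, hB⟩ : ∃ B, B = krylov M v := ⟨_, rfl⟩
  obtain ⟨B', hB'⟩ : ∃ B', B' = krylov M' v' := ⟨_, rfl⟩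
  have h1 : M * B = B * shift F n := hB ▸ mul_krylov hM v
  have h2 : M' * B' = B' * shift F n := hB' ▸ mul_krylov hM' v'
  rw [← hB] at hv
  rw [← hB'] at hv'
  have hu' : IsUnit B'.det := isUnit_iff_ne_zero.mpr hv'
  have h3 : B'⁻¹ * M' = shift F n * B'⁻¹ := by
    calc B'⁻¹ * M' = B'⁻¹ * M' * (B' * B'⁻¹) := by rw [Matrix.mul_nonsing_inv B' hu', mul_one]
      _ = B'⁻¹ * (M' * B') * B'⁻¹ := by simp only [mul_assoc]
      _ = (B'⁻¹ * B') * shift F n * B'⁻¹ := by rw [h2]; simp only [mul_assoc]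
      _ = shift F n * B'⁻¹ := by rw [Matrix.nonsing_inv_mul B' hu', one_mul]
  refine ⟨B * B'⁻¹, ?_, ?_⟩
  · rw [Matrix.det_mul, Matrix.det_nonsing_inv, Ring.inverse_eq_inv']
    exact mul_ne_zero hv (inv_ne_zero hv')
  · calc M * (B * B'⁻¹) = (M * B) * B'⁻¹ := by rw [mul_assoc]
      _ = B * (shift F n * B'⁻¹) := by rw [h1, mul_assoc]
      _ = B * B'⁻¹ * M' := by rw [← h3, mul_assoc]

/-- a nonzero vector killed by the cyclotomic polynomial -/
theorem exists_w [hn : Fact n.Prime] {M : Matrix (Fin n) (Fin n) F} (hM : M ^ n = 1)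
    (hM1 : M ≠ 1) : ∃ w : Fin n → F, w ≠ 0 ∧ (aeval M (cyclotomic n F)) *ᵥ w = 0 := by
  have hex : ∃ v : Fin n → F, (M - 1) *ᵥ v ≠ 0 := by
    by_contra hcon
    push Not at hcon
    apply hM1
    have : M - 1 = 0 := by
      apply Matrix.mulVec_injective
      funext v
      rw [hcon v, zero_mulVec]
    exact sub_eq_zero.mp this
  obtain ⟨v, hv⟩ := hex
  refine ⟨(M - 1) *ᵥ v, hv, ?_⟩
  have e : aeval M (cyclotomic n F) * (M - 1) = 0 := by
    have h1 : aeval M (cyclotomic n F * (X - 1)) = M ^ n - 1 := by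
      rw [cyclotomic_prime_mul_X_sub_one F n]
      simp
    rw [map_mul] at h1
    have h2 : aeval M (X - 1 : F[X]) = M - 1 := by simp
    rw [h2] at h1
    rw [h1, hM, sub_self]
  rw [mulVec_mulVec, e, zero_mulVec]

/-- existence of `n`-th roots when `n` is prime to `q - 1` -/
theorem exists_root [Fintype F] (hcop : Nat.Coprime n (Fintype.card F - 1)) {a : F} (ha : a ≠ 0) :
    ∃ c : F, c ^ n = a := by
  have h1 : a ^ (Fintype.card F - 1) = 1 := FiniteField.pow_card_sub_one_eq_one a ha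
  by_cases hq : Fintype.card F - 1 = 1
  · rw [hq, pow_one] at h1
    exact ⟨1, by rw [one_pow, h1]⟩
  · have hq2 : 1 < Fintype.card F - 1 := by
      have : 2 ≤ Fintype.card F := Fintype.one_lt_card
      omega
    obtain ⟨m, -, hm⟩ := Nat.exists_mul_mod_eq_one_of_coprime hcop hq2
    refine ⟨a ^ m, ?_⟩
    rw [← pow_mul, mul_comm, ← Nat.div_add_mod (n * m) (Fintype.card F - 1), hm, pow_add, pow_mul,
      h1, one_pow, one_mul, pow_one]

/-- a fixed vector, by orbit counting -/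
theorem exists_fixed [Fintype F] [hn : Fact n.Prime] {M : Matrix (Fin n) (Fin n) F}
    (hM : M ^ n = 1) (hq : (Fintype.card F : ZMod n) ≠ 1) :
    ∃ u : Fin n → F, u ≠ 0 ∧ M *ᵥ u = u := by
  by_contra hcon
  push Not at hcon
  obtain ⟨X, hX⟩ : ∃ X : (Fin n → F) →ₗ[F] (Fin n → F), X = Matrix.toLinAlgEquiv' M := ⟨_, rfl⟩
  have hXn : X ^ n = 1 := by rw [hX, ← map_pow, hM, map_one]
  have h := UnipCent.card_inv_modEq X n hXn ⊤ (fun _ _ => Submodule.mem_top)
  have hker : (⊤ ⊓ LinearMap.ker (X - 1) : Submodule F (Fin n → F)) = ⊥ := by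
    rw [top_inf_eq, LinearMap.ker_eq_bot']
    intro u hu
    by_contra hu0
    apply hcon u hu0
    rw [LinearMap.sub_apply, sub_eq_zero] at hu
    rw [hX] at hu
    simpa using hu
  rw [hker] at h
  have h1 : Nat.card (⊤ : Submodule F (Fin n → F)) = Fintype.card F ^ n := by
    rw [Nat.card_congr (Submodule.topEquiv (R := F) (M := Fin n → F)).toEquiv,
      Nat.card_eq_fintype_card, Fintype.card_fun, Fintype.card_fin]
  have h2 : Nat.card (⊥ : Submodule F (Fin n → F)) = 1 := by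
    rw [Nat.card_eq_fintype_card]
    simp
  rw [h1, h2] at h
  apply hq
  have h3 := (ZMod.natCast_eq_natCast_iff _ _ _).mpr h
  rw [Nat.cast_pow, Nat.cast_one] at h3
  have h4 : (Fintype.card F : ZMod n) ^ n = (Fintype.card F : ZMod n) := ZMod.pow_card _
  rw [← h4, h3]

end Cfsg.Agent.Lib.Helper99.CyclicN
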