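import Mathlib
import Cfsg.Prelude.Def_Solvable
import Cfsg.Prelude.Def_Transfer
import Cfsg.Prelude.Def_CaseTheorems
import Cfsg.Agent.Lib.Helper83.GSDefs

set_option autoImplicit false
set_option linter.unusedSectionVars false

namespace Cfsg.Agent.Lib.Helper99.GS

open QuaternionGroup

universe u

/-- Powers of a rotation in a quaternion group. -/
theorem quat_a_pow (m : ℕ) (k : ZMod (2 * m)) (s : ℕ) :
    (a k : QuaternionGroup m) ^ s = a ((s : ZMod (2 * m)) * k) := by
  induction s with
  | zero => rw [pow_zero, Nat.cast_zero, zero_mul, a_zero]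
  | succ s ih =>
    rw [pow_succ, ih, a_mul_a]
    congr 1
    push_cast
    ring

/-- An automorphism of odd order of a generalized quaternion group of order at least 16
is trivial. -/
theorem quat_aut_odd_trivial (n : ℕ) (hn : 2 ≤ n) (φ : MulAut (QuaternionGroup (2 ^ n)))
    (t : ℕ) (ht : Odd t) (hφ : φ ^ t = 1) : φ = 1 := by
  have : NeZero (2 ^ n) := ⟨by positivity⟩
  have : NeZero (2 * 2 ^ n) := ⟨by positivity⟩
  have h4 : 4 ≤ 2 ^ n := by
    calc 4 = 2 ^ 2 := by norm_num
      _ ≤ 2 ^ n := Nat.pow_le_pow_right (by norm_num) hn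
  -- Step 1: φ (a 1) = a k
  obtain ⟨k, hk⟩ : ∃ k, φ (a 1) = a k := by
    have hord : orderOf (φ (a 1)) = 2 * 2 ^ n := by
      rw [MulEquiv.orderOf_eq, QuaternionGroup.orderOf_a_one]
    rcases h : φ (a 1) with k | k
    · exact ⟨k, rfl⟩
    · rw [h, QuaternionGroup.orderOf_xa] at hord
      omega
  -- Step 2: φ (a i) = a (i * k)
  have hai : ∀ i : ZMod (2 * 2 ^ n), φ (a i) = a (i * k) := by
    intro i
    have h1 : (a i : QuaternionGroup (2 ^ n)) = (a 1) ^ i.val := by
      rw [a_one_pow, ZMod.natCast_zmod_val]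
    rw [h1, map_pow, hk, quat_a_pow, ZMod.natCast_zmod_val]
  -- Step 3: (φ ^ s) (a 1) = a (k ^ s)
  have hpow : ∀ s : ℕ, (φ ^ s) (a 1) = a (k ^ s) := by
    intro s
    induction s with
    | zero => simp
    | succ s ih =>
      rw [pow_succ', MulAut.mul_apply, ih, hai, pow_succ]
  have hkt : k ^ t = 1 := by
    have := hpow t
    rw [hφ, MulAut.one_apply] at this
    have h2 := QuaternionGroup.a.inj this
    exact h2.symm
  have ht0 : t ≠ 0 := by
    rintro rfl
    simp at ht
  -- Step 4: k = 1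
  have hk1 : k = 1 := by
    have hu : IsUnit k := IsUnit.of_pow_eq_one hkt ht0
    obtain ⟨u, rfl⟩ := hu
    have hut : u ^ t = 1 := by
      apply Units.ext
      simpa using hkt
    have hu2 : u ^ (2 ^ n) = 1 := by
      have := ZMod.pow_totient u
      have htot : Nat.totient (2 * 2 ^ n) = 2 ^ n := by
        rw [← pow_succ', Nat.totient_prime_pow Nat.prime_two (Nat.succ_pos n)]
        simp
      rwa [htot] at this
    have hd1 : orderOf u ∣ t := orderOf_dvd_of_pow_eq_one hut
    have hd2 : orderOf u ∣ 2 ^ n := orderOf_dvd_of_pow_eq_one hu2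
    have hcop : Nat.Coprime t (2 ^ n) :=
      Nat.Coprime.pow_right n (Nat.coprime_two_right.mpr ht)
    have hone : orderOf u = 1 := Nat.eq_one_of_dvd_coprimes hcop hd1 hd2
    rw [orderOf_eq_one_iff] at hone
    rw [hone]
    simp
  subst hk1
  have hai' : ∀ i : ZMod (2 * 2 ^ n), φ (a i) = a i := by
    intro i
    rw [hai, mul_one]
  -- Step 5: φ (xa 0) = xa j0
  obtain ⟨j0, hj0⟩ : ∃ j, φ (xa 0) = xa j := by
    rcases h : φ (xa 0) with c | c
    · exfalso
      have h2 : φ (xa 0) = φ (a c) := by rw [h, hai']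
      have h3 := φ.injective h2
      cases h3
    · exact ⟨c, rfl⟩
  -- Step 6
  have hxai : ∀ i : ZMod (2 * 2 ^ n), φ (xa i) = xa (j0 + i) := by
    intro i
    have h1 : (xa i : QuaternionGroup (2 ^ n)) = xa 0 * a i := by
      rw [xa_mul_a, zero_add]
    rw [h1, map_mul, hj0, hai', xa_mul_a]
  -- Step 7
  have hpowx : ∀ s : ℕ, (φ ^ s) (xa 0) = xa ((s : ZMod (2 * 2 ^ n)) * j0) := by
    intro s
    induction s with
    | zero => simp
    | succ s ih =>
      rw [pow_succ', MulAut.mul_apply, ih, hxai]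
      congr 1
      push_cast
      ring
  have hj00 : j0 = 0 := by
    have := hpowx t
    rw [hφ, MulAut.one_apply] at this
    have h2 := QuaternionGroup.xa.inj this
    have hunit : IsUnit (t : ZMod (2 * 2 ^ n)) := by
      rw [ZMod.isUnit_iff_coprime, ← pow_succ']
      exact Nat.Coprime.pow_right _ (Nat.coprime_two_right.mpr ht)
    exact (hunit.mul_right_eq_zero).mp h2.symm
  subst hj00
  -- Step 8
  apply MulEquiv.ext
  intro g
  rcases g with i | i
  · rw [hai', MulAut.one_apply]
  · rw [hxai, zero_add, MulAut.one_apply]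

variable {Γ : Type u} [Group Γ] [Finite Γ]

theorem centralizes_of_quaternion_big (R : Subgroup Γ) [R.Normal] (n : ℕ) (hn : 2 ≤ n)
    (e : R ≃* QuaternionGroup (2 ^ n)) (x : Γ) (hx : Odd (orderOf x)) :
    x ∈ Subgroup.centralizer (R : Set Γ) := by
  have hψ : (MulAut.conjNormal x : MulAut R) ^ orderOf x = 1 := by
    rw [← map_pow, pow_orderOf_eq_one, map_one]
  have hφ : (MulAut.congr e (MulAut.conjNormal x : MulAut R)) ^ orderOf x = 1 := by
    rw [← map_pow, hψ, map_one]
  have h1 := quat_aut_odd_trivial n hn _ _ hx hφ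
  have h2 : (MulAut.conjNormal x : MulAut R) = 1 := by
    have := (MulAut.congr e).injective (h1.trans (map_one (MulAut.congr e)).symm)
    exact this
  rw [Subgroup.mem_centralizer_iff]
  intro r hr
  have h3 : (MulAut.conjNormal x : MulAut R) ⟨r, hr⟩ = ⟨r, hr⟩ := by
    rw [h2, MulAut.one_apply]
  have h4 : x * r * x⁻¹ = r := by
    have := congrArg Subtype.val h3
    simpa [MulAut.conjNormal_apply] using this
  calc r * x = (x * r * x⁻¹) * x := by rw [h4]
    _ = x * r := by group

end Cfsg.Agent.Lib.Helper99.GS
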