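import Mathlib
import Cfsg.Agent.Lib.Helper69.AbelianIrred
import Cfsg.Agent.Lib.Helper19.Unitary

set_option autoImplicit false

namespace Cfsg.Agent.Lib.Helper99.HermIrred

open Cfsg.Agent.Lib.Helper69.AbelianIrred Cfsg.Agent.Lib.Helper19

set_option linter.unusedSectionVars false
set_option linter.style.haveILetI false

variable {F : Type*} [Field F] [Fintype F] {H : Type*} [CommGroup H] [Finite H]
variable {V : Type*} [AddCommGroup V] [Module F V] [FiniteDimensional F V]
variable (ρ : Representation F H V) {q : ℕ} (hF : Fintype.card F = q ^ 2)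

/-- semilinear inversion on the group algebra -/
noncomputable def invS : MonoidAlgebra F H →+* MonoidAlgebra F H :=
  (MonoidAlgebra.mapDomainRingHom F (invMonoidHom : H →* H)).comp
    (MonoidAlgebra.mapRingHom H (frobQ hF))

theorem invS_single (h : H) (c : F) :
    invS (H := H) hF (MonoidAlgebra.single h c) = MonoidAlgebra.single h⁻¹ (c ^ q) := by
  simp [invS, frobQ_apply]

theorem invS_of (h : H) :
    invS hF (MonoidAlgebra.of F H h) = MonoidAlgebra.of F H h⁻¹ := by
  rw [MonoidAlgebra.of_apply, invS_single, one_pow, MonoidAlgebra.of_apply]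

theorem invS_smul (c : F) (a : MonoidAlgebra F H) :
    invS hF (c • a) = (c ^ q) • invS hF a := by
  have h1 : ∀ (c : F) (a : MonoidAlgebra F H), c • a = MonoidAlgebra.single (1 : H) c * a := by
    intro c a
    rw [Algebra.smul_def, MonoidAlgebra.coe_algebraMap]
    rfl
  rw [h1, map_mul, invS_single, inv_one, ← h1]

section form

variable (β : V → V → F)

/-- hypotheses on a sesquilinear invariant form -/
structure IsSesq : Prop where
  add_left : ∀ x x' y, β (x + x') y = β x y + β x' y
  smul_left : ∀ (c : F) x y, β (c • x) y = c * β x y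
  add_right : ∀ x y y', β x (y + y') = β x y + β x y'
  smul_right : ∀ (c : F) x y, β x (c • y) = c ^ q * β x y
  inv : ∀ (h : H) x y, β (ρ h x) (ρ h y) = β x y
  nondeg : ∀ x, (∀ y, β x y = 0) → x = 0

variable {ρ β}

theorem adj_formula (hβ : IsSesq (q := q) ρ β) (a : MonoidAlgebra F H) (x y : V) :
    β (ρ.asAlgebraHom (invS hF a) x) y = β x (ρ.asAlgebraHom a y) := by
  induction a using MonoidAlgebra.induction_on generalizing x y with
  | of h =>
    rw [invS_of, Representation.asAlgebraHom_of, Representation.asAlgebraHom_of]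
    rw [← hβ.inv h (ρ h⁻¹ x) y]
    congr 2
    rw [← Module.End.mul_apply, ← map_mul, mul_inv_cancel, map_one, Module.End.one_apply]
  | add a b ha hb =>
    simp only [map_add, LinearMap.add_apply, hβ.add_left, hβ.add_right, ha, hb]
  | smul r a ha =>
    rw [invS_smul]
    simp only [map_smul, LinearMap.smul_apply, hβ.smul_left, hβ.smul_right, ha]

theorem annI_le_comap_invS (hβ : IsSesq (q := q) ρ β) :
    annI ρ ≤ (annI ρ).comap (invS hF) := by
  intro a ha
  rw [Ideal.mem_comap, RingHom.mem_ker]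
  rw [RingHom.mem_ker] at ha
  apply LinearMap.ext
  intro x
  apply hβ.nondeg
  intro y
  rw [adj_formula hF hβ a x y]
  have h0 : ρ.asAlgebraHom a y = 0 := by
    have := congrArg (fun T : Module.End F V => T y) ha
    simpa using this
  rw [h0]
  have : β x 0 = β x 0 + β x 0 := by
    have := hβ.add_right x 0 0
    rwa [add_zero] at this
  have h2 : β x 0 = 0 := by
    have h3 : β x 0 + 0 = β x 0 + β x 0 := by rw [add_zero]; exact this
    exact (add_left_cancel h3).symm
  simpa using h2

/-- the ring endomorphism of `L` induced by the adjoint -/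
noncomputable def tau (hβ : IsSesq (q := q) ρ β) : L ρ →+* L ρ :=
  Ideal.quotientMap (annI ρ) (invS hF) (annI_le_comap_invS hF hβ)

theorem tau_gL (hβ : IsSesq (q := q) ρ β) (h : H) :
    tau hF hβ (gL ρ h) = gL ρ h⁻¹ := by
  rw [gL_apply, gL_apply, tau, Ideal.quotientMap_mk, invS_of]

theorem tau_algebraMap (hβ : IsSesq (q := q) ρ β) (c : F) :
    tau hF hβ (algebraMap F (L ρ) c) = algebraMap F (L ρ) (c ^ q) := by
  have h1 : ∀ c : F, algebraMap F (L ρ) c =
      Ideal.Quotient.mk (annI ρ) (MonoidAlgebra.single (1 : H) c) := by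
    intro c
    rfl
  rw [h1, h1, tau, Ideal.quotientMap_mk, invS_single, inv_one]

include hF in
/-- **Hermitian forward direction.** -/
theorem forward_herm [Nontrivial V] (hirr : Irr ρ) (hfaith : Function.Injective ρ)
    (hβ : IsSesq (q := q) ρ β) :
    ∃ j : ℕ, ∀ h : H, h ^ (q ^ (2 * j) + q) = 1 := by
  haveI := annI_isMaximal ρ hirr
  letI : Field (L ρ) := Ideal.Quotient.field (annI ρ)
  -- `x ↦ x ^ q` on `L`
  obtain ⟨p, hchar⟩ := CharP.exists F
  have hp : p.Prime := CharP.char_is_prime F p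
  haveI : Fact p.Prime := ⟨hp⟩
  obtain ⟨k, _, hk⟩ := FiniteField.card F p
  have hdvd : q ∣ p ^ (k : ℕ) := by
    rw [← hk, hF]; exact Dvd.intro_left (q ^ 1) (by ring)
  obtain ⟨i, _, hi⟩ := (Nat.dvd_prime_pow hp).mp hdvd
  haveI : CharP (L ρ) p := charP_of_injective_algebraMap (algebraMap F (L ρ)).injective p
  let ψ : L ρ →+* L ρ := iterateFrobenius (L ρ) p i
  have hψ : ∀ x, ψ x = x ^ q := by
    intro x
    rw [hi]; exact iterateFrobenius_def p i x
  let τ' : L ρ →ₐ[F] L ρ :=
    { (tau hF hβ).comp ψ with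
      commutes' := by
        intro c
        show tau hF hβ (ψ (algebraMap F (L ρ) c)) = algebraMap F (L ρ) c
        rw [hψ, ← map_pow, tau_algebraMap, pow_q_pow_q hF] }
  have hτ' : ∀ x, τ' x = tau hF hβ (x ^ q) := by
    intro x
    show tau hF hβ (ψ x) = _
    rw [hψ]
  obtain ⟨⟨j, hj⟩, hjσ⟩ := (FiniteField.bijective_frobeniusAlgHom_pow F (L ρ)).2 τ'
  simp only at hjσ
  refine ⟨j, ?_⟩
  intro h
  have key : gL ρ (h ^ (Fintype.card F ^ j)) = gL ρ ((h ^ q)⁻¹) := by
    have h1 : τ' (gL ρ h) = gL ρ ((h ^ q)⁻¹) := by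
      rw [hτ', ← map_pow, tau_gL]
    rw [← h1, ← hjσ, AlgHom.coe_pow, FiniteField.coe_frobeniusAlgHom, pow_iterate, map_pow]
  have key2 := gL_injective ρ hfaith key
  rw [hF, ← pow_mul] at key2
  rw [pow_add, key2, inv_mul_cancel]

end form

end Cfsg.Agent.Lib.Helper99.HermIrred
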