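import Mathlib

/-!
# Counting nilpotent endomorphisms of a finite vector space (Fine–Herstein)

`|Nil(V)| * |V| = |End(V)|`, by partitioning `End(V)` according to the eventual range and
`Nil(V) × V` according to the cyclic subspace generated by the vector.
-/

set_option autoImplicit false

namespace Cfsg.Agent.Lib.Helper99.NilCount

variable {F V : Type*} [Field F] [AddCommGroup V] [Module F V]

/-- `T` preserves `W` and some power of `T` maps everything into `W`. -/
def InE (W : Submodule F V) (T : V →ₗ[F] V) : Prop :=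
  (∀ w ∈ W, T w ∈ W) ∧ ∃ m : ℕ, ∀ v, (T ^ m) v ∈ W

/-- `T` kills `W` and some power of `T` maps everything into `W`. -/
def InK (W : Submodule F V) (T : V →ₗ[F] V) : Prop :=
  (∀ w ∈ W, T w = 0) ∧ ∃ m : ℕ, ∀ v, (T ^ m) v ∈ W

theorem InK.inE {W : Submodule F V} {T : V →ₗ[F] V} (h : InK W T) : InE W T :=
  ⟨fun w hw => by rw [h.1 w hw]; exact W.zero_mem, h.2⟩

theorem pow_apply_succ (T : V →ₗ[F] V) (m : ℕ) (v : V) : (T ^ (m + 1)) v = T ((T ^ m) v) := by
  rw [pow_succ', Module.End.mul_apply]

theorem pow_apply_succ' (T : V →ₗ[F] V) (m : ℕ) (v : V) : (T ^ (m + 1)) v = (T ^ m) (T v) := by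
  rw [pow_succ, Module.End.mul_apply]

theorem pow_mem_of_preserves {W : Submodule F V} {T : V →ₗ[F] V} (h : ∀ w ∈ W, T w ∈ W)
    (m : ℕ) {w : V} (hw : w ∈ W) : (T ^ m) w ∈ W := by
  induction m with
  | zero => simpa using hw
  | succ m ih => rw [pow_apply_succ]; exact h _ ih

/-- if `T'` and `T` differ by a map into `W` and `T'` preserves `W`, their powers agree modulo `W` -/
theorem pow_sub_pow_mem {W : Submodule F V} {T T' : V →ₗ[F] V} (hT' : ∀ w ∈ W, T' w ∈ W)
    (hd : ∀ v, T' v - T v ∈ W) (m : ℕ) (v : V) : (T' ^ m) v - (T ^ m) v ∈ W := by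
  induction m with
  | zero => simp
  | succ m ih =>
    rw [pow_apply_succ, pow_apply_succ]
    have e : T' ((T' ^ m) v) - T ((T ^ m) v) =
        T' ((T' ^ m) v - (T ^ m) v) + (T' ((T ^ m) v) - T ((T ^ m) v)) := by
      rw [map_sub]; abel
    rw [e]
    exact W.add_mem (hT' _ ih) (hd _)

theorem InE.of_sub_mem {W : Submodule F V} {T T' : V →ₗ[F] V} (hT : InE W T)
    (hT' : ∀ w ∈ W, T' w ∈ W) (hd : ∀ v, T' v - T v ∈ W) : InE W T' := by
  refine ⟨hT', ?_⟩
  obtain ⟨m, hm⟩ := hT.2
  refine ⟨m, fun v => ?_⟩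
  have := pow_sub_pow_mem hT' hd m v
  have e : (T' ^ m) v = ((T' ^ m) v - (T ^ m) v) + (T ^ m) v := by abel
  rw [e]
  exact W.add_mem this (hm v)

section proj

variable (W : Submodule F V) (π : V →ₗ[F] W) (hπ : ∀ w : W, π (w : V) = w)

/-- restriction of `T` to `W` (via the projection `π`) -/
def res (T : V →ₗ[F] V) : W →ₗ[F] W := π ∘ₗ T ∘ₗ W.subtype

/-- extension of an endomorphism of `W` to `V` (via the projection `π`) -/
def lift (A : W →ₗ[F] W) : V →ₗ[F] V := W.subtype ∘ₗ A ∘ₗ π

theorem lift_apply (A : W →ₗ[F] W) (v : V) : lift W π A v = (A (π v) : V) := rfl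

theorem lift_mem (A : W →ₗ[F] W) (v : V) : lift W π A v ∈ W := (A (π v)).2

include hπ in
theorem lift_apply_mem (A : W →ₗ[F] W) (w : W) : lift W π A (w : V) = (A w : V) := by
  rw [lift_apply, hπ]

include hπ in
theorem res_apply_of_preserves {T : V →ₗ[F] V} (h : ∀ w ∈ W, T w ∈ W) (w : W) :
    (res W π T w : V) = T (w : V) := by
  have : res W π T w = π (T (w : V)) := rfl
  rw [this]
  have e := hπ ⟨T (w : V), h _ w.2⟩
  rw [e]

include hπ in
theorem res_lift (A : W →ₗ[F] W) : res W π (lift W π A) = A := by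
  apply LinearMap.ext
  intro w
  have : res W π (lift W π A) w = π ((A (π (w : V)) : W) : V) := rfl
  rw [this, hπ, hπ]

theorem res_add (T T' : V →ₗ[F] V) : res W π (T + T') = res W π T + res W π T' := by
  apply LinearMap.ext
  intro w
  simp [res]

theorem res_of_kills {T : V →ₗ[F] V} (h : ∀ w ∈ W, T w = 0) : res W π T = 0 := by
  apply LinearMap.ext
  intro w
  have : res W π T w = π (T (w : V)) := rfl
  rw [this, h _ w.2, map_zero]
  rfl

include hπ in
theorem res_pow_apply {T : V →ₗ[F] V} (h : ∀ w ∈ W, T w ∈ W) (m : ℕ) (w : W) :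
    (((res W π T) ^ m) w : V) = (T ^ m) (w : V) := by
  induction m generalizing w with
  | zero => simp
  | succ m ih =>
    rw [pow_apply_succ', pow_apply_succ', ih, res_apply_of_preserves W π hπ h]

/-- the type `K(W)` -/
abbrev KType : Type _ := {T : V →ₗ[F] V // InK W T}

include hπ in
theorem inK_sub_lift {T : V →ₗ[F] V} (hT : InE W T) : InK W (T - lift W π (res W π T)) := by
  have hkill : ∀ w ∈ W, (T - lift W π (res W π T)) w = 0 := by
    intro w hw
    rw [LinearMap.sub_apply, sub_eq_zero]
    have := lift_apply_mem W π hπ (res W π T) ⟨w, hw⟩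
    rw [this, res_apply_of_preserves W π hπ hT.1]
  refine ⟨hkill, ?_⟩
  have : InE W (T - lift W π (res W π T)) := by
    apply hT.of_sub_mem
    · intro w hw
      rw [hkill w hw]
      exact W.zero_mem
    · intro v
      rw [LinearMap.sub_apply, sub_sub_cancel_left]
      exact W.neg_mem (lift_mem W π _ v)
  exact this.2

theorem inE_add_lift {T₀ : V →ₗ[F] V} (hT₀ : InK W T₀) (A : W →ₗ[F] W) :
    InE W (T₀ + lift W π A) := by
  apply hT₀.inE.of_sub_mem
  · intro w hw
    rw [LinearMap.add_apply, hT₀.1 w hw, zero_add]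
    exact lift_mem W π A w
  · intro v
    rw [LinearMap.add_apply, add_sub_cancel_left]
    exact lift_mem W π A v

include hπ in
theorem res_add_lift {T₀ : V →ₗ[F] V} (hT₀ : InK W T₀) (A : W →ₗ[F] W) :
    res W π (T₀ + lift W π A) = A := by
  rw [res_add, res_of_kills W π hT₀.1, zero_add, res_lift W π hπ]

/-- the basic fibre equivalence -/
def fiberEquivSingle (P : (W →ₗ[F] W) → Prop) :
    {T : V →ₗ[F] V // InE W T ∧ P (res W π T)} ≃ {A : W →ₗ[F] W // P A} × KType W where
  toFun T := (⟨res W π T.1, T.2.2⟩, ⟨T.1 - lift W π (res W π T.1), inK_sub_lift W π hπ T.2.1⟩)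
  invFun x := ⟨x.2.1 + lift W π x.1.1, inE_add_lift W π x.2.2 x.1.1, by
    rw [res_add_lift W π hπ x.2.2]; exact x.1.2⟩
  left_inv T := by
    apply Subtype.ext
    simp only
    rw [sub_add_cancel]
  right_inv x := by
    apply Prod.ext
    · apply Subtype.ext
      simp only
      rw [res_add_lift W π hπ x.2.2]
    · apply Subtype.ext
      simp only
      rw [res_add_lift W π hπ x.2.2, add_sub_cancel_right]

/-- the fibre equivalence for pairs -/
def fiberEquivPair (Q : (W →ₗ[F] W) → W → Prop) :
    {x : (V →ₗ[F] V) × V // InE W x.1 ∧ x.2 ∈ W ∧ Q (res W π x.1) (π x.2)} ≃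
      {y : (W →ₗ[F] W) × W // Q y.1 y.2} × KType W where
  toFun x := (⟨(res W π x.1.1, π x.1.2), x.2.2.2⟩,
    ⟨x.1.1 - lift W π (res W π x.1.1), inK_sub_lift W π hπ x.2.1⟩)
  invFun y := ⟨(y.2.1 + lift W π y.1.1.1, (y.1.1.2 : V)), inE_add_lift W π y.2.2 y.1.1.1,
    y.1.1.2.2, by
      simp only
      rw [res_add_lift W π hπ y.2.2, hπ]; exact y.1.2⟩
  left_inv x := by
    apply Subtype.ext
    apply Prod.ext
    · simp only
      rw [sub_add_cancel]
    · simp only
      have := hπ ⟨x.1.2, x.2.2.1⟩
      rw [this]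
  right_inv y := by
    apply Prod.ext
    · apply Subtype.ext
      apply Prod.ext
      · simp only
        rw [res_add_lift W π hπ y.2.2]
      · simp only
        rw [hπ]
    · apply Subtype.ext
      simp only
      rw [res_add_lift W π hπ y.2.2, add_sub_cancel_right]

end proj

/-- eventual range -/
def evRange (T : V →ₗ[F] V) : Submodule F V := ⨅ m : ℕ, LinearMap.range (T ^ m)

/-- cyclic subspace -/
def cyc {U : Type*} [AddCommGroup U] [Module F U] (N : U →ₗ[F] U) (v : U) : Submodule F U :=
  Submodule.span F (Set.range fun i : ℕ => (N ^ i) v)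

section claims

variable (W : Submodule F V) (π : V →ₗ[F] W) (hπ : ∀ w : W, π (w : V) = w)

include hπ in
theorem evRange_eq_iff [Finite V] (T : V →ₗ[F] V) :
    evRange T = W ↔ InE W T ∧ Function.Surjective (res W π T) := by
  constructor
  · intro h
    obtain ⟨n, hn⟩ := Filter.eventually_atTop.mp (LinearMap.eventually_iInf_range_pow_eq T)
    have hWn : ∀ m, n ≤ m → W = LinearMap.range (T ^ m) := by
      intro m hm
      rw [← h]
      exact hn m hm
    have hpres : ∀ w ∈ W, T w ∈ W := by
      intro w hw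
      rw [hWn n le_rfl] at hw
      obtain ⟨v, rfl⟩ := hw
      rw [hWn (n + 1) (Nat.le_succ n)]
      exact ⟨v, pow_apply_succ T n v⟩
    refine ⟨⟨hpres, n, fun v => ?_⟩, ?_⟩
    · rw [hWn n le_rfl]
      exact ⟨v, rfl⟩
    · intro w
      have hw : (w : V) ∈ LinearMap.range (T ^ (n + 1)) := by
        rw [← hWn (n + 1) (Nat.le_succ n)]
        exact w.2
      obtain ⟨v, hv⟩ := hw
      have hv' : (T ^ n) v ∈ W := by
        rw [hWn n le_rfl]
        exact ⟨v, rfl⟩
      refine ⟨⟨(T ^ n) v, hv'⟩, ?_⟩
      apply Subtype.ext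
      rw [res_apply_of_preserves W π hπ hpres]
      rw [← hv, pow_apply_succ]
  · rintro ⟨hE, hsurj⟩
    apply le_antisymm
    · obtain ⟨m, hm⟩ := hE.2
      refine le_trans (iInf_le _ m) ?_
      rintro _ ⟨v, rfl⟩
      exact hm v
    · apply le_iInf
      intro m
      induction m with
      | zero =>
        intro w _
        exact ⟨w, by simp⟩
      | succ m ih =>
        intro w hw
        obtain ⟨w', hw'⟩ := hsurj ⟨w, hw⟩
        have e : T (w' : V) = w := by
          rw [← res_apply_of_preserves W π hπ hE.1, hw']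
        obtain ⟨v, hv⟩ := ih w'.2
        exact ⟨v, by rw [pow_apply_succ, hv, e]⟩

theorem cyc_preserves (N : V →ₗ[F] V) (v : V) : ∀ w ∈ cyc N v, N w ∈ cyc N v := by
  intro w hw
  have hle : (cyc N v).map N ≤ cyc N v := by
    unfold cyc
    rw [Submodule.map_span, Submodule.span_le]
    rintro _ ⟨_, ⟨i, rfl⟩, rfl⟩
    apply Submodule.subset_span
    exact ⟨i + 1, pow_apply_succ N i v⟩
  exact hle (Submodule.mem_map_of_mem hw)

theorem self_mem_cyc (N : V →ₗ[F] V) (v : V) : v ∈ cyc N v :=
  Submodule.subset_span ⟨0, by simp⟩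

include hπ in
theorem map_cyc_res {N : V →ₗ[F] V} (hN : ∀ w ∈ W, N w ∈ W) (w : W) :
    (cyc (res W π N) w).map W.subtype = cyc N (w : V) := by
  unfold cyc
  rw [Submodule.map_span]
  congr 1
  ext x
  constructor
  · rintro ⟨_, ⟨i, rfl⟩, rfl⟩
    exact ⟨i, (res_pow_apply W π hπ hN i w).symm⟩
  · rintro ⟨i, rfl⟩
    exact ⟨_, ⟨i, rfl⟩, res_pow_apply W π hπ hN i w⟩

include hπ in
theorem cyc_eq_iff (N : V →ₗ[F] V) (v : V) :
    (IsNilpotent N ∧ cyc N v = W) ↔
      InE W N ∧ v ∈ W ∧ (IsNilpotent (res W π N) ∧ cyc (res W π N) (π v) = ⊤) := by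
  constructor
  · rintro ⟨⟨m, hm⟩, hW⟩
    have hpres : ∀ w ∈ W, N w ∈ W := by
      rw [← hW]; exact cyc_preserves N v
    have hv : v ∈ W := by rw [← hW]; exact self_mem_cyc N v
    refine ⟨⟨hpres, m, fun x => ?_⟩, hv, ⟨m, ?_⟩, ?_⟩
    · rw [hm]; exact W.zero_mem
    · apply LinearMap.ext
      intro w
      apply Subtype.ext
      rw [res_pow_apply W π hπ hpres, hm]
      rfl
    · have hπv : π v = ⟨v, hv⟩ := hπ ⟨v, hv⟩
      rw [hπv]
      apply Submodule.map_injective_of_injective W.injective_subtype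
      rw [map_cyc_res W π hπ hpres, Submodule.map_subtype_top]
      exact hW
  · rintro ⟨hE, hv, ⟨a, ha⟩, hcyc⟩
    obtain ⟨m, hm⟩ := hE.2
    constructor
    · refine ⟨a + m, ?_⟩
      apply LinearMap.ext
      intro x
      rw [pow_add, Module.End.mul_apply]
      have hx : (N ^ m) x ∈ W := hm x
      have h1 := res_pow_apply W π hπ hE.1 a ⟨_, hx⟩
      rw [ha] at h1
      simp only at h1
      rw [← h1]
      rfl
    · have hπv : π v = ⟨v, hv⟩ := hπ ⟨v, hv⟩
      rw [hπv] at hcyc
      have := congrArg (Submodule.map W.subtype) hcyc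
      rw [map_cyc_res W π hπ hE.1, Submodule.map_subtype_top] at this
      exact this

end claims

section bases

variable {F U : Type*} [Field F] [AddCommGroup U] [Module F U] [Finite U]

/-- ordered bases, as linearly independent families of full size -/
abbrev Bases (F U : Type*) [Field F] [AddCommGroup U] [Module F U] : Type _ :=
  {b : Fin (Module.finrank F U) → U // LinearIndependent F b}

theorem span_eq_top_of_bases (b : Bases F U) : Submodule.span F (Set.range b.1) = ⊤ :=
  b.2.span_eq_top_of_card_eq_finrank' (Fintype.card_fin _)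

/-- surjective endomorphisms correspond to ordered bases -/
noncomputable def surjEquivBases : {A : U →ₗ[F] U // Function.Surjective A} ≃ Bases F U where
  toFun A := ⟨fun i => A.1 (Module.finBasis F U i), by
    have hinj : Function.Injective A.1 := LinearMap.injective_iff_surjective.mpr A.2
    exact (Module.finBasis F U).linearIndependent.map' A.1 (LinearMap.ker_eq_bot.mpr hinj)⟩
  invFun b := ⟨(Module.finBasis F U).constr F b.1, by
    rw [← LinearMap.range_eq_top, Module.Basis.constr_range, span_eq_top_of_bases b]⟩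
  left_inv A := by
    apply Subtype.ext
    exact (Module.finBasis F U).constr_self F A.1
  right_inv b := by
    apply Subtype.ext
    funext i
    exact (Module.finBasis F U).constr_basis F b.1 i

omit [Finite U] in
theorem pow_add_apply (A : U →ₗ[F] U) (i j : ℕ) (w : U) : (A ^ (i + j)) w = (A ^ i) ((A ^ j) w) := by
  rw [pow_add, Module.End.mul_apply]

omit [Finite U] in
/-- powers of a nilpotent map applied to a vector are independent up to the vanishing index -/
theorem indep_pow (A : U →ₗ[F] U) : ∀ (m : ℕ) (w : U), (A ^ (m + 1)) w = 0 → (A ^ m) w ≠ 0 →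
    LinearIndependent F (fun i : Fin (m + 1) => (A ^ i.val) w) := by
  intro m
  induction m with
  | zero =>
    intro w _ h0
    have : Unique (Fin (0 + 1)) := inferInstanceAs (Unique (Fin 1))
    rw [linearIndependent_unique_iff]
    have e : ∀ x : Fin (0 + 1), (x : ℕ) = 0 := fun x => Fin.val_eq_zero x
    rw [e]
    exact h0
  | succ m ih =>
    intro w h1 h0
    have hfam : (fun i : Fin (m + 1 + 1) => (A ^ i.val) w) =
        Fin.cons w (fun i : Fin (m + 1) => (A ^ i.val) (A w)) := by
      funext i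
      refine Fin.cases ?_ (fun j => ?_) i
      · simp
      · simp only [Fin.val_succ, Fin.cons_succ]
        rw [pow_apply_succ']
    rw [hfam, linearIndependent_finCons]
    refine ⟨ih (A w) ?_ ?_, ?_⟩
    · rw [← pow_apply_succ']; exact h1
    · rw [← pow_apply_succ']; exact h0
    · intro hmem
      apply h0
      have h2 := Submodule.mem_map_of_mem (f := A ^ (m + 1)) hmem
      rw [Submodule.map_span] at h2
      have hzero : (A ^ (m + 1)) '' (Set.range fun i : Fin (m + 1) => (A ^ i.val) (A w)) ⊆ {0} := by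
        rintro _ ⟨_, ⟨i, rfl⟩, rfl⟩
        change (A ^ (m + 1)) ((A ^ i.val) (A w)) = 0
        rw [← pow_apply_succ', ← pow_add_apply,
          show m + 1 + (i.val + 1) = i.val + (m + 1 + 1) by ring, pow_add_apply, h1, map_zero]
      have h3 := Submodule.span_mono (R := F) hzero h2
      rw [Submodule.span_singleton_eq_bot.mpr rfl, Submodule.mem_bot] at h3
      exact h3

/-- a cyclic nilpotent pair gives a basis of powers -/
theorem cyclic_nilpotent_basis (A : U →ₗ[F] U) (w : U) (hA : IsNilpotent A) (hc : cyc A w = ⊤) :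
    LinearIndependent F (fun i : Fin (Module.finrank F U) => (A ^ i.val) w) ∧
      (A ^ (Module.finrank F U)) w = 0 := by
  classical
  have hex : ∃ m, (A ^ m) w = 0 := by
    obtain ⟨m, hm⟩ := hA
    exact ⟨m, by rw [hm]; rfl⟩
  set m₀ := Nat.find hex with hm₀
  have hm₀0 : (A ^ m₀) w = 0 := Nat.find_spec hex
  have hvanish : ∀ i, m₀ ≤ i → (A ^ i) w = 0 := by
    intro i hi
    obtain ⟨j, rfl⟩ := Nat.exists_eq_add_of_le hi
    rw [add_comm, pow_add_apply, hm₀0, map_zero]
  -- the span of the first m₀ powers is everything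
  have hspan : Submodule.span F (Set.range fun i : Fin m₀ => (A ^ i.val) w) = ⊤ := by
    rw [← hc]
    unfold cyc
    apply le_antisymm
    · apply Submodule.span_mono
      rintro _ ⟨i, rfl⟩
      exact ⟨i.val, rfl⟩
    · rw [Submodule.span_le]
      rintro _ ⟨i, rfl⟩
      by_cases hi : i < m₀
      · exact Submodule.subset_span ⟨⟨i, hi⟩, rfl⟩
      · change (A ^ i) w ∈ _
        rw [hvanish i (by omega)]
        exact Submodule.zero_mem _
  have hindep : LinearIndependent F (fun i : Fin m₀ => (A ^ i.val) w) := by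
    rcases Nat.eq_zero_or_pos m₀ with h0 | hpos
    · have : IsEmpty (Fin m₀) := by rw [h0]; infer_instance
      exact linearIndependent_empty_type
    · obtain ⟨m, hm⟩ : ∃ m, m₀ = m + 1 := ⟨m₀ - 1, by omega⟩
      have hne : (A ^ m) w ≠ 0 := by
        have := Nat.find_min hex (m := m) (by omega)
        exact this
      have h1 : (A ^ (m + 1)) w = 0 := by rw [← hm]; exact hm₀0
      have := indep_pow A m w h1 hne
      rw [hm]
      exact this
  have hk : m₀ = Module.finrank F U := by
    have h1 := hindep.fintype_card_le_finrank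
    rw [Fintype.card_fin] at h1
    have h2 : Module.finrank F U ≤ m₀ := by
      have := finrank_span_le_card (R := F) (Set.range fun i : Fin m₀ => (A ^ i.val) w)
      rw [hspan, finrank_top] at this
      refine le_trans this ?_
      rw [Set.toFinset_range]
      refine le_trans Finset.card_image_le ?_
      simp
    omega
  rw [← hk]
  exact ⟨hindep, hm₀0⟩

end bases

section shiftsec

variable {F U : Type*} [Field F] [AddCommGroup U] [Module F U] [Finite U]

/-- a finite family extended by zero -/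
def cExt {k : ℕ} (b : Fin k → U) (j : ℕ) : U := if h : j < k then b ⟨j, h⟩ else 0

omit [Finite U] in
theorem cExt_lt {k : ℕ} (b : Fin k → U) (i : Fin k) : cExt b i.val = b i := by
  unfold cExt
  rw [dif_pos i.2]

omit [Finite U] in
theorem cExt_ge {k : ℕ} (b : Fin k → U) {j : ℕ} (h : k ≤ j) : cExt b j = 0 := by
  unfold cExt
  rw [dif_neg (by omega)]

/-- the basis attached to an ordered basis -/
noncomputable def basisOf (b : Bases F U) : Module.Basis (Fin (Module.finrank F U)) F U :=
  Module.Basis.mk b.2 (span_eq_top_of_bases b).ge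

theorem basisOf_apply (b : Bases F U) (i : Fin (Module.finrank F U)) : basisOf b i = b.1 i := by
  unfold basisOf
  rw [Module.Basis.mk_apply]

/-- the shift operator of an ordered basis -/
noncomputable def shift (b : Bases F U) : U →ₗ[F] U :=
  (basisOf b).constr F (fun i => cExt b.1 (i.val + 1))

theorem shift_basis (b : Bases F U) (i : Fin (Module.finrank F U)) :
    shift b (b.1 i) = cExt b.1 (i.val + 1) := by
  unfold shift
  rw [← basisOf_apply b i, Module.Basis.constr_basis]

theorem shift_cExt (b : Bases F U) (j : ℕ) : shift b (cExt b.1 j) = cExt b.1 (j + 1) := by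
  by_cases h : j < Module.finrank F U
  · have := shift_basis b ⟨j, h⟩
    rw [← cExt_lt b.1 ⟨j, h⟩] at this
    exact this
  · rw [cExt_ge b.1 (by omega), cExt_ge b.1 (by omega), map_zero]

theorem shift_pow_cExt (b : Bases F U) (j i : ℕ) :
    (shift b ^ j) (cExt b.1 i) = cExt b.1 (i + j) := by
  induction j with
  | zero => simp
  | succ j ih => rw [pow_apply_succ, ih, shift_cExt]; rfl

theorem shift_pow_zero (b : Bases F U) (i : Fin (Module.finrank F U)) :
    (shift b ^ i.val) (cExt b.1 0) = b.1 i := by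
  rw [shift_pow_cExt, zero_add, cExt_lt]

theorem shift_nilpotent (b : Bases F U) : IsNilpotent (shift b) := by
  refine ⟨Module.finrank F U, ?_⟩
  apply (basisOf b).ext
  intro i
  rw [basisOf_apply, ← cExt_lt b.1 i, shift_pow_cExt, cExt_ge b.1 (by omega)]
  rfl

theorem shift_cyc (b : Bases F U) : cyc (shift b) (cExt b.1 0) = ⊤ := by
  rw [eq_top_iff, ← span_eq_top_of_bases b]
  unfold cyc
  apply Submodule.span_mono
  rintro _ ⟨i, rfl⟩
  exact ⟨i.val, shift_pow_zero b i⟩

/-- cyclic nilpotent pairs correspond to ordered bases -/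
noncomputable def cycEquivBases :
    {y : (U →ₗ[F] U) × U // IsNilpotent y.1 ∧ cyc y.1 y.2 = ⊤} ≃ Bases F U where
  toFun y := ⟨fun i => (y.1.1 ^ i.val) y.1.2, (cyclic_nilpotent_basis y.1.1 y.1.2 y.2.1 y.2.2).1⟩
  invFun b := ⟨(shift b, cExt b.1 0), shift_nilpotent b, shift_cyc b⟩
  left_inv y := by
    obtain ⟨⟨A, w⟩, hA, hc⟩ := y
    have hb := cyclic_nilpotent_basis A w hA hc
    set b : Bases F U := ⟨fun i => (A ^ i.val) w, hb.1⟩ with hbdef
    apply Subtype.ext
    apply Prod.ext
    · change shift b = A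
      apply (basisOf b).ext
      intro i
      rw [basisOf_apply, shift_basis]
      change _ = A ((A ^ i.val) w)
      rw [← pow_apply_succ]
      by_cases h : i.val + 1 < Module.finrank F U
      · have := cExt_lt b.1 ⟨i.val + 1, h⟩
        exact this
      · have h' : i.val + 1 = Module.finrank F U := by have := i.2; omega
        rw [cExt_ge b.1 (by omega), h', hb.2]
    · change cExt b.1 0 = w
      by_cases h : 0 < Module.finrank F U
      · have := cExt_lt b.1 ⟨0, h⟩
        rw [this]
        change (A ^ 0) w = w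
        simp
      · have h0 : Module.finrank F U = 0 := by omega
        have : Subsingleton U := Module.finrank_zero_iff.mp h0
        exact Subsingleton.elim _ _
  right_inv b := by
    apply Subtype.ext
    funext i
    exact shift_pow_zero b i

theorem card_surj_eq_card_cyc :
    Nat.card {A : U →ₗ[F] U // Function.Surjective A} =
      Nat.card {y : (U →ₗ[F] U) × U // IsNilpotent y.1 ∧ cyc y.1 y.2 = ⊤} :=
  Nat.card_congr (surjEquivBases.trans cycEquivBases.symm)

end shiftsec

section mainsec

variable {F V : Type*} [Field F] [AddCommGroup V] [Module F V] [Finite V]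

instance finiteEnd : Finite (V →ₗ[F] V) :=
  Finite.of_injective (fun f : V →ₗ[F] V => (f : V → V)) DFunLike.coe_injective

omit [Finite V] in
theorem exists_proj (W : Submodule F V) : ∃ π : V →ₗ[F] W, ∀ w : W, π (w : V) = w := by
  obtain ⟨g, hg⟩ := LinearMap.exists_leftInverse_of_injective W.subtype (Submodule.ker_subtype W)
  exact ⟨g, fun w => by simpa using congrArg (fun f => f w) hg⟩

/-- fibre cardinalities agree -/
theorem card_fibre_eq (W : Submodule F V) :
    Nat.card {T : V →ₗ[F] V // evRange T = W} =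
      Nat.card {x : (V →ₗ[F] V) × V // IsNilpotent x.1 ∧ cyc x.1 x.2 = W} := by
  obtain ⟨π, hπ⟩ := exists_proj W
  have e1 : {T : V →ₗ[F] V // evRange T = W} ≃
      {A : W →ₗ[F] W // Function.Surjective A} × KType W :=
    (Equiv.subtypeEquivRight (fun T => evRange_eq_iff W π hπ T)).trans
      (fiberEquivSingle W π hπ (fun A => Function.Surjective A))
  have e2 : {x : (V →ₗ[F] V) × V // IsNilpotent x.1 ∧ cyc x.1 x.2 = W} ≃
      {y : (W →ₗ[F] W) × W // IsNilpotent y.1 ∧ cyc y.1 y.2 = ⊤} × KType W :=
    (Equiv.subtypeEquivRight (fun x : (V →ₗ[F] V) × V => cyc_eq_iff W π hπ x.1 x.2)).trans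
      (fiberEquivPair W π hπ (fun A w => IsNilpotent A ∧ cyc A w = ⊤))
  rw [Nat.card_congr e1, Nat.card_congr e2, Nat.card_prod, Nat.card_prod, card_surj_eq_card_cyc]

/-- Fine–Herstein: `|Nil V| * |V| = |End V|` -/
theorem card_nilpotent_mul_card :
    Nat.card {N : V →ₗ[F] V // IsNilpotent N} * Nat.card V = Nat.card (V →ₗ[F] V) := by
  classical
  have : Fintype (Submodule F V) := Fintype.ofFinite _
  have h1 : Nat.card (V →ₗ[F] V) = ∑ W : Submodule F V, Nat.card {T : V →ₗ[F] V // evRange T = W} := by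
    rw [← Nat.card_sigma]
    exact Nat.card_congr (Equiv.sigmaFiberEquiv evRange).symm
  have h2 : Nat.card {x : (V →ₗ[F] V) × V // IsNilpotent x.1} =
      ∑ W : Submodule F V, Nat.card {x : (V →ₗ[F] V) × V // IsNilpotent x.1 ∧ cyc x.1 x.2 = W} := by
    rw [← Nat.card_sigma]
    refine Nat.card_congr ?_
    refine (Equiv.sigmaFiberEquiv
      (fun x : {x : (V →ₗ[F] V) × V // IsNilpotent x.1} => cyc x.1.1 x.1.2)).symm.trans ?_
    refine Equiv.sigmaCongrRight (fun W => ?_)
    exact Equiv.subtypeSubtypeEquivSubtypeInter (fun x : (V →ₗ[F] V) × V => IsNilpotent x.1)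
      (fun x => cyc x.1 x.2 = W)
  have h3 : Nat.card {x : (V →ₗ[F] V) × V // IsNilpotent x.1} =
      Nat.card {N : V →ₗ[F] V // IsNilpotent N} * Nat.card V := by
    rw [← Nat.card_prod]
    refine Nat.card_congr ?_
    exact
      { toFun := fun x => (⟨x.1.1, x.2⟩, x.1.2)
        invFun := fun y => ⟨(y.1.1, y.2), y.1.2⟩
        left_inv := fun x => rfl
        right_inv := fun y => rfl }
  rw [← h3, h2, h1]
  exact Finset.sum_congr rfl (fun W _ => (card_fibre_eq W).symm)

end mainsec

end Cfsg.Agent.Lib.Helper99.NilCount
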