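import Cfsg.Agent.Lib.Helper99.OTsB

/-!
# K-OTs pack (S5973 + S5987): leaf O4 `plusOn_V0_iff` (597304), the type rule
-/

set_option autoImplicit false

namespace Cfsg.Agent.Lib.Helper99.OTs

open Module Cfsg.Agent.Lib.Helper98.Elus Cfsg.Agent.Lib.Helper98.Sy

universe u
variable {F : Type u} [Field F] {V : Type u} [AddCommGroup V] [Module F V]

/-- orbit counting: the number of nonzero singular vectors is congruent mod `r` to the number of those fixed by `y` -/
theorem card_sing_modEq [Fintype F] [FiniteDimensional F V] (Q : QuadraticForm F V) (r : ℕ) [Fact r.Prime]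
    (y : V →ₗ[F] V) (hy : y ^ r = 1) (hiso : QIso Q y) :
    Nat.card {x : V // x ∈ (⊤ : Submodule F V) ∧ x ≠ 0 ∧ Q x = 0} ≡
      Nat.card {x : V // x ∈ V0 y ∧ x ≠ 0 ∧ Q x = 0} [MOD r] := by
  classical
  have hr : r.Prime := Fact.out
  have : Finite V := Module.finite_of_finite F
  letI : Fintype {x : V // x ∈ (⊤ : Submodule F V) ∧ x ≠ 0 ∧ Q x = 0} := Fintype.ofFinite _
  have hne : ∀ x : V, x ≠ 0 → y x ≠ 0 := by
    intro x hx h0
    apply hx
    have h1 : (y ^ r) x = x := by rw [hy]; rfl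
    rw [← Nat.sub_add_cancel hr.pos, pow_succ, Module.End.mul_apply, h0, map_zero] at h1
    exact h1.symm
  let σ : Function.End {x : V // x ∈ (⊤ : Submodule F V) ∧ x ≠ 0 ∧ Q x = 0} :=
    fun x => ⟨y x.1, Submodule.mem_top, hne x.1 x.2.2.1, by rw [hiso]; exact x.2.2.2⟩
  have hσk : ∀ k : ℕ, ∀ x : {x : V // x ∈ (⊤ : Submodule F V) ∧ x ≠ 0 ∧ Q x = 0},
      ((σ ^ k) x).1 = (y ^ k) x.1 := by
    intro k
    induction k with
    | zero => intro x; rw [pow_zero, pow_zero]; rfl
    | succ k ih =>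
      intro x
      rw [pow_succ', pow_succ', Module.End.mul_apply, ← ih x]
      rfl
  have hσr : σ ^ r ^ 1 = 1 := by
    funext x
    apply Subtype.ext
    rw [pow_one, hσk r x, hy]
    rfl
  have h1 := Equiv.Perm.card_fixedPoints_modEq (p := r) (n := 1) hσr
  rw [← Nat.card_eq_fintype_card, ← Nat.card_eq_fintype_card] at h1
  have e : Function.fixedPoints σ ≃ {x : V // x ∈ V0 y ∧ x ≠ 0 ∧ Q x = 0} :=
    { toFun := fun x => ⟨x.1.1, (mem_V0 y _).mpr (congrArg Subtype.val x.2), x.1.2.2.1, x.1.2.2.2⟩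
      invFun := fun x => ⟨⟨x.1, Submodule.mem_top, x.2.2.1, x.2.2.2⟩,
        Subtype.ext ((mem_V0 y _).mp x.2.1)⟩
      left_inv := fun x => by
        apply Subtype.ext
        apply Subtype.ext
        rfl
      right_inv := fun x => by
        apply Subtype.ext
        rfl }
  rw [Nat.card_congr e] at h1
  exact h1

/-- the count of O3, multiplied by `q`, in a commutative ring -/
theorem cast_count_aux {R : Type*} [CommRing R] (q e N : ℕ) (hq : 1 ≤ q) (P : Prop) [Decidable P]
    (h1 : P → N = (q ^ e - 1) * (q ^ (e - 1) + 1))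
    (h2 : ¬ P → N = (q ^ e + 1) * (q ^ (e - 1) - 1)) (he : ¬ P → 1 ≤ e) :
    (q : R) * (N : R) = (q : R) ^ (2 * e) - q + (if P then 1 else -1) * ((q : R) ^ e * ((q : R) - 1)) := by
  have hqe : ∀ k, 1 ≤ q ^ k := fun k => Nat.one_le_pow _ _ hq
  by_cases hP : P
  · rw [if_pos hP, h1 hP]
    rcases Nat.eq_zero_or_pos e with he0 | he0
    · subst he0
      simp
    · obtain ⟨e', rfl⟩ : ∃ e', e = e' + 1 := ⟨e - 1, by omega⟩
      rw [Nat.add_sub_cancel]
      push_cast [Nat.cast_sub (hqe (e' + 1))]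
      ring
  · rw [if_neg hP, h2 hP]
    have he0 := he hP
    obtain ⟨e', rfl⟩ : ∃ e', e = e' + 1 := ⟨e - 1, by omega⟩
    rw [Nat.add_sub_cancel]
    push_cast [Nat.cast_sub (hqe e')]
    ring

/-- O4: THE TYPE RULE -/
theorem plusOn_V0_iff_of [Fintype F] [FiniteDimensional F V] (Q : QuadraticForm F V)
    (hV : NonDeg (QuadraticMap.polarBilin Q) ⊤)
    (d : ℕ) (hd : finrank F V = 2 * d)
    (p f : ℕ) [Fact p.Prime] (hF : Fintype.card F = p ^ f) (r : ℕ) [Fact r.Prime] (hpr : p ≠ r) (hr2 : r ≠ 2)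
    (hrF : (r : F) ≠ 0) (y : V →ₗ[F] V) (hy : y ^ r = 1) (hiso : QIso Q y)
    (hcount : ∀ (U : Submodule F V), NonDeg (QuadraticMap.polarBilin Q) U → ∀ e : ℕ, finrank F U = 2 * e →
      (PlusOn Q U → Nat.card {x : V // x ∈ U ∧ x ≠ 0 ∧ Q x = 0} =
        (Fintype.card F ^ e - 1) * (Fintype.card F ^ (e - 1) + 1)) ∧
      (¬ PlusOn Q U → Nat.card {x : V // x ∈ U ∧ x ≠ 0 ∧ Q x = 0} =
        (Fintype.card F ^ e + 1) * (Fintype.card F ^ (e - 1) - 1)))
    (hcancel : PlusOn Q (V1 r y) → PlusOn Q ⊤ → PlusOn Q (V0 y)) :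
    PlusOn Q (V0 y) ↔ (PlusOn Q ⊤ ↔ (Odd (orderOf ((Fintype.card F : ℕ) : ZMod r)) ∨
      Even (finrank F (V1 r y) / orderOf ((Fintype.card F : ℕ) : ZMod r)))) := by
  classical
  have hr : r.Prime := Fact.out
  have hi1 : 1 ≤ orderOf ((Fintype.card F : ℕ) : ZMod r) := orderOf_card_pos p f hF r hpr
  set i := orderOf ((Fintype.card F : ℕ) : ZMod r) with hi
  have hS := polarBilin_symm Q
  have hR : (QuadraticMap.polarBilin Q).IsRefl := fun a b h => by rw [hS]; exact h
  obtain ⟨hnd0, hnd1⟩ := Cfsg.Agent.Lib.Helper05.OsEl.nonDeg_inf_parts hR r hrF y hy hiso.iso ⊤ hV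
    (fun _ _ => Submodule.mem_top)
  rw [top_inf_eq] at hnd0 hnd1
  have hdim : finrank F (V0 y) + finrank F (V1 r y) = 2 * d := by
    have h := finrank_inf_V0_add_inf_V1 r hrF y hy ⊤ (fun _ _ => Submodule.mem_top)
    rw [top_inf_eq, top_inf_eq, finrank_top, hd] at h
    exact h
  obtain ⟨hcdvd, hOdd, hEven⟩ := exists_inv_ts_V1 Q hV p f hF r hpr hr2 hrF y hy hiso
  rw [← hi] at hcdvd hOdd hEven
  rcases Nat.even_or_odd i with hie | hio
  · -- `i` even: counting
    have hci : cOf i = i := by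
      unfold cOf
      rw [if_pos hie]
    rw [hci] at hcdvd
    obtain ⟨j, hj⟩ := hcdvd
    obtain ⟨h, hh⟩ := hie
    have hdiv : finrank F (V1 r y) / i = j := by
      rw [hj]
      exact Nat.mul_div_cancel_left j (by omega)
    rw [hdiv]
    have he0 : finrank F (V0 y) = 2 * (d - h * j) := by
      have : i * j = 2 * (h * j) := by rw [hh]; ring
      omega
    have hde : d = (d - h * j) + h * j := by
      have : i * j = 2 * (h * j) := by rw [hh]; ring
      omega
    set e0 := d - h * j with he0def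
    obtain ⟨cT1, cT2⟩ := hcount ⊤ hV d (by rw [finrank_top]; exact hd)
    obtain ⟨c01, c02⟩ := hcount (V0 y) hnd0 e0 he0
    have hmod := card_sing_modEq Q r y hy hiso
    have hcast := (ZMod.natCast_eq_natCast_iff _ _ _).mpr hmod
    have hq1 : 1 ≤ Fintype.card F := Fintype.card_pos
    have hT1 : ¬ PlusOn Q ⊤ → 1 ≤ d := by
      intro hcon
      by_contra h0
      apply hcon
      have hd0 : d = 0 := by omega
      have : finrank F V = 0 := by rw [hd, hd0]
      have hbot : (⊤ : Submodule F V) = ⊥ := by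
        apply Submodule.finrank_eq_zero.mp
        rw [finrank_top]; exact this
      rw [hbot]
      exact plusOn_bot Q
    have h01 : ¬ PlusOn Q (V0 y) → 1 ≤ e0 := by
      intro hcon
      by_contra h0
      apply hcon
      have : finrank F (V0 y) = 0 := by rw [he0]; omega
      rw [Submodule.finrank_eq_zero.mp this]
      exact plusOn_bot Q
    have eT := cast_count_aux (R := ZMod r) (Fintype.card F) d _ hq1 (PlusOn Q ⊤) cT1 cT2 hT1
    have e0' := cast_count_aux (R := ZMod r) (Fintype.card F) e0 _ hq1 (PlusOn Q (V0 y)) c01 c02 h01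
    rw [hcast, e0'] at eT
    -- `q ^ h = -1`
    set qq : ZMod r := ((Fintype.card F : ℕ) : ZMod r) with hqq
    have hqi : qq ^ i = 1 := pow_orderOf_eq_one qq
    have hqh : qq ^ h = -1 := by
      have h1 : qq ^ h * qq ^ h = 1 := by rw [← pow_add, ← hh]; exact hqi
      rcases mul_self_eq_one_iff.mp h1 with h2 | h2
      · exfalso
        have h3 : i ∣ h := orderOf_dvd_of_pow_eq_one h2
        have h4 := Nat.le_of_dvd (by omega) h3
        omega
      · exact h2
    have hqunit : qq ≠ 0 := by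
      intro h0
      rw [h0, zero_pow (by omega)] at hqi
      exact zero_ne_one hqi
    have hq1' : qq - 1 ≠ 0 := by
      intro h0
      have h1 : qq = 1 := sub_eq_zero.mp h0
      have h2 : qq ^ 1 = 1 := by rw [pow_one]; exact h1
      have h3 : i ∣ 1 := orderOf_dvd_of_pow_eq_one h2
      have h4 := Nat.le_of_dvd (by omega) h3
      omega
    have hne : (1 : ZMod r) ≠ -1 := by
      intro h0
      have h1 : ((2 : ℕ) : ZMod r) = 0 := by
        push_cast
        linear_combination h0
      rw [ZMod.natCast_eq_zero_iff] at h1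
      have := (Nat.prime_dvd_prime_iff_eq hr Nat.prime_two).mp h1
      exact hr2 this
    have hqd : qq ^ d = qq ^ e0 * (-1) ^ j := by
      conv_lhs => rw [hde]
      rw [pow_add, pow_mul, hqh]
    have hq2d : qq ^ (2 * d) = qq ^ (2 * e0) := by
      rw [mul_comm 2 d, pow_mul, hqd, mul_pow, ← pow_mul, ← pow_mul, mul_comm j 2, pow_mul (-1 : ZMod r) 2 j]
      simp [mul_comm]
    rw [hq2d, hqd] at eT
    have key : ((if PlusOn Q ⊤ then (1 : ZMod r) else -1) * (-1) ^ j -
        (if PlusOn Q (V0 y) then (1 : ZMod r) else -1)) * (qq ^ e0 * (qq - 1)) = 0 := by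
      linear_combination (-1 : ZMod r) * eT
    have key2 : (if PlusOn Q ⊤ then (1 : ZMod r) else -1) * (-1) ^ j =
        (if PlusOn Q (V0 y) then (1 : ZMod r) else -1) := by
      rcases mul_eq_zero.mp key with h1 | h1
      · exact sub_eq_zero.mp h1
      · exfalso
        rcases mul_eq_zero.mp h1 with h2 | h2
        · exact pow_ne_zero _ hqunit h2
        · exact hq1' h2
    have hnot : ¬ Odd i := by
      rw [Nat.not_odd_iff_even]
      exact ⟨h, hh⟩
    have hor : (Odd i ∨ Even j) ↔ Even j := by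
      constructor
      · rintro (h1 | h1)
        · exact absurd h1 hnot
        · exact h1
      · exact Or.inr
    rw [hor]
    rcases Nat.even_or_odd j with hje | hjo
    · rw [hje.neg_one_pow, mul_one] at key2
      by_cases hT : PlusOn Q ⊤
      · rw [if_pos hT] at key2
        by_cases h0 : PlusOn Q (V0 y)
        · exact ⟨fun _ => ⟨fun _ => hje, fun _ => hT⟩, fun _ => h0⟩
        · rw [if_neg h0] at key2
          exact absurd key2 hne
      · rw [if_neg hT] at key2
        by_cases h0 : PlusOn Q (V0 y)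
        · rw [if_pos h0] at key2
          exact absurd key2.symm hne
        · exact ⟨fun h => absurd h h0, fun h => absurd (h.mpr hje) hT⟩
    · rw [hjo.neg_one_pow] at key2
      have hjne : ¬ Even j := Nat.not_even_iff_odd.mpr hjo
      by_cases hT : PlusOn Q ⊤
      · rw [if_pos hT, one_mul] at key2
        by_cases h0 : PlusOn Q (V0 y)
        · rw [if_pos h0] at key2
          exact absurd key2.symm hne
        · exact ⟨fun h => absurd h h0, fun h => absurd (h.mp hT) hjne⟩
      · rw [if_neg hT] at key2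
        by_cases h0 : PlusOn Q (V0 y)
        · exact ⟨fun _ => ⟨fun h => absurd h hT, fun h => absurd h hjne⟩, fun _ => h0⟩
        · rw [if_neg h0] at key2
          exfalso
          apply hne
          linear_combination key2
  · -- `i` odd: `V1` is hyperbolic
    have hci : cOf i = 2 * i := by
      unfold cOf
      rw [if_neg (Nat.not_even_iff_odd.mpr hio)]
    rw [hci] at hcdvd
    obtain ⟨j, hj⟩ := hcdvd
    have hij : 2 * i * j = 2 * (i * j) := by ring
    obtain ⟨Z1, hZ1a, hZ1b, hZ1c, hZ1d⟩ := hOdd hio j (by rw [hj, hij])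
    have hp1 : PlusOn Q (V1 r y) := ⟨Z1, hZ1a, hZ1c, by rw [hZ1d, hj, hij]⟩
    have hmain : PlusOn Q (V0 y) ↔ PlusOn Q ⊤ := by
      constructor
      · rintro ⟨Z0, hZ0a, hZ0b, hZ0c⟩
        obtain ⟨g1, g2, g3⟩ := glue_parts Q r hrF y hy hiso Z0 Z1 hZ0a hZ0b hZ1a hZ1b hZ1c
        refine ⟨Z0 ⊔ Z1, le_top, g2, ?_⟩
        rw [g3, finrank_top, hd]
        omega
      · exact hcancel hp1
    rw [hmain]
    constructor
    · intro h
      exact ⟨fun _ => Or.inl hio, fun _ => h⟩
    · intro h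
      exact h.mpr (Or.inl hio)

end Cfsg.Agent.Lib.Helper99.OTs
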