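import Cfsg.Agent.Lib.Helper99.OTsD
import Cfsg.Agent.Lib.Helper21.OTsC1a
import Cfsg.Agent.Lib.Helper79.OTsO3
import Cfsg.Agent.Lib.Helper63.OTsO6

/-!
# K-OTs pack (S5973 + S5987): leaf C2 `card_ts_minus` (597321): instantiation of helper21's abstract frame count
-/

set_option autoImplicit false

namespace Cfsg.Agent.Lib.Helper99.OTs

open Module Cfsg.Agent.Lib.Helper98.Elus Cfsg.Agent.Lib.Helper98.Sy

universe u
variable {F : Type u} [Field F]

/-- C2: the number of totally singular `m`-spaces of the minus-type space -/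
theorem card_ts_minus [Fintype F] (d m : ℕ) (hd : 4 ≤ d) (hm : 1 ≤ m) (hmd : m + 1 ≤ d) (a b : F)
    (hab : ∀ x y : F, x ^ 2 + a * x * y + b * y ^ 2 = 0 → x = 0 ∧ y = 0) :
    Nat.card {W : Submodule F ((Fin (d - 1) ⊕ Fin (d - 1)) ⊕ Fin 2 → F) // Module.finrank F ↥W = m ∧
        Cfsg.Geo.IsTotallySingularQuad (Cfsg.quadFormMinus (d - 1) F a b) W} *
      ∏ j ∈ Finset.range m, (Fintype.card F ^ (j + 1) - 1) =
    ∏ j ∈ Finset.range m, ((Fintype.card F ^ (d - j) + 1) * (Fintype.card F ^ (d - j - 1) - 1)) := by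
  have hV := nonDeg_QMinus (d - 1) a b hab
  have hminus := not_plusOn_QMinus (d - 1) a b hab
  have hfin : finrank F ((Fin (d - 1) ⊕ Fin (d - 1)) ⊕ Fin 2 → F) = 2 * d := by
    rw [Module.finrank_pi, Fintype.card_sum, Fintype.card_sum, Fintype.card_fin, Fintype.card_fin]
    omega
  have h := Cfsg.Agent.Lib.Helper21.OTs.card_ts_mul_q (Cfsg.Agent.Lib.Helper50.QMinus (d - 1) F a b) hV d hfin
    (fun e => (Fintype.card F ^ e + 1) * (Fintype.card F ^ (e - 1) - 1))
    (fun U hU e' hUd htype =>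
      (Cfsg.Agent.Lib.Helper79.OTs.card_singular _ U hU e' hUd).2 (fun hp => hminus (htype.mp hp)))
    (fun U0 U1 h0 h1 hort hsup hp1 hp =>
      Cfsg.Agent.Lib.Helper63.OTs.plusOn_cancel _ hV U0 U1 h0 h1 hort hsup hp1 hp) m (by omega)
  exact h

end Cfsg.Agent.Lib.Helper99.OTs
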