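import Cfsg.Agent.Lib.Helper99.OTsB
import Cfsg.Agent.Lib.Helper50.TypeCriteria
import Cfsg.Agent.Lib.Helper50.MinusLang
import Cfsg.Agent.Lib.Helper50.PlusForm
import Cfsg.Agent.Lib.Helper50.GeoBridge

/-!
# K-OTs pack (S5973 + S5987): generic glue: arithmetic consequences of the count, scalar adjustment, concrete bridges
-/

set_option autoImplicit false

namespace Cfsg.Agent.Lib.Helper99.OTs

open Module Cfsg.Agent.Lib.Helper98.Elus Cfsg.Agent.Lib.Helper98.Sy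

universe u

/-! ### arithmetic consequences of the count -/

theorem not_dvd_pow_sub_one (p f k : ℕ) (hp : p.Prime) (hf : 1 ≤ f) (hk : 1 ≤ k) : ¬ p ∣ (p ^ f) ^ k - 1 := by
  intro h
  have h1 : p ∣ (p ^ f) ^ k := by
    rw [← pow_mul]
    exact dvd_pow_self p (by positivity)
  have h2 : 1 ≤ (p ^ f) ^ k := Nat.one_le_pow _ _ (Nat.one_le_pow _ _ hp.pos)
  have h3 : p ∣ 1 := by
    have := Nat.dvd_sub h1 h
    rwa [Nat.sub_sub_self h2] at this
  exact hp.one_lt.ne' (Nat.dvd_one.mp h3)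

theorem not_dvd_pow_add_one (p f k : ℕ) (hp : p.Prime) (hf : 1 ≤ f) (hk : 1 ≤ k) : ¬ p ∣ (p ^ f) ^ k + 1 := by
  intro h
  have h1 : p ∣ (p ^ f) ^ k := by
    rw [← pow_mul]
    exact dvd_pow_self p (by positivity)
  have h3 : p ∣ 1 := (Nat.dvd_add_right h1).mp h
  exact hp.one_lt.ne' (Nat.dvd_one.mp h3)

theorem order_dvd_of_dvd_pow_sub_one (q k r : ℕ) (hq : 1 ≤ q) (h : r ∣ q ^ k - 1) :
    orderOf ((q : ℕ) : ZMod r) ∣ k := by
  apply orderOf_dvd_of_pow_eq_one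
  have hone : 1 ≤ q ^ k := Nat.one_le_pow _ _ hq
  have h3 := (ZMod.natCast_eq_zero_iff _ _).mpr h
  rw [Nat.cast_sub hone, Nat.cast_pow, Nat.cast_one, sub_eq_zero] at h3
  exact h3

theorem order_dvd_of_dvd_pow_add_one (q k r : ℕ) [Fact r.Prime] (hr2 : r ≠ 2) (h : r ∣ q ^ k + 1) :
    orderOf ((q : ℕ) : ZMod r) ∣ 2 * k ∧ ¬ orderOf ((q : ℕ) : ZMod r) ∣ k := by
  have hr : r.Prime := Fact.out
  have h3 := (ZMod.natCast_eq_zero_iff _ _).mpr h
  rw [Nat.cast_add, Nat.cast_pow, Nat.cast_one] at h3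
  have h4 : ((q : ℕ) : ZMod r) ^ k = -1 := eq_neg_of_add_eq_zero_left h3
  constructor
  · apply orderOf_dvd_of_pow_eq_one
    rw [mul_comm, pow_mul, h4]
    simp
  · intro hdvd
    have h5 : ((q : ℕ) : ZMod r) ^ k = 1 := orderOf_dvd_iff_pow_eq_one.mp hdvd
    rw [h5] at h4
    have h1 : ((2 : ℕ) : ZMod r) = 0 := by
      push_cast
      linear_combination h4
    rw [ZMod.natCast_eq_zero_iff] at h1
    exact hr2 ((Nat.prime_dvd_prime_iff_eq hr Nat.prime_two).mp h1)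

/-- consequences of the count, plus type -/
theorem count_consequences_plus (p f : ℕ) (hp : p.Prime) (hf : 1 ≤ f) (d m N r : ℕ) [Fact r.Prime]
    (hmd : m < d)
    (hcount : N * ∏ j ∈ Finset.range m, ((p ^ f) ^ (j + 1) - 1) =
      ∏ j ∈ Finset.range m, (((p ^ f) ^ (d - j) - 1) * ((p ^ f) ^ (d - j - 1) + 1)))
    (hr : r ∣ N) :
    r ≠ p ∧ (r ≠ 2 → ∃ j0, j0 < m ∧ (orderOf (((p ^ f : ℕ) : ℕ) : ZMod r) ∣ (d - j0) ∨
      (orderOf (((p ^ f : ℕ) : ℕ) : ZMod r) ∣ 2 * (d - j0 - 1) ∧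
        ¬ orderOf (((p ^ f : ℕ) : ℕ) : ZMod r) ∣ (d - j0 - 1)))) := by
  have hrp : r.Prime := Fact.out
  have h2' : r ∣ ∏ j ∈ Finset.range m, (((p ^ f) ^ (d - j) - 1) * ((p ^ f) ^ (d - j - 1) + 1)) := by
    rw [← hcount]
    exact dvd_mul_of_dvd_left hr _
  obtain ⟨j, hj, hdvd⟩ := (Prime.dvd_finsetProd_iff hrp.prime _).mp h2'
  have hj' : j < m := Finset.mem_range.mp hj
  have hq1 : 1 ≤ p ^ f := Nat.one_le_pow _ _ hp.pos
  constructor
  · rintro rfl
    rcases (Nat.Prime.dvd_mul hrp).mp hdvd with h | h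
    · exact not_dvd_pow_sub_one r f (d - j) hp hf (by omega) h
    · exact not_dvd_pow_add_one r f (d - j - 1) hp hf (by omega) h
  · intro hr2
    refine ⟨j, hj', ?_⟩
    rcases (Nat.Prime.dvd_mul hrp).mp hdvd with h | h
    · left
      exact order_dvd_of_dvd_pow_sub_one _ _ _ hq1 h
    · right
      exact order_dvd_of_dvd_pow_add_one _ _ _ hr2 h

/-- consequences of the count, minus type -/
theorem count_consequences_minus (p f : ℕ) (hp : p.Prime) (hf : 1 ≤ f) (d m N r : ℕ) [Fact r.Prime]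
    (hmd : m < d)
    (hcount : N * ∏ j ∈ Finset.range m, ((p ^ f) ^ (j + 1) - 1) =
      ∏ j ∈ Finset.range m, (((p ^ f) ^ (d - j) + 1) * ((p ^ f) ^ (d - j - 1) - 1)))
    (hr : r ∣ N) :
    r ≠ p ∧ (r ≠ 2 → ∃ j0, j0 < m ∧ ((orderOf (((p ^ f : ℕ) : ℕ) : ZMod r) ∣ 2 * (d - j0) ∧
        ¬ orderOf (((p ^ f : ℕ) : ℕ) : ZMod r) ∣ (d - j0)) ∨
      orderOf (((p ^ f : ℕ) : ℕ) : ZMod r) ∣ (d - j0 - 1))) := by
  have hrp : r.Prime := Fact.out
  have h2' : r ∣ ∏ j ∈ Finset.range m, (((p ^ f) ^ (d - j) + 1) * ((p ^ f) ^ (d - j - 1) - 1)) := by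
    rw [← hcount]
    exact dvd_mul_of_dvd_left hr _
  obtain ⟨j, hj, hdvd⟩ := (Prime.dvd_finsetProd_iff hrp.prime _).mp h2'
  have hj' : j < m := Finset.mem_range.mp hj
  have hq1 : 1 ≤ p ^ f := Nat.one_le_pow _ _ hp.pos
  constructor
  · rintro rfl
    rcases (Nat.Prime.dvd_mul hrp).mp hdvd with h | h
    · exact not_dvd_pow_add_one r f (d - j) hp hf (by omega) h
    · exact not_dvd_pow_sub_one r f (d - j - 1) hp hf (by omega) h
  · intro hr2
    refine ⟨j, hj', ?_⟩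
    rcases (Nat.Prime.dvd_mul hrp).mp hdvd with h | h
    · left
      exact order_dvd_of_dvd_pow_add_one _ _ _ hr2 h
    · right
      exact order_dvd_of_dvd_pow_sub_one _ _ _ hq1 h

/-! ### scalar adjustment -/

variable {F : Type u} [Field F] {V : Type u} [AddCommGroup V] [Module F V]

/-- an isometry `g` with `g ^ r = z • 1`, `r` odd: `z • g` is an isometry of order dividing `r` with the same invariant subspaces -/
theorem scalar_adjust (Q : QuadraticForm F V) (hQ : ∃ v, Q v ≠ 0) (r : ℕ) (hr : Odd r) (g : V →ₗ[F] V)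
    (hiso : QIso Q g) (z : F) (hg : g ^ r = z • 1) :
    ∃ y : V →ₗ[F] V, QIso Q y ∧ y ^ r = 1 ∧ ∀ W : Submodule F V, Inv y W → Inv g W := by
  have hpow : ∀ k : ℕ, ∀ v, Q ((g ^ k) v) = Q v := by
    intro k
    induction k with
    | zero => intro v; simp
    | succ k ih => intro v; rw [pow_succ, Module.End.mul_apply, ih, hiso]
  obtain ⟨v0, hv0⟩ := hQ
  have hz2 : z * z = 1 := by
    have h1 := hpow r v0
    rw [hg, LinearMap.smul_apply, Module.End.one_apply, QuadraticMap.map_smul, smul_eq_mul] at h1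
    have h2 : (z * z - 1) * Q v0 = 0 := by linear_combination h1
    rcases mul_eq_zero.mp h2 with h3 | h3
    · exact sub_eq_zero.mp h3
    · exact absurd h3 hv0
  have hz0 : z ≠ 0 := by
    rintro rfl
    simp at hz2
  refine ⟨z • g, ?_, ?_, ?_⟩
  · intro v
    rw [LinearMap.smul_apply, QuadraticMap.map_smul, smul_eq_mul, hiso, hz2, one_mul]
  · rw [smul_pow, hg, smul_smul]
    obtain ⟨k, hk⟩ := hr
    have : z ^ r * z = 1 := by
      rw [hk, pow_succ, pow_mul, pow_two, hz2, one_pow, one_mul, hz2]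
    rw [this, one_smul]
  · intro W hW v hv
    have h1 := hW v hv
    rw [LinearMap.smul_apply] at h1
    have h2 := W.smul_mem z⁻¹ h1
    rwa [smul_smul, inv_mul_cancel₀ hz0, one_smul] at h2

/-- a nondegenerate quadratic form on a nonzero space takes a nonzero value -/
theorem exists_ne_zero_of_nonDeg [FiniteDimensional F V] (Q : QuadraticForm F V)
    (hV : NonDeg (QuadraticMap.polarBilin Q) ⊤) (h : 0 < finrank F V) : ∃ v, Q v ≠ 0 := by
  by_contra hcon
  push Not at hcon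
  obtain ⟨v, hv⟩ := Module.finrank_pos_iff_exists_ne_zero.mp h
  apply hv
  apply hV v Submodule.mem_top
  intro w _
  show QuadraticMap.polar Q v w = 0
  unfold QuadraticMap.polar
  rw [hcon, hcon, hcon]
  simp

/-- transfer of an invariant totally singular subspace along an isometric intertwiner -/
theorem transfer_map {V' : Type u} [AddCommGroup V'] [Module F V'] (Q : QuadraticForm F V)
    (Q' : QuadraticForm F V') (g : V →ₗ[F] V) (y : V' →ₗ[F] V') (E : V ≃ₗ[F] V')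
    (hE1 : ∀ w, E (g w) = y (E w)) (hE2 : ∀ w, Q' (E w) = Q w)
    (W : Submodule F V) (hinv : Inv g W) (hts : TS Q W) :
    Inv y (W.map (E : V →ₗ[F] V')) ∧ TS Q' (W.map (E : V →ₗ[F] V')) ∧
      finrank F ↥(W.map (E : V →ₗ[F] V')) = finrank F W := by
  refine ⟨?_, ?_, ?_⟩
  · rintro _ ⟨u, hu, rfl⟩
    show y (E u) ∈ _
    rw [← hE1]
    exact ⟨_, hinv u hu, rfl⟩
  · rintro _ ⟨u, hu, rfl⟩
    show Q' (E u) = 0
    rw [hE2]
    exact hts u hu
  · exact LinearEquiv.finrank_map_eq E W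

/-! ### concrete bridges -/

open Cfsg.Agent.Lib.Helper50 in
theorem nonDeg_QPlus (d : ℕ) : NonDeg (QuadraticMap.polarBilin (QPlus d F)) ⊤ := by
  intro u _ h
  exact (QPlus_nondegenerate (m := d) (F := F)).1 u (fun v => h v Submodule.mem_top)

open Cfsg.Agent.Lib.Helper50 in
theorem plusOn_QPlus (d : ℕ) : PlusOn (QPlus d F) ⊤ := by
  obtain ⟨X, hX1, hX2⟩ := exists_totally_singular_of_plusType (QPlus d F) d
    ⟨LinearEquiv.refl F _, fun v => rfl⟩
  refine ⟨X, le_top, hX2, ?_⟩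
  rw [hX1, finrank_top, Module.finrank_pi, Fintype.card_sum, Fintype.card_fin]
  ring

open Cfsg.Agent.Lib.Helper50 in
theorem nonDeg_QMinus [Fintype F] (k : ℕ) (a b : F)
    (hab : ∀ x y : F, x ^ 2 + a * x * y + b * y ^ 2 = 0 → x = 0 ∧ y = 0) :
    NonDeg (QuadraticMap.polarBilin (QMinus k F a b)) ⊤ := by
  intro u _ h
  exact (QMinus_nondeg_of_anis k a b hab).1 u (fun v => h v Submodule.mem_top)

open Cfsg.Agent.Lib.Helper50 in
theorem not_plusOn_QMinus [Fintype F] (k : ℕ) (a b : F)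
    (hab : ∀ x y : F, x ^ 2 + a * x * y + b * y ^ 2 = 0 → x = 0 ∧ y = 0) :
    ¬ PlusOn (QMinus k F a b) ⊤ := by
  rintro ⟨Z, -, hZ, hZd⟩
  have hfin : finrank F ((Fin k ⊕ Fin k) ⊕ Fin 2 → F) = 2 * (k + 1) := by
    rw [Module.finrank_pi, Fintype.card_sum, Fintype.card_sum, Fintype.card_fin, Fintype.card_fin]
    ring
  rw [finrank_top, hfin] at hZd
  have hp : IsPlusType (QMinus k F a b) (k + 1) :=
    plusType_of_totally_singular (k + 1) (QMinus k F a b)
      (QND_of_nondegenerate _ (QMinus_nondeg_of_anis k a b hab)) hfin Z (by omega) hZ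
  exact not_plus_of_anis a b (QMinus k F a b) k (LinearEquiv.refl F _) (fun v => rfl) hab hp

end Cfsg.Agent.Lib.Helper99.OTs
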