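import Cfsg.Agent.Lib.Helper99.OTsO4
import Cfsg.Agent.Lib.Helper99.OTsO9
import Cfsg.Agent.Lib.Helper82.OTsO7
import Cfsg.Agent.Lib.Helper81.OTsO10
import Cfsg.Agent.Lib.Helper05.OTsO13a
import Cfsg.Agent.Lib.Helper70.OTsO14a
import Cfsg.Agent.Lib.Helper48.OTsO15a

/-!
# K-OTs pack (S5973 + S5987): the abstract derangements O13, O14, O15 (exact spec signatures): wrappers of the cores of
helper5 (`OTsO13a`), helper70 (`OTsO14a`), helper48 (`OTsO15a`) with the leaves O4, O7, O9, O10 plugged in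
-/

set_option autoImplicit false

namespace Cfsg.Agent.Lib.Helper99.OTs

open Module Cfsg.Agent.Lib.Helper98.Elus Cfsg.Agent.Lib.Helper98.Sy

universe u
variable {F : Type u} [Field F]

theorem exists_derangement_D [Fintype F] (p f : ℕ) [Fact p.Prime] (hF : Fintype.card F = p ^ f)
    (r : ℕ) [Fact r.Prime] (hpr : p ≠ r) (hr2 : r ≠ 2) (hrF : (r : F) ≠ 0)
    (heven : Even (orderOf ((Fintype.card F : ℕ) : ZMod r))) (τ : Prop) (d m j : ℕ) (hj : 1 ≤ j)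
    (hjd : orderOf ((Fintype.card F : ℕ) : ZMod r) * j ≤ 2 * d)
    (hval : ¬ (τ ↔ Even j) → orderOf ((Fintype.card F : ℕ) : ZMod r) * j + 2 ≤ 2 * d)
    (h1 : (τ ↔ Even j) → 2 * d - orderOf ((Fintype.card F : ℕ) : ZMod r) * j <
      2 * (m % orderOf ((Fintype.card F : ℕ) : ZMod r)))
    (h2 : ¬ (τ ↔ Even j) → 2 * d - orderOf ((Fintype.card F : ℕ) : ZMod r) * j <
      2 * (m % orderOf ((Fintype.card F : ℕ) : ZMod r)) + 2) :
    ∃ (V : Type u) (_ : AddCommGroup V) (_ : Module F V) (_ : FiniteDimensional F V)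
      (Q : QuadraticForm F V) (y : V →ₗ[F] V),
      NonDeg (QuadraticMap.polarBilin Q) ⊤ ∧ finrank F V = 2 * d ∧ (PlusOn Q ⊤ ↔ τ) ∧ QIso Q y ∧ y ^ r = 1 ∧
      (∀ z : F, y ≠ z • 1) ∧ ∀ W : Submodule F V, Inv y W → TS Q W → finrank F W ≠ m :=
  Cfsg.Agent.Lib.Helper05.OTs.exists_derangement_D_of p f hF r hpr hr2 hrF heven τ d m j hj hjd hval h1 h2
    (fun V _ _ _ Q hV d hd y hy hiso => plusOn_V0_iff Q hV d hd p f hF r hpr hr2 hrF y hy hiso)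
    (Cfsg.Agent.Lib.Helper82.OTs.exists_model_blocks p f hF r hpr hr2 hrF j)
    (fun e τ hτ => exists_fixed_part e τ hτ)
    (fun V _ _ _ Q1 hV1 y1 hy hiso hg V0' _ _ _ Q0 hV0 => by
      obtain ⟨V', a1, a2, a3, Q, y, h1, h2, h3, h4, h5, h6, h7, h8, -⟩ :=
        Cfsg.Agent.Lib.Helper81.OTs.exists_prod_model Q1 hV1 r
          ((Fact.out : r.Prime).odd_of_ne_two hr2) hrF y1 hy hiso hg Q0 hV0
      exact ⟨V', a1, a2, a3, Q, y, h1, h2, h3, h4, h5, h6, h7, h8⟩)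

theorem exists_derangement_B [Fintype F] (p f : ℕ) [Fact p.Prime] [CharP F p] (hF : Fintype.card F = p ^ f)
    (r : ℕ) [Fact r.Prime] (hpr : p ≠ r) (hr2 : r ≠ 2) (hrF : (r : F) ≠ 0)
    (heven : Even (orderOf ((Fintype.card F : ℕ) : ZMod r))) (τ : Prop) (d m j : ℕ) (hj : 1 ≤ j)
    (hjt : j ≤ (r - 1) / orderOf ((Fintype.card F : ℕ) : ZMod r))
    (hjd : orderOf ((Fintype.card F : ℕ) : ZMod r) * j ≤ 2 * d)
    (hval : ¬ (τ ↔ Even j) → orderOf ((Fintype.card F : ℕ) : ZMod r) * j + 2 ≤ 2 * d)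
    (h1 : (τ ↔ Even j) → 2 * d - orderOf ((Fintype.card F : ℕ) : ZMod r) * j < 2 * m)
    (h2 : ¬ (τ ↔ Even j) → 2 * d - orderOf ((Fintype.card F : ℕ) : ZMod r) * j < 2 * m + 2) :
    ∃ (V : Type u) (_ : AddCommGroup V) (_ : Module F V) (_ : FiniteDimensional F V)
      (Q : QuadraticForm F V) (y : V →ₗ[F] V),
      NonDeg (QuadraticMap.polarBilin Q) ⊤ ∧ finrank F V = 2 * d ∧ (PlusOn Q ⊤ ↔ τ) ∧ QIso Q y ∧ y ^ r = 1 ∧
      (∀ z : F, y ≠ z • 1) ∧ ∀ W : Submodule F V, Inv y W → TS Q W → finrank F W ≠ m :=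
  Cfsg.Agent.Lib.Helper70.OTs.exists_derangement_B_of p f hF r hpr hr2 hrF heven τ d m j hj hjt hjd hval h1 h2
    (fun V _ _ _ Q hV d hd y hy hiso => plusOn_V0_iff Q hV d hd p f hF r hpr hr2 hrF y hy hiso)
    (fun e τ hτ => exists_fixed_part e τ hτ)

theorem exists_derangement_odd [Fintype F] (p f : ℕ) [Fact p.Prime] (hF : Fintype.card F = p ^ f)
    (r : ℕ) [Fact r.Prime] (hpr : p ≠ r) (hr2 : r ≠ 2) (hrF : (r : F) ≠ 0)
    (hodd : Odd (orderOf ((Fintype.card F : ℕ) : ZMod r))) (τ : Prop) (d m j : ℕ) (hj : 1 ≤ j)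
    (hjd : 2 * (orderOf ((Fintype.card F : ℕ) : ZMod r) * j) ≤ 2 * d)
    (hval : ¬ τ → 2 * (orderOf ((Fintype.card F : ℕ) : ZMod r) * j) + 2 ≤ 2 * d)
    (h1 : τ → ∀ b, b ≤ j → orderOf ((Fintype.card F : ℕ) : ZMod r) * b ≤ m →
      2 * d - 2 * (orderOf ((Fintype.card F : ℕ) : ZMod r) * j) <
        2 * (m - orderOf ((Fintype.card F : ℕ) : ZMod r) * b))
    (h2 : ¬ τ → ∀ b, b ≤ j → orderOf ((Fintype.card F : ℕ) : ZMod r) * b ≤ m →
      2 * d - 2 * (orderOf ((Fintype.card F : ℕ) : ZMod r) * j) <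
        2 * (m - orderOf ((Fintype.card F : ℕ) : ZMod r) * b) + 2) :
    ∃ (V : Type u) (_ : AddCommGroup V) (_ : Module F V) (_ : FiniteDimensional F V)
      (Q : QuadraticForm F V) (y : V →ₗ[F] V),
      NonDeg (QuadraticMap.polarBilin Q) ⊤ ∧ finrank F V = 2 * d ∧ (PlusOn Q ⊤ ↔ τ) ∧ QIso Q y ∧ y ^ r = 1 ∧
      (∀ z : F, y ≠ z • 1) ∧ ∀ W : Submodule F V, Inv y W → TS Q W → finrank F W ≠ m :=
  Cfsg.Agent.Lib.Helper48.OTs.exists_derangement_odd_of p f hF r hpr hr2 hrF hodd τ d m j hj hjd hval h1 h2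
    (fun Q hV d hd y hy hiso => plusOn_V0_iff Q hV d hd p f hF r hpr hr2 hrF y hy hiso)
    (Cfsg.Agent.Lib.Helper82.OTs.exists_model_blocks p f hF r hpr hr2 hrF j)
    (fun e τ hτ => exists_fixed_part e τ hτ)
    (fun Q1 hV1 y1 hy hiso hg _ _ _ _ Q0 hV0 =>
      Cfsg.Agent.Lib.Helper81.OTs.exists_prod_model Q1 hV1 r
        ((Fact.out : r.Prime).odd_of_ne_two hr2) hrF y1 hy hiso hg Q0 hV0)

end Cfsg.Agent.Lib.Helper99.OTs
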