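import Cfsg.Agent.Lib.Helper99.OTsD

/-!
# K-OTs pack (S5973 + S5987): small glue lemmas for the final statements
-/

set_option autoImplicit false

namespace Cfsg.Agent.Lib.Helper99.OTs

open Module Cfsg.Agent.Lib.Helper98.Elus Cfsg.Agent.Lib.Helper98.Sy

universe u
variable {F : Type u} [Field F] {V : Type u} [AddCommGroup V] [Module F V]

theorem nonDeg_V0 [FiniteDimensional F V] (Q : QuadraticForm F V) (hV : NonDeg (QuadraticMap.polarBilin Q) ⊤)
    (r : ℕ) (hrF : (r : F) ≠ 0) (y : V →ₗ[F] V) (hy : y ^ r = 1) (hiso : QIso Q y) :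
    NonDeg (QuadraticMap.polarBilin Q) (V0 y) := by
  have hS := polarBilin_symm Q
  have hR : (QuadraticMap.polarBilin Q).IsRefl := fun a b h => by rw [hS]; exact h
  have h := (Cfsg.Agent.Lib.Helper05.OsEl.nonDeg_inf_parts hR r hrF y hy hiso.iso ⊤ hV
    (fun _ _ => Submodule.mem_top)).1
  rwa [top_inf_eq] at h

theorem nonDeg_V1 [FiniteDimensional F V] (Q : QuadraticForm F V) (hV : NonDeg (QuadraticMap.polarBilin Q) ⊤)
    (r : ℕ) (hrF : (r : F) ≠ 0) (y : V →ₗ[F] V) (hy : y ^ r = 1) (hiso : QIso Q y) :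
    NonDeg (QuadraticMap.polarBilin Q) (V1 r y) := by
  have hS := polarBilin_symm Q
  have hR : (QuadraticMap.polarBilin Q).IsRefl := fun a b h => by rw [hS]; exact h
  have h := (Cfsg.Agent.Lib.Helper05.OsEl.nonDeg_inf_parts hR r hrF y hy hiso.iso ⊤ hV
    (fun _ _ => Submodule.mem_top)).2
  rwa [top_inf_eq] at h

/-- `t = (r - 1) / i ≥ 1` -/
theorem one_le_t (q r : ℕ) [Fact r.Prime] (hi1 : 1 ≤ orderOf ((q : ℕ) : ZMod r)) :
    1 ≤ (r - 1) / orderOf ((q : ℕ) : ZMod r) := by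
  have hr : r.Prime := Fact.out
  apply Nat.div_pos _ (by omega)
  have hq0 : ((q : ℕ) : ZMod r) ≠ 0 := by
    intro h0
    have := orderOf_pos_iff.mp (by omega : 0 < orderOf ((q : ℕ) : ZMod r))
    rw [h0] at this
    obtain ⟨n, hn0, hn1⟩ := this.exists_pow_eq_one
    rw [zero_pow (by omega)] at hn1
    exact absurd hn1 zero_ne_one
  have hdvd : orderOf ((q : ℕ) : ZMod r) ∣ r - 1 := ZMod.orderOf_dvd_card_sub_one hq0
  have := hr.two_le
  exact Nat.le_of_dvd (by omega) hdvd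

/-- elements of `Ω(Q)` are isometries -/
theorem qiso_of_mem_omegaGL {ι : Type} [Fintype ι] [DecidableEq ι] (Q : QuadraticForm F (ι → F))
    (x : Matrix.GeneralLinearGroup ι F) (hx : x ∈ Cfsg.Geo.omegaGL (⇑Q)) :
    QIso Q (Matrix.toLin' (x : Matrix ι ι F)) := by
  intro v
  obtain ⟨hxi, -⟩ := (Cfsg.Agent.Lib.Helper50.mem_omegaGL_iff _ x).mp hx
  rw [Matrix.toLin'_apply]
  exact Cfsg.Agent.Lib.Helper50.O_isometry _ ⟨x, hxi⟩ v

theorem toLin'_pow_of_scalar {ι : Type} [Fintype ι] [DecidableEq ι] (x : Matrix.GeneralLinearGroup ι F)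
    (r : ℕ) (z : F) (h : ((x ^ r : Matrix.GeneralLinearGroup ι F) : Matrix ι ι F) = z • (1 : Matrix ι ι F)) :
    (Matrix.toLin' (x : Matrix ι ι F)) ^ r = z • (1 : (ι → F) →ₗ[F] (ι → F)) := by
  rw [← Matrix.toLin'_pow, ← Units.val_pow_eq_pow_val, h, map_smul, Matrix.toLin'_one]
  rfl

theorem map_le_iff_inv (g : V →ₗ[F] V) (W : Submodule F V) : W.map g ≤ W ↔ Inv g W :=
  ⟨fun h v hv => h ⟨v, hv, rfl⟩, fun h => by
    rintro _ ⟨v, hv, rfl⟩
    exact h v hv⟩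

theorem cast_ne_zero_of_ne [Fintype F] {p : ℕ} [Fact p.Prime] [CharP F p] (r : ℕ) [Fact r.Prime] (hrp : r ≠ p) :
    (r : F) ≠ 0 := by
  have hr : r.Prime := Fact.out
  have hp : p.Prime := Fact.out
  intro h
  rw [CharP.cast_eq_zero_iff F p] at h
  exact hrp ((Nat.prime_dvd_prime_iff_eq hp hr).mp h).symm

end Cfsg.Agent.Lib.Helper99.OTs
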