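import Mathlib

set_option autoImplicit false

namespace Cfsg.Agent.Lib.Helper99

open MulAction

/-- A `p`-group `P` acting on `α`, `O` a `P`-invariant finite subset: `|O|` is congruent mod `p`
to the number of `P`-fixed points in `O`. -/
theorem card_invariant_modEq {P : Type*} [Group P] {α : Type*} [MulAction P α]
    {p : ℕ} [Fact p.Prime] (hP : IsPGroup p P) (O : Finset α)
    (hO : ∀ g : P, ∀ a ∈ O, g • a ∈ O) :
    O.card ≡ {a : α | a ∈ O ∧ ∀ g : P, g • a = a}.ncard [MOD p] := by
  classical
  let S : SubMulAction P α := ⟨(O : Set α), fun g a ha => hO g a ha⟩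
  have hfin : Finite S := by
    have : Finite (O : Set α) := O.finite_toSet
    exact this
  have h := hP.card_modEq_card_fixedPoints S
  have e1 : Nat.card S = O.card := by
    have : Nat.card S = Nat.card (O : Set α) := rfl
    rw [this, Nat.card_coe_set_eq, Set.ncard_coe_finset]
  have e2 : Nat.card (fixedPoints P S) = {a : α | a ∈ O ∧ ∀ g : P, g • a = a}.ncard := by
    rw [Nat.card_coe_set_eq, ← Set.ncard_image_of_injective _ Subtype.val_injective]
    congr 1
    ext a
    simp only [Set.mem_image, mem_fixedPoints, Subtype.exists, exists_and_right, exists_eq_right,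
      Set.mem_ofPred_eq]
    constructor
    · rintro ⟨ha, hfix⟩
      refine ⟨ha, fun g => ?_⟩
      have := congrArg Subtype.val (hfix g)
      exact this
    · rintro ⟨ha, hfix⟩
      exact ⟨ha, fun g => Subtype.ext (hfix g)⟩
  rw [e1, e2] at h
  exact h

end Cfsg.Agent.Lib.Helper99

namespace Cfsg.Agent.Lib.Helper99

open MulAction

/-- `K` a finite group acting on `α`, `A` a `K`-invariant finite subset all of whose points have
stabiliser of index `d` in `K`: then `d` divides `|A|`. -/
theorem card_invariant_dvd {K : Type*} [Group K] [Finite K] {α : Type*} [MulAction K α]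
    (A : Finset α) (hA : ∀ g : K, ∀ a ∈ A, g • a ∈ A) (d : ℕ)
    (hd : ∀ a ∈ A, (stabilizer K a).index = d) : d ∣ A.card := by
  classical
  let S : SubMulAction K α := ⟨(A : Set α), fun g a ha => hA g a ha⟩
  have hfin : Finite S := by
    have : Finite (A : Set α) := A.finite_toSet
    exact this
  have e1 : Nat.card S = A.card := by
    have : Nat.card S = Nat.card (A : Set α) := rfl
    rw [this, Nat.card_coe_set_eq, Set.ncard_coe_finset]
  have := Fintype.ofFinite (Quotient (orbitRel K S))
  have e2 := Nat.card_congr (selfEquivSigmaOrbitsQuotientStabilizer K S)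
  rw [Nat.card_sigma] at e2
  have e3 : ∀ ω : Quotient (orbitRel K S), Nat.card (K ⧸ stabilizer K ω.out) = d := by
    intro ω
    have h1 : stabilizer K ω.out = stabilizer K (ω.out : α) := SubMulAction.stabilizer_of_subMul _
    rw [h1]
    exact hd _ ω.out.2
  rw [Finset.sum_congr rfl (fun ω _ => e3 ω), Finset.sum_const, smul_eq_mul, e1] at e2
  exact ⟨_, by rw [e2, mul_comm]⟩

end Cfsg.Agent.Lib.Helper99
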