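import Mathlib
import Cfsg.Agent.Lib.Helper99.TwoByTwo

set_option autoImplicit false

namespace Cfsg.Agent.Lib.Helper99

open Matrix

section quat
variable {F : Type*} [Field F]

local notation "M2" => Matrix (Fin 2) (Fin 2) F

/-- the relations satisfied by the images `I`, `J` of the standard generators of `Q₈` -/
structure QuatPair (I J : GL (Fin 2) F) : Prop where
  hI4 : I ^ 4 = 1
  hI2 : I ^ 2 ≠ 1
  hJ2 : J ^ 2 = I ^ 2
  hJI : J * I = I⁻¹ * J

namespace QuatPair
variable {I J : GL (Fin 2) F} (h : QuatPair I J)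
include h

lemma inv_eq : I⁻¹ = I ^ 3 := by
  rw [inv_eq_iff_mul_eq_one, ← pow_succ', h.hI4]

lemma J_comm_sq : J * I ^ 2 = I ^ 2 * J := by
  have h1 : J * I ^ 2 = I⁻¹ * I⁻¹ * J := by
    rw [pow_two, ← mul_assoc, h.hJI, mul_assoc, h.hJI, ← mul_assoc]
  rw [h1, h.inv_eq]
  have : I ^ 3 * I ^ 3 = I ^ 2 := by
    rw [← pow_add]
    have : (6 : ℕ) = 4 + 2 := rfl
    rw [show (3 + 3 : ℕ) = 4 + 2 from rfl, pow_add, h.hI4, one_mul]
  rw [this]

lemma not_comm : I * J ≠ J * I := by
  intro hc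
  rw [h.hJI] at hc
  have h1 : I = I⁻¹ := mul_right_cancel hc
  apply h.hI2
  rw [pow_two]
  nth_rewrite 1 [h1]
  exact inv_mul_cancel I

lemma sq_val : (I : M2) * (I : M2) = -1 := by
  have hz : ((I ^ 2 : GL (Fin 2) F) : M2) = (I : M2) * (I : M2) := by
    rw [pow_two, Units.val_mul]
  rw [← hz]
  set z : M2 := ((I ^ 2 : GL (Fin 2) F) : M2) with hzdef
  have hzz : z * z = 1 := by
    rw [hzdef, ← Units.val_mul, ← pow_add]
    rw [show (2 + 2 : ℕ) = 4 from rfl, h.hI4]; rfl
  have hz1 : z ≠ 1 := by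
    intro h1
    apply h.hI2
    exact Units.ext h1
  by_contra hne
  have hzns : ∀ c : F, z ≠ c • (1 : M2) := by
    intro c hc
    have h0 : z * z = (c * c) • (1 : M2) := by
      rw [hc]; simp [smul_smul]
    have h1 : (c * c) • (1 : M2) = 1 := h0.symm.trans hzz
    have h2' : c * c = 1 := by
      have := congrFun (congrFun h1 0) 0
      simpa using this
    have h3 : (c - 1) * (c + 1) = 0 := by linear_combination h2'
    rcases mul_eq_zero.mp h3 with h | h
    · apply hz1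
      rw [hc, sub_eq_zero.mp h, one_smul]
    · apply hne
      rw [hc, eq_neg_of_add_eq_zero_left h]; simp
  have hIz : (I : M2) * z = z * (I : M2) := by
    rw [hzdef, ← Units.val_mul, ← Units.val_mul, ← pow_succ', ← pow_succ]
  have hJz : (J : M2) * z = z * (J : M2) := by
    rw [hzdef, ← Units.val_mul, ← Units.val_mul, h.J_comm_sq]
  obtain ⟨α, β, hIab⟩ := exists_eq_add_smul_of_commute hzns hIz
  obtain ⟨α', β', hJab⟩ := exists_eq_add_smul_of_commute hzns hJz
  have hcomm : (I : M2) * (J : M2) = (J : M2) * (I : M2) := by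
    rw [hIab, hJab]
    simp only [Matrix.add_mul, Matrix.mul_add, Matrix.smul_mul, Matrix.mul_smul, Matrix.one_mul,
      Matrix.mul_one, smul_add, smul_smul]
    rw [mul_comm α α', mul_comm α β', mul_comm β α', mul_comm β β']
    abel
  apply h.not_comm
  apply Units.ext
  rw [Units.val_mul, Units.val_mul]
  exact hcomm

lemma sqJ_val : (J : M2) * (J : M2) = -1 := by
  rw [← h.sq_val, ← Units.val_mul, ← Units.val_mul, ← pow_two, ← pow_two, h.hJ2]

lemma inv_val : ((I⁻¹ : GL (Fin 2) F) : M2) = -(I : M2) := by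
  rw [h.inv_eq, show (3 : ℕ) = 2 + 1 from rfl, pow_succ, Units.val_mul, pow_two, Units.val_mul,
    h.sq_val]
  simp

lemma anti : (J : M2) * (I : M2) = -((I : M2) * (J : M2)) := by
  rw [← Units.val_mul, h.hJI, Units.val_mul, h.inv_val, Matrix.neg_mul]

lemma I_nonscalar : ∀ c : F, (I : M2) ≠ c • (1 : M2) := by
  intro c hc
  apply h.not_comm
  apply Units.ext
  rw [Units.val_mul, Units.val_mul, hc]
  simp

lemma J_nonscalar : ∀ c : F, (J : M2) ≠ c • (1 : M2) := by
  intro c hc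
  apply h.not_comm
  apply Units.ext
  rw [Units.val_mul, Units.val_mul, hc]
  simp

lemma K_nonscalar : ∀ c : F, (I : M2) * (J : M2) ≠ c • (1 : M2) := by
  intro c hc
  -- then J = -c • I
  have h1 : (J : M2) = (-c) • (I : M2) := by
    have : (I : M2) * ((I : M2) * (J : M2)) = c • (I : M2) := by rw [hc]; simp
    rw [← Matrix.mul_assoc, h.sq_val] at this
    have h2 : (J : M2) = -(c • (I : M2)) := by
      rw [← this]; simp
    rw [h2, neg_smul]
  apply h.not_comm
  apply Units.ext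
  rw [Units.val_mul, Units.val_mul, h1]
  simp

lemma sqK_val : ((I : M2) * (J : M2)) * ((I : M2) * (J : M2)) = -1 := by
  calc ((I : M2) * (J : M2)) * ((I : M2) * (J : M2))
      = (I : M2) * ((J : M2) * (I : M2)) * (J : M2) := by simp only [Matrix.mul_assoc]
    _ = -((I : M2) * (I : M2) * ((J : M2) * (J : M2))) := by
        rw [h.anti]; simp only [Matrix.mul_neg, Matrix.neg_mul, Matrix.mul_assoc]
    _ = -1 := by rw [h.sq_val, h.sqJ_val]; simp

end QuatPair

/-- a non-scalar `2 × 2` matrix with square `-1` has trace `0` and determinant `1` -/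
lemma trace_det_of_sq_eq_neg_one {x : M2} (hx : x * x = -1)
    (hns : ∀ c : F, x ≠ c • (1 : M2)) : x.trace = 0 ∧ x.det = 1 := by
  have hch := sq_eq_trace_smul_sub_det x
  rw [hx] at hch
  have htr : x.trace = 0 := by
    by_contra ht
    apply hns ((x.det - 1) / x.trace)
    have h1 : x.trace • x = (x.det - 1) • (1 : M2) := by
      rw [sub_smul, one_smul]
      have : x.trace • x = -1 + x.det • (1 : M2) := by rw [hch]; abel
      rw [this]; abel
    calc x = (x.trace)⁻¹ • (x.trace • x) := by rw [smul_smul, inv_mul_cancel₀ ht, one_smul]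
      _ = ((x.det - 1) / x.trace) • (1 : M2) := by rw [h1, smul_smul]; congr 1; field_simp
  refine ⟨htr, ?_⟩
  rw [htr, zero_smul, zero_sub] at hch
  have := congrFun (congrFun hch 0) 0
  simpa using this.symm

section omega

/-- `U = -1 + i + j + ij` -/
def Umat (i j : Matrix (Fin 2) (Fin 2) F) : Matrix (Fin 2) (Fin 2) F := -1 + i + j + i * j

lemma U_mul_i {i j : Matrix (Fin 2) (Fin 2) F} (hii : i * i = -1) (hjj : j * j = -1)
    (hji : j * i = -(i * j)) : Umat i j * i = (i * j) * Umat i j := by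
  have r1' : ∀ X : Matrix (Fin 2) (Fin 2) F, i * (i * X) = -X := fun X => by
    rw [← Matrix.mul_assoc, hii]; simp
  have r2' : ∀ X : Matrix (Fin 2) (Fin 2) F, j * (j * X) = -X := fun X => by
    rw [← Matrix.mul_assoc, hjj]; simp
  have r3' : ∀ X : Matrix (Fin 2) (Fin 2) F, j * (i * X) = -(i * (j * X)) := fun X => by
    rw [← Matrix.mul_assoc, hji]; simp [Matrix.mul_assoc]
  simp only [Umat, Matrix.add_mul, Matrix.mul_add, Matrix.mul_assoc, Matrix.neg_mul, Matrix.mul_neg,
    Matrix.one_mul, Matrix.mul_one, hii, hjj, hji, r1', r2', r3', neg_neg]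
  abel

lemma U_mul_j {i j : Matrix (Fin 2) (Fin 2) F} (hii : i * i = -1) (hjj : j * j = -1)
    (hji : j * i = -(i * j)) : Umat i j * j = i * Umat i j := by
  have r1' : ∀ X : Matrix (Fin 2) (Fin 2) F, i * (i * X) = -X := fun X => by
    rw [← Matrix.mul_assoc, hii]; simp
  have r2' : ∀ X : Matrix (Fin 2) (Fin 2) F, j * (j * X) = -X := fun X => by
    rw [← Matrix.mul_assoc, hjj]; simp
  have r3' : ∀ X : Matrix (Fin 2) (Fin 2) F, j * (i * X) = -(i * (j * X)) := fun X => by
    rw [← Matrix.mul_assoc, hji]; simp [Matrix.mul_assoc]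
  simp only [Umat, Matrix.add_mul, Matrix.mul_add, Matrix.mul_assoc, Matrix.neg_mul, Matrix.mul_neg,
    Matrix.one_mul, Matrix.mul_one, hii, hjj, hji, r1', r2', r3', neg_neg]
  abel

lemma U_sq {i j : Matrix (Fin 2) (Fin 2) F} (hii : i * i = -1) (hjj : j * j = -1)
    (hji : j * i = -(i * j)) :
    Umat i j * Umat i j = -(Umat i j + Umat i j) - (1 + 1 + 1 + 1) := by
  have r1' : ∀ X : Matrix (Fin 2) (Fin 2) F, i * (i * X) = -X := fun X => by
    rw [← Matrix.mul_assoc, hii]; simp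
  have r2' : ∀ X : Matrix (Fin 2) (Fin 2) F, j * (j * X) = -X := fun X => by
    rw [← Matrix.mul_assoc, hjj]; simp
  have r3' : ∀ X : Matrix (Fin 2) (Fin 2) F, j * (i * X) = -(i * (j * X)) := fun X => by
    rw [← Matrix.mul_assoc, hji]; simp [Matrix.mul_assoc]
  simp only [Umat, Matrix.add_mul, Matrix.mul_add, Matrix.mul_assoc, Matrix.neg_mul, Matrix.mul_neg,
    Matrix.one_mul, Matrix.mul_one, hii, hjj, hji, r1', r2', r3', neg_neg]
  abel

/-- `ω = (-1 + i + j + ij) / 2` -/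
noncomputable def Wmat (i j : Matrix (Fin 2) (Fin 2) F) : Matrix (Fin 2) (Fin 2) F :=
  (2⁻¹ : F) • Umat i j

lemma W_mul_i {i j : Matrix (Fin 2) (Fin 2) F} (hii : i * i = -1) (hjj : j * j = -1)
    (hji : j * i = -(i * j)) : Wmat i j * i = (i * j) * Wmat i j := by
  rw [Wmat, Matrix.smul_mul, U_mul_i hii hjj hji, Matrix.mul_smul]

lemma W_mul_j {i j : Matrix (Fin 2) (Fin 2) F} (hii : i * i = -1) (hjj : j * j = -1)
    (hji : j * i = -(i * j)) : Wmat i j * j = i * Wmat i j := by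
  rw [Wmat, Matrix.smul_mul, U_mul_j hii hjj hji, Matrix.mul_smul]

lemma W_poly (h2 : (2 : F) ≠ 0) {i j : Matrix (Fin 2) (Fin 2) F} (hii : i * i = -1)
    (hjj : j * j = -1) (hji : j * i = -(i * j)) :
    Wmat i j * Wmat i j + Wmat i j + 1 = 0 := by
  obtain ⟨e, he⟩ : ∃ e : F, 2 * e = 1 := ⟨2⁻¹, mul_inv_cancel₀ h2⟩
  have he' : (2⁻¹ : F) = e := by
    apply mul_left_cancel₀ h2
    rw [mul_inv_cancel₀ h2, he]
  rw [Wmat, he', Matrix.smul_mul, Matrix.mul_smul, U_sq hii hjj hji]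
  set U := Umat i j
  have c1 : -(2 * e * e) + e = 0 := by linear_combination (-e) * he
  have c2 : 1 - 4 * e * e = 0 := by linear_combination (-(1 + 2 * e)) * he
  have : e • e • (-(U + U) - (1 + 1 + 1 + 1)) + e • U + 1 =
      (-(2 * e * e) + e) • U + (1 - 4 * e * e) • (1 : Matrix (Fin 2) (Fin 2) F) := by
    module
  rw [this, c1, c2]
  simp

lemma W_trace (h2 : (2 : F) ≠ 0) {i j : Matrix (Fin 2) (Fin 2) F} (hi : i.trace = 0)
    (hj : j.trace = 0) (hk : (i * j).trace = 0) : (Wmat i j).trace = -1 := by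
  rw [Wmat, Matrix.trace_smul, Umat, Matrix.trace_add, Matrix.trace_add, Matrix.trace_add, hi, hj, hk,
    Matrix.trace_neg, Matrix.trace_one]
  simp only [Fintype.card_fin, add_zero, smul_eq_mul]
  field_simp
  norm_num

lemma W_det (h2 : (2 : F) ≠ 0) {i j : Matrix (Fin 2) (Fin 2) F} (hii : i * i = -1)
    (hjj : j * j = -1) (hji : j * i = -(i * j)) (hi : i.trace = 0)
    (hj : j.trace = 0) (hk : (i * j).trace = 0) : (Wmat i j).det = 1 := by
  have h1 := W_poly h2 hii hjj hji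
  have h3 := sq_eq_trace_smul_sub_det (Wmat i j)
  rw [W_trace h2 hi hj hk] at h3
  rw [h3] at h1
  have h4 : (1 - (Wmat i j).det) • (1 : Matrix (Fin 2) (Fin 2) F) = 0 := by
    rw [← h1]; module
  have := congrFun (congrFun h4 0) 0
  simp at this
  linear_combination (-1 : F) * this

end omega

end quat

section grp

lemma mem_normalizer_of_conj_mem {G : Type*} [Group G] (H : Subgroup G) (c : G) (hc : IsOfFinOrder c)
    (h : ∀ g ∈ H, c * g * c⁻¹ ∈ H) : c ∈ Subgroup.normalizer (H : Set G) := by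
  have hk : ∀ k : ℕ, ∀ g ∈ H, c ^ k * g * (c ^ k)⁻¹ ∈ H := by
    intro k
    induction k with
    | zero => intro g hg; simpa using hg
    | succ k ih =>
      intro g hg
      have := h _ (ih g hg)
      have e : c ^ (k + 1) * g * (c ^ (k + 1))⁻¹ = c * (c ^ k * g * (c ^ k)⁻¹) * c⁻¹ := by
        rw [pow_succ']; group
      rw [e]; exact this
  obtain ⟨n, hn, hcn⟩ := hc.exists_pow_eq_one
  rw [Subgroup.mem_normalizer_iff]
  intro g
  constructor
  · exact h g
  · intro hg
    have := hk (n - 1) _ hg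
    have e : c ^ (n - 1) = c⁻¹ := by
      rw [eq_inv_iff_mul_eq_one, ← pow_succ, Nat.sub_add_cancel hn, hcn]
    rw [e] at this
    simpa [mul_assoc] using this

variable {F : Type*} [Field F]

lemma quat_W_mem_normalizer (R : Subgroup (GL (Fin 2) F)) {I J : GL (Fin 2) F} (h : QuatPair I J)
    (hI : I ∈ R) (hJ : J ∈ R) (hgen : ∀ g ∈ R, ∃ k : ℕ, g = I ^ k ∨ g = J * I ^ k)
    (Wg : GL (Fin 2) F)
    (hW : (Wg : Matrix (Fin 2) (Fin 2) F) = Wmat (I : Matrix (Fin 2) (Fin 2) F) (J : Matrix (Fin 2) (Fin 2) F))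
    (hfin : IsOfFinOrder Wg) : Wg ∈ Subgroup.normalizer (R : Set (GL (Fin 2) F)) := by
  have e1 : Wg * I = (I * J) * Wg := by
    apply Units.ext
    simp only [Units.val_mul, hW]
    exact W_mul_i h.sq_val h.sqJ_val h.anti
  have e2 : Wg * J = I * Wg := by
    apply Units.ext
    simp only [Units.val_mul, hW]
    exact W_mul_j h.sq_val h.sqJ_val h.anti
  have e3 : ∀ k : ℕ, Wg * I ^ k = (I * J) ^ k * Wg := by
    intro k
    induction k with
    | zero => simp
    | succ k ih => rw [pow_succ, ← mul_assoc, ih, mul_assoc, e1, ← mul_assoc, ← pow_succ]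
  apply mem_normalizer_of_conj_mem R Wg hfin
  intro g hg
  obtain ⟨k, rfl | rfl⟩ := hgen g hg
  · rw [e3 k, mul_inv_cancel_right]
    exact R.pow_mem (R.mul_mem hI hJ) k
  · rw [← mul_assoc, e2, mul_assoc I, e3 k, ← mul_assoc, mul_inv_cancel_right]
    exact R.mul_mem hI (R.pow_mem (R.mul_mem hI hJ) k)

open QuaternionGroup in
lemma exists_quatPair (R : Subgroup (GL (Fin 2) F)) (e : R ≃* QuaternionGroup 2) :
    ∃ I J : GL (Fin 2) F, I ∈ R ∧ J ∈ R ∧ QuatPair I J ∧
      ∀ g ∈ R, ∃ k : ℕ, g = I ^ k ∨ g = J * I ^ k := by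
  refine ⟨(e.symm (a 1) : GL (Fin 2) F), (e.symm (xa 0) : GL (Fin 2) F), (e.symm (a 1)).2,
    (e.symm (xa 0)).2, ⟨?_, ?_, ?_, ?_⟩, ?_⟩
  · rw [← Subgroup.coe_pow, ← map_pow]
    have : (a 1 : QuaternionGroup 2) ^ 4 = 1 := by decide
    rw [this, map_one]; rfl
  · rw [← Subgroup.coe_pow, ← map_pow]
    intro h1
    have h2 : e.symm ((a 1 : QuaternionGroup 2) ^ 2) = 1 := Subtype.ext h1
    have h3 : (a 1 : QuaternionGroup 2) ^ 2 = 1 := by
      have := congrArg e h2
      simpa using this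
    revert h3
    decide
  · rw [← Subgroup.coe_pow, ← map_pow, ← Subgroup.coe_pow, ← map_pow]
    have : (xa 0 : QuaternionGroup 2) ^ 2 = (a 1) ^ 2 := by decide
    rw [this]
  · rw [← Subgroup.coe_inv, ← map_inv, ← Subgroup.coe_mul, ← map_mul, ← Subgroup.coe_mul, ← map_mul]
    have : (xa 0 : QuaternionGroup 2) * a 1 = (a 1)⁻¹ * xa 0 := by decide
    rw [this]
  · intro g hg
    have hq : ∀ q : QuaternionGroup 2, ∃ k : Fin 4, q = (a 1) ^ (k : ℕ) ∨ q = xa 0 * (a 1) ^ (k : ℕ) := by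
      decide
    obtain ⟨k, hk⟩ := hq (e ⟨g, hg⟩)
    refine ⟨(k : ℕ), ?_⟩
    rcases hk with hk | hk
    · left
      have : (⟨g, hg⟩ : R) = e.symm ((a 1) ^ (k : ℕ)) := by rw [← hk]; simp
      have h2 := congrArg Subtype.val this
      rw [map_pow, Subgroup.coe_pow] at h2
      exact h2
    · right
      have : (⟨g, hg⟩ : R) = e.symm (xa 0 * (a 1) ^ (k : ℕ)) := by rw [← hk]; simp
      have h2 := congrArg Subtype.val this
      rw [map_mul, map_pow, Subgroup.coe_mul, Subgroup.coe_pow] at h2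
      exact h2

end grp

end Cfsg.Agent.Lib.Helper99
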