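import Mathlib
import Cfsg.Agent.Lib.Helper48.RSpDefs2

set_option autoImplicit false
set_option linter.unusedVariables false
set_option linter.unusedSimpArgs false

/-! # K-RSp leaf E5 (S2281): the action of `cMat` on the vectors used in the descent -/

namespace Cfsg.Agent.Lib.Helper99.RSp

open Matrix Cfsg.Agent.Lib.Helper48.RSp Cfsg.Agent.Lib.Helper18

theorem eI_eq_elim {m : ℕ} {F : Type*} [Field F] (i : Fin (m + 2)) :
    (eI i : Fin (m + 2) ⊕ Fin (m + 2) → F) = Sum.elim (Pi.single i 1) (0 : Fin (m + 2) → F) := by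
  funext k
  cases k with
  | inl a => simp [eI, Pi.single_apply]
  | inr a => simp [eI, Pi.single_apply]

theorem fI_eq_elim {m : ℕ} {F : Type*} [Field F] (i : Fin (m + 2)) :
    (fI i : Fin (m + 2) ⊕ Fin (m + 2) → F) = Sum.elim (0 : Fin (m + 2) → F) (Pi.single i 1) := by
  funext k
  cases k with
  | inl a => simp [fI, Pi.single_apply]
  | inr a => simp [fI, Pi.single_apply]

theorem cMat_mulVec_last (m : ℕ) {F : Type*} [Field F] (t σ : F)
    (hL : Llow m t = Lbi m (fun j => if j = 0 then t else 1)) :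
    cMat m t σ *ᵥ (eI (Fin.last (m + 1)) - σ • fI (Fin.last (m + 1))) = eI (Fin.last (m + 1)) := by
  have hv : (eI (Fin.last (m + 1)) - σ • fI (Fin.last (m + 1)) : Fin (m + 2) ⊕ Fin (m + 2) → F)
      = Sum.elim (Pi.single (Fin.last (m + 1)) 1) (-(σ • Pi.single (Fin.last (m + 1)) 1)) := by
    rw [eI_eq_elim, fI_eq_elim]
    funext k
    cases k with
    | inl a =>
      show (Pi.single (Fin.last (m + 1)) 1 : Fin (m + 2) → F) a - σ • (0 : F) = (Pi.single (Fin.last (m + 1)) 1 : Fin (m + 2) → F) a
      simp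
    | inr a =>
      show (0 : F) - σ • (Pi.single (Fin.last (m + 1)) 1 : Fin (m + 2) → F) a
        = -(σ • (Pi.single (Fin.last (m + 1)) 1 : Fin (m + 2) → F) a)
      simp
  rw [hv, eI_eq_elim]
  unfold cMat
  rw [Matrix.fromBlocks_mulVec]
  simp only [Sum.elim_comp_inl, Sum.elim_comp_inr]
  congr 1
  · rw [hL, Matrix.zero_mulVec, add_zero]
    funext i
    rw [Matrix.mulVec_single_one]
    show Lbi m (fun j => if j = 0 then t else 1) i (Fin.last (m + 1)) = _
    unfold Lbi
    by_cases h : i = Fin.last (m + 1)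
    · subst h; simp
    · have h2 : ¬ ((Fin.last (m + 1)).val + 1 = i.val) := by
        have := i.isLt
        simp only [Fin.val_last]
        omega
      rw [if_neg h, if_neg h2, Pi.single_apply, if_neg h]
  · have h1 : Elast m F *ᵥ (Pi.single (Fin.last (m + 1)) 1 : Fin (m + 2) → F)
        = Pi.single (Fin.last (m + 1)) 1 := by
      unfold Elast
      rw [Matrix.mulVec_single_one]
      funext i
      simp [Matrix.single_apply, Pi.single_apply, eq_comm]
    have h0 : (σ • Elast m F) *ᵥ (Pi.single (Fin.last (m + 1)) 1 : Fin (m + 2) → F)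
        + -(σ • Pi.single (Fin.last (m + 1)) 1) = 0 := by
      rw [Matrix.smul_mulVec, h1]; simp
    rw [← Matrix.mulVec_mulVec, ← Matrix.mulVec_add, h0, Matrix.mulVec_zero]

theorem cMat_mulVec_fI (m : ℕ) {F : Type*} [Field F] (t σ : F)
    (hL : Llow m t = Lbi m (fun j => if j = 0 then t else 1))
    (hDL : Dlow m t * (Llow m t)ᵀ = 1) (j : Fin (m + 2)) (hj : j.val + 1 < m + 2) :
    cMat m t σ *ᵥ (fI ⟨j.val + 1, hj⟩ + (if j = 0 then t else 1) • fI j) = fI ⟨j.val + 1, hj⟩ := by
  have hv : (fI ⟨j.val + 1, hj⟩ + (if j = 0 then t else 1) • fI j : Fin (m + 2) ⊕ Fin (m + 2) → F)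
      = Sum.elim (0 : Fin (m + 2) → F)
          ((Llow m t)ᵀ *ᵥ (Pi.single (⟨j.val + 1, hj⟩ : Fin (m + 2)) 1)) := by
    rw [fI_eq_elim, fI_eq_elim, Matrix.mulVec_single_one, hL]
    funext k
    cases k with
    | inl a =>
      show (0 : F) + (if j = 0 then t else 1) • (0 : F) = 0
      simp
    | inr a =>
      show (Pi.single (⟨j.val + 1, hj⟩ : Fin (m + 2)) 1 : Fin (m + 2) → F) a
          + (if j = 0 then t else 1) • (Pi.single j 1 : Fin (m + 2) → F) a
        = Lbi m (fun j => if j = 0 then t else 1) ⟨j.val + 1, hj⟩ a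
      unfold Lbi
      by_cases h1 : (⟨j.val + 1, hj⟩ : Fin (m + 2)) = a
      · have h2 : a ≠ j := by
          intro h; rw [h] at h1
          have := congrArg Fin.val h1
          simp at this
        rw [if_pos h1, Pi.single_apply, if_pos h1.symm, Pi.single_apply, if_neg h2]
        simp
      · rw [if_neg h1, Pi.single_apply, if_neg (fun h => h1 h.symm), zero_add]
        by_cases h3 : a = j
        · subst h3
          simp
        · have h4 : ¬ (a.val + 1 = (⟨j.val + 1, hj⟩ : Fin (m + 2)).val) := by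
            intro h
            apply h3
            apply Fin.ext
            simp at h
            exact h
          rw [if_neg h4, Pi.single_apply, if_neg h3, smul_zero]
  rw [hv, fI_eq_elim]
  unfold cMat
  rw [Matrix.fromBlocks_mulVec]
  simp only [Sum.elim_comp_inl, Sum.elim_comp_inr]
  congr 1
  · simp
  · rw [Matrix.mulVec_zero, zero_add, Matrix.mulVec_mulVec, hDL, Matrix.one_mulVec]

end Cfsg.Agent.Lib.Helper99.RSp
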