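import Mathlib
import Cfsg.Agent.Lib.Helper43.AltForm
import Cfsg.Agent.S2468

set_option autoImplicit false

namespace Cfsg.Agent.Lib.Helper99.SpRP

open Module

section abstract

variable {F V : Type*} [Field F] [AddCommGroup V] [Module F V] [Finite V]

omit [Finite V] in
theorem X_mul_S (X : V →ₗ[F] V) (r : ℕ) (hX : X ^ r = 1) :
    X * (∑ j ∈ Finset.range r, X ^ j) = ∑ j ∈ Finset.range r, X ^ j := by
  have h := mul_geom_sum X r
  rw [hX, sub_self, sub_mul, one_mul, sub_eq_zero] at h
  exact h

/-- the fixed space of a semisimple isometry of an alternating space has even dimension -/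
theorem even_finrank_fixed (B : LinearMap.BilinForm F V) (hA : B.IsAlt) (hN : B.Nondegenerate)
    (X : V →ₗ[F] V) (hXB : ∀ v w, B (X v) (X w) = B v w) (r : ℕ) (hX : X ^ r = 1)
    (hr : (r : F) ≠ 0) :
    Even (finrank F (LinearMap.ker (X - 1))) := by
  set S : V →ₗ[F] V := ∑ j ∈ Finset.range r, X ^ j with hS
  have hXS : X * S = S := X_mul_S X r hX
  have hXjS : ∀ j : ℕ, X ^ j * S = S := by
    intro j
    induction j with
    | zero => simp
    | succ j ih => rw [pow_succ, mul_assoc, hXS, ih]
  have hXjB : ∀ (j : ℕ) (v w : V), B ((X ^ j) v) ((X ^ j) w) = B v w := by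
    intro j
    induction j with
    | zero => intro v w; simp
    | succ j ih =>
      intro v w
      rw [pow_succ, Module.End.mul_apply, Module.End.mul_apply, ih, hXB]
  have key : ∀ v w, B (S v) (S w) = (r : F) * B (S v) w := by
    intro v w
    have h0 : S w = ∑ j ∈ Finset.range r, (X ^ j) w := by rw [hS, LinearMap.sum_apply]
    rw [h0, map_sum]
    have h2 : ∀ j ∈ Finset.range r, B (S v) ((X ^ j) w) = B (S v) w := by
      intro j _
      have h1 : (X ^ j) (S v) = S v := by
        have := congrArg (fun f : V →ₗ[F] V => f v) (hXjS j)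
        simpa using this
      calc B (S v) ((X ^ j) w) = B ((X ^ j) (S v)) ((X ^ j) w) := by rw [h1]
        _ = B (S v) w := hXjB j _ _
    rw [Finset.sum_congr rfl h2, Finset.sum_const, Finset.card_range, nsmul_eq_mul]
  set δ : LinearMap.BilinForm F V := B.comp S S with hδdef
  have hδ : ∀ v w, δ v w = B (S v) (S w) := fun v w => by
    rw [hδdef, LinearMap.BilinForm.comp_apply]
  have hδA : δ.IsAlt := fun v => by rw [hδ]; exact hA.self_eq_zero _
  have hker : LinearMap.ker δ = LinearMap.ker S := by
    ext v
    rw [LinearMap.mem_ker, LinearMap.mem_ker]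
    constructor
    · intro h
      apply hN.1
      intro w
      have h1 : δ v w = 0 := by rw [h]; rfl
      rw [hδ, key] at h1
      exact (mul_eq_zero.mp h1).resolve_left hr
    · intro h
      ext w
      rw [hδ, h]
      simp
  have hrange : LinearMap.range S = LinearMap.ker (X - 1) := by
    ext c
    constructor
    · rintro ⟨v, rfl⟩
      rw [LinearMap.mem_ker, LinearMap.sub_apply, Module.End.one_apply, sub_eq_zero]
      have := congrArg (fun f : V →ₗ[F] V => f v) hXS
      simpa using this
    · intro hc
      rw [LinearMap.mem_ker, LinearMap.sub_apply, Module.End.one_apply, sub_eq_zero] at hc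
      have hXjc : ∀ j : ℕ, (X ^ j) c = c := by
        intro j
        induction j with
        | zero => simp
        | succ j ih => rw [pow_succ, Module.End.mul_apply, hc, ih]
      have hSc : S c = (r : F) • c := by
        rw [hS, LinearMap.sum_apply, Finset.sum_congr rfl (fun j _ => hXjc j), Finset.sum_const,
          Finset.card_range, Nat.cast_smul_eq_nsmul]
      refine ⟨(r : F)⁻¹ • c, ?_⟩
      rw [map_smul, hSc, smul_smul, inv_mul_cancel₀ hr, one_smul]
  have hev := Cfsg.Agent.Lib.Helper43.even_finrank_sub_finrank_ker_of_isAlt δ hδA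
  rw [hker] at hev
  have hrn := LinearMap.finrank_range_add_finrank_ker S
  rw [hrange] at hrn
  have h3 : finrank F V - finrank F (LinearMap.ker S) = finrank F (LinearMap.ker (X - 1)) := by
    omega
  rwa [h3] at hev

omit [Finite V] in
/-- a nilpotent endomorphism of a nontrivial space has a kernel -/
theorem ker_ne_bot_of_nilpotent [Nontrivial V] (N : V →ₗ[F] V) (hN : IsNilpotent N) :
    LinearMap.ker N ≠ ⊥ := by
  intro h
  obtain ⟨t, ht⟩ := hN
  have hinj : Function.Injective N := LinearMap.ker_eq_bot.mp h
  have hinj' : Function.Injective (N ^ t) := by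
    rw [Module.End.coe_pow]
    exact hinj.iterate t
  obtain ⟨v, hv⟩ := exists_ne (0 : V)
  apply hv
  apply hinj'
  rw [ht, map_zero, LinearMap.zero_apply]

/-- the main linear algebra statement: commuting isometries of orders `r` and `p` -/
theorem no_commuting (B : LinearMap.BilinForm F V) (hA : B.IsAlt) (hN : B.Nondegenerate)
    (n : ℕ) (hdim : finrank F V = 2 * n)
    (X U : V →ₗ[F] V) (hXU : X * U = U * X)
    (hXB : ∀ v w, B (X v) (X w) = B v w) (hUB : ∀ v w, B (U v) (U w) = B v w)
    (r : ℕ) [Fact r.Prime] (hr2 : r ≠ 2)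
    (hcop : Nat.Coprime (Nat.card F) r) (hrF : (r : F) ≠ 0)
    (hXr : X ^ r = 1) (hX1 : X ≠ 1) (hUnil : IsNilpotent (U - 1)) (hU1 : U ≠ 1)
    (k : ℕ) (hk : k = orderOf ((Nat.card F : ℕ) : ZMod r)) :
    (Even k → k < 2 * n) ∧ (Odd k → k < n) := by
  have hrpr : r.Prime := Fact.out
  set C := LinearMap.ker (X - 1) with hC
  have hCne : C ≠ ⊤ := by
    rw [hC, Ne, LinearMap.ker_eq_top, sub_eq_zero]; exact hX1
  have hd_lt : finrank F C < 2 * n := by rw [← hdim]; exact Submodule.finrank_lt hCne
  have hnpos : 0 < n := by omega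
  have hVnt : Nontrivial V := Module.nontrivial_of_finrank_pos (R := F) (by omega)
  have hdvd : ∀ W : Submodule F V, (∀ u ∈ W, X u ∈ W) →
      k ∣ finrank F W - finrank F ↥(W ⊓ C) := by
    intro W hW
    rw [hk]
    exact Cfsg.Agent.S2468.orderOf_dvd_finrank_sub X r hXr hcop W hW
  have hd : k ∣ 2 * n - finrank F C := by
    have := hdvd ⊤ (fun _ _ => Submodule.mem_top)
    rwa [top_inf_eq, finrank_top, hdim] at this
  have hkpos : 0 < k := by
    rcases Nat.eq_zero_or_pos k with h0 | h
    · rw [h0] at hd
      have := Nat.eq_zero_of_zero_dvd hd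
      omega
    · exact h
  obtain ⟨N, hNdef⟩ : ∃ N : V →ₗ[F] V, N = U - 1 := ⟨_, rfl⟩
  rw [← hNdef] at hUnil
  have hUX : ∀ v, U (X v) = X (U v) := by
    intro v
    have := congrArg (fun f : V →ₗ[F] V => f v) hXU
    simp only [Module.End.mul_apply] at this
    exact this.symm
  have hNX : ∀ v, N (X v) = X (N v) := by
    intro v
    rw [hNdef]
    simp only [LinearMap.sub_apply, Module.End.one_apply, map_sub, hUX]
  set K := LinearMap.ker N with hK
  have hKinv : ∀ u ∈ K, X u ∈ K := by
    intro u hu
    rw [hK, LinearMap.mem_ker] at hu ⊢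
    rw [hNX, hu, map_zero]
  have hKbot : K ≠ ⊥ := ker_ne_bot_of_nilpotent N hUnil
  have hKtop : K ≠ ⊤ := by
    rw [hK, Ne, LinearMap.ker_eq_top, hNdef, sub_eq_zero]; exact hU1
  have hKpos : 0 < finrank F K := by
    rw [Nat.pos_iff_ne_zero, Ne, Submodule.finrank_eq_zero]; exact hKbot
  have hKlt : finrank F K < 2 * n := by rw [← hdim]; exact Submodule.finrank_lt hKtop
  have hC0 : finrank F C = 0 → ∀ W : Submodule F V, (∀ u ∈ W, X u ∈ W) → k ∣ finrank F W := by
    intro h0 W hW
    have h1 := hdvd W hW
    have h2 : finrank F ↥(W ⊓ C) = 0 := by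
      have := Submodule.finrank_mono (inf_le_right : W ⊓ C ≤ C)
      omega
    rwa [h2, Nat.sub_zero] at h1
  constructor
  · intro _
    by_contra hlt
    push Not at hlt
    have h1 : k ≤ 2 * n - finrank F C := Nat.le_of_dvd (by omega) hd
    have h0 : finrank F C = 0 := by omega
    have h2 := hC0 h0 K hKinv
    have := Nat.le_of_dvd hKpos h2
    omega
  · intro hodd
    by_contra hlt
    push Not at hlt
    have hdeven : Even (finrank F C) := even_finrank_fixed B hA hN X hXB r hXr hrF
    have h2k : 2 * k ∣ 2 * n - finrank F C := by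
      have hev : 2 ∣ 2 * n - finrank F C := by
        obtain ⟨c, hc⟩ := hdeven
        exact ⟨n - c, by omega⟩
      exact Nat.Coprime.mul_dvd_of_dvd_of_dvd (Nat.coprime_two_left.mpr hodd) hev hd
    have h1 : 2 * k ≤ 2 * n - finrank F C := Nat.le_of_dvd (by omega) h2k
    have h0 : finrank F C = 0 := by omega
    have hkn : k = n := by omega
    have hCbot : C = ⊥ := Submodule.finrank_eq_zero.mp h0
    have hmult : ∀ W : Submodule F V, (∀ u ∈ W, X u ∈ W) → 0 < finrank F W →
        finrank F W < 2 * n → finrank F W = n := by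
      intro W hW hpos hlt2
      have h2 := hC0 h0 W hW
      rw [hkn] at h2
      obtain ⟨c, hc⟩ := h2
      rcases c with _ | _ | c
      · rw [hc] at hpos; simp at hpos
      · rw [hc]; simp
      · rw [hc] at hlt2
        exfalso
        nlinarith
    have hKn : finrank F K = n := hmult K hKinv hKpos hKlt
    -- N * N = 0
    have hNN : ∀ v, N (N v) = 0 := by
      set K₂ := LinearMap.ker (N ^ 2) with hK₂
      have hK₂inv : ∀ u ∈ K₂, X u ∈ K₂ := by
        intro u hu
        rw [hK₂, LinearMap.mem_ker, pow_two, Module.End.mul_apply] at hu ⊢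
        rw [hNX, hNX, hu, map_zero]
      have hKK₂ : K ≤ K₂ := by
        intro u hu
        rw [hK, LinearMap.mem_ker] at hu
        rw [hK₂, LinearMap.mem_ker, pow_two, Module.End.mul_apply, hu, map_zero]
      have hK₂pos : 0 < finrank F K₂ := lt_of_lt_of_le hKpos (Submodule.finrank_mono hKK₂)
      by_cases hK₂top : K₂ = ⊤
      · intro v
        have : v ∈ K₂ := by rw [hK₂top]; exact Submodule.mem_top
        rw [hK₂, LinearMap.mem_ker, pow_two, Module.End.mul_apply] at this
        exact this
      · exfalso
        have hK₂lt : finrank F K₂ < 2 * n := by rw [← hdim]; exact Submodule.finrank_lt hK₂top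
        have hK₂n : finrank F K₂ = n := hmult K₂ hK₂inv hK₂pos hK₂lt
        have heq : K = K₂ := Submodule.eq_of_le_of_finrank_eq hKK₂ (by rw [hKn, hK₂n])
        have h12 : LinearMap.ker (N ^ 1) = LinearMap.ker (N ^ (1 : ℕ).succ) := by
          rw [pow_one]
          exact heq
        obtain ⟨t, ht⟩ := hUnil
        have h3 := Module.End.ker_pow_constant h12 t
        rw [pow_one, pow_add, ht, mul_zero, LinearMap.ker_zero] at h3
        exact hKtop h3
    have hstar : ∀ a b, B (N a) (N b) + B (N a) b + B a (N b) = 0 := by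
      intro a b
      have h := hUB a b
      have hUa : ∀ a, U a = N a + a := by
        intro a; rw [hNdef]; simp
      rw [hUa a, hUa b] at h
      simp only [map_add, LinearMap.add_apply] at h
      linear_combination h
    have hNaNb : ∀ a b, B (N a) (N b) = 0 := by
      intro a b
      have := hstar a (N b)
      rw [hNN, map_zero, map_zero, zero_add, add_zero] at this
      exact this
    have hskew : ∀ a b, B (N a) b = - B a (N b) := by
      intro a b
      have := hstar a b
      rw [hNaNb] at this
      linear_combination this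
    obtain ⟨X', hX'⟩ : ∃ X' : V →ₗ[F] V, X' = X ^ (r - 1) := ⟨_, rfl⟩
    have hXX'1 : X * X' = 1 := by
      rw [hX', ← pow_succ', Nat.sub_add_cancel hrpr.one_lt.le, hXr]
    have hXX' : ∀ v, X (X' v) = v := by
      intro v
      have := congrArg (fun f : V →ₗ[F] V => f v) hXX'1
      simpa using this
    obtain ⟨Y, hY⟩ : ∃ Y : V →ₗ[F] V, Y = X - X' := ⟨_, rfl⟩
    have hYv : ∀ v, Y v = X v - X' v := by
      intro v; rw [hY, LinearMap.sub_apply]
    have hYinj : Function.Injective Y := by
      rw [← LinearMap.ker_eq_bot, LinearMap.ker_eq_bot']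
      intro v hv
      have h1 : X v = X' v := by
        rw [hYv] at hv
        exact sub_eq_zero.mp hv
      have h2 : X (X v) = v := by rw [h1, hXX']
      have h3 : ∀ j : ℕ, (X ^ (2 * j)) v = v := by
        intro j
        induction j with
        | zero => simp
        | succ j ih =>
          rw [Nat.mul_succ, pow_add, Module.End.mul_apply, pow_two, Module.End.mul_apply, h2, ih]
      obtain ⟨m, hm⟩ := hrpr.odd_of_ne_two hr2
      have h4 : X v = v := by
        have h5 : (X ^ r) v = v := by rw [hXr]; rfl
        rw [hm, pow_succ', Module.End.mul_apply, h3] at h5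
        exact h5
      have hvC : v ∈ C := by
        rw [hC, LinearMap.mem_ker, LinearMap.sub_apply, Module.End.one_apply, h4, sub_self]
      rw [hCbot] at hvC
      exact (Submodule.mem_bot F).mp hvC
    have hYsurj : Function.Surjective Y := LinearMap.injective_iff_surjective.mp hYinj
    set δ : LinearMap.BilinForm F V := B.compLeft (N * Y) with hδdef
    have hδ : ∀ v w, δ v w = B (N (Y v)) w := fun v w => by
      rw [hδdef, LinearMap.BilinForm.compLeft_apply, Module.End.mul_apply]
    have hδA : δ.IsAlt := by
      intro v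
      rw [hδ, hYv, map_sub, map_sub, LinearMap.sub_apply, sub_eq_zero]
      have e1 : B (N (X' v)) v = B (N v) (X v) := by
        rw [← hXB (N (X' v)) v, ← hNX, hXX']
      rw [e1, hskew, hA.neg_eq]
    have hker : LinearMap.ker δ = LinearMap.ker (N * Y) := by
      ext v
      rw [LinearMap.mem_ker, LinearMap.mem_ker, Module.End.mul_apply]
      constructor
      · intro h
        apply hN.1
        intro w
        have h1 : δ v w = 0 := by rw [h]; rfl
        rw [hδ] at h1
        exact h1
      · intro h
        ext w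
        rw [hδ, h]
        simp
    have hrange : LinearMap.range (N * Y) = LinearMap.range N := by
      rw [Module.End.mul_eq_comp]
      exact LinearMap.range_comp_of_range_eq_top N (LinearMap.range_eq_top.mpr hYsurj)
    have hev := Cfsg.Agent.Lib.Helper43.even_finrank_sub_finrank_ker_of_isAlt δ hδA
    rw [hker] at hev
    have hrn1 := LinearMap.finrank_range_add_finrank_ker (N * Y)
    have hrn2 := LinearMap.finrank_range_add_finrank_ker N
    rw [hrange] at hrn1
    have h3 : finrank F V - finrank F (LinearMap.ker (N * Y)) = n := by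
      rw [← hK] at hrn2
      omega
    rw [h3] at hev
    rw [hkn] at hodd
    exact (Nat.not_even_iff_odd.mpr hodd) hev

end abstract

end Cfsg.Agent.Lib.Helper99.SpRP
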