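import Mathlib
import Cfsg.Agent.Lib.Helper99.SpRPNon
import Cfsg.Agent.Lib.Helper69.AbelianIrred

set_option autoImplicit false

namespace Cfsg.Agent.Lib.Helper99.SpRP

open Module

section arith

/-- arithmetic for the totally isotropic case -/
theorem arith_iso (k l ηk ηl d : ℕ) (hkpos : 0 < k) (hlpos : 0 < l)
    (hηk : (Odd k ∧ ηk = k) ∨ (Even k ∧ 2 * ηk = k))
    (hηl : (Odd l ∧ ηl = l) ∨ (Even l ∧ 2 * ηl = l)) (hkl : ηk ≤ ηl)
    (hkd : k ∣ d) (hld : l ∣ d) (hd : 0 < d) :
    ηk + ηl ≤ d ∨ ∃ t : ℕ, Odd t ∧ l = k * t := by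
  obtain ⟨a, ha⟩ := hkd
  obtain ⟨b, hb⟩ := hld
  have hηk_le : ηk ≤ k := by rcases hηk with ⟨_, h⟩ | ⟨_, h⟩ <;> omega
  have hηl_le : ηl ≤ l := by rcases hηl with ⟨_, h⟩ | ⟨_, h⟩ <;> omega
  have ha0 : a ≠ 0 := by rintro rfl; omega
  have hb0 : b ≠ 0 := by rintro rfl; omega
  by_cases ha1 : a = 1
  · -- d = k, l ∣ k
    subst ha1
    rw [mul_one] at ha
    by_cases hb1 : b = 1
    · subst hb1
      right
      exact ⟨1, odd_one, by omega⟩
    · left
      have hb2 : 2 ≤ b := by omega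
      have h2l : 2 * l ≤ k := by
        calc 2 * l = l * 2 := by ring
          _ ≤ l * b := Nat.mul_le_mul_left l hb2
          _ = k := by omega
      rcases hηk with ⟨_, h⟩ | ⟨_, h⟩
      · omega
      · omega
  · by_cases hb1 : b = 1
    · -- d = l, k ∣ l
      subst hb1
      rw [mul_one] at hb
      rcases Nat.even_or_odd a with hae | hao
      · left
        obtain ⟨c, hc⟩ := hae
        have hc0 : c ≠ 0 := by rintro rfl; omega
        have hl2 : l = 2 * (k * c) := by
          rw [← hb, ha, hc]; ring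
        have hkc : k ≤ k * c := Nat.le_mul_of_pos_right k (by omega)
        rcases hηl with ⟨ho, _⟩ | ⟨_, h⟩
        · exfalso
          rw [hl2] at ho
          exact (Nat.not_even_iff_odd.mpr ho) (even_two_mul _)
        · omega
      · right
        exact ⟨a, hao, by omega⟩
    · left
      have ha2 : 2 ≤ a := by omega
      have hb2 : 2 ≤ b := by omega
      have h1 : 2 * k ≤ d := by
        calc 2 * k = k * 2 := by ring
          _ ≤ k * a := Nat.mul_le_mul_left k ha2
          _ = d := ha.symm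
      have h2 : 2 * l ≤ d := by
        calc 2 * l = l * 2 := by ring
          _ ≤ l * b := Nat.mul_le_mul_left l hb2
          _ = d := hb.symm
      omega

/-- arithmetic for the nondegenerate case -/
theorem arith_nondeg (k l ηk ηl j : ℕ) (hk : 2 * ηk = k) (hl : 2 * ηl = l) (hkl : ηk ≤ ηl)
    (t₁ t₂ : ℕ) (ht₁ : Odd t₁) (ht₂ : Odd t₂) (hj₁ : j = ηk * t₁) (hj₂ : j = ηl * t₂) :
    ηk + ηl ≤ j ∨ ∃ t : ℕ, Odd t ∧ l = k * t := by
  by_cases h1 : t₂ = 1
  · right
    subst h1
    refine ⟨t₁, ht₁, ?_⟩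
    rw [mul_one] at hj₂
    rw [← hl, ← hk, ← hj₂, hj₁]; ring
  · left
    have h2 : 2 ≤ t₂ := by
      obtain ⟨c, hc⟩ := ht₂; omega
    have : 2 * ηl ≤ j := by
      calc 2 * ηl = ηl * 2 := by ring
        _ ≤ ηl * t₂ := Nat.mul_le_mul_left ηl h2
        _ = j := hj₂.symm
    omega

/-- from `r ∣ q^j + 1` to the shape of the order of `q` modulo `r` -/
theorem arith_neg_one (q r j k : ℕ) [Fact r.Prime] (hr2 : r ≠ 2)
    (hk : k = orderOf ((q : ℕ) : ZMod r)) (hdvd : r ∣ q ^ j + 1) :
    ∃ η t : ℕ, 2 * η = k ∧ Odd t ∧ j = η * t := by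
  have hrpr : r.Prime := Fact.out
  have h0 : ((q : ZMod r)) ^ j = -1 := by
    have := (ZMod.natCast_eq_zero_iff (q ^ j + 1) r).mpr hdvd
    rw [Nat.cast_add, Nat.cast_pow, Nat.cast_one] at this
    exact eq_neg_of_add_eq_zero_left this
  have hne : (-1 : ZMod r) ≠ 1 := by
    intro h
    have h2 : (2 : ZMod r) = 0 := by
      have : (1 : ZMod r) + 1 = 0 := by nth_rewrite 1 [← h]; ring
      rw [← this]; norm_num
    have h3 : ((2 : ℕ) : ZMod r) = 0 := by exact_mod_cast h2
    rw [ZMod.natCast_eq_zero_iff] at h3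
    exact hr2 ((Nat.prime_dvd_prime_iff_eq hrpr Nat.prime_two).mp h3)
  have h2j : k ∣ 2 * j := by
    rw [hk]
    apply orderOf_dvd_of_pow_eq_one
    rw [mul_comm, pow_mul, h0]; norm_num
  have hnj : ¬ k ∣ j := by
    intro h
    rw [hk] at h
    have := orderOf_dvd_iff_pow_eq_one.mp h
    rw [h0] at this
    exact hne this
  rcases Nat.even_or_odd k with he | ho
  · obtain ⟨η, hη⟩ := he
    have hη0 : η ≠ 0 := by
      rintro rfl
      apply hnj
      rw [hη] at h2j ⊢
      have h5 : 2 * j = 0 := Nat.eq_zero_of_zero_dvd h2j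
      have h6 : j = 0 := by omega
      rw [h6]
    have hηj : η ∣ j := by
      have : 2 * η ∣ 2 * j := by rw [two_mul]; rw [← hη]; exact h2j
      exact Nat.dvd_of_mul_dvd_mul_left (by norm_num) this
    obtain ⟨t, ht⟩ := hηj
    refine ⟨η, t, by omega, ?_, ht⟩
    rcases Nat.even_or_odd t with hte | hto
    · exfalso
      apply hnj
      obtain ⟨c, hc⟩ := hte
      refine ⟨c, ?_⟩
      rw [ht, hc, hη]; ring
    · exact hto
  · exfalso
    apply hnj
    exact (Nat.Coprime.dvd_of_dvd_mul_left (Nat.coprime_two_right.mpr ho) h2j)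

end arith

section lin

variable {F V : Type*} [Field F] [AddCommGroup V] [Module F V] [Finite V]

omit [Finite V] in
theorem range_inf_ker (X : V →ₗ[F] V) (r : ℕ) (hXr : X ^ r = 1) (hrF : (r : F) ≠ 0) :
    LinearMap.range (X - 1) ⊓ LinearMap.ker (X - 1) = ⊥ := by
  rw [eq_bot_iff]
  rintro v ⟨⟨w, rfl⟩, hv⟩
  have hv' : (X - 1) ((X - 1) w) = 0 := hv
  obtain ⟨S, hS⟩ : ∃ S : V →ₗ[F] V, S = ∑ j ∈ Finset.range r, X ^ j := ⟨_, rfl⟩
  have h1 : S * (X - 1) = 0 := by rw [hS, geom_sum_mul, hXr, sub_self]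
  have hXv : X ((X - 1) w) = (X - 1) w := by
    rw [LinearMap.sub_apply, Module.End.one_apply, sub_eq_zero] at hv'
    exact hv'
  have hXj : ∀ j : ℕ, (X ^ j) ((X - 1) w) = (X - 1) w := by
    intro j
    induction j with
    | zero => simp
    | succ j ih => rw [pow_succ, Module.End.mul_apply, hXv, ih]
  have h2 : S ((X - 1) w) = (r : F) • (X - 1) w := by
    rw [hS, LinearMap.sum_apply, Finset.sum_congr rfl (fun j _ => hXj j), Finset.sum_const,
      Finset.card_range, Nat.cast_smul_eq_nsmul]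
  have h3 : S ((X - 1) w) = 0 := by
    have := congrArg (fun f : V →ₗ[F] V => f w) h1
    simpa using this
  rw [h2] at h3
  exact (smul_eq_zero.mp h3).resolve_left hrF

theorem finrank_range_ge (B : LinearMap.BilinForm F V) (hA : B.IsAlt) (hN : B.Nondegenerate)
    (n : ℕ) (hdim : finrank F V = 2 * n) (X : V →ₗ[F] V)
    (hXB : ∀ v w, B (X v) (X w) = B v w) (r : ℕ) [Fact r.Prime]
    (hcop : Nat.Coprime (Nat.card F) r) (hrF : (r : F) ≠ 0)
    (hXr : X ^ r = 1) (hX1 : X ≠ 1)
    (k ηk : ℕ) (hk : k = orderOf ((Nat.card F : ℕ) : ZMod r))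
    (hηk : (Odd k ∧ ηk = k) ∨ (Even k ∧ 2 * ηk = k)) :
    2 * ηk ≤ finrank F (LinearMap.range (X - 1)) := by
  have hrn := LinearMap.finrank_range_add_finrank_ker (X - 1)
  rw [hdim] at hrn
  have hCne : LinearMap.ker (X - 1) ≠ ⊤ := by
    rw [Ne, LinearMap.ker_eq_top, sub_eq_zero]; exact hX1
  have hd_lt : finrank F (LinearMap.ker (X - 1)) < 2 * n := by
    rw [← hdim]; exact Submodule.finrank_lt hCne
  have hd : k ∣ 2 * n - finrank F (LinearMap.ker (X - 1)) := by
    have := Cfsg.Agent.S2468.orderOf_dvd_finrank_sub X r hXr hcop ⊤ (fun _ _ => Submodule.mem_top)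
    rw [top_inf_eq, finrank_top, hdim, ← hk] at this
    exact this
  have hdeven : Even (finrank F (LinearMap.ker (X - 1))) :=
    even_finrank_fixed B hA hN X hXB r hXr hrF
  rcases hηk with ⟨hodd, h⟩ | ⟨_, h⟩
  · have h2k : 2 * k ∣ 2 * n - finrank F (LinearMap.ker (X - 1)) := by
      have hev : 2 ∣ 2 * n - finrank F (LinearMap.ker (X - 1)) := by
        obtain ⟨c, hc⟩ := hdeven
        exact ⟨n - c, by omega⟩
      exact Nat.Coprime.mul_dvd_of_dvd_of_dvd (Nat.coprime_two_left.mpr hodd) hev hd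
    have h1 := Nat.le_of_dvd (by omega) h2k
    omega
  · have h1 := Nat.le_of_dvd (by omega) hd
    omega

end lin

section main

open scoped IsMulCommutative

variable {F V : Type*} [Field F] [Fintype F] [AddCommGroup V] [Module F V] [Finite V]

omit [Fintype F] in
/-- isometries among units -/
def isomGroup {W : Type*} [AddCommGroup W] [Module F W] (B : LinearMap.BilinForm F W) :
    Subgroup (Module.End F W)ˣ where
  carrier := {u | ∀ x y, B ((u : Module.End F W) x) ((u : Module.End F W) y) = B x y}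
  one_mem' := by intro x y; simp
  mul_mem' := by
    intro a b ha hb x y
    simp only [Units.val_mul, Module.End.mul_apply]
    rw [ha, hb]
  inv_mem' := by
    intro a ha x y
    have h0 := ha ((↑a⁻¹ : Module.End F W) x) ((↑a⁻¹ : Module.End F W) y)
    have h1 : ∀ z, (a : Module.End F W) ((↑a⁻¹ : Module.End F W) z) = z := by
      intro z
      rw [← Module.End.mul_apply, Units.mul_inv, Module.End.one_apply]
    rw [h1, h1] at h0
    exact h0.symm

theorem two_primes_symp (B : LinearMap.BilinForm F V) (hA : B.IsAlt) (hN : B.Nondegenerate)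
    (n : ℕ) (hdim : finrank F V = 2 * n)
    (G : V →ₗ[F] V) (hGB : ∀ v w, B (G v) (G w) = B v w)
    (r s : ℕ) [Fact r.Prime] [Fact s.Prime] (hr2 : r ≠ 2) (hs2 : s ≠ 2)
    (hcopr : Nat.Coprime (Fintype.card F) r) (hcops : Nat.Coprime (Fintype.card F) s)
    (hrF : (r : F) ≠ 0) (hsF : (s : F) ≠ 0)
    (hGrs : G ^ (r * s) = 1) (hX1 : G ^ s ≠ 1) (hY1 : G ^ r ≠ 1)
    (k l ηk ηl : ℕ) (hk : k = orderOf ((Fintype.card F : ℕ) : ZMod r))
    (hl : l = orderOf ((Fintype.card F : ℕ) : ZMod s))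
    (hηk : (Odd k ∧ ηk = k) ∨ (Even k ∧ 2 * ηk = k))
    (hηl : (Odd l ∧ ηl = l) ∨ (Even l ∧ 2 * ηl = l)) (hkl : ηk ≤ ηl) :
    ηk + ηl ≤ n ∨ ∃ t : ℕ, Odd t ∧ l = k * t := by
  have hrpr : r.Prime := Fact.out
  have hspr : s.Prime := Fact.out
  obtain ⟨X, hXdef⟩ : ∃ X : V →ₗ[F] V, X = G ^ s := ⟨_, rfl⟩
  obtain ⟨Y, hYdef⟩ : ∃ Y : V →ₗ[F] V, Y = G ^ r := ⟨_, rfl⟩
  have hXr : X ^ r = 1 := by rw [hXdef, ← pow_mul, mul_comm, hGrs]
  have hYs : Y ^ s = 1 := by rw [hYdef, ← pow_mul, hGrs]
  have hX1' : X ≠ 1 := by rw [hXdef]; exact hX1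
  have hY1' : Y ≠ 1 := by rw [hYdef]; exact hY1
  have hGjB : ∀ (j : ℕ) (v w : V), B ((G ^ j) v) ((G ^ j) w) = B v w := by
    intro j
    induction j with
    | zero => intro v w; simp
    | succ j ih =>
      intro v w
      rw [pow_succ, Module.End.mul_apply, Module.End.mul_apply, ih, hGB]
  have hXB : ∀ v w, B (X v) (X w) = B v w := by rw [hXdef]; exact hGjB s
  have hYB : ∀ v w, B (Y v) (Y w) = B v w := by rw [hYdef]; exact hGjB r
  have hcopr' : Nat.Coprime (Nat.card F) r := by rw [Nat.card_eq_fintype_card]; exact hcopr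
  have hcops' : Nat.Coprime (Nat.card F) s := by rw [Nat.card_eq_fintype_card]; exact hcops
  have hk' : k = orderOf ((Nat.card F : ℕ) : ZMod r) := by
    rw [Nat.card_eq_fintype_card]; exact hk
  have hl' : l = orderOf ((Nat.card F : ℕ) : ZMod s) := by
    rw [Nat.card_eq_fintype_card]; exact hl
  have hRX := finrank_range_ge B hA hN n hdim X hXB r hcopr' hrF hXr hX1' k ηk hk' hηk
  have hRY := finrank_range_ge B hA hN n hdim Y hYB s hcops' hsF hYs hY1' l ηl hl' hηl
  obtain ⟨RX, hRXdef⟩ : ∃ RX : Submodule F V, RX = LinearMap.range (X - 1) := ⟨_, rfl⟩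
  obtain ⟨RY, hRYdef⟩ : ∃ RY : Submodule F V, RY = LinearMap.range (Y - 1) := ⟨_, rfl⟩
  rw [← hRXdef] at hRX
  rw [← hRYdef] at hRY
  by_cases hW : RX ⊓ RY = ⊥
  · left
    have h1 := Submodule.finrank_sup_add_finrank_inf_eq RX RY
    rw [hW, finrank_bot, add_zero] at h1
    have h2 : finrank F ↥(RX ⊔ RY) ≤ 2 * n := by rw [← hdim]; exact Submodule.finrank_le _
    omega
  · have hGpow_comm : ∀ (j : ℕ) (v : V), G ((G ^ j) v) = (G ^ j) (G v) := by
      intro j v
      rw [← Module.End.mul_apply, ← Module.End.mul_apply, ← pow_succ', ← pow_succ]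
    have hGX : ∀ v, G (X v) = X (G v) := by rw [hXdef]; exact hGpow_comm s
    have hGY : ∀ v, G (Y v) = Y (G v) := by rw [hYdef]; exact hGpow_comm r
    have hWinv : ∀ u ∈ RX ⊓ RY, G u ∈ RX ⊓ RY := by
      intro u hu
      rw [hRXdef, hRYdef] at hu ⊢
      obtain ⟨⟨a, ha⟩, ⟨b, hb⟩⟩ := hu
      refine ⟨⟨G a, ?_⟩, ⟨G b, ?_⟩⟩
      · rw [← ha]
        simp only [LinearMap.sub_apply, Module.End.one_apply, map_sub, hGX]
      · rw [← hb]
        simp only [LinearMap.sub_apply, Module.End.one_apply, map_sub, hGY]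
    obtain ⟨V', hV'min⟩ := exists_minimal_of_wellFoundedLT
      (fun U : Submodule F V => U ≠ ⊥ ∧ U ≤ RX ⊓ RY ∧ ∀ u ∈ U, G u ∈ U)
      ⟨RX ⊓ RY, hW, le_rfl, hWinv⟩
    obtain ⟨⟨hV'ne, hV'le, hV'G⟩, hV'm⟩ := hV'min
    have hmin : ∀ U : Submodule F V, U ≤ V' → (∀ u ∈ U, G u ∈ U) → U = ⊥ ∨ U = V' := by
      intro U hU hUG
      by_cases h : U = ⊥
      · left; exact h
      · right; exact le_antisymm hU (hV'm ⟨h, hU.trans hV'le, hUG⟩ hU)
    have hfpX : V' ⊓ LinearMap.ker (X - 1) = ⊥ := by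
      rw [eq_bot_iff, ← range_inf_ker X r hXr hrF, ← hRXdef]
      exact inf_le_inf_right _ (hV'le.trans inf_le_left)
    have hfpY : V' ⊓ LinearMap.ker (Y - 1) = ⊥ := by
      rw [eq_bot_iff, ← range_inf_ker Y s hYs hsF, ← hRYdef]
      exact inf_le_inf_right _ (hV'le.trans inf_le_right)
    have hV'Gj : ∀ (j : ℕ), ∀ u ∈ V', (G ^ j) u ∈ V' := by
      intro j
      induction j with
      | zero => intro u hu; simpa using hu
      | succ j ih =>
        intro u hu
        rw [pow_succ, Module.End.mul_apply]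
        exact ih _ (hV'G u hu)
    have hV'X : ∀ u ∈ V', X u ∈ V' := by rw [hXdef]; exact hV'Gj s
    have hV'Y : ∀ u ∈ V', Y u ∈ V' := by rw [hYdef]; exact hV'Gj r
    obtain ⟨d, hd⟩ : ∃ d, d = finrank F V' := ⟨_, rfl⟩
    have hdpos : 0 < d := by
      rw [hd, Nat.pos_iff_ne_zero, Ne, Submodule.finrank_eq_zero]; exact hV'ne
    have hkd : k ∣ d := by
      have := Cfsg.Agent.S2468.orderOf_dvd_finrank_sub X r hXr hcopr' V' hV'X
      rw [hfpX, finrank_bot, Nat.sub_zero, ← hk', ← hd] at this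
      exact this
    have hld : l ∣ d := by
      have := Cfsg.Agent.S2468.orderOf_dvd_finrank_sub Y s hYs hcops' V' hV'Y
      rw [hfpY, finrank_bot, Nat.sub_zero, ← hl', ← hd] at this
      exact this
    have hkpos : 0 < k := Nat.pos_of_dvd_of_pos hkd hdpos
    have hlpos : 0 < l := Nat.pos_of_dvd_of_pos hld hdpos
    have hd2n : d ≤ 2 * n := by rw [hd, ← hdim]; exact Submodule.finrank_le _
    obtain ⟨G', hG'⟩ : ∃ G' : V →ₗ[F] V, G' = G ^ (r * s - 1) := ⟨_, rfl⟩
    have hrs_pos : 0 < r * s := Nat.mul_pos hrpr.pos hspr.pos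
    have hGG' : ∀ v, G (G' v) = v := by
      intro v
      rw [hG', ← Module.End.mul_apply, ← pow_succ', Nat.sub_add_cancel hrs_pos, hGrs,
        Module.End.one_apply]
    have hV'G' : ∀ u ∈ V', G' u ∈ V' := by rw [hG']; exact hV'Gj _
    have hradG : ∀ u ∈ V' ⊓ B.orthogonal V', G u ∈ V' ⊓ B.orthogonal V' := by
      rintro u ⟨hu1, hu2⟩
      refine ⟨hV'G u hu1, ?_⟩
      rw [SetLike.mem_coe, LinearMap.BilinForm.mem_orthogonal_iff] at hu2 ⊢
      intro v hv
      have h3 := hu2 (G' v) (hV'G' v hv)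
      rw [← hGG' v, hGB]
      exact h3
    rcases hmin _ inf_le_left hradG with hrad | hrad
    · -- nondegenerate case
      obtain ⟨γ₀, hγ₀def⟩ : ∃ γ₀ : Module.End F V', γ₀ = G.restrict hV'G := ⟨_, rfl⟩
      have hγ₀app : ∀ v : V', ((γ₀ v : V') : V) = G (v : V) := by
        intro v; rw [hγ₀def]; rfl
      have hγ₀pow : ∀ (j : ℕ) (v : V'), (((γ₀ ^ j) v : V') : V) = (G ^ j) (v : V) := by
        intro j
        induction j with
        | zero => intro v; simp
        | succ j ih =>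
          intro v
          rw [pow_succ, Module.End.mul_apply, ih, pow_succ, Module.End.mul_apply, hγ₀app]
      have hγ₀rs : γ₀ ^ (r * s) = 1 := by
        ext v
        rw [hγ₀pow, hGrs]; rfl
      let γ : (Module.End F V')ˣ := Units.ofPowEqOne γ₀ (r * s) hγ₀rs hrs_pos.ne'
      have hγval : ((γ : (Module.End F V')ˣ) : Module.End F V') = γ₀ := rfl
      let H := Subgroup.zpowers γ
      let ρ : Representation F H V' := (Units.coeHom (Module.End F V')).comp H.subtype
      have hfaith : Function.Injective ρ := by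
        intro a b hab
        exact Subtype.ext (Units.ext hab)
      have hnt : Nontrivial V' := Submodule.nontrivial_iff_ne_bot.mpr hV'ne
      have hirr : Cfsg.Agent.Lib.Helper69.AbelianIrred.Irr ρ := by
        intro U hU
        have hUγ : ∀ u ∈ U, γ₀ u ∈ U := fun u hu => hU ⟨γ, Subgroup.mem_zpowers γ⟩ u hu
        have hinvU : ∀ u ∈ U.map V'.subtype, G u ∈ U.map V'.subtype := by
          rintro _ ⟨u, hu, rfl⟩
          exact ⟨γ₀ u, hUγ u hu, hγ₀app u⟩
        rcases hmin (U.map V'.subtype) (Submodule.map_subtype_le V' U) hinvU with h | h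
        · left
          rw [eq_bot_iff]
          intro u hu
          have h1 : (u : V) ∈ U.map V'.subtype := ⟨u, hu, rfl⟩
          rw [h] at h1
          exact Subtype.ext ((Submodule.mem_bot F).mp h1)
        · right
          rw [eq_top_iff]
          intro u _
          have h1 : (u : V) ∈ U.map V'.subtype := by rw [h]; exact u.2
          obtain ⟨u', hu', he⟩ := h1
          have h2 : u' = u := Subtype.ext he
          rw [← h2]; exact hu'
      let B' : LinearMap.BilinForm F V' := B.restrict V'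
      have hB'app : ∀ x y : V', B' x y = B (x : V) (y : V) := fun x y => rfl
      have hB'nd : ∀ x : V', (∀ y : V', B' x y = 0) → x = 0 := by
        intro x hx
        have hmem : (x : V) ∈ V' ⊓ B.orthogonal V' := by
          refine ⟨x.2, ?_⟩
          rw [SetLike.mem_coe, LinearMap.BilinForm.mem_orthogonal_iff]
          intro y hy
          rw [← hA.neg_eq, neg_eq_zero]
          exact hx ⟨y, hy⟩
        rw [hrad] at hmem
        exact Subtype.ext ((Submodule.mem_bot F).mp hmem)
      have hγiso : γ ∈ isomGroup B' := by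
        intro x y
        rw [hγval, hB'app, hB'app, hγ₀app, hγ₀app]
        exact hGB _ _
      have hHiso : ∀ h : H, ∀ x y : V', B' (ρ h x) (ρ h y) = B' x y := by
        intro h x y
        exact ((Subgroup.zpowers_le (H := isomGroup B')).mpr hγiso h.2) x y
      obtain ⟨j, hjlt, hjpow, hjdvd⟩ :=
        Cfsg.Agent.Lib.Helper69.AbelianIrred.forward ρ hirr hfaith B' hB'nd hHiso
      have hγ₀q : γ₀ ^ (Fintype.card F ^ j + 1) = 1 := by
        have h1 := hjpow ⟨γ, Subgroup.mem_zpowers γ⟩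
        have h2 := congrArg (fun h : H => ((h : (Module.End F V')ˣ) : Module.End F V')) h1
        simp only [Subgroup.coe_pow, Units.val_pow_eq_pow_val, Subgroup.coe_one, Units.val_one] at h2
        exact h2
      -- the restrictions of X and Y
      have hγs_ne : γ₀ ^ s ≠ 1 := by
        intro h
        obtain ⟨v, hv⟩ := exists_ne (0 : V')
        apply hv
        have h1 : X (v : V) = v := by rw [hXdef, ← hγ₀pow, h]; rfl
        have h2 : (v : V) ∈ V' ⊓ LinearMap.ker (X - 1) :=
          ⟨v.2, by rw [SetLike.mem_coe, LinearMap.mem_ker, LinearMap.sub_apply, h1]; simp⟩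
        rw [hfpX] at h2
        exact Subtype.ext ((Submodule.mem_bot F).mp h2)
      have hγr_ne : γ₀ ^ r ≠ 1 := by
        intro h
        obtain ⟨v, hv⟩ := exists_ne (0 : V')
        apply hv
        have h1 : Y (v : V) = v := by rw [hYdef, ← hγ₀pow, h]; rfl
        have h2 : (v : V) ∈ V' ⊓ LinearMap.ker (Y - 1) :=
          ⟨v.2, by rw [SetLike.mem_coe, LinearMap.mem_ker, LinearMap.sub_apply, h1]; simp⟩
        rw [hfpY] at h2
        exact Subtype.ext ((Submodule.mem_bot F).mp h2)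
      have hord_r : orderOf (γ₀ ^ s) = r :=
        orderOf_eq_prime (by rw [← pow_mul, mul_comm, hγ₀rs]) hγs_ne
      have hord_s : orderOf (γ₀ ^ r) = s :=
        orderOf_eq_prime (by rw [← pow_mul, hγ₀rs]) hγr_ne
      have hrdvd : r ∣ Fintype.card F ^ j + 1 := by
        rw [← hord_r]
        apply orderOf_dvd_of_pow_eq_one
        rw [← pow_mul, mul_comm, pow_mul, hγ₀q, one_pow]
      have hsdvd : s ∣ Fintype.card F ^ j + 1 := by
        rw [← hord_s]
        apply orderOf_dvd_of_pow_eq_one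
        rw [← pow_mul, mul_comm, pow_mul, hγ₀q, one_pow]
      have hj0 : j ≠ 0 := by
        rintro rfl
        rw [pow_zero] at hrdvd
        exact hr2 ((Nat.prime_dvd_prime_iff_eq hrpr Nat.prime_two).mp hrdvd)
      have h2j : 2 * j = d := by
        rw [← hd] at hjdvd hjlt
        obtain ⟨c, hc⟩ := hjdvd
        rcases c with _ | _ | c
        · omega
        · omega
        · exfalso; nlinarith
      have hjn : j ≤ n := by omega
      obtain ⟨a, t₁, ha, ht₁, hj₁⟩ := arith_neg_one (Fintype.card F) r j k hr2 hk hrdvd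
      obtain ⟨b, t₂, hb, ht₂, hj₂⟩ := arith_neg_one (Fintype.card F) s j l hs2 hl hsdvd
      have hηka : ηk = a := by
        rcases hηk with ⟨ho, _⟩ | ⟨_, h⟩
        · exfalso
          rw [← ha] at ho
          exact (Nat.not_even_iff_odd.mpr ho) (even_two_mul _)
        · omega
      have hηlb : ηl = b := by
        rcases hηl with ⟨ho, _⟩ | ⟨_, h⟩
        · exfalso
          rw [← hb] at ho
          exact (Nat.not_even_iff_odd.mpr ho) (even_two_mul _)
        · omega
      rcases arith_nondeg k l a b j ha hb (by omega) t₁ t₂ ht₁ ht₂ hj₁ hj₂ with h | h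
      · left; omega
      · right; exact h
    · -- totally isotropic case
      have hle : V' ≤ B.orthogonal V' := inf_eq_left.mp hrad
      have hfo := LinearMap.BilinForm.finrank_orthogonal hN V'
      have hdn : d ≤ n := by
        have := Submodule.finrank_mono hle
        rw [hfo, hdim, ← hd] at this
        omega
      rcases arith_iso k l ηk ηl d hkpos hlpos hηk hηl hkl hkd hld hdpos with h | h
      · left; omega
      · right; exact h

end main

end Cfsg.Agent.Lib.Helper99.SpRP
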