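import Mathlib
import Cfsg.Agent.Lib.Helper99.HermIrred
import Cfsg.Agent.Lib.Helper99.SpRSNon
import Cfsg.Agent.Lib.Helper99.UnipCent

set_option autoImplicit false

namespace Cfsg.Agent.Lib.Helper99.SUComm

open Module Cfsg.Agent.Lib.Helper99.SpRP Cfsg.Agent.Lib.Helper99.HermIrred
open Cfsg.Agent.Lib.Helper69.AbelianIrred

open scoped IsMulCommutative

section arith

theorem odd_order_of_dvd (q s j : ℕ) [Fact s.Prime] (hsq : ¬ s ∣ q) (hdvd : s ∣ q ^ (2 * j) + q) :
    Odd (orderOf (-(q : ZMod s))) := by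
  have hx0 : (-(q : ZMod s)) ≠ 0 := by
    rw [Ne, neg_eq_zero, ZMod.natCast_eq_zero_iff]; exact hsq
  have h0 : (q : ZMod s) ^ (2 * j) + (q : ZMod s) = 0 := by
    have := (ZMod.natCast_eq_zero_iff (q ^ (2 * j) + q) s).mpr hdvd
    rw [Nat.cast_add, Nat.cast_pow] at this
    exact this
  have h1 : (-(q : ZMod s)) ^ (2 * j) = -(q : ZMod s) := by
    rw [Even.neg_pow (even_two_mul j)]
    exact eq_neg_of_add_eq_zero_left h0
  rcases Nat.eq_zero_or_pos j with hj | hj
  · subst hj
    rw [mul_zero, pow_zero] at h1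
    rw [← h1, orderOf_one]
    exact odd_one
  · have h2 : (-(q : ZMod s)) ^ (2 * j - 1) = 1 := by
      have h3 : (-(q : ZMod s)) ^ (2 * j - 1) * (-(q : ZMod s)) = 1 * (-(q : ZMod s)) := by
        rw [← pow_succ, show 2 * j - 1 + 1 = 2 * j by omega, h1, one_mul]
      exact mul_right_cancel₀ hx0 h3
    have h4 := orderOf_dvd_of_pow_eq_one h2
    have h5 : Odd (2 * j - 1) := ⟨j - 1, by omega⟩
    exact Odd.of_dvd_nat h5 h4

theorem order_sq (q s : ℕ) [Fact s.Prime] (e k₂ : ℕ)
    (he : e = orderOf (-(q : ZMod s))) (hk₂ : k₂ = orderOf (((q ^ 2 : ℕ) : ℕ) : ZMod s)) :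
    (Odd e → k₂ = e) ∧ (Even e → 2 * k₂ = e) := by
  have h1 : (((q ^ 2 : ℕ) : ℕ) : ZMod s) = (-(q : ZMod s)) ^ 2 := by
    rw [Nat.cast_pow, neg_sq]
  rw [h1, orderOf_pow' _ (by norm_num : (2 : ℕ) ≠ 0), ← he] at hk₂
  constructor
  · intro ho
    have : Nat.gcd e 2 = 1 := Nat.coprime_two_right.mpr ho
    rw [this, Nat.div_one] at hk₂
    exact hk₂
  · intro hev
    have h2 : 2 ∣ e := even_iff_two_dvd.mp hev
    have : Nat.gcd e 2 = 2 := Nat.gcd_eq_right h2
    rw [this] at hk₂
    rw [hk₂]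
    exact Nat.mul_div_cancel' h2

end arith

section irr

variable {F V : Type*} [Field F] [Fintype F] [AddCommGroup V] [Module F V] [Finite V]

/-- isometries of a two-variable function among units -/
def isomGroupFn {W : Type*} [AddCommGroup W] [Module F W] (β : W → W → F) :
    Subgroup (Module.End F W)ˣ where
  carrier := {u | ∀ x y, β ((u : Module.End F W) x) ((u : Module.End F W) y) = β x y}
  one_mem' := by intro x y; simp
  mul_mem' := by
    intro a b ha hb x y
    simp only [Units.val_mul, Module.End.mul_apply]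
    rw [ha, hb]
  inv_mem' := by
    intro a ha x y
    have h0 := ha ((↑a⁻¹ : Module.End F W) x) ((↑a⁻¹ : Module.End F W) y)
    have h1 : ∀ z, (a : Module.End F W) ((↑a⁻¹ : Module.End F W) z) = z := by
      intro z
      rw [← Module.End.mul_apply, Units.mul_inv, Module.End.one_apply]
    rw [h1, h1] at h0
    exact h0.symm

/-- an invariant subspace of minimal possible dimension carrying a nondegenerate sesquilinear
invariant form -/
theorem irr_herm {q : ℕ} (hF : Fintype.card F = q ^ 2) (B : V →ₗ[F] V) (s : ℕ) [Fact s.Prime]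
    (hcop : Nat.Coprime (Nat.card F) s) (hBs : B ^ s = 1)
    (W : Submodule F V) (hWB : ∀ u ∈ W, B u ∈ W) (hWne : W ≠ ⊥)
    (hfp : W ⊓ LinearMap.ker (B - 1) = ⊥)
    (hdimW : finrank F W = orderOf ((Nat.card F : ℕ) : ZMod s))
    (β : W → W → F)
    (hadd_l : ∀ x x' y, β (x + x') y = β x y + β x' y)
    (hsmul_l : ∀ (c : F) x y, β (c • x) y = c * β x y)
    (hadd_r : ∀ x y y', β x (y + y') = β x y + β x y')
    (hsmul_r : ∀ (c : F) x y, β x (c • y) = c ^ q * β x y)
    (hinv : ∀ x y : W, β (B.restrict hWB x) (B.restrict hWB y) = β x y)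
    (hnd : ∀ x, (∀ y, β x y = 0) → x = 0) :
    ∃ j : ℕ, s ∣ q ^ (2 * j) + q := by
  have hspr : s.Prime := Fact.out
  obtain ⟨γ₀, hγ₀def⟩ : ∃ γ₀ : Module.End F W, γ₀ = B.restrict hWB := ⟨_, rfl⟩
  have hγ₀app : ∀ v : W, ((γ₀ v : W) : V) = B (v : V) := by
    intro v; rw [hγ₀def]; rfl
  have hγ₀pow : ∀ (j : ℕ) (v : W), (((γ₀ ^ j) v : W) : V) = (B ^ j) (v : V) := by
    intro j
    induction j with
    | zero => intro v; simp
    | succ j ih =>
      intro v
      rw [pow_succ, Module.End.mul_apply, ih, pow_succ, Module.End.mul_apply, hγ₀app]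
  have hγ₀s : γ₀ ^ s = 1 := by
    ext v
    rw [hγ₀pow, hBs]; rfl
  have hnt : Nontrivial W := Submodule.nontrivial_iff_ne_bot.mpr hWne
  have hγ₀ne : γ₀ ≠ 1 := by
    intro h
    obtain ⟨v, hv⟩ := exists_ne (0 : W)
    apply hv
    have h1 : B (v : V) = v := by rw [← hγ₀app, h]; rfl
    have h2 : (v : V) ∈ W ⊓ LinearMap.ker (B - 1) :=
      ⟨v.2, by rw [SetLike.mem_coe, LinearMap.mem_ker, LinearMap.sub_apply, h1]; simp⟩
    rw [hfp] at h2
    exact Subtype.ext ((Submodule.mem_bot F).mp h2)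
  have hord : orderOf γ₀ = s := orderOf_eq_prime hγ₀s hγ₀ne
  let γ : (Module.End F W)ˣ := Units.ofPowEqOne γ₀ s hγ₀s hspr.pos.ne'
  have hγval : ((γ : (Module.End F W)ˣ) : Module.End F W) = γ₀ := rfl
  let H := Subgroup.zpowers γ
  let ρ : Representation F H W := (Units.coeHom (Module.End F W)).comp H.subtype
  have hfaith : Function.Injective ρ := by
    intro a b hab
    exact Subtype.ext (Units.ext hab)
  have hirr : Irr ρ := by
    intro U hU
    have hUγ : ∀ u ∈ U, γ₀ u ∈ U := fun u hu => hU ⟨γ, Subgroup.mem_zpowers γ⟩ u hu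
    have hinvU : ∀ u ∈ U.map W.subtype, B u ∈ U.map W.subtype := by
      rintro _ ⟨u, hu, rfl⟩
      exact ⟨γ₀ u, hUγ u hu, hγ₀app u⟩
    have hle : U.map W.subtype ≤ W := Submodule.map_subtype_le W U
    have hfpU : U.map W.subtype ⊓ LinearMap.ker (B - 1) = ⊥ := by
      rw [eq_bot_iff, ← hfp]
      exact inf_le_inf_right _ hle
    have hdvd := Cfsg.Agent.S2468.orderOf_dvd_finrank_sub B s hBs hcop (U.map W.subtype) hinvU
    rw [hfpU, finrank_bot, Nat.sub_zero, ← hdimW] at hdvd
    have hle2 : finrank F ↥(U.map W.subtype) ≤ finrank F W := Submodule.finrank_mono hle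
    by_cases h0 : finrank F ↥(U.map W.subtype) = 0
    · left
      have h1 : U.map W.subtype = ⊥ := Submodule.finrank_eq_zero.mp h0
      rw [eq_bot_iff]
      intro u hu
      have h2 : (u : V) ∈ U.map W.subtype := ⟨u, hu, rfl⟩
      rw [h1] at h2
      exact Subtype.ext ((Submodule.mem_bot F).mp h2)
    · right
      have h1 : finrank F W ≤ finrank F ↥(U.map W.subtype) :=
        Nat.le_of_dvd (Nat.pos_of_ne_zero h0) hdvd
      have h2 : U.map W.subtype = W :=
        Submodule.eq_of_le_of_finrank_eq hle (le_antisymm hle2 h1)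
      rw [eq_top_iff]
      intro u _
      have h3 : (u : V) ∈ U.map W.subtype := by rw [h2]; exact u.2
      obtain ⟨u', hu', he⟩ := h3
      have h4 : u' = u := Subtype.ext he
      rw [← h4]; exact hu'
  have hγiso : γ ∈ isomGroupFn β := by
    intro x y
    rw [hγval, hγ₀def]
    exact hinv x y
  have hβ : IsSesq (q := q) ρ β :=
    { add_left := hadd_l
      smul_left := hsmul_l
      add_right := hadd_r
      smul_right := hsmul_r
      inv := fun h x y => ((Subgroup.zpowers_le (H := isomGroupFn β)).mpr hγiso h.2) x y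
      nondeg := hnd }
  obtain ⟨j, hj⟩ := forward_herm hF hirr hfaith hβ
  refine ⟨j, ?_⟩
  have h1 := hj ⟨γ, Subgroup.mem_zpowers γ⟩
  have h2 := congrArg (fun h : H => ((h : (Module.End F W)ˣ) : Module.End F W)) h1
  simp only [Subgroup.coe_pow, Units.val_pow_eq_pow_val, Subgroup.coe_one, Units.val_one] at h2
  rw [← hord]
  exact orderOf_dvd_of_pow_eq_one h2

end irr

section core

variable {F V : Type*} [Field F] [Fintype F] [AddCommGroup V] [Module F V] [Finite V]

/-- a Hermitian form, unbundled -/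
structure IsHerm (q : ℕ) (h : V → V → F) : Prop where
  add_left : ∀ x x' y, h (x + x') y = h x y + h x' y
  smul_left : ∀ (c : F) x y, h (c • x) y = c * h x y
  add_right : ∀ x y y', h x (y + y') = h x y + h x y'
  smul_right : ∀ (c : F) x y, h x (c • y) = c ^ q * h x y
  conj : ∀ x y, h y x = (h x y) ^ q
  nondeg : ∀ x, (∀ y, h x y = 0) → x = 0

omit [Fintype F] [Finite V] in
theorem IsHerm.sub_left {q : ℕ} {h : V → V → F} (hh : IsHerm q h) (x x' y : V) :
    h (x - x') y = h x y - h x' y := by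
  have := hh.add_left (x - x') x' y
  rw [sub_add_cancel] at this
  rw [this, add_sub_cancel_right]

omit [Fintype F] [Finite V] in
theorem IsHerm.sub_right {q : ℕ} {h : V → V → F} (hh : IsHerm q h) (x y y' : V) :
    h x (y - y') = h x y - h x y' := by
  have := hh.add_right x (y - y') y'
  rw [sub_add_cancel] at this
  rw [this, add_sub_cancel_right]

omit [Fintype F] [Finite V] in
theorem exists_in_ker_and_image (N : V →ₗ[F] V) (hN : IsNilpotent N) (R : Submodule F V)
    (hR : ∀ r ∈ R, N r ∈ R) (r₀ : V) (hr₀ : r₀ ∈ R) (hNr₀ : N r₀ ≠ 0) :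
    ∃ w ∈ R, N w ≠ 0 ∧ N (N w) = 0 := by
  classical
  obtain ⟨t₀, ht₀⟩ := hN
  have hex : ∃ t, (N ^ t) r₀ = 0 := ⟨t₀, by rw [ht₀]; rfl⟩
  obtain ⟨t, ht⟩ : ∃ t, t = Nat.find hex := ⟨_, rfl⟩
  have htz : (N ^ t) r₀ = 0 := by rw [ht]; exact Nat.find_spec hex
  have ht2 : 2 ≤ t := by
    by_contra hlt
    have : t = 0 ∨ t = 1 := by omega
    rcases this with h0 | h1
    · rw [h0, pow_zero, Module.End.one_apply] at htz
      rw [htz, map_zero] at hNr₀
      exact hNr₀ rfl
    · rw [h1, pow_one] at htz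
      exact hNr₀ htz
  have hmin : (N ^ (t - 1)) r₀ ≠ 0 := by
    have := Nat.find_min hex (m := t - 1) (by omega)
    exact this
  have hpowR : ∀ j : ℕ, (N ^ j) r₀ ∈ R := by
    intro j
    induction j with
    | zero => simpa using hr₀
    | succ j ih => rw [pow_succ', Module.End.mul_apply]; exact hR _ ih
  refine ⟨(N ^ (t - 2)) r₀, hpowR _, ?_, ?_⟩
  · rw [← Module.End.mul_apply, ← pow_succ', show t - 2 + 1 = t - 1 by omega]
    exact hmin
  · have h1 : N ((N ^ (t - 2)) r₀) = (N ^ (t - 1)) r₀ := by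
      rw [← Module.End.mul_apply, ← pow_succ', show t - 2 + 1 = t - 1 by omega]
    rw [h1, ← Module.End.mul_apply, ← pow_succ', show t - 1 + 1 = t by omega]
    exact htz

theorem unitary_core {q : ℕ} (hF : Fintype.card F = q ^ 2) (h : V → V → F) (hh : IsHerm q h)
    (m : ℕ) (hm : 4 ≤ m) (hdim : finrank F V = m)
    (A B A' : V →ₗ[F] V) (hAB : ∀ v, A (B v) = B (A v))
    (hAh : ∀ x y, h (A x) (A y) = h x y) (hBh : ∀ x y, h (B x) (B y) = h x y)
    (hAnil : IsNilpotent (A - 1)) (hA1 : A ≠ 1)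
    (hA'A : ∀ v, A' (A v) = v) (hAA' : ∀ v, A (A' v) = v)
    (s : ℕ) [Fact s.Prime] (hcop : Nat.Coprime (Nat.card F) s) (hsF : (s : F) ≠ 0)
    (hsq : ¬ s ∣ q) (hBs : B ^ s = 1) (hB1 : B ≠ 1)
    (e : ℕ) (he : e = orderOf (-(q : ZMod s))) : e ≤ m - 2 := by
  have hspr : s.Prime := Fact.out
  have hq0 : q ≠ 0 := (Cfsg.Agent.Lib.Helper19.q_pos hF).ne'
  obtain ⟨k₂, hk₂⟩ : ∃ k₂, k₂ = orderOf ((Nat.card F : ℕ) : ZMod s) := ⟨_, rfl⟩
  have hk₂' : k₂ = orderOf (((q ^ 2 : ℕ) : ℕ) : ZMod s) := by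
    rw [hk₂, Nat.card_eq_fintype_card, hF]
  obtain ⟨hodd_e, heven_e⟩ := order_sq q s e k₂ he hk₂'
  obtain ⟨N, hNdef⟩ : ∃ N : V →ₗ[F] V, N = A - 1 := ⟨_, rfl⟩
  rw [← hNdef] at hAnil
  have hN_app : ∀ v, N v = A v - v := by
    intro v; rw [hNdef, LinearMap.sub_apply, Module.End.one_apply]
  have hNB : ∀ v, N (B v) = B (N v) := by
    intro v; rw [hN_app, hN_app, map_sub, hAB]
  obtain ⟨C, hCdef⟩ : ∃ C : Submodule F V, C = LinearMap.ker (B - 1) := ⟨_, rfl⟩
  obtain ⟨R, hRdef⟩ : ∃ R : Submodule F V, R = LinearMap.range (B - 1) := ⟨_, rfl⟩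
  have hCR : R ⊓ C = ⊥ := by rw [hRdef, hCdef]; exact range_inf_ker B s hBs hsF
  have hdimCR : finrank F R + finrank F C = m := by
    rw [hRdef, hCdef, LinearMap.finrank_range_add_finrank_ker, hdim]
  have hmemC : ∀ v, v ∈ C ↔ B v = v := by
    intro v
    rw [hCdef, LinearMap.mem_ker, LinearMap.sub_apply, Module.End.one_apply, sub_eq_zero]
  have hmemR : ∀ v, v ∈ R ↔ ∃ w, B w - w = v := by
    intro v
    rw [hRdef, LinearMap.mem_range]
    simp only [LinearMap.sub_apply, Module.End.one_apply]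
  have hR_B : ∀ u ∈ R, B u ∈ R := by
    intro u hu
    obtain ⟨w, rfl⟩ := (hmemR u).mp hu
    exact (hmemR _).mpr ⟨B w, by rw [map_sub]⟩
  have hR_A : ∀ u ∈ R, A u ∈ R := by
    intro u hu
    obtain ⟨w, rfl⟩ := (hmemR u).mp hu
    exact (hmemR _).mpr ⟨A w, by rw [map_sub, hAB]⟩
  have hR_N : ∀ u ∈ R, N u ∈ R := by
    intro u hu
    rw [hN_app]
    exact R.sub_mem (hR_A u hu) hu
  have hC_A : ∀ u ∈ C, A u ∈ C := by
    intro u hu
    rw [hmemC] at hu ⊢
    rw [← hAB, hu]
  have hRne : R ≠ ⊥ := by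
    rw [hRdef, Ne, LinearMap.range_eq_bot, sub_eq_zero]; exact hB1
  have hdRpos : 0 < finrank F R := by
    rw [Nat.pos_iff_ne_zero, Ne, Submodule.finrank_eq_zero]; exact hRne
  have hfpR : R ⊓ LinearMap.ker (B - 1) = ⊥ := by rw [← hCdef]; exact hCR
  have hdvdU : ∀ U : Submodule F V, U ≤ R → (∀ u ∈ U, B u ∈ U) → k₂ ∣ finrank F U := by
    intro U hU hUB
    have hfpU : U ⊓ LinearMap.ker (B - 1) = ⊥ := by
      rw [eq_bot_iff, ← hfpR]
      exact inf_le_inf_right _ hU
    have := Cfsg.Agent.S2468.orderOf_dvd_finrank_sub B s hBs hcop U hUB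
    rw [hfpU, finrank_bot, Nat.sub_zero, ← hk₂] at this
    exact this
  have hk₂R : k₂ ∣ finrank F R := hdvdU R le_rfl hR_B
  have hk₂pos : 0 < k₂ := Nat.pos_of_dvd_of_pos hk₂R hdRpos
  have hCR_orth : ∀ c ∈ C, ∀ r ∈ R, h c r = 0 := by
    intro c hc r hr
    obtain ⟨w, rfl⟩ := (hmemR r).mp hr
    rw [hh.sub_right]
    nth_rewrite 1 [← (hmemC c).mp hc]
    rw [hBh, sub_self]
  have hsup : C ⊔ R = ⊤ := by
    apply Submodule.eq_top_of_finrank_eq
    have h1 := Submodule.finrank_sup_add_finrank_inf_eq C R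
    rw [inf_comm, hCR, finrank_bot, add_zero] at h1
    rw [h1, hdim]; omega
  have hR_nd : ∀ v ∈ R, (∀ w ∈ R, h v w = 0) → v = 0 := by
    intro v hv hvw
    apply hh.nondeg
    intro y
    have hy : y ∈ C ⊔ R := by rw [hsup]; trivial
    obtain ⟨c, hc, r, hr, rfl⟩ := Submodule.mem_sup.mp hy
    rw [hh.add_right, hvw r hr, add_zero, hh.conj c v, hCR_orth c hc v hv, zero_pow hq0]
  have hcontra : Even e → (∃ j, s ∣ q ^ (2 * j) + q) → False := by
    rintro hev ⟨j, hj⟩
    have := odd_order_of_dvd q s j hsq hj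
    rw [← he] at this
    exact (Nat.not_even_iff_odd.mpr this) hev
  by_cases hcase : ∃ c ∈ C, A c ≠ c
  · -- Case 1
    have hdimC : 2 ≤ finrank F C := by
      by_contra hlt
      push Not at hlt
      have hle1 : finrank F C ≤ 1 := by omega
      rw [finrank_le_one_iff] at hle1
      obtain ⟨c₀, hc₀⟩ := hle1
      obtain ⟨c, hc, hAc⟩ := hcase
      obtain ⟨lam, hlam⟩ := hc₀ ⟨A c₀, hC_A c₀ c₀.2⟩
      have hlam' : A (c₀ : V) = lam • (c₀ : V) := by
        have := congrArg Subtype.val hlam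
        simpa using this.symm
      obtain ⟨t, ht⟩ := hAnil
      have hNt : ∀ t : ℕ, (N ^ t) (c₀ : V) = (lam - 1) ^ t • (c₀ : V) := by
        intro t
        induction t with
        | zero => simp
        | succ t ih =>
          rw [pow_succ', Module.End.mul_apply, ih, map_smul, hN_app, hlam', pow_succ]
          have : lam • (c₀ : V) - (c₀ : V) = (lam - 1) • (c₀ : V) := by
            rw [sub_smul, one_smul]
          rw [this, smul_smul]
      have h0 : (lam - 1) ^ t • (c₀ : V) = 0 := by rw [← hNt, ht]; rfl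
      obtain ⟨μ, hμ⟩ := hc₀ ⟨c, hc⟩
      have hμ' : c = μ • (c₀ : V) := by
        have := congrArg Subtype.val hμ
        simpa using this.symm
      apply hAc
      rcases smul_eq_zero.mp h0 with h1 | h1
      · have ht0 : t ≠ 0 := by
          rintro rfl
          rw [pow_zero] at h1
          exact one_ne_zero h1
        have hl1 : lam = 1 := sub_eq_zero.mp ((pow_eq_zero_iff ht0).mp h1)
        rw [hμ', map_smul, hlam', hl1, one_smul]
      · rw [hμ', h1, smul_zero, map_zero]
    have hdR : finrank F R ≤ m - 2 := by omega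
    rcases Nat.even_or_odd e with hev | hod
    · have h2k := heven_e hev
      by_contra hgt
      push Not at hgt
      obtain ⟨c, hc⟩ := hk₂R
      have hRk : finrank F R = k₂ := by
        rcases c with _ | _ | c
        · rw [hc] at hdRpos; simp at hdRpos
        · rw [hc]; simp
        · exfalso
          rw [hc] at hdR
          nlinarith
      apply hcontra hev
      refine irr_herm hF B s hcop hBs R hR_B hRne hfpR (hRk.trans hk₂)
        (fun x y => h (x : V) (y : V)) ?_ ?_ ?_ ?_ ?_ ?_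
      · intro x x' y; exact hh.add_left _ _ _
      · intro c x y; exact hh.smul_left _ _ _
      · intro x y y'; exact hh.add_right _ _ _
      · intro c x y; exact hh.smul_right _ _ _
      · intro x y; exact hBh _ _
      · intro x hx
        exact Subtype.ext (hR_nd x x.2 (fun w hw => hx ⟨w, hw⟩))
    · have h1 := hodd_e hod
      have h2 := Nat.le_of_dvd hdRpos hk₂R
      omega
  · -- Case 2
    have hAC : ∀ c ∈ C, A c = c := by
      intro c hc
      by_contra h'
      exact hcase ⟨c, hc, h'⟩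
    have hr₀ : ∃ r₀ ∈ R, N r₀ ≠ 0 := by
      by_contra hcon
      push Not at hcon
      apply hA1
      ext v
      have hv : v ∈ C ⊔ R := by rw [hsup]; trivial
      obtain ⟨c, hc, r, hr, rfl⟩ := Submodule.mem_sup.mp hv
      have h1 := hcon r hr
      rw [hN_app, sub_eq_zero] at h1
      rw [map_add, hAC c hc, h1, Module.End.one_apply]
    obtain ⟨r₀, hr₀R, hNr₀⟩ := hr₀
    obtain ⟨K, hKdef⟩ : ∃ K : Submodule F V, K = R ⊓ LinearMap.ker N := ⟨_, rfl⟩
    have hmemK : ∀ v, v ∈ K ↔ v ∈ R ∧ N v = 0 := by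
      intro v; rw [hKdef, Submodule.mem_inf, LinearMap.mem_ker]
    have hK_B : ∀ u ∈ K, B u ∈ K := by
      intro u hu
      rw [hmemK] at hu ⊢
      exact ⟨hR_B u hu.1, by rw [hNB, hu.2, map_zero]⟩
    have hKR : K ≤ R := by rw [hKdef]; exact inf_le_left
    have hKneR : K ≠ R := by
      intro heq
      have : r₀ ∈ K := by rw [heq]; exact hr₀R
      exact hNr₀ ((hmemK r₀).mp this).2
    obtain ⟨w, hwR, hNw, hNNw⟩ := exists_in_ker_and_image N hAnil R hR_N r₀ hr₀R hNr₀
    have hNwK : N w ∈ K := (hmemK _).mpr ⟨hR_N w hwR, hNNw⟩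
    have hKne : K ≠ ⊥ := by
      intro hbot
      rw [hbot] at hNwK
      exact hNw ((Submodule.mem_bot F).mp hNwK)
    have hk₂K := hdvdU K hKR hK_B
    have hdKpos : 0 < finrank F K := by
      rw [Nat.pos_iff_ne_zero, Ne, Submodule.finrank_eq_zero]; exact hKne
    have hdKlt : finrank F K < finrank F R :=
      Submodule.finrank_lt_finrank_of_lt (lt_of_le_of_ne hKR hKneR)
    have hdRm : finrank F R ≤ m := by omega
    obtain ⟨a, ha⟩ := hk₂K
    obtain ⟨b, hb⟩ := hk₂R
    have hab : a < b := by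
      rw [ha, hb] at hdKlt
      exact lt_of_mul_lt_mul_left hdKlt (Nat.zero_le _)
    have ha0 : 0 < a := by
      rcases Nat.eq_zero_or_pos a with h0 | h0
      · rw [h0, mul_zero] at ha; omega
      · exact h0
    rcases Nat.even_or_odd e with hev | hod
    · have h2k := heven_e hev
      by_contra hgt
      push Not at hgt
      have hk₂2 : 2 ≤ k₂ := by omega
      have hb2 : b = 2 := by
        by_contra hne
        have hb3 : 3 ≤ b := by omega
        have : k₂ * 3 ≤ k₂ * b := Nat.mul_le_mul_left k₂ hb3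
        omega
      have ha1 : a = 1 := by omega
      have hdK : finrank F K = k₂ := by rw [ha, ha1, mul_one]
      have hdR : finrank F R = 2 * k₂ := by rw [hb, hb2, mul_comm]
      -- the image of `N` on `R`
      obtain ⟨I, hIdef⟩ : ∃ I : Submodule F V, I = R.map N := ⟨_, rfl⟩
      have hmemI : ∀ v, v ∈ I ↔ ∃ u ∈ R, N u = v := by
        intro v; rw [hIdef, Submodule.mem_map]
      have hIR : I ≤ R := by
        intro v hv
        obtain ⟨u, hu, rfl⟩ := (hmemI v).mp hv
        exact hR_N u hu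
      have hI_B : ∀ u ∈ I, B u ∈ I := by
        intro v hv
        obtain ⟨u, hu, rfl⟩ := (hmemI v).mp hv
        exact (hmemI _).mpr ⟨B u, hR_B u hu, hNB u⟩
      have hdI : finrank F I = k₂ := by
        have h1 := LinearMap.finrank_range_add_finrank_ker (N.domRestrict R)
        have h2 : finrank F ↥(LinearMap.range (N.domRestrict R)) = finrank F I := by
          rw [hIdef, LinearMap.range_domRestrict]
        have h3 : finrank F ↥(LinearMap.ker (N.domRestrict R)) = finrank F K := by
          have h4 : (LinearMap.ker (N.domRestrict R)).map R.subtype = K := by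
            ext v
            rw [hmemK, Submodule.mem_map]
            constructor
            · rintro ⟨u, hu, rfl⟩
              exact ⟨u.2, hu⟩
            · rintro ⟨hv1, hv2⟩
              exact ⟨⟨v, hv1⟩, hv2, rfl⟩
          rw [← h4]
          exact (Submodule.finrank_map_subtype_eq R _).symm
        omega
      have hIKne : I ⊓ K ≠ ⊥ := by
        intro hbot
        have : N w ∈ I ⊓ K := ⟨(hmemI _).mpr ⟨w, hwR, rfl⟩, hNwK⟩
        rw [hbot] at this
        exact hNw ((Submodule.mem_bot F).mp this)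
      have hIK_B : ∀ u ∈ I ⊓ K, B u ∈ I ⊓ K := fun u hu => ⟨hI_B u hu.1, hK_B u hu.2⟩
      have hdIK := hdvdU (I ⊓ K) (inf_le_left.trans hIR) hIK_B
      have hdIKpos : 0 < finrank F ↥(I ⊓ K) := by
        rw [Nat.pos_iff_ne_zero, Ne, Submodule.finrank_eq_zero]; exact hIKne
      have hdIKge : k₂ ≤ finrank F ↥(I ⊓ K) := Nat.le_of_dvd hdIKpos hdIK
      have hIKI : I ⊓ K = I :=
        Submodule.eq_of_le_of_finrank_le inf_le_left (by rw [hdI]; exact hdIKge)
      have hIKK : I ⊓ K = K :=
        Submodule.eq_of_le_of_finrank_le inf_le_right (by rw [hdK]; exact hdIKge)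
      have hIK' : I = K := hIKI.symm.trans hIKK
      have hKfix : ∀ x ∈ K, A x = x := by
        intro x hx
        have := ((hmemK x).mp hx).2
        rw [hN_app, sub_eq_zero] at this
        exact this
      have hKiso : ∀ x ∈ K, ∀ y ∈ K, h x y = 0 := by
        intro x hx y hy
        rw [← hIK'] at hx
        obtain ⟨v, _, rfl⟩ := (hmemI x).mp hx
        rw [hN_app, hh.sub_left]
        nth_rewrite 1 [← hKfix y hy]
        rw [hAh, sub_self]
      have hfpK : K ⊓ LinearMap.ker (B - 1) = ⊥ := by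
        rw [eq_bot_iff, ← hfpR]
        exact inf_le_inf_right _ hKR
      -- a linear section of `N : R → K`
      let f : R →ₗ[F] K := (N.domRestrict R).codRestrict K (fun r => by
        rw [← hIK']
        exact (hmemI _).mpr ⟨r, r.2, rfl⟩)
      have hf_surj : LinearMap.range f = ⊤ := by
        rw [eq_top_iff]
        rintro ⟨x, hx⟩ _
        have hx' : x ∈ I := by rw [hIK']; exact hx
        obtain ⟨u, hu, hux⟩ := (hmemI x).mp hx'
        exact ⟨⟨u, hu⟩, Subtype.ext hux⟩
      obtain ⟨σ, hσ⟩ := f.exists_rightInverse_of_surjective hf_surj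
      have hσN : ∀ x : K, N ((σ x : R) : V) = (x : V) := by
        intro x
        have := congrArg Subtype.val (LinearMap.congr_fun hσ x)
        exact this
      apply hcontra hev
      refine irr_herm hF B s hcop hBs K hK_B hKne hfpK (hdK.trans hk₂)
        (fun x y => h ((σ x : R) : V) (y : V)) ?_ ?_ ?_ ?_ ?_ ?_
      · intro x x' y
        show h ((σ (x + x') : R) : V) (y : V) = _
        rw [map_add, Submodule.coe_add, hh.add_left]
      · intro c x y
        show h ((σ (c • x) : R) : V) (y : V) = _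
        rw [map_smul, Submodule.coe_smul, hh.smul_left]
      · intro x y y'; exact hh.add_right _ _ _
      · intro c x y; exact hh.smul_right _ _ _
      · intro x y
        show h ((σ (B.restrict hK_B x) : R) : V) (B (y : V)) = h ((σ x : R) : V) (y : V)
        obtain ⟨d, hd⟩ : ∃ d : V, d = ((σ (B.restrict hK_B x) : R) : V) - B ((σ x : R) : V) :=
          ⟨_, rfl⟩
        have hdK' : d ∈ K := by
          rw [hmemK]
          refine ⟨?_, ?_⟩
          · rw [hd]
            exact R.sub_mem (σ _).2 (hR_B _ (σ x).2)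
          · rw [hd, map_sub, hσN, hNB, hσN]
            exact sub_self _
        have h1 : ((σ (B.restrict hK_B x) : R) : V) = B ((σ x : R) : V) + d := by
          rw [hd]; abel
        rw [h1, hh.add_left, hBh, hKiso d hdK' _ (hK_B _ y.2), add_zero]
      · intro x hx
        have hv : ((σ x : R) : V) ∈ R := (σ x).2
        have hNv0 : N ((σ x : R) : V) = 0 := by
          apply hR_nd _ (hR_N _ hv)
          intro w hw
          have hNwK' : N w ∈ K := by
            rw [← hIK']; exact (hmemI _).mpr ⟨w, hw, rfl⟩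
          have hA'w : A' w = w - N w := by
            have h1 : A' (N w) = N w := by
              nth_rewrite 1 [← hKfix _ hNwK']
              exact hA'A _
            have h2 : A' (N w) = w - A' w := by
              rw [hN_app, map_sub, hA'A]
            rw [h1] at h2
            rw [h2]; abel
          have h3 : h (A ((σ x : R) : V)) w = h ((σ x : R) : V) (A' w) := by
            nth_rewrite 1 [← hAA' w]
            exact hAh _ _
          have h4 : h ((σ x : R) : V) (N w) = 0 := hx ⟨N w, hNwK'⟩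
          rw [hN_app, hh.sub_left, h3, hA'w, hh.sub_right, h4, sub_zero, sub_self]
        apply Subtype.ext
        rw [← hσN x, hNv0]
        rfl
    · have h1 := hodd_e hod
      have h2 : k₂ * 2 ≤ k₂ * b := Nat.mul_le_mul_left k₂ (by omega)
      omega

end core

end Cfsg.Agent.Lib.Helper99.SUComm
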