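import Mathlib

set_option autoImplicit false

namespace Cfsg.Agent.Lib.Helper99.Symp4A

open Subgroup

/-- elements with central square which are central modulo the center -/
def critSub (G : Type*) [Group G] : Subgroup G where
  carrier := {c | c ^ 2 ∈ center G ∧ ∀ y, c * y * c⁻¹ * y⁻¹ ∈ center G}
  one_mem' := by
    refine ⟨by simp [one_mem], fun y => by simp [one_mem]⟩
  mul_mem' := by
    rintro c d ⟨hc2, hc⟩ ⟨hd2, hd⟩
    have key : ∀ y, c * d * y * (c * d)⁻¹ * y⁻¹ = (d * y * d⁻¹ * y⁻¹) * (c * y * c⁻¹ * y⁻¹) := by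
      intro y
      have h1 := (mem_center_iff.mp (hd y)) c
      -- c * z = z * c with z = d y d⁻¹ y⁻¹
      calc c * d * y * (c * d)⁻¹ * y⁻¹ = (c * (d * y * d⁻¹ * y⁻¹)) * (y * c⁻¹ * y⁻¹) := by group
        _ = ((d * y * d⁻¹ * y⁻¹) * c) * (y * c⁻¹ * y⁻¹) := by rw [h1]
        _ = _ := by group
    refine ⟨?_, fun y => ?_⟩
    · have h1 := (mem_center_iff.mp (hd c)) c
      have : (c * d) ^ 2 = (d * c * d⁻¹ * c⁻¹) * c ^ 2 * d ^ 2 := by
        rw [pow_two, pow_two, pow_two]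
        calc (c * d) * (c * d) = (c * (d * c * d⁻¹ * c⁻¹)) * (c * d * d) := by group
          _ = ((d * c * d⁻¹ * c⁻¹) * c) * (c * d * d) := by rw [h1]
          _ = _ := by group
      rw [this]
      exact mul_mem (mul_mem (hd c) hc2) hd2
    · rw [key y]
      exact mul_mem (hd y) (hc y)
  inv_mem' := by
    rintro c ⟨hc2, hc⟩
    refine ⟨?_, fun y => ?_⟩
    · have : (c⁻¹) ^ 2 = (c ^ 2)⁻¹ := by rw [inv_pow]
      rw [this]
      exact inv_mem hc2
    · have h1 := (mem_center_iff.mp (hc y)) c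
      have : c⁻¹ * y * c⁻¹⁻¹ * y⁻¹ = (c * y * c⁻¹ * y⁻¹)⁻¹ := by
        calc c⁻¹ * y * c⁻¹⁻¹ * y⁻¹ = c⁻¹ * (c * y * c⁻¹ * y⁻¹)⁻¹ * c := by group
          _ = c⁻¹ * ((c * y * c⁻¹ * y⁻¹)⁻¹ * c) := by group
          _ = c⁻¹ * (c * (c * y * c⁻¹ * y⁻¹)⁻¹) := by
              congr 1
              have := h1
              calc (c * y * c⁻¹ * y⁻¹)⁻¹ * c = (c * y * c⁻¹ * y⁻¹)⁻¹ * (c * (c * y * c⁻¹ * y⁻¹)) * (c * y * c⁻¹ * y⁻¹)⁻¹ := by group
                _ = (c * y * c⁻¹ * y⁻¹)⁻¹ * ((c * y * c⁻¹ * y⁻¹) * c) * (c * y * c⁻¹ * y⁻¹)⁻¹ := by rw [h1]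
                _ = _ := by group
          _ = _ := by group
      rw [this]
      exact inv_mem (hc y)

theorem mem_critSub {G : Type*} [Group G] {c : G} :
    c ∈ critSub G ↔ c ^ 2 ∈ center G ∧ ∀ y, c * y * c⁻¹ * y⁻¹ ∈ center G := Iff.rfl

theorem center_le_critSub (G : Type*) [Group G] : center G ≤ critSub G := by
  intro z hz
  refine ⟨pow_mem hz 2, fun y => ?_⟩
  have h1 := (mem_center_iff.mp hz) y
  have : z * y * z⁻¹ * y⁻¹ = 1 := by
    calc z * y * z⁻¹ * y⁻¹ = (z * y) * z⁻¹ * y⁻¹ := by group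
      _ = (y * z) * z⁻¹ * y⁻¹ := by rw [h1]
      _ = 1 := by group
  rw [this]; exact one_mem _

instance critSub_characteristic (G : Type*) [Group G] : (critSub G).Characteristic := by
  rw [characteristic_iff_map_le]
  rintro φ _ ⟨c, ⟨hc2, hc⟩, rfl⟩
  have hcen : ∀ z, z ∈ center G → φ z ∈ center G := by
    intro z hz
    have := (Subgroup.centerCharacteristic (G := G))
    have h2 := (characteristic_iff_map_le.mp this) φ
    exact h2 ⟨z, hz, rfl⟩
  refine ⟨?_, fun y => ?_⟩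
  · have : (φ.toMonoidHom c) ^ 2 = φ (c ^ 2) := by simp
    rw [this]; exact hcen _ hc2
  · have : φ.toMonoidHom c * y * (φ.toMonoidHom c)⁻¹ * y⁻¹ = φ (c * φ.symm y * c⁻¹ * (φ.symm y)⁻¹) := by
      simp
    rw [this]; exact hcen _ (hc _)

theorem centralizer_critSub_le {G : Type*} [Group G] [Finite G] (hp : IsPGroup 2 G)
    (hexp : ∀ x : G, x ^ 4 = 1)
    (hchar : ∀ A : Subgroup G, A.Characteristic → IsMulCommutative A → IsCyclic A)
    (hZ : Nat.card (center G) = 4) :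
    centralizer (critSub G : Set G) ≤ center G := by
  classical
  set C := critSub G with hC
  set D := centralizer (C : Set G) with hD
  have hDchar : D.Characteristic := by rw [hD]; infer_instance
  have hDnormal : D.Normal := normal_of_characteristic D
  have hZCchar : (C ⊓ D).Characteristic := by infer_instance
  have hZCcomm : IsMulCommutative ↥(C ⊓ D) := by
    refine ⟨⟨fun a b => ?_⟩⟩
    apply Subtype.ext
    have ha : (a : G) ∈ C := a.2.1
    have hb : (b : G) ∈ D := b.2.2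
    have := (mem_centralizer_iff.mp hb) a ha
    simpa using this
  have hcyc := hchar _ hZCchar hZCcomm
  have hle : center G ≤ C ⊓ D := by
    refine le_inf (center_le_critSub G) ?_
    intro z hz
    rw [hD, mem_centralizer_iff]
    intro c _
    exact (mem_center_iff.mp hz c)
  have hcard : Nat.card ↥(C ⊓ D) ≤ 4 := by
    have h1 := @IsCyclic.exponent_eq_card ↥(C ⊓ D) _ hcyc
    have h2 : Monoid.exponent ↥(C ⊓ D) ∣ 4 := by
      apply Monoid.exponent_dvd_of_forall_pow_eq_one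
      intro g
      apply Subtype.ext
      simpa using hexp (g : G)
    rw [h1] at h2
    exact Nat.le_of_dvd (by norm_num) h2
  have hZC : center G = C ⊓ D := Subgroup.eq_of_le_of_card_ge hle (by rw [hZ]; exact hcard)
  intro x hxD
  by_contra hxZ
  -- nilpotency
  have hnil : Group.IsNilpotent G := hp.isNilpotent
  obtain ⟨n, hn⟩ := hnil.nilpotent
  have hex : ∃ k, ∃ x ∈ D, x ∈ Subgroup.upperCentralSeries G k ∧ x ∉ center G :=
    ⟨n, x, hxD, by rw [hn]; exact mem_top _, hxZ⟩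
  obtain ⟨x', hx'D, hx'k, hx'Z⟩ := Nat.find_spec hex
  have hmin := fun m (hm : m < Nat.find hex) => Nat.find_min hex hm
  obtain ⟨m, hm⟩ : ∃ m, Nat.find hex = m + 1 := by
    cases hk : Nat.find hex with
    | zero =>
      rw [hk] at hx'k
      simp only [Subgroup.upperCentralSeries_zero, mem_bot] at hx'k
      exact absurd (hx'k ▸ one_mem _) hx'Z
    | succ m => exact ⟨m, rfl⟩
  rw [hm] at hx'k
  have hcomm : ∀ g, x' * g * x'⁻¹ * g⁻¹ ∈ center G := by
    intro g
    have h1 := Subgroup.mem_upperCentralSeries_succ_iff.mp hx'k g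
    have h2 : x' * g * x'⁻¹ * g⁻¹ ∈ D := by
      have : x' * g * x'⁻¹ * g⁻¹ = x' * (g * x'⁻¹ * g⁻¹) := by group
      rw [this]
      exact mul_mem hx'D (hDnormal.conj_mem _ (inv_mem hx'D) g)
    by_contra h3
    exact hmin m (by omega) ⟨_, h2, h1, h3⟩
  by_cases hsq : x' ^ 2 ∈ center G
  · have : x' ∈ C ⊓ D := ⟨⟨hsq, hcomm⟩, hx'D⟩
    rw [← hZC] at this
    exact hx'Z this
  · have h2D : x' ^ 2 ∈ D := pow_mem hx'D 2
    have h2C : x' ^ 2 ∈ C := by
      refine ⟨?_, fun g => ?_⟩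
      · rw [← pow_mul]; norm_num; rw [hexp]; exact one_mem _
      · have hz := mem_center_iff.mp (hcomm g) x'
        have : x' ^ 2 * g * (x' ^ 2)⁻¹ * g⁻¹ = (x' * g * x'⁻¹ * g⁻¹) * (x' * g * x'⁻¹ * g⁻¹) := by
          rw [pow_two]
          calc x' * x' * g * (x' * x')⁻¹ * g⁻¹ = (x' * (x' * g * x'⁻¹ * g⁻¹)) * (g * x'⁻¹ * g⁻¹) := by group
            _ = ((x' * g * x'⁻¹ * g⁻¹) * x') * (g * x'⁻¹ * g⁻¹) := by rw [hz]
            _ = _ := by group
        rw [this]
        exact mul_mem (hcomm g) (hcomm g)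
    have : x' ^ 2 ∈ C ⊓ D := ⟨h2C, h2D⟩
    rw [← hZC] at this
    exact hsq this

end Cfsg.Agent.Lib.Helper99.Symp4A
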