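import Mathlib

set_option autoImplicit false

namespace Cfsg.Agent.Lib.Helper99.Symp4C

open scoped Matrix

/-- bitwise exclusive or on `Fin 4` -/
def xr : Fin 4 → Fin 4 → Fin 4 := ![![0,1,2,3],![1,0,3,2],![2,3,0,1],![3,2,1,0]]

/-- parity of the bitwise and on `Fin 4` -/
def sb : Fin 4 → Fin 4 → Bool :=
  ![![false,false,false,false],![false,true,false,true],![false,false,true,true],![false,true,true,false]]

theorem xr_comm : ∀ a b : Fin 4, xr a b = xr b a := by decide
theorem xr_assoc : ∀ a b c : Fin 4, xr (xr a b) c = xr a (xr b c) := by decide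
theorem xr_self : ∀ a : Fin 4, xr a a = 0 := by decide
theorem xr_zero : ∀ a : Fin 4, xr a 0 = a := by decide
theorem zero_xr : ∀ a : Fin 4, xr 0 a = a := by decide
theorem xr_xr_cancel : ∀ a b : Fin 4, xr (xr a b) b = a := by decide
theorem xr_eq_iff : ∀ a b c : Fin 4, xr a b = c ↔ a = xr c b := by decide
theorem xr_eq_zero_iff : ∀ a b : Fin 4, xr a b = 0 ↔ a = b := by decide
theorem xr_left_inj : ∀ a b c : Fin 4, xr a c = xr b c ↔ a = b := by decide
theorem sb_comm : ∀ a b : Fin 4, sb a b = sb b a := by decide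
theorem sb_zero_left : ∀ a : Fin 4, sb 0 a = false := by decide
theorem sb_zero_right : ∀ a : Fin 4, sb a 0 = false := by decide
theorem sb_xr_left : ∀ a b k : Fin 4, sb (xr a b) k = xor (sb a k) (sb b k) := by decide
theorem sb_xr_right : ∀ a k l : Fin 4, sb a (xr k l) = xor (sb a k) (sb a l) := by decide

variable {F : Type*} [Field F]

/-- the sign `(-1)^(a·k)` -/
def sg (a k : Fin 4) : F := if sb a k then -1 else 1

theorem sg_comm (a b : Fin 4) : (sg a b : F) = sg b a := by simp [sg, sb_comm a b]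
theorem sg_zero_left (a : Fin 4) : (sg 0 a : F) = 1 := by simp [sg, sb_zero_left]
theorem sg_zero_right (a : Fin 4) : (sg a 0 : F) = 1 := by simp [sg, sb_zero_right]
theorem sg_mul_self (a k : Fin 4) : (sg a k : F) * sg a k = 1 := by
  unfold sg; split_ifs <;> simp
theorem sg_xr_left (a b k : Fin 4) : (sg (xr a b) k : F) = sg a k * sg b k := by
  unfold sg; rw [sb_xr_left]; cases sb a k <;> cases sb b k <;> simp
theorem sg_xr_right (a k l : Fin 4) : (sg a (xr k l) : F) = sg a k * sg a l := by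
  unfold sg; rw [sb_xr_right]; cases sb a k <;> cases sb a l <;> simp
theorem sg_ne_zero (a k : Fin 4) : (sg a k : F) ≠ 0 := by
  unfold sg; split_ifs <;> simp
theorem sg_pow_four (a k : Fin 4) : (sg a k : F) ^ 4 = 1 := by
  unfold sg; split_ifs <;> norm_num
theorem sg_eq_or (a k : Fin 4) : (sg a k : F) = 1 ∨ (sg a k : F) = -1 := by
  unfold sg; split_ifs <;> simp

/-- the standard monomial matrices: `W e f` sends the basis vector `l` to `± (l xor f)` -/
def W (e f : Fin 4) : Matrix (Fin 4) (Fin 4) F :=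
  Matrix.of fun k l => if l = xr k f then sg e k else 0

theorem W_apply (e f k l : Fin 4) : (W e f : Matrix (Fin 4) (Fin 4) F) k l = if l = xr k f then sg e k else 0 := rfl

theorem W_mulVec (e f : Fin 4) (v : Fin 4 → F) (k : Fin 4) :
    ((W e f : Matrix (Fin 4) (Fin 4) F) *ᵥ v) k = sg e k * v (xr k f) := by
  simp [Matrix.mulVec, dotProduct, W_apply, ite_mul, Finset.sum_ite_eq']

theorem W_mul (e f e' f' : Fin 4) :
    (W e f : Matrix (Fin 4) (Fin 4) F) * W e' f' = (sg e' f : F) • W (xr e e') (xr f f') := by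
  ext k l
  simp only [Matrix.mul_apply, W_apply, Matrix.smul_apply, smul_eq_mul, ite_mul, zero_mul,
    Finset.sum_ite_eq', Finset.mem_univ, if_true]
  rw [xr_assoc, sg_xr_right, sg_xr_left]
  split_ifs <;> ring

theorem W_zero : (W 0 0 : Matrix (Fin 4) (Fin 4) F) = 1 := by
  ext k l
  simp [W_apply, xr_zero, sg_zero_left, Matrix.one_apply, eq_comm]

theorem W_sq (e f : Fin 4) : (W e f : Matrix (Fin 4) (Fin 4) F) * W e f = (sg e f : F) • 1 := by
  rw [W_mul, xr_self, xr_self, W_zero]

theorem W_comm (e f e' f' : Fin 4) :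
    (W e f : Matrix (Fin 4) (Fin 4) F) * W e' f' = (sg e' f * sg e f' : F) • (W e' f' * W e f) := by
  rw [W_mul, W_mul, smul_smul, xr_comm e e', xr_comm f f', mul_assoc, sg_mul_self, mul_one]

theorem trace_W (e f : Fin 4) :
    Matrix.trace (W e f : Matrix (Fin 4) (Fin 4) F) = if e = 0 ∧ f = 0 then 4 else 0 := by
  by_cases hf : f = 0
  · subst hf
    simp only [Matrix.trace, Matrix.diag, W_apply, xr_zero, if_true, Fin.sum_univ_four]
    fin_cases e <;> simp [sg, sb] <;> norm_num
  · have : ∀ k : Fin 4, k ≠ xr k f := by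
      intro k h
      have := (xr_eq_iff k f k).mp h.symm
      rw [xr_comm, ← xr_eq_iff, xr_self] at this
      exact hf this.symm
    simp [Matrix.trace, Matrix.diag, W_apply, this, hf]

theorem sb_inj : ∀ e e' : Fin 4, (∀ k, sb e k = sb e' k) → e = e' := by decide

theorem sg_inj [NeZero (2 : F)] (e e' : Fin 4) (h : ∀ k, (sg e k : F) = sg e' k) : e = e' := by
  apply sb_inj
  intro k
  have h1 := h k
  have h2 : (1 : F) ≠ -1 := by
    intro h3
    have : (2 : F) = 0 := by linear_combination h3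
    exact NeZero.ne (2 : F) this
  unfold sg at h1
  cases ha : sb e k <;> cases hb : sb e' k <;> simp [ha, hb] at h1 ⊢
  · exact h2 h1
  · exact h2 h1.symm

/-- uniqueness of the representation `c • W e f` -/
theorem smul_W_inj [NeZero (2 : F)] {a b : F} {e f e' f' : Fin 4} (ha : a ≠ 0)
    (h : a • (W e f : Matrix (Fin 4) (Fin 4) F) = b • W e' f') : e = e' ∧ f = f' ∧ a = b := by
  have h0 := congrFun (congrFun h 0) f
  simp only [Matrix.smul_apply, W_apply, zero_xr, if_true, sg_zero_right, smul_eq_mul, mul_one] at h0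
  have hf : f = f' := by
    by_contra hne
    rw [if_neg hne, mul_zero] at h0
    exact ha h0
  subst hf
  rw [if_pos rfl, mul_one] at h0
  subst h0
  refine ⟨?_, rfl, rfl⟩
  apply sg_inj (F := F)
  intro k
  have hk := congrFun (congrFun h k) (xr k f)
  simp only [Matrix.smul_apply, W_apply, if_true, smul_eq_mul] at hk
  exact mul_left_cancel₀ ha hk

theorem W_ne_zero (e f : Fin 4) : (W e f : Matrix (Fin 4) (Fin 4) F) ≠ 0 := by
  intro h
  have := congrFun (congrFun h 0) f
  simp [W_apply, zero_xr, sg_zero_right] at this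

/-- trace orthogonality -/
theorem trace_W_mul (e f e' f' : Fin 4) :
    Matrix.trace ((W e f : Matrix (Fin 4) (Fin 4) F) * W e' f') =
      if e = e' ∧ f = f' then 4 * sg e f else 0 := by
  rw [W_mul, Matrix.trace_smul, trace_W, smul_eq_mul]
  by_cases h : e = e' ∧ f = f'
  · obtain ⟨rfl, rfl⟩ := h
    simp [xr_self, mul_comm]
  · rw [if_neg h, if_neg, mul_zero]
    rw [xr_eq_zero_iff, xr_eq_zero_iff]
    exact h

theorem sum_sg (a : Fin 4) : ∑ e : Fin 4, (sg e a : F) = if a = 0 then 4 else 0 := by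
  rw [Fin.sum_univ_four]
  fin_cases a <;> simp [sg, sb] <;> norm_num

theorem sum_xr_diag (M : Matrix (Fin 4) (Fin 4) F) (k : Fin 4) :
    ∑ f : Fin 4, M (xr k f) (xr k f) = Matrix.trace M := by
  simp only [Matrix.trace, Matrix.diag, Fin.sum_univ_four]
  fin_cases k <;> simp [xr] <;> ring

theorem W_mul_mul_W_apply (e f : Fin 4) (M : Matrix (Fin 4) (Fin 4) F) (k l : Fin 4) :
    (W e f * M * W e f : Matrix (Fin 4) (Fin 4) F) k l =
      sg e k * sg e l * sg e f * M (xr k f) (xr l f) := by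
  rw [Matrix.mul_apply]
  have h1 : ∀ m : Fin 4, (W e f * M : Matrix (Fin 4) (Fin 4) F) k m = sg e k * M (xr k f) m := by
    intro m
    simp [Matrix.mul_apply, W_apply, ite_mul, Finset.sum_ite_eq']
  simp only [h1, W_apply]
  rw [Finset.sum_eq_single (xr l f)]
  · rw [if_pos (xr_xr_cancel l f).symm, sg_xr_right]; ring
  · intro m _ hm
    rw [if_neg, mul_zero]
    intro h
    apply hm
    rw [h, xr_xr_cancel]
  · intro h; exact absurd (Finset.mem_univ _) h

/-- the averaging identity -/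
theorem averaging (M : Matrix (Fin 4) (Fin 4) F) :
    ∑ e : Fin 4, ∑ f : Fin 4, (sg e f : F) • ((W e f : Matrix (Fin 4) (Fin 4) F) * M * W e f) =
      (4 * Matrix.trace M) • (1 : Matrix (Fin 4) (Fin 4) F) := by
  ext k l
  simp only [Matrix.sum_apply, Matrix.smul_apply, W_mul_mul_W_apply, smul_eq_mul, Matrix.one_apply]
  rw [Finset.sum_comm]
  have h1 : ∀ f e : Fin 4, (sg e f : F) * (sg e k * sg e l * sg e f * M (xr k f) (xr l f)) =
      sg e (xr k l) * M (xr k f) (xr l f) := by
    intro f e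
    rw [sg_xr_right]
    have := sg_mul_self (F := F) e f
    linear_combination (sg e k * sg e l * M (xr k f) (xr l f)) * this
  simp only [h1, ← Finset.sum_mul, sum_sg]
  by_cases hkl : k = l
  · subst hkl
    simp only [xr_self, if_true]
    rw [← Finset.mul_sum, sum_xr_diag]; ring
  · rw [if_neg hkl, if_neg]
    · simp
    · rw [xr_eq_zero_iff]; exact hkl

/-- `W e f` as an element of the general linear group -/
def Wg (e f : Fin 4) : GL (Fin 4) F :=
  ⟨W e f, (sg e f : F) • W e f, by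
    rw [Matrix.mul_smul, W_sq, smul_smul, sg_mul_self, one_smul], by
    rw [Matrix.smul_mul, W_sq, smul_smul, sg_mul_self, one_smul]⟩

@[simp] theorem Wg_val (e f : Fin 4) : ((Wg e f : GL (Fin 4) F) : Matrix (Fin 4) (Fin 4) F) = W e f := rfl

theorem Wg_inv_val (e f : Fin 4) :
    (((Wg e f : GL (Fin 4) F)⁻¹ : GL (Fin 4) F) : Matrix (Fin 4) (Fin 4) F) = (sg e f : F) • W e f := rfl

/-- the standard group `4 ∘ 2^{1+4}` -/
def R0 (F : Type*) [Field F] : Subgroup (GL (Fin 4) F) where
  carrier := {g | ∃ (c : F) (e f : Fin 4), c ^ 4 = 1 ∧ (g : Matrix (Fin 4) (Fin 4) F) = c • W e f}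
  one_mem' := ⟨1, 0, 0, by simp, by simp [W_zero]⟩
  mul_mem' := by
    rintro g h ⟨c, e, f, hc, hg⟩ ⟨c', e', f', hc', hh⟩
    refine ⟨c * c' * sg e' f, xr e e', xr f f', ?_, ?_⟩
    · rw [mul_pow, mul_pow, hc, hc', sg_pow_four]; ring
    · rw [Units.val_mul, hg, hh, Matrix.smul_mul, Matrix.mul_smul, W_mul, smul_smul, smul_smul]
  inv_mem' := by
    rintro g ⟨c, e, f, hc, hg⟩
    have hc0 : c ≠ 0 := by
      intro h; rw [h] at hc; norm_num at hc
    refine ⟨c⁻¹ * sg e f, e, f, ?_, ?_⟩
    · rw [mul_pow, inv_pow, hc, sg_pow_four]; simp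
    · apply Units.inv_eq_of_mul_eq_one_right
      rw [hg, Matrix.smul_mul, Matrix.mul_smul, W_sq, smul_smul, smul_smul]
      have := sg_mul_self (F := F) e f
      have h2 : c * (c⁻¹ * sg e f) * sg e f = 1 := by
        rw [mul_assoc, mul_assoc, this, mul_one, mul_inv_cancel₀ hc0]
      rw [h2, one_smul]

theorem mem_R0 {g : GL (Fin 4) F} :
    g ∈ R0 F ↔ ∃ (c : F) (e f : Fin 4), c ^ 4 = 1 ∧ (g : Matrix (Fin 4) (Fin 4) F) = c • W e f := Iff.rfl

theorem Wg_mem_R0 (e f : Fin 4) : (Wg e f : GL (Fin 4) F) ∈ R0 F := ⟨1, e, f, by simp, by simp⟩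

end Cfsg.Agent.Lib.Helper99.Symp4C
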