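import Mathlib

set_option autoImplicit false

namespace Cfsg.Agent.Lib.Helper99.Symp4L

open scoped Matrix

variable {F : Type*} [Field F]

/-- an invertible matrix from four linearly independent columns -/
theorem exists_GL_of_cols (b : Fin 4 → Fin 4 → F)
    (h : ∀ c : Fin 4 → F, (∑ k, c k • b k) = 0 → c = 0) :
    ∃ P : GL (Fin 4) F, ∀ i k, (P : Matrix (Fin 4) (Fin 4) F) i k = b k i := by
  set Pm : Matrix (Fin 4) (Fin 4) F := Matrix.of fun i k => b k i with hPm
  have hmv : ∀ c : Fin 4 → F, Pm *ᵥ c = ∑ k, c k • b k := by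
    intro c
    ext i
    simp [Matrix.mulVec, dotProduct, hPm, Finset.sum_apply, mul_comm]
  have hinj : Function.Injective Pm.mulVec := by
    intro c c' hcc
    have : Pm *ᵥ (c - c') = 0 := by rw [Matrix.mulVec_sub]; exact sub_eq_zero.mpr hcc
    rw [hmv] at this
    exact sub_eq_zero.mp (h _ this)
  have hU : IsUnit Pm := Matrix.mulVec_injective_iff_isUnit.mp hinj
  exact ⟨hU.unit, fun i k => by rw [IsUnit.unit_spec]; rfl⟩

/-- conjugation relation checked on columns -/
theorem mul_eq_mul_of_cols {X C P : Matrix (Fin 4) (Fin 4) F} (b : Fin 4 → Fin 4 → F)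
    (hP : ∀ i k, P i k = b k i) (h : ∀ k, X *ᵥ b k = ∑ j, C j k • b j) : X * P = P * C := by
  ext i k
  have h1 : (X * P) i k = (X *ᵥ b k) i := by
    simp [Matrix.mul_apply, Matrix.mulVec, dotProduct, hP]
  rw [h1, h k]
  simp [Matrix.mul_apply, Finset.sum_apply, hP, mul_comm]

theorem exists_not_mem_span3 (a b c : Fin 4 → F) :
    ∃ w : Fin 4 → F, ∀ x y z : F, x • a + y • b + z • c ≠ w := by
  classical
  by_contra hcon
  push Not at hcon
  have htop : Submodule.span F (({a, b, c} : Finset (Fin 4 → F)) : Set (Fin 4 → F)) = ⊤ := by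
    rw [eq_top_iff]
    intro w _
    obtain ⟨x, y, z, h⟩ := hcon w
    have : (({a, b, c} : Finset (Fin 4 → F)) : Set (Fin 4 → F)) = {a, b, c} := by
      ext; simp
    rw [this, Submodule.mem_span_triple]
    exact ⟨x, y, z, h⟩
  have h1 := finrank_span_finset_le_card (R := F) ({a, b, c} : Finset (Fin 4 → F))
  unfold Set.finrank at h1
  rw [htop, finrank_top, Module.finrank_fin_fun] at h1
  have h2 : ({a, b, c} : Finset (Fin 4 → F)).card ≤ 3 := Finset.card_le_three
  omega

theorem exists_not_mem_span2 (a b : Fin 4 → F) :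
    ∃ w : Fin 4 → F, ∀ x y : F, x • a + y • b ≠ w := by
  obtain ⟨w, hw⟩ := exists_not_mem_span3 a b 0
  exact ⟨w, fun x y h => hw x y 0 (by simpa using h)⟩

end Cfsg.Agent.Lib.Helper99.Symp4L
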