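import Mathlib
import Cfsg.Agent.Lib.Helper99.Symp4C
import Cfsg.Agent.Lib.Helper99.Symp4L

set_option autoImplicit false

namespace Cfsg.Agent.Lib.Helper99.Symp4D

open scoped Matrix
open Cfsg.Agent.Lib.Helper99.Symp4C Cfsg.Agent.Lib.Helper99.Symp4L

variable {F : Type*} [Field F]

theorem mv (M N : Matrix (Fin 4) (Fin 4) F) (v : Fin 4 → F) : M *ᵥ (N *ᵥ v) = (M * N) *ᵥ v :=
  Matrix.mulVec_mulVec v M N

/-- a common eigenvector with eigenvalues `1, 1` -/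
theorem exists_common_eig {A1 A2 B1 B2 : Matrix (Fin 4) (Fin 4) F}
    (hA1 : A1 * A1 = 1) (hA2 : A2 * A2 = 1) (hB1 : B1 * B1 = 1) (hB2 : B2 * B2 = 1)
    (h11 : A1 * B1 = -(B1 * A1)) (h22 : A2 * B2 = -(B2 * A2))
    (h21 : A2 * A1 = A1 * A2) (hb2a1 : B2 * A1 = A1 * B2) :
    ∃ v : Fin 4 → F, v ≠ 0 ∧ A1 *ᵥ v = v ∧ A2 *ᵥ v = v := by
  -- step one
  have s1 : ∃ v : Fin 4 → F, v ≠ 0 ∧ A1 *ᵥ v = v := by
    have hu : (Pi.single 0 1 : Fin 4 → F) ≠ 0 := by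
      intro h; have := congrFun h 0; simp at this
    set u : Fin 4 → F := Pi.single 0 1
    by_cases h : u + A1 *ᵥ u = 0
    · refine ⟨B1 *ᵥ u, ?_, ?_⟩
      · intro h0
        have : B1 *ᵥ (B1 *ᵥ u) = 0 := by rw [h0, Matrix.mulVec_zero]
        rw [mv, hB1, Matrix.one_mulVec] at this
        exact hu this
      · have hAu : A1 *ᵥ u = -u := by
          have : A1 *ᵥ u = (u + A1 *ᵥ u) - u := by abel
          rw [this, h, zero_sub]
        rw [mv, h11, Matrix.neg_mulVec, ← mv, hAu, Matrix.mulVec_neg, neg_neg]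
    · refine ⟨u + A1 *ᵥ u, h, ?_⟩
      rw [Matrix.mulVec_add, mv, hA1, Matrix.one_mulVec, add_comm]
  obtain ⟨v1, hv1, hA1v⟩ := s1
  by_cases h : v1 + A2 *ᵥ v1 = 0
  · refine ⟨B2 *ᵥ v1, ?_, ?_, ?_⟩
    · intro h0
      have : B2 *ᵥ (B2 *ᵥ v1) = 0 := by rw [h0, Matrix.mulVec_zero]
      rw [mv, hB2, Matrix.one_mulVec] at this
      exact hv1 this
    · rw [mv, ← hb2a1, ← mv, hA1v]
    · have hAu : A2 *ᵥ v1 = -v1 := by
        have : A2 *ᵥ v1 = (v1 + A2 *ᵥ v1) - v1 := by abel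
        rw [this, h, zero_sub]
      rw [mv, h22, Matrix.neg_mulVec, ← mv, hAu, Matrix.mulVec_neg, neg_neg]
  · refine ⟨v1 + A2 *ᵥ v1, h, ?_, ?_⟩
    · rw [Matrix.mulVec_add, mv, ← h21, ← mv, hA1v]
    · rw [Matrix.mulVec_add, mv, hA2, Matrix.one_mulVec, add_comm]

/-- the frame: a change of basis carrying a symplectic basis to the standard matrices -/
theorem exists_frame (h2 : (2 : F) ≠ 0) {A1 A2 B1 B2 : Matrix (Fin 4) (Fin 4) F}
    (hA1 : A1 * A1 = 1) (hA2 : A2 * A2 = 1) (hB1 : B1 * B1 = 1) (hB2 : B2 * B2 = 1)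
    (h11 : A1 * B1 = -(B1 * A1)) (h22 : A2 * B2 = -(B2 * A2))
    (h21 : A2 * A1 = A1 * A2) (ha2b1 : A2 * B1 = B1 * A2) (hb2a1 : B2 * A1 = A1 * B2)
    (hb2b1 : B2 * B1 = B1 * B2) :
    ∃ P : GL (Fin 4) F, A1 * (P : Matrix (Fin 4) (Fin 4) F) = (P : Matrix (Fin 4) (Fin 4) F) * W 1 0 ∧
      A2 * (P : Matrix (Fin 4) (Fin 4) F) = (P : Matrix (Fin 4) (Fin 4) F) * W 2 0 ∧
      B1 * (P : Matrix (Fin 4) (Fin 4) F) = (P : Matrix (Fin 4) (Fin 4) F) * W 0 1 ∧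
      B2 * (P : Matrix (Fin 4) (Fin 4) F) = (P : Matrix (Fin 4) (Fin 4) F) * W 0 2 := by
  obtain ⟨v, hv, hA1v, hA2v⟩ := exists_common_eig hA1 hA2 hB1 hB2 h11 h22 h21 hb2a1
  set b1 := B1 *ᵥ v with hb1
  set b2 := B2 *ᵥ v with hb2
  set b3 := (B1 * B2) *ᵥ v with hb3
  -- the sixteen relations
  have a1b1 : A1 *ᵥ b1 = -b1 := by
    rw [hb1, mv, h11, Matrix.neg_mulVec, ← mv, hA1v]
  have a1b2 : A1 *ᵥ b2 = b2 := by
    rw [hb2, mv, ← hb2a1, ← mv, hA1v]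
  have a1b3 : A1 *ᵥ b3 = -b3 := by
    rw [hb3, mv, ← mul_assoc, h11, neg_mul, mul_assoc, ← hb2a1, Matrix.neg_mulVec, ← mul_assoc, ← mv, hA1v]
  have a2b1 : A2 *ᵥ b1 = b1 := by
    rw [hb1, mv, ha2b1, ← mv, hA2v]
  have a2b2 : A2 *ᵥ b2 = -b2 := by
    rw [hb2, mv, h22, Matrix.neg_mulVec, ← mv, hA2v]
  have a2b3 : A2 *ᵥ b3 = -b3 := by
    rw [hb3, mv, ← mul_assoc, ha2b1, mul_assoc, h22, mul_neg, Matrix.neg_mulVec, ← mul_assoc, ← mv, hA2v]
  have b1b0 : B1 *ᵥ v = b1 := rfl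
  have b1b1 : B1 *ᵥ b1 = v := by rw [hb1, mv, hB1, Matrix.one_mulVec]
  have b1b2 : B1 *ᵥ b2 = b3 := by rw [hb2, mv]
  have b1b3 : B1 *ᵥ b3 = b2 := by rw [hb3, mv, ← mul_assoc, hB1, one_mul]
  have b2b0 : B2 *ᵥ v = b2 := rfl
  have b2b1 : B2 *ᵥ b1 = b3 := by rw [hb1, mv, hb2b1]
  have b2b2 : B2 *ᵥ b2 = v := by rw [hb2, mv, hB2, Matrix.one_mulVec]
  have b2b3 : B2 *ᵥ b3 = b1 := by rw [hb3, mv, ← mul_assoc, hb2b1, mul_assoc, hB2, mul_one]
  have hb1ne : b1 ≠ 0 := by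
    intro h0; rw [h0, Matrix.mulVec_zero] at b1b1; exact hv b1b1.symm
  have hb2ne : b2 ≠ 0 := by
    intro h0; rw [h0, Matrix.mulVec_zero] at b2b2; exact hv b2b2.symm
  have hb3ne : b3 ≠ 0 := by
    intro h0; rw [h0, Matrix.mulVec_zero] at b1b3; exact hb2ne b1b3.symm
  have h4 : (4 : F) ≠ 0 := by
    have : (4 : F) = 2 * 2 := by norm_num
    rw [this]; exact mul_ne_zero h2 h2
  -- independence
  have hLI : ∀ c : Fin 4 → F, (∑ k, c k • (![v, b1, b2, b3] : Fin 4 → Fin 4 → F) k) = 0 → c = 0 := by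
    intro c hc
    simp only [Fin.sum_univ_four, Matrix.cons_val_zero, Matrix.cons_val_one, Matrix.cons_val_two,
      Matrix.cons_val_three] at hc
    have e0 : c 0 • v + c 1 • b1 + c 2 • b2 + c 3 • b3 = 0 := by simpa using hc
    have e1 : c 0 • v - c 1 • b1 + c 2 • b2 - c 3 • b3 = 0 := by
      have := congrArg (fun w => A1 *ᵥ w) e0
      simp only [Matrix.mulVec_add, Matrix.mulVec_smul, hA1v, a1b1, a1b2, a1b3, Matrix.mulVec_zero] at this
      rw [← this]; module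
    have e2 : c 0 • v + c 1 • b1 - c 2 • b2 - c 3 • b3 = 0 := by
      have := congrArg (fun w => A2 *ᵥ w) e0
      simp only [Matrix.mulVec_add, Matrix.mulVec_smul, hA2v, a2b1, a2b2, a2b3, Matrix.mulVec_zero] at this
      rw [← this]; module
    have e3 : c 0 • v - c 1 • b1 - c 2 • b2 + c 3 • b3 = 0 := by
      have := congrArg (fun w => A2 *ᵥ w) e1
      simp only [Matrix.mulVec_add, Matrix.mulVec_sub, Matrix.mulVec_smul, hA2v, a2b1, a2b2, a2b3,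
        Matrix.mulVec_zero] at this
      rw [← this]; module
    have c0 : (4 * c 0) • v = 0 := by linear_combination (norm := module) e0 + e1 + e2 + e3
    have c1 : (4 * c 1) • b1 = 0 := by linear_combination (norm := module) e0 - e1 + e2 - e3
    have c2 : (4 * c 2) • b2 = 0 := by linear_combination (norm := module) e0 + e1 - e2 - e3
    have c3 : (4 * c 3) • b3 = 0 := by linear_combination (norm := module) e0 - e1 - e2 + e3
    have r0 := (smul_eq_zero.mp c0).resolve_right hv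
    have r1 := (smul_eq_zero.mp c1).resolve_right hb1ne
    have r2 := (smul_eq_zero.mp c2).resolve_right hb2ne
    have r3 := (smul_eq_zero.mp c3).resolve_right hb3ne
    funext k
    fin_cases k
    · exact (mul_eq_zero.mp r0).resolve_left h4
    · exact (mul_eq_zero.mp r1).resolve_left h4
    · exact (mul_eq_zero.mp r2).resolve_left h4
    · exact (mul_eq_zero.mp r3).resolve_left h4
  obtain ⟨P, hP⟩ := exists_GL_of_cols _ hLI
  refine ⟨P, ?_, ?_, ?_, ?_⟩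
  · apply mul_eq_mul_of_cols _ hP
    intro k
    fin_cases k <;>
      simp [Fin.sum_univ_four, W_apply, xr, sg, sb, hA1v, a1b1, a1b2, a1b3]
  · apply mul_eq_mul_of_cols _ hP
    intro k
    fin_cases k <;>
      simp [Fin.sum_univ_four, W_apply, xr, sg, sb, hA2v, a2b1, a2b2, a2b3]
  · apply mul_eq_mul_of_cols _ hP
    intro k
    fin_cases k <;>
      simp [Fin.sum_univ_four, W_apply, xr, sg, sb, b1b0, b1b1, b1b2, b1b3]
  · apply mul_eq_mul_of_cols _ hP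
    intro k
    fin_cases k <;>
      simp [Fin.sum_univ_four, W_apply, xr, sg, sb, b2b0, b2b1, b2b2, b2b3]

end Cfsg.Agent.Lib.Helper99.Symp4D
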