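import Mathlib
import Cfsg.Prelude.Def_GeometricClasses
import Cfsg.Agent.Lib.Helper99.Symp4A
import Cfsg.Agent.Lib.Helper99.Symp4C
import Cfsg.Agent.Lib.Helper99.Symp4L
import Cfsg.Agent.Lib.Helper99.Symp4D

set_option autoImplicit false

namespace Cfsg.Agent.Lib.Helper99.Symp4B

open scoped Matrix
open Cfsg.Agent.Lib.Helper99.Symp4A Cfsg.Agent.Lib.Helper99.Symp4C Cfsg.Agent.Lib.Helper99.Symp4L
open Cfsg.Agent.Lib.Helper99.Symp4D

section calculus

variable {G : Type*} [Group G] [HasDistribNeg G]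

theorem anti_symm {a b : G} (h : a * b = -(b * a)) : b * a = -(a * b) := by
  rw [h, neg_neg]

/-- adjusting an element by a product of two anticommuting elements so that it commutes with both -/
theorem adjust (a b g : G) (hab : a * b = -(b * a))
    (ha : g * a = a * g ∨ g * a = -(a * g)) (hb : g * b = b * g ∨ g * b = -(b * g)) :
    ∃ t, (t = 1 ∨ t = a ∨ t = b ∨ t = a * b) ∧ (g * t) * a = a * (g * t) ∧ (g * t) * b = b * (g * t) := by
  have hba := anti_symm hab
  rcases ha with ha | ha <;> rcases hb with hb | hb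
  · exact ⟨1, Or.inl rfl, by simpa using ha, by simpa using hb⟩
  · refine ⟨a, Or.inr (Or.inl rfl), ?_, ?_⟩
    · calc g * a * a = (a * g) * a := by rw [ha]
        _ = a * (g * a) := mul_assoc _ _ _
    · calc g * a * b = g * (a * b) := mul_assoc _ _ _
        _ = g * (-(b * a)) := by rw [hab]
        _ = -((g * b) * a) := by rw [mul_neg, mul_assoc]
        _ = -((-(b * g)) * a) := by rw [hb]
        _ = b * (g * a) := by rw [neg_mul, neg_neg, mul_assoc]
  · refine ⟨b, Or.inr (Or.inr (Or.inl rfl)), ?_, ?_⟩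
    · calc g * b * a = g * (b * a) := mul_assoc _ _ _
        _ = g * (-(a * b)) := by rw [hba]
        _ = -((g * a) * b) := by rw [mul_neg, mul_assoc]
        _ = -((-(a * g)) * b) := by rw [ha]
        _ = a * (g * b) := by rw [neg_mul, neg_neg, mul_assoc]
    · calc g * b * b = (b * g) * b := by rw [hb]
        _ = b * (g * b) := mul_assoc _ _ _
  · refine ⟨a * b, Or.inr (Or.inr (Or.inr rfl)), ?_, ?_⟩
    · calc g * (a * b) * a = g * a * (b * a) := by simp only [mul_assoc]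
        _ = g * a * (-(a * b)) := by rw [hba]
        _ = -((g * a) * a * b) := by rw [mul_neg]; simp only [mul_assoc]
        _ = -((-(a * g)) * a * b) := by rw [ha]
        _ = a * (g * (a * b)) := by rw [neg_mul, neg_mul, neg_neg]; simp only [mul_assoc]
    · calc g * (a * b) * b = g * a * b * b := by simp only [mul_assoc]
        _ = (-(a * g)) * b * b := by rw [ha]
        _ = -(a * (g * b) * b) := by rw [neg_mul, neg_mul]; simp only [mul_assoc]
        _ = -(a * (-(b * g)) * b) := by rw [hb]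
        _ = (a * b) * g * b := by rw [mul_neg, neg_mul, neg_neg]; simp only [mul_assoc]
        _ = (-(b * a)) * g * b := by rw [hab]
        _ = -(b * (a * g) * b) := by rw [neg_mul, neg_mul]; simp only [mul_assoc]
        _ = -(b * (-(g * a)) * b) := by rw [ha, neg_neg]
        _ = b * (g * (a * b)) := by rw [mul_neg, neg_mul, neg_neg]; simp only [mul_assoc]

end calculus

section struc

variable {F : Type*} [Field F]

/-- the centre of `R`, as a subgroup of the general linear group -/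
def Zr (R : Subgroup (GL (Fin 4) F)) : Subgroup (GL (Fin 4) F) := (Subgroup.center ↥R).map R.subtype

/-- the critical subgroup of `R`, as a subgroup of the general linear group -/
def Cr (R : Subgroup (GL (Fin 4) F)) : Subgroup (GL (Fin 4) F) := (critSub ↥R).map R.subtype

variable {R : Subgroup (GL (Fin 4) F)}

theorem mem_Zr {g : GL (Fin 4) F} : g ∈ Zr R ↔ g ∈ R ∧ ∀ h ∈ R, h * g = g * h := by
  unfold Zr
  rw [Subgroup.mem_map]
  constructor
  · rintro ⟨z, hz, rfl⟩
    refine ⟨z.2, fun h hh => ?_⟩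
    have := (Subgroup.mem_center_iff.mp hz) ⟨h, hh⟩
    exact congrArg Subtype.val this
  · rintro ⟨hg, hcomm⟩
    exact ⟨⟨g, hg⟩, Subgroup.mem_center_iff.mpr (fun h => Subtype.ext (hcomm h h.2)), rfl⟩

theorem Zr_le : Zr R ≤ R := fun _ hg => (mem_Zr.mp hg).1

theorem Cr_le : Cr R ≤ R := by
  rintro _ ⟨c, _, rfl⟩
  exact c.2

theorem Zr_le_Cr : Zr R ≤ Cr R := Subgroup.map_mono (center_le_critSub _)

theorem Cr_sq {c : GL (Fin 4) F} (hc : c ∈ Cr R) : c * c ∈ Zr R := by
  obtain ⟨c0, hc0, rfl⟩ := hc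
  refine ⟨c0 ^ 2, hc0.1, ?_⟩
  simp [pow_two]

theorem Cr_comm {c y : GL (Fin 4) F} (hc : c ∈ Cr R) (hy : y ∈ R) : c * y * c⁻¹ * y⁻¹ ∈ Zr R := by
  obtain ⟨c0, hc0, rfl⟩ := hc
  refine ⟨c0 * ⟨y, hy⟩ * c0⁻¹ * (⟨y, hy⟩ : ↥R)⁻¹, hc0.2 _, ?_⟩
  simp

theorem card_Zr : Nat.card (Zr R) = Nat.card (Subgroup.center ↥R) := by
  unfold Zr
  exact Subgroup.card_map_of_injective R.subtype_injective

/-- the consequences of the hypotheses that are used below -/
structure Hyp (R : Subgroup (GL (Fin 4) F)) : Prop where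
  scalar : ∀ g ∈ Zr R, ∃ c : F, (g : Matrix (Fin 4) (Fin 4) F) = c • (1 : Matrix (Fin 4) (Fin 4) F)
  pow4 : ∀ g ∈ R, g ^ 4 = 1
  hall : ∀ x ∈ R, (∀ c ∈ Cr R, x * c = c * x) → x ∈ Zr R
  cardZ : Nat.card (Zr R) = 4
  cardR : Nat.card R = 64
  two_ne : (2 : F) ≠ 0

theorem hyp_of_data [Fintype F] (hR : Cfsg.Geo.IsLinearSymplecticTypeData 2 R)
    (hR6 : Nat.card R = 2 ^ 6) (h2 : (2 : F) ≠ 0) : Hyp R := by
  have hcen : Nat.card (Subgroup.center ↥R) = 4 := by
    obtain ⟨p, e, _, _, h | h | h⟩ := hR.field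
    · exact absurd h.1 (by decide)
    · exact h.2.2.1
    · have := h.2.2.1
      simp at this
  have hexp : ∀ x : ↥R, x ^ 4 = 1 := by
    intro x
    have h1 := hR.symplecticType.exponent_eq
    have h2 : Monoid.exponent ↥R = 4 := by rw [h1]; rfl
    have h3 := Monoid.pow_exponent_eq_one x
    rw [h2] at h3
    exact h3
  refine ⟨?_, ?_, ?_, ?_, by rw [hR6]; norm_num, h2⟩
  · intro g hg
    obtain ⟨hgR, hcomm⟩ := mem_Zr.mp hg
    apply hR.absIrred.2
    rintro s ⟨h, hh, rfl⟩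
    have := hcomm h hh
    have h3 := congrArg Units.val this
    simp only [Units.val_mul] at h3
    exact h3.symm
  · intro g hg
    have := hexp ⟨g, hg⟩
    exact congrArg Subtype.val this
  · intro x hx hc
    have hle := centralizer_critSub_le (G := ↥R) hR.symplecticType.pGroup hexp
      hR.symplecticType.cyclic_of_characteristic hcen
    have : (⟨x, hx⟩ : ↥R) ∈ Subgroup.centralizer (critSub ↥R : Set ↥R) := by
      rw [Subgroup.mem_centralizer_iff]
      intro c hcc
      apply Subtype.ext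
      have := hc c.1 ⟨c, hcc, rfl⟩
      simpa using this.symm
    exact ⟨⟨x, hx⟩, hle this, rfl⟩
  · rw [card_Zr, hcen]

end struc

section derive

variable {F : Type*} [Field F] {R : Subgroup (GL (Fin 4) F)}

theorem Zr_central {z g : GL (Fin 4) F} (hz : z ∈ Zr R) (hg : g ∈ R) : z * g = g * z :=
  ((mem_Zr.mp hz).2 g hg).symm

theorem smul_one_eq_one_iff {c : F} : c • (1 : Matrix (Fin 4) (Fin 4) F) = 1 ↔ c = 1 := by
  constructor
  · intro h
    have := congrFun (congrFun h 0) 0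
    simpa using this
  · rintro rfl; simp

theorem dich (H : Hyp R) {c g : GL (Fin 4) F} (hc : c ∈ Cr R) (hg : g ∈ R) :
    c * g = g * c ∨ c * g = -(g * c) := by
  obtain ⟨l, hl⟩ := H.scalar _ (Cr_comm hc hg)
  obtain ⟨m, hm⟩ := H.scalar _ (Cr_sq hc)
  have h1 : c * g = (c * g * c⁻¹ * g⁻¹) * (g * c) := by group
  set cm : Matrix (Fin 4) (Fin 4) F := (c : Matrix (Fin 4) (Fin 4) F) with hcm
  set gm : Matrix (Fin 4) (Fin 4) F := (g : Matrix (Fin 4) (Fin 4) F) with hgm
  have e1 : cm * gm = l • (gm * cm) := by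
    have := congrArg Units.val h1
    rw [Units.val_mul, Units.val_mul (c * g * c⁻¹ * g⁻¹), hl, Units.val_mul] at this
    rw [this, Matrix.smul_mul, Matrix.one_mul]
  have e2 : cm * cm = m • (1 : Matrix (Fin 4) (Fin 4) F) := by
    rw [← hm, Units.val_mul]
  have e3 : (cm * cm) * gm = (l * l) • (gm * (cm * cm)) := by
    calc cm * cm * gm = cm * (cm * gm) := mul_assoc _ _ _
      _ = l • ((cm * gm) * cm) := by rw [e1, Matrix.mul_smul, ← mul_assoc, e1]
      _ = (l * l) • (gm * (cm * cm)) := by rw [e1, Matrix.smul_mul, smul_smul, mul_assoc]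
  rw [e2, Matrix.smul_mul, Matrix.one_mul, Matrix.mul_smul, Matrix.mul_one, smul_smul] at e3
  have hm0 : m ≠ 0 := by
    intro h0
    have : ((c * c : GL (Fin 4) F) : Matrix (Fin 4) (Fin 4) F) = 0 := by rw [hm, h0, zero_smul]
    exact Units.ne_zero _ this
  have hg0 : gm ≠ 0 := Units.ne_zero g
  have e4 : (m - l * l * m) • gm = 0 := by rw [sub_smul, ← e3, sub_self]
  have e5 : m - l * l * m = 0 := by
    rcases smul_eq_zero.mp e4 with h | h
    · exact h
    · exact absurd h hg0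
  have e6 : l * l = 1 := by
    have : m * (1 - l * l) = 0 := by linear_combination e5
    rcases mul_eq_zero.mp this with h | h
    · exact absurd h hm0
    · linear_combination -h
  rcases mul_self_eq_one_iff.mp e6 with h | h
  · left
    apply Units.ext
    rw [Units.val_mul, Units.val_mul]
    change cm * gm = gm * cm
    rw [e1, h, one_smul]
  · right
    apply Units.ext
    rw [Units.val_neg, Units.val_mul, Units.val_mul]
    change cm * gm = -(gm * cm)
    rw [e1, h, neg_smul, one_smul]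

theorem crit_sq (H : Hyp R) {c : GL (Fin 4) F} (hc : c ∈ Cr R) : c * c = 1 ∨ c * c = -1 := by
  obtain ⟨m, hm⟩ := H.scalar _ (Cr_sq hc)
  have h4 := H.pow4 c (Cr_le hc)
  have h5 : (c * c) * (c * c) = 1 := by rw [← h4]; simp only [pow_succ, pow_zero, one_mul, mul_assoc]
  have h6 := congrArg Units.val h5
  rw [Units.val_mul, hm, Matrix.smul_mul, Matrix.one_mul, smul_smul, Units.val_one,
    smul_one_eq_one_iff] at h6
  rcases mul_self_eq_one_iff.mp h6 with h | h
  · left
    apply Units.ext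
    rw [hm, h, one_smul, Units.val_one]
  · right
    apply Units.ext
    rw [hm, h, neg_smul, one_smul, Units.val_neg, Units.val_one]

theorem exists_iota (H : Hyp R) : ∃ ι ∈ Zr R, ι * ι = (-1 : GL (Fin 4) F) := by
  by_contra hno
  push Not at hno
  have hcases : ∀ z ∈ Zr R, z = 1 ∨ z = -1 := by
    intro z hz
    obtain ⟨l, hl⟩ := H.scalar z hz
    have h1 : z * z = 1 := (crit_sq H (Zr_le_Cr hz)).resolve_right (hno z hz)
    have h2 := congrArg Units.val h1
    rw [Units.val_mul, hl, Matrix.smul_mul, Matrix.one_mul, smul_smul, Units.val_one,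
      smul_one_eq_one_iff] at h2
    rcases mul_self_eq_one_iff.mp h2 with h | h
    · left; apply Units.ext; rw [hl, h, one_smul, Units.val_one]
    · right; apply Units.ext; rw [hl, h, neg_smul, one_smul, Units.val_neg, Units.val_one]
  classical
  have hinj : Function.Injective (fun z : ↥(Zr R) => decide ((z : GL (Fin 4) F) = 1)) := by
    intro z w hzw
    simp only [decide_eq_decide] at hzw
    apply Subtype.ext
    rcases hcases z z.2 with h | h <;> rcases hcases w w.2 with h' | h'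
    · rw [h, h']
    · rw [hzw.mp h, h]
    · rw [hzw.mpr h', h']
    · rw [h, h']
  have := Nat.card_le_card_of_injective _ hinj
  rw [H.cardZ, Nat.card_eq_fintype_card, Fintype.card_bool] at this
  omega

theorem scale_mul {z w x y : GL (Fin 4) F} (hw : w ∈ Zr R) (hx : x ∈ R) :
    (z * x) * (w * y) = (z * w) * (x * y) := by
  have := Zr_central hw hx
  calc (z * x) * (w * y) = z * (x * w) * y := by simp only [mul_assoc]
    _ = z * (w * x) * y := by rw [this]
    _ = _ := by simp only [mul_assoc]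

theorem scale_mul' {z w x y : GL (Fin 4) F} (hz : z ∈ Zr R) (hw : w ∈ Zr R) (hy : y ∈ R) :
    (w * y) * (z * x) = (z * w) * (y * x) := by
  rw [scale_mul hz hy, Zr_central hw (Zr_le hz)]

theorem finite_Zr (H : Hyp R) : Finite ↥(Zr R) :=
  Nat.finite_of_card_ne_zero (by rw [H.cardZ]; norm_num)

theorem finite_R (H : Hyp R) : Finite ↥R :=
  Nat.finite_of_card_ne_zero (by rw [H.cardR]; norm_num)

theorem exists_pair (H : Hyp R) : ∃ a ∈ Cr R, ∃ b ∈ Cr R, a * b = -(b * a) := by
  have := finite_Zr H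
  have h1 : ∃ a ∈ Cr R, a ∉ Zr R := by
    by_contra hcon
    push Not at hcon
    have hle : R ≤ Zr R := by
      intro x hx
      exact H.hall x hx (fun c hc => (Zr_central (hcon c hc) hx).symm)
    have := Subgroup.card_le_of_le hle
    rw [H.cardR, H.cardZ] at this
    omega
  obtain ⟨a, haC, haZ⟩ := h1
  have h2 : ∃ b ∈ Cr R, a * b ≠ b * a := by
    by_contra hcon
    push Not at hcon
    exact haZ (H.hall a (Cr_le haC) hcon)
  obtain ⟨b, hbC, hab⟩ := h2
  exact ⟨a, haC, b, hbC, (dich H haC (Cr_le hbC)).resolve_left hab⟩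

theorem comm_of_mem_four {a b g t : GL (Fin 4) F} (ha : g * a = a * g) (hb : g * b = b * g)
    (ht : t = 1 ∨ t = a ∨ t = b ∨ t = a * b) : g * t = t * g := by
  rcases ht with rfl | rfl | rfl | rfl
  · simp
  · exact ha
  · exact hb
  · rw [← mul_assoc, ha, mul_assoc, hb, mul_assoc]

theorem mem_of_mem_four {S : Subgroup (GL (Fin 4) F)} {a b t : GL (Fin 4) F} (ha : a ∈ S) (hb : b ∈ S)
    (ht : t = 1 ∨ t = a ∨ t = b ∨ t = a * b) : t ∈ S := by
  rcases ht with rfl | rfl | rfl | rfl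
  · exact one_mem _
  · exact ha
  · exact hb
  · exact mul_mem ha hb

theorem dich' (H : Hyp R) {c g : GL (Fin 4) F} (hc : c ∈ Cr R) (hg : g ∈ R) :
    g * c = c * g ∨ g * c = -(c * g) := by
  rcases dich H hc hg with h | h
  · exact Or.inl h.symm
  · exact Or.inr (anti_symm h)

theorem exists_third (H : Hyp R) {a b : GL (Fin 4) F} (ha : a ∈ Cr R) (hb : b ∈ Cr R)
    (hab : a * b = -(b * a)) :
    ∃ a2 ∈ Cr R, a2 ∉ Zr R ∧ a2 * a = a * a2 ∧ a2 * b = b * a2 := by
  by_contra hcon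
  push Not at hcon
  have Hc : ∀ c ∈ Cr R, c * a = a * c → c * b = b * c → c ∈ Zr R := by
    intro c hc h1 h2
    by_contra h3
    exact hcon c hc h3 h1 h2
  have HK : ∀ g ∈ R, g * a = a * g → g * b = b * g → g ∈ Zr R := by
    intro g hg hga hgb
    apply H.hall g hg
    intro c hc
    obtain ⟨t, ht, h1, h2⟩ := adjust a b c hab (dich' H ha (Cr_le hc)) (dich' H hb (Cr_le hc))
    have htC : t ∈ Cr R := mem_of_mem_four ha hb ht
    have hctZ : c * t ∈ Zr R := Hc _ (mul_mem hc htC) h1 h2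
    have e1 : g * (c * t) = (c * t) * g := (Zr_central hctZ hg).symm
    have e2 : g * t = t * g := comm_of_mem_four hga hgb ht
    have e3 : (g * c) * t = (c * g) * t := by
      calc g * c * t = g * (c * t) := mul_assoc _ _ _
        _ = c * t * g := e1
        _ = c * (t * g) := mul_assoc _ _ _
        _ = c * (g * t) := by rw [e2]
        _ = c * g * t := (mul_assoc _ _ _).symm
    exact mul_right_cancel e3
  have hex : ∀ g : ↥R, ∃ j : Fin 4, (g : GL (Fin 4) F) * (![1, a, b, a * b] : Fin 4 → GL (Fin 4) F) j ∈ Zr R := by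
    intro g
    obtain ⟨t, ht, h1, h2⟩ := adjust a b (g : GL (Fin 4) F) hab (dich' H ha g.2) (dich' H hb g.2)
    have htR : t ∈ R := mem_of_mem_four (Cr_le ha) (Cr_le hb) ht
    have := HK _ (mul_mem g.2 htR) h1 h2
    rcases ht with rfl | rfl | rfl | rfl
    · exact ⟨0, by simpa using this⟩
    · exact ⟨1, by simpa using this⟩
    · exact ⟨2, by simpa using this⟩
    · exact ⟨3, by simpa using this⟩
  choose j hj using hex
  have := finite_Zr H
  have hinj : Function.Injective (fun g : ↥R =>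
      ((⟨(g : GL (Fin 4) F) * (![1, a, b, a * b] : Fin 4 → GL (Fin 4) F) (j g), hj g⟩ : ↥(Zr R)), j g)) := by
    intro g g' hgg
    have h1 : j g = j g' := congrArg Prod.snd hgg
    have h2 := congrArg (fun x => ((Prod.fst x : ↥(Zr R)) : GL (Fin 4) F)) hgg
    simp only [h1] at h2
    exact Subtype.ext (mul_right_cancel h2)
  have := Nat.card_le_card_of_injective _ hinj
  rw [Nat.card_prod, H.cardR, H.cardZ, Nat.card_eq_fintype_card, Fintype.card_fin] at this
  omega

theorem exists_fourth (H : Hyp R) {a b a2 : GL (Fin 4) F} (ha : a ∈ Cr R) (hb : b ∈ Cr R)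
    (hab : a * b = -(b * a)) (ha2 : a2 ∈ Cr R) (ha2Z : a2 ∉ Zr R) (h2a : a2 * a = a * a2)
    (h2b : a2 * b = b * a2) :
    ∃ b2 ∈ Cr R, b2 * a = a * b2 ∧ b2 * b = b * b2 ∧ a2 * b2 = -(b2 * a2) := by
  have h2 : ∃ c ∈ Cr R, a2 * c ≠ c * a2 := by
    by_contra hcon
    push Not at hcon
    exact ha2Z (H.hall a2 (Cr_le ha2) hcon)
  obtain ⟨c, hcC, hc⟩ := h2
  obtain ⟨t, ht, h1, h2⟩ := adjust a b c hab (dich' H ha (Cr_le hcC)) (dich' H hb (Cr_le hcC))
  have htC : t ∈ Cr R := mem_of_mem_four ha hb ht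
  have e2 : a2 * t = t * a2 := comm_of_mem_four h2a h2b ht
  refine ⟨c * t, mul_mem hcC htC, h1, h2, ?_⟩
  refine (dich H ha2 (Cr_le (mul_mem hcC htC))).resolve_left ?_
  intro h3
  apply hc
  have e3 : (a2 * c) * t = (c * a2) * t := by
    calc a2 * c * t = a2 * (c * t) := mul_assoc _ _ _
      _ = c * t * a2 := h3
      _ = c * (t * a2) := mul_assoc _ _ _
      _ = c * (a2 * t) := by rw [e2]
      _ = c * a2 * t := (mul_assoc _ _ _).symm
  exact mul_right_cancel e3

theorem scale_comm {z w x y : GL (Fin 4) F} (hz : z ∈ Zr R) (hw : w ∈ Zr R) (hx : x ∈ R) (hy : y ∈ R)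
    (h : x * y = y * x) : (z * x) * (w * y) = (w * y) * (z * x) := by
  rw [scale_mul hw hx, scale_mul' hz hw hy, h]

theorem scale_anti {z w x y : GL (Fin 4) F} (hz : z ∈ Zr R) (hw : w ∈ Zr R) (hx : x ∈ R) (hy : y ∈ R)
    (h : x * y = -(y * x)) : (z * x) * (w * y) = -((w * y) * (z * x)) := by
  rw [scale_mul hw hx, scale_mul' hz hw hy, h, mul_neg]

theorem normalize (H : Hyp R) {ι : GL (Fin 4) F} (hι : ι ∈ Zr R) (hι2 : ι * ι = -1)
    {c : GL (Fin 4) F} (hc : c ∈ Cr R) : ∃ z ∈ Zr R, (z * c) * (z * c) = 1 := by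
  rcases crit_sq H hc with h | h
  · exact ⟨1, one_mem _, by simpa using h⟩
  · refine ⟨ι, hι, ?_⟩
    rw [scale_mul hι (Cr_le hc), hι2, h]
    simp

theorem exists_symplectic_basis (H : Hyp R) :
    ∃ a1 b1 a2 b2 : GL (Fin 4) F, a1 ∈ R ∧ b1 ∈ R ∧ a2 ∈ R ∧ b2 ∈ R ∧
      a1 * a1 = 1 ∧ b1 * b1 = 1 ∧ a2 * a2 = 1 ∧ b2 * b2 = 1 ∧
      a1 * b1 = -(b1 * a1) ∧ a2 * b2 = -(b2 * a2) ∧
      a2 * a1 = a1 * a2 ∧ a2 * b1 = b1 * a2 ∧ b2 * a1 = a1 * b2 ∧ b2 * b1 = b1 * b2 := by
  obtain ⟨ι, hι, hι2⟩ := exists_iota H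
  obtain ⟨a, ha, b, hb, hab⟩ := exists_pair H
  obtain ⟨a2, ha2, ha2Z, h2a, h2b⟩ := exists_third H ha hb hab
  obtain ⟨b2, hb2, h3a, h3b, h23⟩ := exists_fourth H ha hb hab ha2 ha2Z h2a h2b
  obtain ⟨za, hza, hza2⟩ := normalize H hι hι2 ha
  obtain ⟨zb, hzb, hzb2⟩ := normalize H hι hι2 hb
  obtain ⟨za2, hza2', hza22⟩ := normalize H hι hι2 ha2
  obtain ⟨zb2, hzb2', hzb22⟩ := normalize H hι hι2 hb2
  have haR := Cr_le ha
  have hbR := Cr_le hb
  have ha2R := Cr_le ha2
  have hb2R := Cr_le hb2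
  refine ⟨za * a, zb * b, za2 * a2, zb2 * b2, mul_mem (Zr_le hza) haR, mul_mem (Zr_le hzb) hbR,
    mul_mem (Zr_le hza2') ha2R, mul_mem (Zr_le hzb2') hb2R, hza2, hzb2, hza22, hzb22, ?_, ?_, ?_, ?_, ?_, ?_⟩
  · exact scale_anti hza hzb haR hbR hab
  · exact scale_anti hza2' hzb2' ha2R hb2R h23
  · exact scale_comm hza2' hza ha2R haR h2a
  · exact scale_comm hza2' hzb ha2R hbR h2b
  · exact scale_comm hzb2' hza hb2R haR h3a
  · exact scale_comm hzb2' hzb hb2R hbR h3b

/-- the scalar elements of order four of `R` -/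
theorem exists_iota_scalar (H : Hyp R) :
    ∃ i : F, i * i = -1 ∧ ∃ ι ∈ R, (ι : Matrix (Fin 4) (Fin 4) F) = i • (1 : Matrix (Fin 4) (Fin 4) F) := by
  obtain ⟨ι, hι, hι2⟩ := exists_iota H
  obtain ⟨i, hi⟩ := H.scalar ι hι
  refine ⟨i, ?_, ι, Zr_le hι, hi⟩
  have h2 := congrArg Units.val hι2
  rw [Units.val_mul, hi, Matrix.smul_mul, Matrix.one_mul, smul_smul, Units.val_neg, Units.val_one] at h2
  have := congrFun (congrFun h2 0) 0
  simpa using this

theorem Wg_mul (e f e' f' : Fin 4) (h : (sg e' f : F) = 1) :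
    (Wg e f : GL (Fin 4) F) * Wg e' f' = Wg (xr e e') (xr f f') := by
  apply Units.ext
  rw [Units.val_mul, Wg_val, Wg_val, Wg_val, W_mul, h, one_smul]

theorem Wg_mem_of_gens {S : Subgroup (GL (Fin 4) F)} (h10 : (Wg 1 0 : GL (Fin 4) F) ∈ S)
    (h20 : (Wg 2 0 : GL (Fin 4) F) ∈ S) (h01 : (Wg 0 1 : GL (Fin 4) F) ∈ S)
    (h02 : (Wg 0 2 : GL (Fin 4) F) ∈ S) (e f : Fin 4) : (Wg e f : GL (Fin 4) F) ∈ S := by
  have h00 : (Wg 0 0 : GL (Fin 4) F) ∈ S := by
    have : (Wg 0 0 : GL (Fin 4) F) = 1 := by apply Units.ext; simp [W_zero]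
    rw [this]; exact one_mem _
  have h30 : (Wg 3 0 : GL (Fin 4) F) ∈ S := by
    have := Wg_mul (F := F) 1 0 2 0 (sg_zero_right _)
    have h3 : xr 1 2 = 3 := by decide
    have h0 : xr 0 0 = 0 := by decide
    rw [h3, h0] at this
    rw [← this]; exact mul_mem h10 h20
  have h03 : (Wg 0 3 : GL (Fin 4) F) ∈ S := by
    have := Wg_mul (F := F) 0 1 0 2 (sg_zero_left _)
    have h3 : xr 1 2 = 3 := by decide
    have h0 : xr 0 0 = 0 := by decide
    rw [h3, h0] at this
    rw [← this]; exact mul_mem h01 h02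
  have he : (Wg e 0 : GL (Fin 4) F) ∈ S := by fin_cases e <;> assumption
  have hf : (Wg 0 f : GL (Fin 4) F) ∈ S := by fin_cases f <;> assumption
  have := Wg_mul (F := F) e 0 0 f (sg_zero_left _)
  rw [xr_zero, zero_xr] at this
  rw [← this]; exact mul_mem he hf

theorem pow_inj_of_sq {i : F} (hi : i * i = -1) (h2 : (2 : F) ≠ 0) {k k' : ℕ} (hk : k < 4) (hk' : k' < 4)
    (h : i ^ k = i ^ k') : k = k' := by
  have h1 : orderOf i = 2 ^ (1 + 1) := by
    apply orderOf_eq_prime_pow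
    · rw [pow_one, pow_two, hi]
      intro h3
      apply h2
      linear_combination -h3
    · have : i ^ 2 ^ (1 + 1) = (i * i) * (i * i) := by ring
      rw [this, hi]; ring
  have h4 : orderOf i = 4 := by rw [h1]; norm_num
  exact pow_injOn_Iio_orderOf (x := i) (by rw [h4]; exact hk) (by rw [h4]; exact hk') h

/-- the structure theorem: `R` is conjugate to the standard group -/
theorem structure_thm (H : Hyp R) :
    ∃ (i : F) (P : GL (Fin 4) F), i * i = -1 ∧ ∀ g : GL (Fin 4) F, g ∈ R ↔ P⁻¹ * g * P ∈ R0 F := by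
  obtain ⟨a1, b1, a2, b2, ha1, hb1, ha2, hb2, e1, e2, e3, e4, e5, e6, e7, e8, e9, e10⟩ :=
    exists_symplectic_basis H
  obtain ⟨i, hi, ι, hιR, hι⟩ := exists_iota_scalar H
  have toM : ∀ {x y : GL (Fin 4) F}, x = y →
      (x : Matrix (Fin 4) (Fin 4) F) = (y : Matrix (Fin 4) (Fin 4) F) := fun h => congrArg Units.val h
  obtain ⟨P, p1, p2, p3, p4⟩ := exists_frame H.two_ne (A1 := (a1 : Matrix (Fin 4) (Fin 4) F))
    (A2 := (a2 : Matrix (Fin 4) (Fin 4) F)) (B1 := (b1 : Matrix (Fin 4) (Fin 4) F))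
    (B2 := (b2 : Matrix (Fin 4) (Fin 4) F))
    (by simpa using toM e1) (by simpa using toM e3) (by simpa using toM e2) (by simpa using toM e4)
    (by simpa using toM e5) (by simpa using toM e6) (by simpa using toM e7) (by simpa using toM e8)
    (by simpa using toM e9) (by simpa using toM e10)
  set R' : Subgroup (GL (Fin 4) F) := R.map (MulAut.conj P⁻¹).toMonoidHom with hR'
  have memR' : ∀ g, g ∈ R' ↔ P * g * P⁻¹ ∈ R := by
    intro g
    rw [hR', Subgroup.mem_map_equiv]
    simp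
  have conj_mem : ∀ {x : GL (Fin 4) F} {e f : Fin 4}, x ∈ R →
      (x : Matrix (Fin 4) (Fin 4) F) * (P : Matrix (Fin 4) (Fin 4) F) = (P : Matrix (Fin 4) (Fin 4) F) * W e f →
      (Wg e f : GL (Fin 4) F) ∈ R' := by
    intro x e f hx hxP
    rw [memR']
    have : P * Wg e f * P⁻¹ = x := by
      rw [mul_inv_eq_iff_eq_mul]
      apply Units.ext
      rw [Units.val_mul, Units.val_mul, Wg_val, hxP]
    rw [this]; exact hx
  have g10 := conj_mem ha1 p1
  have g20 := conj_mem ha2 p2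
  have g01 := conj_mem hb1 p3
  have g02 := conj_mem hb2 p4
  have gW := Wg_mem_of_gens g10 g20 g01 g02
  have hιc : P * ι * P⁻¹ = ι := by
    rw [mul_inv_eq_iff_eq_mul]
    apply Units.ext
    rw [Units.val_mul, Units.val_mul, hι]
    simp
  have gι : ι ∈ R' := by rw [memR', hιc]; exact hιR
  have := finite_R H
  have hcardR' : Nat.card R' = 64 := by
    rw [hR', Subgroup.card_map_of_injective (MulAut.conj P⁻¹).injective, H.cardR]
  have hfin' : Finite ↥R' := Nat.finite_of_card_ne_zero (by rw [hcardR']; norm_num)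
  -- the parametrisation
  have hΦmem : ∀ x : Fin 4 × Fin 4 × Fin 4, ι ^ (x.1 : ℕ) * Wg x.2.1 x.2.2 ∈ R' :=
    fun x => mul_mem (pow_mem gι _) (gW _ _)
  have hΦval : ∀ x : Fin 4 × Fin 4 × Fin 4,
      ((ι ^ (x.1 : ℕ) * Wg x.2.1 x.2.2 : GL (Fin 4) F) : Matrix (Fin 4) (Fin 4) F) =
        (i ^ (x.1 : ℕ)) • W x.2.1 x.2.2 := by
    intro x
    rw [Units.val_mul, Units.val_pow_eq_pow_val, hι, Wg_val, smul_pow, one_pow, Matrix.smul_mul,
      Matrix.one_mul]
  have hi0 : i ≠ 0 := by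
    intro h0; rw [h0] at hi; simp at hi
  have : NeZero (2 : F) := ⟨H.two_ne⟩
  have hinj : Function.Injective (fun x : Fin 4 × Fin 4 × Fin 4 =>
      (⟨ι ^ (x.1 : ℕ) * Wg x.2.1 x.2.2, hΦmem x⟩ : ↥R')) := by
    intro x y hxy
    have h1 := congrArg (fun z : ↥R' => ((z : GL (Fin 4) F) : Matrix (Fin 4) (Fin 4) F)) hxy
    simp only [hΦval] at h1
    obtain ⟨he, hf, hc⟩ := smul_W_inj (pow_ne_zero _ hi0) h1
    have hk := pow_inj_of_sq hi H.two_ne x.1.2 y.1.2 hc
    exact Prod.ext (Fin.ext hk) (Prod.ext he hf)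
  have hbij := hinj.bijective_of_nat_card_le (by
    rw [hcardR', Nat.card_eq_fintype_card]; simp)
  have hR'R0 : ∀ g, g ∈ R' ↔ g ∈ R0 F := by
    intro g
    constructor
    · intro hg
      obtain ⟨x, hx⟩ := hbij.2 ⟨g, hg⟩
      have h1 := congrArg (fun z : ↥R' => ((z : GL (Fin 4) F) : Matrix (Fin 4) (Fin 4) F)) hx
      simp only [hΦval] at h1
      refine ⟨i ^ (x.1 : ℕ), x.2.1, x.2.2, ?_, h1.symm⟩
      rw [← pow_mul, mul_comm, pow_mul]
      have : i ^ 4 = 1 := by
        have : i ^ 4 = (i * i) * (i * i) := by ring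
        rw [this, hi]; ring
      rw [this, one_pow]
    · rintro ⟨c, e, f, hc, hg⟩
      have hc' : c = 1 ∨ c = -1 ∨ c = i ∨ c = -i := by
        have h1 : (c - 1) * (c + 1) * ((c - i) * (c + i)) = 0 := by
          have : (c - 1) * (c + 1) * ((c - i) * (c + i)) = c ^ 4 - 1 + (c ^ 2 - 1) * (-(i * i) - 1) := by ring
          rw [this, hc, hi]; ring
        rcases mul_eq_zero.mp h1 with h | h
        · rcases mul_eq_zero.mp h with h | h
          · left; linear_combination h
          · right; left; linear_combination h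
        · rcases mul_eq_zero.mp h with h | h
          · right; right; left; linear_combination h
          · right; right; right; linear_combination h
      have hsc : ∃ s ∈ R', (s : Matrix (Fin 4) (Fin 4) F) = c • (1 : Matrix (Fin 4) (Fin 4) F) := by
        rcases hc' with rfl | rfl | rfl | rfl
        · exact ⟨1, one_mem _, by simp⟩
        · refine ⟨ι * ι, mul_mem gι gι, ?_⟩
          rw [Units.val_mul, hι, Matrix.smul_mul, Matrix.one_mul, smul_smul, hi]
        · exact ⟨ι, gι, hι⟩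
        · refine ⟨ι * ι * ι, mul_mem (mul_mem gι gι) gι, ?_⟩
          rw [Units.val_mul, Units.val_mul, hι, Matrix.smul_mul, Matrix.one_mul, smul_smul, hi,
            Matrix.smul_mul, Matrix.one_mul, smul_smul]
          congr 1; ring
      obtain ⟨s, hs, hsv⟩ := hsc
      have : g = s * Wg e f := by
        apply Units.ext
        rw [Units.val_mul, hsv, Wg_val, hg, Matrix.smul_mul, Matrix.one_mul]
      rw [this]; exact mul_mem hs (gW e f)
  refine ⟨i, P, hi, fun g => ?_⟩
  rw [← hR'R0, memR']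
  have : P * (P⁻¹ * g * P) * P⁻¹ = g := by group
  rw [this]

end derive

end Cfsg.Agent.Lib.Helper99.Symp4B
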