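import Mathlib
import Cfsg.Prelude.Def_GeometricClasses
import Cfsg.Agent.Lib.Helper99.Symp4B

/-!
# The structure of an extraspecial group of order 32 inside `GL_4`: pairs of anticommuting elements
-/

set_option autoImplicit false

namespace Cfsg.Agent.Lib.Helper99.Sp4B

open scoped Matrix
open Cfsg.Agent.Lib.Helper99.Symp4A Cfsg.Agent.Lib.Helper99.Symp4C Cfsg.Agent.Lib.Helper99.Symp4L
open Cfsg.Agent.Lib.Helper99.Symp4D Cfsg.Agent.Lib.Helper99.Symp4B

variable {F : Type*} [Field F] {R : Subgroup (GL (Fin 4) F)}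

/-- the consequences of the hypotheses in the case of a centre of order two -/
structure Hyp2 (R : Subgroup (GL (Fin 4) F)) : Prop where
  scalar : ∀ g ∈ Zr R, ∃ c : F, (g : Matrix (Fin 4) (Fin 4) F) = c • (1 : Matrix (Fin 4) (Fin 4) F)
  pow4 : ∀ g ∈ R, g ^ 4 = 1
  hall : ∀ x ∈ R, (∀ c ∈ Cr R, x * c = c * x) → x ∈ Zr R
  cardZ : Nat.card (Zr R) = 2
  cardR : Nat.card R = 32
  two_ne : (2 : F) ≠ 0

theorem dichA (H : Hyp2 R) {c g : GL (Fin 4) F} (hc : c ∈ Cr R) (hg : g ∈ R) :
    c * g = g * c ∨ c * g = -(g * c) := by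
  obtain ⟨l, hl⟩ := H.scalar _ (Cr_comm hc hg)
  obtain ⟨m, hm⟩ := H.scalar _ (Cr_sq hc)
  have h1 : c * g = (c * g * c⁻¹ * g⁻¹) * (g * c) := by group
  set cm : Matrix (Fin 4) (Fin 4) F := (c : Matrix (Fin 4) (Fin 4) F) with hcm
  set gm : Matrix (Fin 4) (Fin 4) F := (g : Matrix (Fin 4) (Fin 4) F) with hgm
  have e1 : cm * gm = l • (gm * cm) := by
    have := congrArg Units.val h1
    rw [Units.val_mul, Units.val_mul (c * g * c⁻¹ * g⁻¹), hl, Units.val_mul] at this
    rw [this, Matrix.smul_mul, Matrix.one_mul]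
  have e2 : cm * cm = m • (1 : Matrix (Fin 4) (Fin 4) F) := by
    rw [← hm, Units.val_mul]
  have e3 : (cm * cm) * gm = (l * l) • (gm * (cm * cm)) := by
    calc cm * cm * gm = cm * (cm * gm) := mul_assoc _ _ _
      _ = l • ((cm * gm) * cm) := by rw [e1, Matrix.mul_smul, ← mul_assoc, e1]
      _ = (l * l) • (gm * (cm * cm)) := by rw [e1, Matrix.smul_mul, smul_smul, mul_assoc]
  rw [e2, Matrix.smul_mul, Matrix.one_mul, Matrix.mul_smul, Matrix.mul_one, smul_smul] at e3
  have hm0 : m ≠ 0 := by
    intro h0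
    have : ((c * c : GL (Fin 4) F) : Matrix (Fin 4) (Fin 4) F) = 0 := by rw [hm, h0, zero_smul]
    exact Units.ne_zero _ this
  have hg0 : gm ≠ 0 := Units.ne_zero g
  have e4 : (m - l * l * m) • gm = 0 := by rw [sub_smul, ← e3, sub_self]
  have e5 : m - l * l * m = 0 := by
    rcases smul_eq_zero.mp e4 with h | h
    · exact h
    · exact absurd h hg0
  have e6 : l * l = 1 := by
    have : m * (1 - l * l) = 0 := by linear_combination e5
    rcases mul_eq_zero.mp this with h | h
    · exact absurd h hm0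
    · linear_combination -h
  rcases mul_self_eq_one_iff.mp e6 with h | h
  · left
    apply Units.ext
    rw [Units.val_mul, Units.val_mul]
    change cm * gm = gm * cm
    rw [e1, h, one_smul]
  · right
    apply Units.ext
    rw [Units.val_neg, Units.val_mul, Units.val_mul]
    change cm * gm = -(gm * cm)
    rw [e1, h, neg_smul, one_smul]

theorem crit_sqA (H : Hyp2 R) {c : GL (Fin 4) F} (hc : c ∈ Cr R) : c * c = 1 ∨ c * c = -1 := by
  obtain ⟨m, hm⟩ := H.scalar _ (Cr_sq hc)
  have h4 := H.pow4 c (Cr_le hc)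
  have h5 : (c * c) * (c * c) = 1 := by rw [← h4]; simp only [pow_succ, pow_zero, one_mul, mul_assoc]
  have h6 := congrArg Units.val h5
  rw [Units.val_mul, hm, Matrix.smul_mul, Matrix.one_mul, smul_smul, Units.val_one,
    smul_one_eq_one_iff] at h6
  rcases mul_self_eq_one_iff.mp h6 with h | h
  · left
    apply Units.ext
    rw [hm, h, one_smul, Units.val_one]
  · right
    apply Units.ext
    rw [hm, h, neg_smul, one_smul, Units.val_neg, Units.val_one]

theorem finite_ZrA (H : Hyp2 R) : Finite ↥(Zr R) :=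
  Nat.finite_of_card_ne_zero (by rw [H.cardZ]; norm_num)

theorem finite_RA (H : Hyp2 R) : Finite ↥R :=
  Nat.finite_of_card_ne_zero (by rw [H.cardR]; norm_num)

theorem exists_pairA (H : Hyp2 R) : ∃ a ∈ Cr R, ∃ b ∈ Cr R, a * b = -(b * a) := by
  have := finite_ZrA H
  have h1 : ∃ a ∈ Cr R, a ∉ Zr R := by
    by_contra hcon
    push Not at hcon
    have hle : R ≤ Zr R := by
      intro x hx
      exact H.hall x hx (fun c hc => (Zr_central (hcon c hc) hx).symm)
    have := Subgroup.card_le_of_le hle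
    rw [H.cardR, H.cardZ] at this
    omega
  obtain ⟨a, haC, haZ⟩ := h1
  have h2 : ∃ b ∈ Cr R, a * b ≠ b * a := by
    by_contra hcon
    push Not at hcon
    exact haZ (H.hall a (Cr_le haC) hcon)
  obtain ⟨b, hbC, hab⟩ := h2
  exact ⟨a, haC, b, hbC, (dichA H haC (Cr_le hbC)).resolve_left hab⟩

theorem dichB (H : Hyp2 R) {c g : GL (Fin 4) F} (hc : c ∈ Cr R) (hg : g ∈ R) :
    g * c = c * g ∨ g * c = -(c * g) := by
  rcases dichA H hc hg with h | h
  · exact Or.inl h.symm
  · exact Or.inr (anti_symm h)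

theorem exists_thirdA (H : Hyp2 R) {a b : GL (Fin 4) F} (ha : a ∈ Cr R) (hb : b ∈ Cr R)
    (hab : a * b = -(b * a)) :
    ∃ a2 ∈ Cr R, a2 ∉ Zr R ∧ a2 * a = a * a2 ∧ a2 * b = b * a2 := by
  by_contra hcon
  push Not at hcon
  have Hc : ∀ c ∈ Cr R, c * a = a * c → c * b = b * c → c ∈ Zr R := by
    intro c hc h1 h2
    by_contra h3
    exact hcon c hc h3 h1 h2
  have HK : ∀ g ∈ R, g * a = a * g → g * b = b * g → g ∈ Zr R := by
    intro g hg hga hgb
    apply H.hall g hg
    intro c hc
    obtain ⟨t, ht, h1, h2⟩ := adjust a b c hab (dichB H ha (Cr_le hc)) (dichB H hb (Cr_le hc))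
    have htC : t ∈ Cr R := mem_of_mem_four ha hb ht
    have hctZ : c * t ∈ Zr R := Hc _ (mul_mem hc htC) h1 h2
    have e1 : g * (c * t) = (c * t) * g := (Zr_central hctZ hg).symm
    have e2 : g * t = t * g := comm_of_mem_four hga hgb ht
    have e3 : (g * c) * t = (c * g) * t := by
      calc g * c * t = g * (c * t) := mul_assoc _ _ _
        _ = c * t * g := e1
        _ = c * (t * g) := mul_assoc _ _ _
        _ = c * (g * t) := by rw [e2]
        _ = c * g * t := (mul_assoc _ _ _).symm
    exact mul_right_cancel e3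
  have hex : ∀ g : ↥R, ∃ j : Fin 4, (g : GL (Fin 4) F) * (![1, a, b, a * b] : Fin 4 → GL (Fin 4) F) j ∈ Zr R := by
    intro g
    obtain ⟨t, ht, h1, h2⟩ := adjust a b (g : GL (Fin 4) F) hab (dichB H ha g.2) (dichB H hb g.2)
    have htR : t ∈ R := mem_of_mem_four (Cr_le ha) (Cr_le hb) ht
    have := HK _ (mul_mem g.2 htR) h1 h2
    rcases ht with rfl | rfl | rfl | rfl
    · exact ⟨0, by simpa using this⟩
    · exact ⟨1, by simpa using this⟩
    · exact ⟨2, by simpa using this⟩
    · exact ⟨3, by simpa using this⟩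
  choose j hj using hex
  have := finite_ZrA H
  have hinj : Function.Injective (fun g : ↥R =>
      ((⟨(g : GL (Fin 4) F) * (![1, a, b, a * b] : Fin 4 → GL (Fin 4) F) (j g), hj g⟩ : ↥(Zr R)), j g)) := by
    intro g g' hgg
    have h1 : j g = j g' := congrArg Prod.snd hgg
    have h2 := congrArg (fun x => ((Prod.fst x : ↥(Zr R)) : GL (Fin 4) F)) hgg
    simp only [h1] at h2
    exact Subtype.ext (mul_right_cancel h2)
  have := Nat.card_le_card_of_injective _ hinj
  rw [Nat.card_prod, H.cardR, H.cardZ, Nat.card_eq_fintype_card, Fintype.card_fin] at this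
  omega

theorem exists_fourthA (H : Hyp2 R) {a b a2 : GL (Fin 4) F} (ha : a ∈ Cr R) (hb : b ∈ Cr R)
    (hab : a * b = -(b * a)) (ha2 : a2 ∈ Cr R) (ha2Z : a2 ∉ Zr R) (h2a : a2 * a = a * a2)
    (h2b : a2 * b = b * a2) :
    ∃ b2 ∈ Cr R, b2 * a = a * b2 ∧ b2 * b = b * b2 ∧ a2 * b2 = -(b2 * a2) := by
  have h2 : ∃ c ∈ Cr R, a2 * c ≠ c * a2 := by
    by_contra hcon
    push Not at hcon
    exact ha2Z (H.hall a2 (Cr_le ha2) hcon)
  obtain ⟨c, hcC, hc⟩ := h2
  obtain ⟨t, ht, h1, h2⟩ := adjust a b c hab (dichB H ha (Cr_le hcC)) (dichB H hb (Cr_le hcC))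
  have htC : t ∈ Cr R := mem_of_mem_four ha hb ht
  have e2 : a2 * t = t * a2 := comm_of_mem_four h2a h2b ht
  refine ⟨c * t, mul_mem hcC htC, h1, h2, ?_⟩
  refine (dichA H ha2 (Cr_le (mul_mem hcC htC))).resolve_left ?_
  intro h3
  apply hc
  have e3 : (a2 * c) * t = (c * a2) * t := by
    calc a2 * c * t = a2 * (c * t) := mul_assoc _ _ _
      _ = c * t * a2 := h3
      _ = c * (t * a2) := mul_assoc _ _ _
      _ = c * (a2 * t) := by rw [e2]
      _ = c * a2 * t := (mul_assoc _ _ _).symm
  exact mul_right_cancel e3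

theorem sq_pm (H : Hyp2 R) {g : GL (Fin 4) F} (hg : g ∈ Cr R) : g * g = 1 ∨ g * g = -1 :=
  crit_sqA H hg

theorem comm_pm (H : Hyp2 R) {g h : GL (Fin 4) F} (hg : g ∈ Cr R) (hh : h ∈ R) :
    g * h = h * g ∨ g * h = -(h * g) :=
  dichA H hg hh

/-- the centre consists of the two scalars `±1` -/
theorem center_pm (H : Hyp2 R) {z : GL (Fin 4) F} (hz : z ∈ Zr R) : z = 1 ∨ z = -1 := by
  obtain ⟨c, hc⟩ := H.scalar z hz
  have := finite_ZrA H
  have h2 : (⟨z, hz⟩ : ↥(Zr R)) ^ 2 = 1 := by
    have := pow_card_eq_one' (G := ↥(Zr R)) (x := ⟨z, hz⟩)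
    rwa [H.cardZ] at this
  have h3 : z * z = 1 := by
    have := congrArg Subtype.val h2
    simpa [pow_two] using this
  have h4 := congrArg Units.val h3
  rw [Units.val_mul, hc, Matrix.smul_mul, Matrix.one_mul, smul_smul, Units.val_one,
    smul_one_eq_one_iff] at h4
  rcases mul_self_eq_one_iff.mp h4 with h | h
  · left; apply Units.ext; rw [hc, h, one_smul, Units.val_one]
  · right; apply Units.ext; rw [hc, h, neg_smul, one_smul, Units.val_neg, Units.val_one]

theorem neg_one_mem_Zr (H : Hyp2 R) : (-1 : GL (Fin 4) F) ∈ Zr R := by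
  have := finite_ZrA H
  have hcard : 1 < Nat.card ↥(Zr R) := by rw [H.cardZ]; norm_num
  have hnt : Nontrivial ↥(Zr R) := Finite.one_lt_card_iff_nontrivial.mp hcard
  obtain ⟨z, hz⟩ := exists_ne (1 : ↥(Zr R))
  rcases center_pm H z.2 with h | h
  · exact absurd (Subtype.ext h) hz
  · rw [← h]; exact z.2

theorem neg_one_mem (H : Hyp2 R) : (-1 : GL (Fin 4) F) ∈ R := Zr_le (neg_one_mem_Zr H)

theorem neg_mem (H : Hyp2 R) {g : GL (Fin 4) F} (hg : g ∈ R) : -g ∈ R := by
  have : -g = (-1) * g := by simp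
  rw [this]; exact mul_mem (neg_one_mem H) hg

theorem central_pm (H : Hyp2 R) {g : GL (Fin 4) F} (hg : g ∈ R) (hc : ∀ h ∈ R, h * g = g * h) :
    g = 1 ∨ g = -1 :=
  center_pm H (mem_Zr.mpr ⟨hg, hc⟩)

theorem one_ne_neg_one (H : Hyp2 R) : (1 : GL (Fin 4) F) ≠ -1 := by
  intro h
  have := congrArg Units.val h
  rw [Units.val_one, Units.val_neg, Units.val_one] at this
  have h00 := congrFun (congrFun this 0) 0
  simp at h00
  apply H.two_ne
  linear_combination h00

section pairs

variable {G : Type*} [Group G] [HasDistribNeg G]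

/-- turning an anticommuting pair into a pair of involutions unless it is of quaternion type -/
theorem pair_normalize {x y : G} (hxy : x * y = -(y * x)) (hx : x * x = 1 ∨ x * x = -1)
    (hy : y * y = 1 ∨ y * y = -1) :
    (∃ x' y' : G, (x' = x ∨ x' = x * y) ∧ (y' = y ∨ y' = x * y) ∧ x' * x' = 1 ∧ y' * y' = 1 ∧
      x' * y' = -(y' * x')) ∨ (x * x = -1 ∧ y * y = -1) := by
  have hyx := anti_symm hxy
  have hxyxy : (x * y) * (x * y) = -((x * x) * (y * y)) := by
    calc x * y * (x * y) = x * (y * x) * y := by simp only [mul_assoc]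
      _ = x * (-(x * y)) * y := by rw [hyx]
      _ = -((x * x) * (y * y)) := by rw [mul_neg, neg_mul]; simp only [mul_assoc]
  rcases hx with hx | hx <;> rcases hy with hy | hy
  · left
    exact ⟨x, y, Or.inl rfl, Or.inl rfl, hx, hy, hxy⟩
  · left
    refine ⟨x, x * y, Or.inl rfl, Or.inr rfl, hx, ?_, ?_⟩
    · rw [hxyxy, hx, hy]; simp
    · calc x * (x * y) = -(x * (-(x * y))) := by rw [mul_neg, neg_neg]
        _ = -(x * (y * x)) := by rw [hyx]
        _ = -((x * y) * x) := by rw [mul_assoc]
  · left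
    refine ⟨x * y, y, Or.inr rfl, Or.inl rfl, ?_, hy, ?_⟩
    · rw [hxyxy, hx, hy]; simp
    · calc x * y * y = -((-(x * y)) * y) := by rw [neg_mul, neg_neg]
        _ = -((y * x) * y) := by rw [hyx]
        _ = -(y * (x * y)) := by rw [mul_assoc]
  · right
    exact ⟨hx, hy⟩

/-- anticommutation -/
def Anti (g x : G) : Prop := g * x = -(x * g)

theorem Anti.symm {g x : G} (h : Anti g x) : Anti x g := anti_symm h

theorem Anti.mul_comm_right {g x y : G} (h : Anti g x) (hc : Commute g y) : Anti g (x * y) := by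
  unfold Anti at *
  calc g * (x * y) = (g * x) * y := (mul_assoc _ _ _).symm
    _ = -(x * (g * y)) := by rw [h, neg_mul, mul_assoc]
    _ = -(x * y * g) := by rw [hc.eq, mul_assoc]

theorem Anti.comm_mul_right {g x y : G} (hc : Commute g x) (h : Anti g y) : Anti g (x * y) := by
  unfold Anti at *
  calc g * (x * y) = (g * x) * y := (mul_assoc _ _ _).symm
    _ = x * (g * y) := by rw [hc.eq, mul_assoc]
    _ = -(x * y * g) := by rw [h, mul_neg, mul_assoc]

theorem Anti.mul_anti_right {g x y : G} (h : Anti g x) (h' : Anti g y) : Commute g (x * y) := by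
  unfold Anti at *
  show g * (x * y) = x * y * g
  calc g * (x * y) = (g * x) * y := (mul_assoc _ _ _).symm
    _ = -(x * (g * y)) := by rw [h, neg_mul, mul_assoc]
    _ = x * y * g := by rw [h', mul_neg, neg_neg, mul_assoc]

theorem Anti.mul_comm_left {g x y : G} (h : Anti g y) (hc : Commute x y) : Anti (g * x) y :=
  (Anti.mul_comm_right h.symm hc.symm).symm

theorem Anti.comm_mul_left {g x y : G} (hc : Commute g y) (h : Anti x y) : Anti (g * x) y :=
  (Anti.comm_mul_right hc.symm h.symm).symm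

end pairs

section basis

theorem no_self_neg (h2 : (2 : F) ≠ 0) (g : GL (Fin 4) F) : g ≠ -g := by
  intro h
  have h1 := congrArg Units.val h
  rw [Units.val_neg] at h1
  have h3 : (2 : F) • (g : Matrix (Fin 4) (Fin 4) F) = 0 := by
    rw [two_smul]
    nth_rewrite 1 [h1]
    simp
  rcases smul_eq_zero.mp h3 with h4 | h4
  · exact h2 h4
  · exact Units.ne_zero g h4

theorem anti_comm_false (h2 : (2 : F) ≠ 0) {g x : GL (Fin 4) F} (h : Anti g x) (hc : Commute g x) : False := by
  unfold Anti at h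
  rw [hc.eq] at h
  exact no_self_neg h2 _ h

theorem comm_of_four {g x y t : GL (Fin 4) F} (hx : Commute g x) (hy : Commute g y)
    (ht : t = x ∨ t = x * y) : Commute g t := by
  rcases ht with rfl | rfl
  · exact hx
  · exact hx.mul_right hy

theorem comm_of_four' {g x y t : GL (Fin 4) F} (hx : Commute g x) (hy : Commute g y)
    (ht : t = y ∨ t = x * y) : Commute g t := by
  rcases ht with rfl | rfl
  · exact hy
  · exact hx.mul_right hy

theorem mem_of_four {S : Subgroup (GL (Fin 4) F)} {x y t : GL (Fin 4) F} (hx : x ∈ S) (hy : y ∈ S)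
    (ht : t = x ∨ t = x * y) : t ∈ S := by
  rcases ht with rfl | rfl
  · exact hx
  · exact mul_mem hx hy

theorem mem_of_four' {S : Subgroup (GL (Fin 4) F)} {x y t : GL (Fin 4) F} (hx : x ∈ S) (hy : y ∈ S)
    (ht : t = y ∨ t = x * y) : t ∈ S := by
  rcases ht with rfl | rfl
  · exact hy
  · exact mul_mem hx hy

/-- the standard generators of an extraspecial group of minus type -/
theorem exists_basis_minus (H : Hyp2 R)
    (hminus : ∀ t t' : GL (Fin 4) F, t ∈ R → t' ∈ R → t * t = 1 → t' * t' = 1 → t * t' = t' * t →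
      t = 1 ∨ t = -1 ∨ t' = 1 ∨ t' = -1 ∨ t' = t ∨ t' = -t) :
    ∃ a1 b1 a2 b2 : GL (Fin 4) F, a1 ∈ Cr R ∧ b1 ∈ Cr R ∧ a2 ∈ Cr R ∧ b2 ∈ Cr R ∧
      a1 * a1 = 1 ∧ b1 * b1 = 1 ∧ a2 * a2 = -1 ∧ b2 * b2 = -1 ∧
      a1 * b1 = -(b1 * a1) ∧ a2 * b2 = -(b2 * a2) ∧
      a2 * a1 = a1 * a2 ∧ a2 * b1 = b1 * a2 ∧ b2 * a1 = a1 * b2 ∧ b2 * b1 = b1 * b2 := by
  have h2 := H.two_ne
  obtain ⟨a, ha, b, hb, hab⟩ := exists_pairA H
  obtain ⟨a2, ha2, ha2Z, h2a, h2b⟩ := exists_thirdA H ha hb hab
  obtain ⟨b2, hb2, h3a, h3b, h23⟩ := exists_fourthA H ha hb hab ha2 ha2Z h2a h2b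
  have haR := Cr_le ha
  have hbR := Cr_le hb
  have ha2R := Cr_le ha2
  have hb2R := Cr_le hb2
  -- central elements commute with everything
  have hpm1 : ∀ g x : GL (Fin 4) F, g = 1 ∨ g = -1 → Commute g x := by
    intro g x hg
    rcases hg with rfl | rfl
    · exact Commute.one_left x
    · show -1 * x = x * -1
      simp
  have c2a : Commute a2 a := h2a
  have c2b : Commute a2 b := h2b
  have c3a : Commute b2 a := h3a
  have c3b : Commute b2 b := h3b
  have Aab : Anti a b := hab
  have A23 : Anti a2 b2 := h23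
  rcases pair_normalize hab (sq_pm H ha) (sq_pm H hb) with
    ⟨x, y, hx, hy, hxx, hyy, hxy⟩ | ⟨haq, hbq⟩
  · have hxC : x ∈ Cr R := mem_of_four ha hb hx
    have hyC : y ∈ Cr R := mem_of_four' ha hb hy
    have hxR : x ∈ R := Cr_le hxC
    have hyR : y ∈ R := Cr_le hyC
    rcases pair_normalize h23 (sq_pm H ha2) (sq_pm H hb2) with
      ⟨u, v, hu, hv, huu, hvv, huv⟩ | ⟨h2q, h3q⟩
    · -- plus type: impossible
      exfalso
      have huR : u ∈ R := mem_of_four ha2R hb2R hu
      have hvR : v ∈ R := mem_of_four' ha2R hb2R hv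
      have cux : Commute u x := by
        have h1 : Commute u a := by
          rcases hu with rfl | rfl
          · exact c2a
          · exact c2a.mul_left c3a
        have h2' : Commute u b := by
          rcases hu with rfl | rfl
          · exact c2b
          · exact c2b.mul_left c3b
        exact comm_of_four h1 h2' hx
      have cuy : Commute u y := by
        have h1 : Commute u a := by
          rcases hu with rfl | rfl
          · exact c2a
          · exact c2a.mul_left c3a
        have h2' : Commute u b := by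
          rcases hu with rfl | rfl
          · exact c2b
          · exact c2b.mul_left c3b
        exact comm_of_four' h1 h2' hy
      have Axy : Anti x y := hxy
      have Auv : Anti u v := huv
      rcases hminus x u hxR huR hxx huu cux.symm.eq with h | h | h | h | h | h
      · exact anti_comm_false h2 Axy (hpm1 x y (Or.inl h))
      · exact anti_comm_false h2 Axy (hpm1 x y (Or.inr h))
      · exact anti_comm_false h2 Auv (hpm1 u v (Or.inl h))
      · exact anti_comm_false h2 Auv (hpm1 u v (Or.inr h))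
      · rw [h] at cuy; exact anti_comm_false h2 Axy cuy
      · have : Commute x y := by
          have h' : x = -u := by rw [h, neg_neg]
          rw [h']
          show -u * y = y * -u
          rw [neg_mul, mul_neg, cuy.eq]
        exact anti_comm_false h2 Axy this
    · -- first pair of dihedral type, second of quaternion type
      have cx2 : ∀ g : GL (Fin 4) F, Commute g a → Commute g b → Commute g x ∧ Commute g y :=
        fun g h1 h2' => ⟨comm_of_four h1 h2' hx, comm_of_four' h1 h2' hy⟩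
      exact ⟨x, y, a2, b2, hxC, hyC, ha2, hb2, hxx, hyy, h2q, h3q, hxy, h23,
        (cx2 a2 c2a c2b).1.eq, (cx2 a2 c2a c2b).2.eq, (cx2 b2 c3a c3b).1.eq, (cx2 b2 c3a c3b).2.eq⟩
  · rcases pair_normalize h23 (sq_pm H ha2) (sq_pm H hb2) with
      ⟨u, v, hu, hv, huu, hvv, huv⟩ | ⟨h2q, h3q⟩
    · -- second pair of dihedral type, first of quaternion type
      have huC : u ∈ Cr R := mem_of_four ha2 hb2 hu
      have hvC : v ∈ Cr R := mem_of_four' ha2 hb2 hv
      have cau : Commute a u := comm_of_four c2a.symm c3a.symm hu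
      have cav : Commute a v := comm_of_four' c2a.symm c3a.symm hv
      have cbu : Commute b u := comm_of_four c2b.symm c3b.symm hu
      have cbv : Commute b v := comm_of_four' c2b.symm c3b.symm hv
      exact ⟨u, v, a, b, huC, hvC, ha, hb, huu, hvv, haq, hbq, huv, hab, cau.eq, cav.eq, cbu.eq, cbv.eq⟩
    · -- both of quaternion type: impossible
      exfalso
      set t := a * a2 with ht
      set t' := b * b2 with ht'
      have htR : t ∈ R := mul_mem haR ha2R
      have ht'R : t' ∈ R := mul_mem hbR hb2R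
      have htt : t * t = 1 := by
        have : t * t = (a * a) * (a2 * a2) := by
          rw [ht]
          calc a * a2 * (a * a2) = a * (a2 * a) * a2 := by simp only [mul_assoc]
            _ = a * (a * a2) * a2 := by rw [c2a.eq]
            _ = _ := by simp only [mul_assoc]
        rw [this, haq, h2q]; simp
      have ht't' : t' * t' = 1 := by
        have : t' * t' = (b * b) * (b2 * b2) := by
          rw [ht']
          calc b * b2 * (b * b2) = b * (b2 * b) * b2 := by simp only [mul_assoc]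
            _ = b * (b * b2) * b2 := by rw [c3b.eq]
            _ = _ := by simp only [mul_assoc]
        rw [this, hbq, h3q]; simp
      -- commutation data
      have Atb : Anti t b := Anti.mul_comm_left Aab c2b
      have Ctb2 : Anti t b2 := Anti.comm_mul_left c3a.symm A23
      have Ctt' : Commute t t' := Anti.mul_anti_right Atb Ctb2
      have At'a : Anti t' a := Anti.mul_comm_left Aab.symm c3a
      have Cta : Commute t a := by
        show a * a2 * a = a * (a * a2)
        rw [mul_assoc, c2a.eq]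
      rcases hminus t t' htR ht'R htt ht't' Ctt'.eq with h | h | h | h | h | h
      · exact anti_comm_false h2 Atb (hpm1 t b (Or.inl h))
      · exact anti_comm_false h2 Atb (hpm1 t b (Or.inr h))
      · exact anti_comm_false h2 At'a (hpm1 t' a (Or.inl h))
      · exact anti_comm_false h2 At'a (hpm1 t' a (Or.inr h))
      · rw [h] at At'a; exact anti_comm_false h2 At'a Cta
      · have : Commute t' a := by
          rw [h]
          show -t * a = a * -t
          rw [neg_mul, mul_neg, Cta.eq]
        exact anti_comm_false h2 At'a this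

end basis

end Cfsg.Agent.Lib.Helper99.Sp4B
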