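import Mathlib
import Cfsg.Prelude.Def_GeometricClasses
import Cfsg.Agent.Lib.Helper59.SpMaxD6
import Cfsg.Agent.Lib.Helper99.Sp4B

/-!
# Transport of the symplectic setting to the index type `Fin 4`
-/

set_option autoImplicit false

namespace Cfsg.Agent.Lib.Helper99.Sp4A

open scoped Matrix MatrixGroups
open Cfsg.Agent.Lib.Helper99.Symp4A Cfsg.Agent.Lib.Helper99.Symp4B Cfsg.Agent.Lib.Helper99.Sp4B

variable {F : Type*} [Field F]

/-- the identification of the index types -/
def e4 : Fin 2 ⊕ Fin 2 ≃ Fin 4 := finSumFinEquiv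

theorem e4_l0 : e4 (Sum.inl 0) = 0 := rfl
theorem e4_l1 : e4 (Sum.inl 1) = 1 := rfl
theorem e4_r0 : e4 (Sum.inr 0) = 2 := rfl
theorem e4_r1 : e4 (Sum.inr 1) = 3 := rfl

/-- reindexing of matrices -/
noncomputable def Φ4 (F : Type*) [Field F] :
    Matrix (Fin 2 ⊕ Fin 2) (Fin 2 ⊕ Fin 2) F ≃ₐ[F] Matrix (Fin 4) (Fin 4) F :=
  Matrix.reindexAlgEquiv F F e4

/-- reindexing of invertible matrices -/
noncomputable def ρ (F : Type*) [Field F] : GL (Fin 2 ⊕ Fin 2) F ≃* GL (Fin 4) F :=
  Units.mapEquiv (Φ4 F).toMulEquiv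

theorem ρ_val (g : GL (Fin 2 ⊕ Fin 2) F) :
    ((ρ F g : GL (Fin 4) F) : Matrix (Fin 4) (Fin 4) F) =
      Φ4 F (g : Matrix (Fin 2 ⊕ Fin 2) (Fin 2 ⊕ Fin 2) F) := rfl

/-- the standard alternating form on `Fin 4` -/
def J4 (F : Type*) [Field F] : Matrix (Fin 4) (Fin 4) F :=
  !![0, 0, -1, 0; 0, 0, 0, -1; 1, 0, 0, 0; 0, 1, 0, 0]

theorem J4_eq : Φ4 F (Matrix.J (Fin 2) F) = J4 F := by
  have h : Matrix.J (Fin 2) F = (Φ4 F).symm (J4 F) := by
    ext a b
    rcases a with a | a <;> rcases b with b | b <;> fin_cases a <;> fin_cases b <;>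
      simp [Φ4, Matrix.coe_reindexAlgEquiv, e4_l0, e4_l1, e4_r0, e4_r1, J4, Matrix.J]
  rw [h, AlgEquiv.apply_symm_apply]

theorem Φ4_transpose (M : Matrix (Fin 2 ⊕ Fin 2) (Fin 2 ⊕ Fin 2) F) : (Φ4 F M)ᵀ = Φ4 F Mᵀ := by
  simp [Φ4, Matrix.coe_reindexAlgEquiv]

/-- matrices are determined by their bilinear forms -/
theorem eq_of_forms {ι : Type*} [Fintype ι] [DecidableEq ι] {A B : Matrix ι ι F}
    (h : ∀ u v : ι → F, u ⬝ᵥ (A *ᵥ v) = u ⬝ᵥ (B *ᵥ v)) : A = B := by
  ext i j
  have := h (Pi.single i 1) (Pi.single j 1)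
  simpa using this

theorem form_transpose {ι : Type*} [Fintype ι] [DecidableEq ι] (M J : Matrix ι ι F) (u v : ι → F) :
    (M *ᵥ u) ⬝ᵥ (J *ᵥ (M *ᵥ v)) = u ⬝ᵥ ((Mᵀ * J * M) *ᵥ v) := by
  rw [← Matrix.mulVec_mulVec, ← Matrix.mulVec_mulVec, Matrix.dotProduct_mulVec u Mᵀ,
    Matrix.vecMul_transpose]

/-- membership of the symplectic group in terms of matrices -/
theorem mem_spGL_iff (g : GL (Fin 2 ⊕ Fin 2) F) :
    g ∈ Cfsg.spGL 2 F ↔
      ((ρ F g : GL (Fin 4) F) : Matrix (Fin 4) (Fin 4) F)ᵀ * J4 F *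
        ((ρ F g : GL (Fin 4) F) : Matrix (Fin 4) (Fin 4) F) = J4 F := by
  set M : Matrix (Fin 2 ⊕ Fin 2) (Fin 2 ⊕ Fin 2) F := (g : Matrix (Fin 2 ⊕ Fin 2) (Fin 2 ⊕ Fin 2) F)
    with hM
  have h1 : g ∈ Cfsg.spGL 2 F ↔ Mᵀ * Matrix.J (Fin 2) F * M = Matrix.J (Fin 2) F := by
    constructor
    · intro hg
      apply eq_of_forms
      intro u v
      rw [← form_transpose]
      exact hg u v
    · intro h u v
      show (M *ᵥ u) ⬝ᵥ (Matrix.J (Fin 2) F *ᵥ (M *ᵥ v)) = u ⬝ᵥ (Matrix.J (Fin 2) F *ᵥ v)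
      rw [form_transpose, h]
  rw [h1, ρ_val, Φ4_transpose, ← J4_eq, ← map_mul, ← map_mul]
  exact ((Φ4 F).injective.eq_iff).symm

theorem ρ_scalar (g : GL (Fin 2 ⊕ Fin 2) F) (z : F) :
    ((ρ F g : GL (Fin 4) F) : Matrix (Fin 4) (Fin 4) F) = z • (1 : Matrix (Fin 4) (Fin 4) F) ↔
      (g : Matrix (Fin 2 ⊕ Fin 2) (Fin 2 ⊕ Fin 2) F) =
        z • (1 : Matrix (Fin 2 ⊕ Fin 2) (Fin 2 ⊕ Fin 2) F) := by
  rw [ρ_val]
  have : z • (1 : Matrix (Fin 4) (Fin 4) F) =
      Φ4 F (z • (1 : Matrix (Fin 2 ⊕ Fin 2) (Fin 2 ⊕ Fin 2) F)) := by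
    rw [map_smul, map_one]
  rw [this]
  exact (Φ4 F).injective.eq_iff

theorem ρ_neg (g : GL (Fin 2 ⊕ Fin 2) F) : ρ F (-g) = -ρ F g := by
  apply Units.ext
  rw [ρ_val, Units.val_neg, Units.val_neg, ρ_val, map_neg]

/-- the image subgroup -/
noncomputable def R4 (R : Subgroup (GL (Fin 2 ⊕ Fin 2) F)) : Subgroup (GL (Fin 4) F) :=
  R.map ((ρ F : GL (Fin 2 ⊕ Fin 2) F ≃* GL (Fin 4) F) : GL (Fin 2 ⊕ Fin 2) F →* GL (Fin 4) F)

theorem mem_R4 {R : Subgroup (GL (Fin 2 ⊕ Fin 2) F)} {g : GL (Fin 2 ⊕ Fin 2) F} :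
    ρ F g ∈ R4 R ↔ g ∈ R := by
  unfold R4
  constructor
  · rintro ⟨h, hh, he⟩
    have : h = g := (ρ F).injective he
    rw [← this]; exact hh
  · intro hg
    exact ⟨g, hg, rfl⟩

theorem exists_of_mem_R4 {R : Subgroup (GL (Fin 2 ⊕ Fin 2) F)} {g : GL (Fin 4) F} (hg : g ∈ R4 R) :
    ∃ g0 ∈ R, ρ F g0 = g := by
  obtain ⟨h, hh, he⟩ := hg
  exact ⟨h, hh, he⟩

theorem mem_normalizer_iff (R : Subgroup (GL (Fin 2 ⊕ Fin 2) F)) (n : GL (Fin 2 ⊕ Fin 2) F) :
    n ∈ Cfsg.Geo.subgroupNormalizer R ↔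
      ρ F n ∈ Subgroup.normalizer (R4 R : Set (GL (Fin 4) F)) := by
  unfold Cfsg.Geo.subgroupNormalizer
  rw [Subgroup.mem_normalizer_iff, Subgroup.mem_normalizer_iff]
  constructor
  · intro h g
    obtain ⟨g0, rfl⟩ := (ρ F).surjective g
    rw [mem_R4, ← map_inv, ← map_mul, ← map_mul, mem_R4]
    exact h g0
  · intro h g0
    have := h (ρ F g0)
    rw [mem_R4, ← map_inv, ← map_mul, ← map_mul, mem_R4] at this
    exact this

section involutions

/-- three independent commuting involutions generate an elementary abelian group of order eight -/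
theorem card_ge_eight {G : Type*} [Group G] [Finite G] {z t t' : G} (hz : z * z = 1) (ht : t * t = 1)
    (ht' : t' * t' = 1) (czt : z * t = t * z) (czt' : z * t' = t' * z) (ctt' : t * t' = t' * t)
    (h1 : z ≠ 1) (h2 : t ≠ 1) (h3 : t ≠ z) (h4 : t' ≠ 1) (h5 : t' ≠ z) (h6 : t' ≠ t)
    (h7 : t' ≠ z * t) :
    ∃ A : Subgroup G, IsMulCommutative A ∧ (∀ x ∈ A, x * x = 1) ∧ 8 ≤ Nat.card A := by
  have hcomm : ∀ x ∈ ({z, t, t'} : Set G), ∀ y ∈ ({z, t, t'} : Set G), x * y = y * x := by
    intro x hx y hy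
    simp only [Set.mem_insert_iff, Set.mem_singleton_iff] at hx hy
    rcases hx with rfl | rfl | rfl <;> rcases hy with rfl | rfl | rfl <;>
      first | rfl | assumption | (symm; assumption)
  set A : Subgroup G := Subgroup.closure ({z, t, t'} : Set G) with hA
  have cg : IsMulCommutative ↥A := Subgroup.isMulCommutative_closure hcomm
  have hAc : ∀ a b : G, a ∈ A → b ∈ A → a * b = b * a := by
    intro a b ha hb
    have := cg.is_comm.comm (⟨a, ha⟩ : ↥A) ⟨b, hb⟩
    exact congrArg Subtype.val this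
  have hzA : z ∈ A := Subgroup.subset_closure (by simp)
  have htA : t ∈ A := Subgroup.subset_closure (by simp)
  have ht'A : t' ∈ A := Subgroup.subset_closure (by simp)
  have hsq : ∀ x ∈ A, x * x = 1 := by
    intro x hx
    induction hx using Subgroup.closure_induction with
    | mem x hx =>
      simp only [Set.mem_insert_iff, Set.mem_singleton_iff] at hx
      rcases hx with rfl | rfl | rfl <;> assumption
    | one => simp
    | mul x y hx hy ihx ihy =>
      calc x * y * (x * y) = x * (y * x) * y := by simp only [mul_assoc]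
        _ = x * (x * y) * y := by rw [hAc y x hy hx]
        _ = (x * x) * (y * y) := by simp only [mul_assoc]
        _ = 1 := by rw [ihx, ihy, one_mul]
    | inv x hx ih =>
      have : x⁻¹ = x := inv_eq_of_mul_eq_one_right ih
      rw [this]; exact ih
  refine ⟨A, ⟨⟨fun a b => Subtype.ext (hAc a b a.2 b.2)⟩⟩, hsq, ?_⟩
  -- the chain of subgroups
  set H0 : Subgroup G := Subgroup.closure ({z} : Set G) with hH0
  set H1 : Subgroup G := Subgroup.closure ({z, t} : Set G) with hH1
  have mem0 : ∀ x ∈ H0, x = 1 ∨ x = z := by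
    intro x hx
    induction hx using Subgroup.closure_induction with
    | mem x hx =>
      simp only [Set.mem_singleton_iff] at hx
      right; exact hx
    | one => left; rfl
    | mul x y hx hy ihx ihy =>
      rcases ihx with rfl | rfl <;> rcases ihy with rfl | rfl <;> simp [hz]
    | inv x hx ih =>
      rcases ih with rfl | rfl
      · left; simp
      · right; exact inv_eq_of_mul_eq_one_right hz
  have mem1 : ∀ x ∈ H1, x = 1 ∨ x = z ∨ x = t ∨ x = z * t := by
    intro x hx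
    induction hx using Subgroup.closure_induction with
    | mem x hx =>
      simp only [Set.mem_insert_iff, Set.mem_singleton_iff] at hx
      rcases hx with rfl | rfl
      · right; left; rfl
      · right; right; left; rfl
    | one => left; rfl
    | mul x y hx hy ihx ihy =>
      have e1 : t * z = z * t := czt.symm
      have e2 : z * t * z = t := by rw [mul_assoc, e1, ← mul_assoc, hz, one_mul]
      have e3 : z * t * t = z := by rw [mul_assoc, ht, mul_one]
      have e4 : z * (z * t) = t := by rw [← mul_assoc, hz, one_mul]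
      have e5 : t * (z * t) = z := by rw [← mul_assoc, e1, mul_assoc, ht, mul_one]
      have e6 : z * t * (z * t) = 1 := by rw [mul_assoc, e5, hz]
      rcases ihx with rfl | rfl | rfl | rfl <;> rcases ihy with rfl | rfl | rfl | rfl <;>
        simp [hz, ht, e1, e2, e3, e4, e5, e6]
    | inv x hx ih =>
      have e1 : t * z = z * t := czt.symm
      have e5 : t * (z * t) = z := by rw [← mul_assoc, e1, mul_assoc, ht, mul_one]
      have e6 : z * t * (z * t) = 1 := by rw [mul_assoc, e5, hz]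
      rcases ih with rfl | rfl | rfl | rfl
      · left; simp
      · right; left; exact inv_eq_of_mul_eq_one_right hz
      · right; right; left; exact inv_eq_of_mul_eq_one_right ht
      · right; right; right; exact inv_eq_of_mul_eq_one_right e6
  have le01 : H0 ≤ H1 := Subgroup.closure_mono (by intro x hx; simp at hx ⊢; left; exact hx)
  have le1A : H1 ≤ A := Subgroup.closure_mono (by
    intro x hx
    simp only [Set.mem_insert_iff, Set.mem_singleton_iff] at hx ⊢
    rcases hx with h | h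
    · left; exact h
    · right; left; exact h)
  have c0 : 2 ≤ Nat.card H0 := by
    have hnt : Nontrivial ↥H0 := ⟨⟨⟨z, Subgroup.subset_closure (by simp)⟩, 1, by
      intro h; exact h1 (congrArg Subtype.val h)⟩⟩
    exact Finite.one_lt_card_iff_nontrivial.mpr hnt
  have step : ∀ (K L : Subgroup G), K ≤ L → (∃ x ∈ L, x ∉ K) → 2 * Nat.card K ≤ Nat.card L := by
    intro K L hKL ⟨x, hxL, hxK⟩
    obtain ⟨d, hd⟩ := Subgroup.card_dvd_of_le hKL
    have hLpos : 0 < Nat.card L := Nat.card_pos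
    have hKpos : 0 < Nat.card K := Nat.card_pos
    have hd1 : d ≠ 1 := by
      intro h
      rw [h, mul_one] at hd
      have := Subgroup.eq_of_le_of_card_ge hKL (le_of_eq hd)
      rw [this] at hxK
      exact hxK hxL
    have hd0 : d ≠ 0 := by
      intro h; rw [h, mul_zero] at hd; omega
    have : 2 ≤ d := by omega
    calc 2 * Nat.card K ≤ d * Nat.card K := Nat.mul_le_mul_right _ this
      _ = Nat.card L := by rw [hd, mul_comm]
  have s1 := step H0 H1 le01 ⟨t, Subgroup.subset_closure (by simp), fun h => by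
    rcases mem0 t h with h | h
    · exact h2 h
    · exact h3 h⟩
  have s2 := step H1 A le1A ⟨t', ht'A, fun h => by
    rcases mem1 t' h with h | h | h | h
    · exact h4 h
    · exact h5 h
    · exact h6 h
    · exact h7 h⟩
  omega

end involutions

section hyp

variable [Fintype F]

/-- the working hypotheses from the data of the statement -/
theorem hyp2_of_data (R : Subgroup (GL (Fin 2 ⊕ Fin 2) F)) (hRs : Cfsg.Geo.IsSymplecticTypeGroup 2 R)
    (hRi : Cfsg.Geo.ActsAbsolutelyIrreducibly (Cfsg.Geo.matrixSet R))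
    (hR5 : Nat.card R = 2 ^ 5) (hRZ : Nat.card (Subgroup.center R) = 2) (h2 : (2 : F) ≠ 0) :
    Hyp2 (R4 R) ∧
    (∀ M : Matrix (Fin 4) (Fin 4) F, (∀ g ∈ R4 R, M * (g : Matrix (Fin 4) (Fin 4) F) =
        (g : Matrix (Fin 4) (Fin 4) F) * M) → ∃ c : F, M = c • (1 : Matrix (Fin 4) (Fin 4) F)) := by
  have hfinR : Finite ↥R := Nat.finite_of_card_ne_zero (by rw [hR5]; norm_num)
  have hexp : ∀ x : ↥R, x ^ 4 = 1 := by
    intro x
    have h1 := hRs.exponent_eq
    have h2 : Monoid.exponent ↥R = 4 := by rw [h1]; rfl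
    have h3 := Monoid.pow_exponent_eq_one x
    rw [h2] at h3
    exact h3
  have hcommR : ∀ a b : ↥R, a * b * a⁻¹ * b⁻¹ ∈ Subgroup.center ↥R :=
    Cfsg.Agent.Lib.Helper59.SpMax.commutator_mem_center_of_symplecticType (G := ↥R) hRs.pGroup
      hRs.cyclic_of_characteristic hexp
  -- absolute irreducibility
  have habs : ∀ M : Matrix (Fin 4) (Fin 4) F, (∀ g ∈ R4 R, M * (g : Matrix (Fin 4) (Fin 4) F) =
      (g : Matrix (Fin 4) (Fin 4) F) * M) → ∃ c : F, M = c • (1 : Matrix (Fin 4) (Fin 4) F) := by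
    intro M hM
    obtain ⟨c, hc⟩ := hRi.2 ((Φ4 F).symm M) (by
      rintro s ⟨g, hg, rfl⟩
      apply (Φ4 F).injective
      rw [map_mul, map_mul, AlgEquiv.apply_symm_apply]
      exact hM (ρ F g) (mem_R4.mpr hg))
    refine ⟨c, ?_⟩
    have := congrArg (Φ4 F) hc
    rw [AlgEquiv.apply_symm_apply, map_smul, map_one] at this
    exact this
  -- the isomorphism
  set e : ↥R ≃* ↥(R4 R) := (ρ F).subgroupMap R with he
  have he_val : ∀ x : ↥R, ((e x : ↥(R4 R)) : GL (Fin 4) F) = ρ F (x : GL (Fin 2 ⊕ Fin 2) F) := fun _ => rfl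
  have hcard4 : Nat.card ↥(R4 R) = 32 := by
    rw [← Nat.card_congr e.toEquiv, hR5]; norm_num
  have hcardZ4 : Nat.card (Subgroup.center ↥(R4 R)) = 2 := by
    rw [← Nat.card_congr (Subgroup.centerCongr e).toEquiv, hRZ]
  have hfin4 : Finite ↥(R4 R) := Nat.finite_of_card_ne_zero (by rw [hcard4]; norm_num)
  have hfinZ4 : Finite ↥(Subgroup.center ↥(R4 R)) := inferInstance
  have hcomm4 : ∀ a b : ↥(R4 R), a * b * a⁻¹ * b⁻¹ ∈ Subgroup.center ↥(R4 R) := by
    intro a b
    obtain ⟨a0, rfl⟩ := e.surjective a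
    obtain ⟨b0, rfl⟩ := e.surjective b
    have h := hcommR a0 b0
    rw [Subgroup.mem_center_iff] at h ⊢
    intro g
    obtain ⟨g0, rfl⟩ := e.surjective g
    rw [← map_inv, ← map_inv, ← map_mul, ← map_mul, ← map_mul, ← map_mul, ← map_mul, h g0]
  have hsqZ : ∀ z ∈ Subgroup.center ↥(R4 R), z * z = 1 := by
    intro z hz
    have := pow_card_eq_one' (G := ↥(Subgroup.center ↥(R4 R))) (x := ⟨z, hz⟩)
    rw [hcardZ4] at this
    have h' := congrArg Subtype.val this
    simpa [pow_two] using h'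
  have hcrit : ∀ c : ↥(R4 R), c ∈ critSub ↥(R4 R) := by
    intro c
    refine ⟨?_, hcomm4 c⟩
    rw [Subgroup.mem_center_iff]
    intro y
    -- c y = z y c
    obtain ⟨z, hzdef⟩ : ∃ z, z = c * y * c⁻¹ * y⁻¹ := ⟨_, rfl⟩
    have hzcen : z ∈ Subgroup.center ↥(R4 R) := by rw [hzdef]; exact hcomm4 c y
    have hzc := Subgroup.mem_center_iff.mp hzcen
    have hzz := hsqZ z hzcen
    have e1 : c * y = z * (y * c) := by rw [hzdef]; group
    have e2 : c ^ 2 * y = (z * z) * (y * c ^ 2) := by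
      calc c ^ 2 * y = c * (c * y) := by rw [pow_two, mul_assoc]
        _ = c * (z * (y * c)) := by rw [e1]
        _ = (c * z) * (y * c) := by rw [mul_assoc]
        _ = (z * c) * (y * c) := by rw [hzc c]
        _ = z * ((c * y) * c) := by simp only [mul_assoc]
        _ = z * ((z * (y * c)) * c) := by rw [e1]
        _ = (z * z) * (y * c ^ 2) := by rw [pow_two]; simp only [mul_assoc]
    rw [hzz, one_mul] at e2
    exact e2.symm
  have hCr : ∀ g ∈ R4 R, g ∈ Cr (R4 R) := by
    intro g hg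
    exact ⟨⟨g, hg⟩, hcrit _, rfl⟩
  refine ⟨⟨?_, ?_, ?_, ?_, hcard4, h2⟩, habs⟩
  · intro g hg
    obtain ⟨hgR, hcomm⟩ := mem_Zr.mp hg
    apply habs
    intro h hh
    have := hcomm h hh
    have h3 := congrArg Units.val this
    simp only [Units.val_mul] at h3
    exact h3.symm
  · intro g hg
    obtain ⟨g0, hg0, rfl⟩ := exists_of_mem_R4 hg
    have := hexp ⟨g0, hg0⟩
    have h' := congrArg Subtype.val this
    rw [← map_pow]
    simp only [Subgroup.coe_pow, Subgroup.coe_one] at h'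
    rw [h', map_one]
  · intro x hx hc
    rw [mem_Zr]
    refine ⟨hx, fun h hh => ?_⟩
    exact (hc h (hCr h hh)).symm
  · rw [card_Zr, hcardZ4]

omit [Fintype F] in
/-- the condition of minus type in terms of elements -/
theorem minus_of_data (R : Subgroup (GL (Fin 2 ⊕ Fin 2) F)) (H : Hyp2 (R4 R))
    (hR5 : Nat.card R = 2 ^ 5) (hRm : Cfsg.Geo.IsOfMinusType 2 R) :
    ∀ t t' : GL (Fin 4) F, t ∈ R4 R → t' ∈ R4 R → t * t = 1 → t' * t' = 1 → t * t' = t' * t →
      t = 1 ∨ t = -1 ∨ t' = 1 ∨ t' = -1 ∨ t' = t ∨ t' = -t := by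
  intro t t' ht ht' htt ht't' hcomm
  have hfinR : Finite ↥R := Nat.finite_of_card_ne_zero (by rw [hR5]; norm_num)
  by_contra hcon
  push Not at hcon
  obtain ⟨n1, n2, n3, n4, n5, n6⟩ := hcon
  obtain ⟨t0, ht0, rfl⟩ := exists_of_mem_R4 ht
  obtain ⟨t0', ht0', rfl⟩ := exists_of_mem_R4 ht'
  obtain ⟨z0, hz0, hz0e⟩ := exists_of_mem_R4 (neg_one_mem H)
  have inj := (ρ F).injective
  have hz0v : z0 = -1 := by
    apply inj
    rw [hz0e, ρ_neg, map_one]
  subst hz0v
  have key := card_ge_eight (G := ↥R) (z := ⟨-1, hz0⟩) (t := ⟨t0, ht0⟩) (t' := ⟨t0', ht0'⟩)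
    (by apply Subtype.ext; simp)
    (by apply Subtype.ext; apply inj; simpa using htt)
    (by apply Subtype.ext; apply inj; simpa using ht't')
    (by apply Subtype.ext; simp)
    (by apply Subtype.ext; simp)
    (by apply Subtype.ext; apply inj; simpa using hcomm)
    (by
      intro h
      have := congrArg Subtype.val h
      simp only [Subgroup.coe_one] at this
      exact one_ne_neg_one H (by
        have h' := congrArg (ρ F) this
        rw [ρ_neg, map_one] at h'
        exact h'.symm))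
    (by
      intro h
      have := congrArg Subtype.val h
      simp only [Subgroup.coe_one] at this
      exact n1 (by rw [this, map_one]))
    (by
      intro h
      have := congrArg Subtype.val h
      simp only at this
      exact n2 (by rw [this, ρ_neg, map_one]))
    (by
      intro h
      have := congrArg Subtype.val h
      simp only [Subgroup.coe_one] at this
      exact n3 (by rw [this, map_one]))
    (by
      intro h
      have := congrArg Subtype.val h
      simp only at this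
      exact n4 (by rw [this, ρ_neg, map_one]))
    (by
      intro h
      have := congrArg Subtype.val h
      simp only at this
      exact n5 (by rw [this]))
    (by
      intro h
      have := congrArg Subtype.val h
      simp only [Subgroup.coe_mul] at this
      exact n6 (by rw [this]; simp [ρ_neg]))
  obtain ⟨A, hAc, hAsq, hA8⟩ := key
  have := hRm A hAc hAsq
  norm_num at this
  omega

end hyp

end Cfsg.Agent.Lib.Helper99.Sp4A
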