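import Mathlib
import Cfsg.Agent.Lib.Helper99.Symp4L

set_option autoImplicit false

namespace Cfsg.Agent.Lib.Helper99.Symp4H

open scoped Matrix
open Cfsg.Agent.Lib.Helper99.Symp4L

variable {F : Type*} [Field F]

set_option maxRecDepth 100000 in
theorem sort4 : ∀ d : Fin 4 → Bool, ∃ σ : Equiv.Perm (Fin 4), ∃ m : Fin 5,
    ∀ k : Fin 4, d (σ k) = decide (k.val < m.val) := by
  decide

/-- the sorted diagonal matrix with `m` entries `1` followed by entries `-1` -/
def Dm (F : Type*) [Field F] (m : Fin 5) : Matrix (Fin 4) (Fin 4) F :=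
  Matrix.diagonal (fun k : Fin 4 => if k.val < m.val then (1 : F) else -1)

/-- an involution is conjugate to a sorted diagonal matrix -/
theorem exists_sorted_involution (h2 : (2 : F) ≠ 0) {x : Matrix (Fin 4) (Fin 4) F} (hx : x * x = 1) :
    ∃ (P : GL (Fin 4) F) (m : Fin 5),
      x * (P : Matrix (Fin 4) (Fin 4) F) = (P : Matrix (Fin 4) (Fin 4) F) * Dm F m := by
  classical
  set s : Set (Fin 4 → F) := {u | x *ᵥ u = u ∨ x *ᵥ u = -u} with hs_def
  have hxx : ∀ u : Fin 4 → F, x *ᵥ (x *ᵥ u) = u := by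
    intro u; rw [Matrix.mulVec_mulVec, hx, Matrix.one_mulVec]
  have hs : ⊤ ≤ Submodule.span F s := by
    intro u _
    have h1 : u + x *ᵥ u ∈ s := by
      left; rw [Matrix.mulVec_add, hxx, add_comm]
    have h3 : u - x *ᵥ u ∈ s := by
      right; rw [Matrix.mulVec_sub, hxx]; abel
    have : u = (2 : F)⁻¹ • (u + x *ᵥ u) + (2 : F)⁻¹ • (u - x *ᵥ u) := by
      rw [← smul_add]
      have : u + x *ᵥ u + (u - x *ᵥ u) = (2 : F) • u := by rw [two_smul]; abel
      rw [this, smul_smul, inv_mul_cancel₀ h2, one_smul]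
    rw [this]
    exact Submodule.add_mem _ (Submodule.smul_mem _ _ (Submodule.subset_span h1))
      (Submodule.smul_mem _ _ (Submodule.subset_span h3))
  obtain ⟨ι', B, hBsub⟩ : ∃ (ι' : Type _) (B : Module.Basis ι' F (Fin 4 → F)), ∀ j, B j ∈ s :=
    ⟨_, Module.Basis.ofSpan hs, fun j => Module.Basis.ofSpan_subset hs ⟨j, rfl⟩⟩
  have : Fintype ι' := FiniteDimensional.fintypeBasisIndex B
  have hcard : Fintype.card ι' = 4 := by
    rw [← Module.finrank_eq_card_basis B, Module.finrank_fin_fun]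
  let e := Fintype.equivFinOfCardEq hcard
  let B4 := B.reindex e
  have hmem : ∀ k : Fin 4, B4 k ∈ s := by
    intro k
    rw [Module.Basis.reindex_apply]
    exact hBsub _
  have hLI := Fintype.linearIndependent_iff.mp B4.linearIndependent
  obtain ⟨σ, m, hσ⟩ := sort4 (fun k => decide (x *ᵥ B4 k = B4 k))
  have hLI' : ∀ c : Fin 4 → F, (∑ k, c k • (fun k => (B4 (σ k) : Fin 4 → F)) k) = 0 → c = 0 := by
    intro c hc
    have h1 : ∑ j, (c (σ.symm j)) • B4 j = 0 := by
      rw [← hc]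
      exact (Equiv.sum_comp σ (fun j => c (σ.symm j) • B4 j)).symm.trans (by simp)
    have h3 := hLI _ h1
    funext k
    have := h3 (σ k)
    simpa using this
  obtain ⟨P, hP⟩ := exists_GL_of_cols _ hLI'
  refine ⟨P, m, ?_⟩
  apply mul_eq_mul_of_cols _ hP
  intro k
  simp only [Dm, Matrix.diagonal_apply, ite_smul, zero_smul, Finset.sum_ite_eq', Finset.mem_univ, if_true]
  have h4 := hσ k
  by_cases hk : k.val < m.val
  · rw [if_pos hk, one_smul]
    rw [decide_eq_true hk] at h4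
    exact of_decide_eq_true h4
  · rw [if_neg hk, neg_smul, one_smul]
    rw [decide_eq_false hk] at h4
    have h5 : ¬ (x *ᵥ B4 (σ k) = B4 (σ k)) := of_decide_eq_false h4
    exact (hmem (σ k)).resolve_left h5

theorem pairLI {x : Matrix (Fin 4) (Fin 4) F} {α β : F} (hroot : ∀ t : F, t * t ≠ α * t + β)
    {v : Fin 4 → F} (hv : v ≠ 0) (hxv : x *ᵥ (x *ᵥ v) = α • (x *ᵥ v) + β • v)
    {a b : F} (h : a • v + b • (x *ᵥ v) = 0) : a = 0 ∧ b = 0 := by
  by_cases hb : b = 0
  · subst hb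
    rw [zero_smul, add_zero] at h
    exact ⟨(smul_eq_zero.mp h).resolve_right hv, rfl⟩
  · exfalso
    set t := -a / b with ht
    have h1 : x *ᵥ v = t • v := by
      have : b • (x *ᵥ v) = (-a) • v := by
        rw [neg_smul]; exact eq_neg_of_add_eq_zero_right h
      calc x *ᵥ v = b⁻¹ • (b • (x *ᵥ v)) := by rw [smul_smul, inv_mul_cancel₀ hb, one_smul]
        _ = t • v := by rw [this, smul_smul, ht]; congr 1; field_simp
    have h3 : (t * t - (α * t + β)) • v = 0 := by
      have h4 := hxv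
      rw [h1, Matrix.mulVec_smul, h1, smul_smul, smul_smul] at h4
      rw [sub_smul, add_smul, h4]; abel
    exact hroot t (sub_eq_zero.mp ((smul_eq_zero.mp h3).resolve_right hv))

/-- linear independence for a quadratic operator -/
theorem quadLI {x : Matrix (Fin 4) (Fin 4) F} {α β : F} (hroot : ∀ t : F, t * t ≠ α * t + β)
    {v w : Fin 4 → F} (hv : v ≠ 0) (hxv : x *ᵥ (x *ᵥ v) = α • (x *ᵥ v) + β • v)
    (hxw : x *ᵥ (x *ᵥ w) = α • (x *ᵥ w) + β • w)
    (hw : ∀ a b : F, a • v + b • (x *ᵥ v) ≠ w) :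
    ∀ c : Fin 4 → F, (∑ k, c k • (![v, x *ᵥ v, w, x *ᵥ w] : Fin 4 → Fin 4 → F) k) = 0 → c = 0 := by
  intro c hc
  have R : c 0 • v + c 1 • (x *ᵥ v) + c 2 • w + c 3 • (x *ᵥ w) = 0 := by
    simpa [Fin.sum_univ_four] using hc
  have R' : c 0 • (x *ᵥ v) + c 1 • (α • (x *ᵥ v) + β • v) + c 2 • (x *ᵥ w) +
      c 3 • (α • (x *ᵥ w) + β • w) = 0 := by
    have := congrArg (fun u => x *ᵥ u) R
    simp only [Matrix.mulVec_add, Matrix.mulVec_smul, hxv, hxw, Matrix.mulVec_zero] at this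
    exact this
  set N := c 2 * c 2 + c 2 * c 3 * α - c 3 * c 3 * β with hN
  set A := (c 2 + c 3 * α) * c 0 - c 3 * c 1 * β with hA
  set B := (c 2 + c 3 * α) * c 1 - c 3 * (c 0 + c 1 * α) with hB
  have key : N • w + A • v + B • (x *ᵥ v) = 0 := by
    linear_combination (norm := module) (c 2 + c 3 * α) • R - c 3 • R'
  have hN0 : N = 0 := by
    by_contra hne
    apply hw (-A / N) (-B / N)
    have : N • w = (-A) • v + (-B) • (x *ᵥ v) := by
      rw [neg_smul, neg_smul]
      have : N • w = -(A • v + B • (x *ᵥ v)) := by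
        apply eq_neg_of_add_eq_zero_left
        rw [← add_assoc]; exact key
      rw [this]; abel
    calc (-A / N) • v + (-B / N) • (x *ᵥ v) = N⁻¹ • ((-A) • v + (-B) • (x *ᵥ v)) := by
          rw [smul_add, smul_smul, smul_smul]; congr 1 <;> congr 1 <;> field_simp
      _ = w := by rw [← this, smul_smul, inv_mul_cancel₀ hne, one_smul]
  have hc3 : c 3 = 0 := by
    by_contra hne
    apply hroot (-c 2 / c 3)
    have : c 2 * c 2 + c 2 * c 3 * α - c 3 * c 3 * β = 0 := hN0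
    field_simp
    linear_combination this
  have hc2 : c 2 = 0 := by
    have : c 2 * c 2 + c 2 * c 3 * α - c 3 * c 3 * β = 0 := hN0
    rw [hc3] at this
    have : c 2 * c 2 = 0 := by linear_combination this
    exact mul_self_eq_zero.mp this
  rw [hc2, hc3, zero_smul, zero_smul, add_zero, add_zero] at R
  obtain ⟨hc0, hc1⟩ := pairLI hroot hv hxv R
  funext k
  fin_cases k <;> assumption

/-- the canonical form of a quadratic operator without eigenvalues -/
def QC (α β : F) : Matrix (Fin 4) (Fin 4) F := !![0, β, 0, 0; 1, α, 0, 0; 0, 0, 0, β; 0, 0, 1, α]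

theorem single_ne_zero : (Pi.single 0 1 : Fin 4 → F) ≠ 0 := by
  intro h; have := congrFun h 0; simp at this

theorem exists_quad {x : Matrix (Fin 4) (Fin 4) F} {α β : F} (hroot : ∀ t : F, t * t ≠ α * t + β)
    (hx : x * x = α • x + β • (1 : Matrix (Fin 4) (Fin 4) F)) :
    ∃ P : GL (Fin 4) F, x * (P : Matrix (Fin 4) (Fin 4) F) = (P : Matrix (Fin 4) (Fin 4) F) * QC α β := by
  have hxx : ∀ u : Fin 4 → F, x *ᵥ (x *ᵥ u) = α • (x *ᵥ u) + β • u := by
    intro u
    rw [Matrix.mulVec_mulVec, hx, Matrix.add_mulVec, Matrix.smul_mulVec, Matrix.smul_mulVec,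
      Matrix.one_mulVec]
  obtain ⟨v, hv⟩ : ∃ v : Fin 4 → F, v ≠ 0 := ⟨_, single_ne_zero⟩
  obtain ⟨w, hw⟩ := exists_not_mem_span2 v (x *ᵥ v)
  have hLI := quadLI hroot hv (hxx v) (hxx w) hw
  obtain ⟨P, hP⟩ := exists_GL_of_cols _ hLI
  refine ⟨P, ?_⟩
  apply mul_eq_mul_of_cols _ hP
  intro k
  fin_cases k
  · simp [Fin.sum_univ_four, QC]
  · simp [Fin.sum_univ_four, QC, hxx]; abel
  · simp [Fin.sum_univ_four, QC]
  · simp [Fin.sum_univ_four, QC, hxx]; abel

theorem exists_mulVec_ne_zero {M : Matrix (Fin 4) (Fin 4) F} (hM : M ≠ 0) : ∃ u : Fin 4 → F, M *ᵥ u ≠ 0 := by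
  by_contra hcon
  push Not at hcon
  apply hM
  ext i j
  have := congrFun (hcon (Pi.single j 1)) i
  simpa [Matrix.mulVec_single] using this

/-- the canonical form of an element of order three with a two-dimensional fixed space -/
def TC (F : Type*) [Field F] : Matrix (Fin 4) (Fin 4) F := !![0, -1, 0, 0; 1, -1, 0, 0; 0, 0, 1, 0; 0, 0, 0, 1]

theorem exists_t3a (h3 : (3 : F) ≠ 0) (hroot : ∀ t : F, t * t ≠ (-1) * t + (-1))
    {x : Matrix (Fin 4) (Fin 4) F} (hx3 : x * x * x = 1) (hx1 : x ≠ 1) (hE : 1 + x + x * x ≠ 0) :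
    ∃ P : GL (Fin 4) F, x * (P : Matrix (Fin 4) (Fin 4) F) = (P : Matrix (Fin 4) (Fin 4) F) * TC F := by
  set E : Matrix (Fin 4) (Fin 4) F := 1 + x + x * x with hEdef
  have hxE : x * E = E := by
    rw [hEdef, mul_add, mul_add, mul_one, ← mul_assoc, hx3]; abel
  have hEx : E * x = E := by
    rw [hEdef, add_mul, add_mul, one_mul, hx3]; abel
  have hEE : E * E = (3 : F) • E := by
    have : E * E = E * 1 + E * x + E * x * x := by
      conv_lhs => rw [hEdef]
      rw [← hEdef, mul_add, mul_add, mul_assoc]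
    rw [this, hEx, hEx, mul_one]
    module
  have hE1 : E * (x - 1) = 0 := by rw [mul_sub, hEx, mul_one, sub_self]
  have hker : ∀ u : Fin 4 → F, E *ᵥ u = 0 → x *ᵥ (x *ᵥ u) = (-1 : F) • (x *ᵥ u) + (-1 : F) • u := by
    intro u hu
    have : E *ᵥ u = u + x *ᵥ u + x *ᵥ (x *ᵥ u) := by
      rw [hEdef, Matrix.add_mulVec, Matrix.add_mulVec, Matrix.one_mulVec, Matrix.mulVec_mulVec]
    rw [this] at hu
    have : x *ᵥ (x *ᵥ u) = -(u + x *ᵥ u) := eq_neg_of_add_eq_zero_right hu
    rw [this]; module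
  have hfix : ∀ u : Fin 4 → F, x *ᵥ (E *ᵥ u) = E *ᵥ u := by
    intro u; rw [Matrix.mulVec_mulVec, hxE]
  have hEfix : ∀ u : Fin 4 → F, E *ᵥ (E *ᵥ u) = (3 : F) • (E *ᵥ u) := by
    intro u; rw [Matrix.mulVec_mulVec, hEE, Matrix.smul_mulVec]
  have hExv : ∀ u : Fin 4 → F, E *ᵥ (x *ᵥ u) = E *ᵥ u := by
    intro u; rw [Matrix.mulVec_mulVec, hEx]
  -- the vectors
  obtain ⟨u0, hu0⟩ := exists_mulVec_ne_zero (sub_ne_zero.mpr hx1)
  set v := (x - 1) *ᵥ u0 with hvdef
  have hEv : E *ᵥ v = 0 := by rw [hvdef, Matrix.mulVec_mulVec, hE1, Matrix.zero_mulVec]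
  have hxv := hker v hEv
  obtain ⟨u1, hu1⟩ := exists_mulVec_ne_zero hE
  set f1 := E *ᵥ u1 with hf1
  obtain ⟨t, ht⟩ := exists_not_mem_span3 v (x *ᵥ v) f1
  set f2 := E *ᵥ t with hf2
  by_cases hLI : ∀ c : Fin 4 → F,
      (∑ k, c k • (![v, x *ᵥ v, f1, f2] : Fin 4 → Fin 4 → F) k) = 0 → c = 0
  · obtain ⟨P, hP⟩ := exists_GL_of_cols _ hLI
    refine ⟨P, ?_⟩
    apply mul_eq_mul_of_cols _ hP
    intro k
    fin_cases k
    · simp [Fin.sum_univ_four, TC]
    · simp [Fin.sum_univ_four, TC, hxv]; abel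
    · simp [Fin.sum_univ_four, TC, hf1, hfix]
    · simp [Fin.sum_univ_four, TC, hf2, hfix]
  · exfalso
    push Not at hLI
    obtain ⟨c, hc, hcne⟩ := hLI
    have R : c 0 • v + c 1 • (x *ᵥ v) + c 2 • f1 + c 3 • f2 = 0 := by
      simpa [Fin.sum_univ_four] using hc
    have R2 : (3 : F) • (c 2 • f1 + c 3 • f2) = 0 := by
      have := congrArg (fun u => E *ᵥ u) R
      simp only [Matrix.mulVec_add, Matrix.mulVec_smul, hExv, hEv, hf1, hf2, hEfix,
        Matrix.mulVec_zero, smul_zero, zero_add] at this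
      rw [← this]; module
    have R3 : c 2 • f1 + c 3 • f2 = 0 := (smul_eq_zero.mp R2).resolve_left h3
    have R4 : c 0 • v + c 1 • (x *ᵥ v) = 0 := by
      have : c 0 • v + c 1 • (x *ᵥ v) + (c 2 • f1 + c 3 • f2) = 0 := by rw [← add_assoc]; exact R
      rw [R3, add_zero] at this
      exact this
    obtain ⟨hc0, hc1⟩ := pairLI hroot hu0 hxv R4
    have hc3 : c 3 ≠ 0 := by
      intro h0
      rw [h0, zero_smul, add_zero] at R3
      have hc2 := (smul_eq_zero.mp R3).resolve_right hu1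
      apply hcne
      funext k
      fin_cases k <;> assumption
    set w := (3 : F) • t - f2 with hwdef
    have hEw : E *ᵥ w = 0 := by
      rw [hwdef, Matrix.mulVec_sub, Matrix.mulVec_smul, hf2, hEfix, sub_self]
    have hxw := hker w hEw
    have hwspan : ∀ a b : F, a • v + b • (x *ᵥ v) ≠ w := by
      intro a b hab
      have hf2' : f2 = (-c 2 / c 3) • f1 := by
        have : c 3 • f2 = (-c 2) • f1 := by
          rw [neg_smul]; exact eq_neg_of_add_eq_zero_right R3
        calc f2 = (c 3)⁻¹ • (c 3 • f2) := by rw [smul_smul, inv_mul_cancel₀ hc3, one_smul]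
          _ = _ := by rw [this, smul_smul]; congr 1; field_simp
      apply ht (a / 3) (b / 3) (-c 2 / c 3 / 3)
      have h3t : (3 : F) • t = a • v + b • (x *ᵥ v) + f2 := by
        rw [hab, hwdef]; abel
      calc (a / 3) • v + (b / 3) • (x *ᵥ v) + (-c 2 / c 3 / 3) • f1
          = (3 : F)⁻¹ • (a • v + b • (x *ᵥ v) + (-c 2 / c 3) • f1) := by
            rw [smul_add, smul_add, smul_smul, smul_smul, smul_smul]
            congr 1
            · congr 1 <;> congr 1 <;> field_simp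
            · congr 1; field_simp
        _ = (3 : F)⁻¹ • ((3 : F) • t) := by rw [h3t, hf2']
        _ = t := by rw [smul_smul, inv_mul_cancel₀ h3, one_smul]
    have hLI2 := quadLI hroot hu0 hxv hxw hwspan
    obtain ⟨P, hP⟩ := exists_GL_of_cols _ hLI2
    have hEP : E * (P : Matrix (Fin 4) (Fin 4) F) = (P : Matrix (Fin 4) (Fin 4) F) * 0 := by
      apply mul_eq_mul_of_cols _ hP
      intro k
      fin_cases k <;> simp [hEv, hEw, hExv]
    rw [mul_zero] at hEP
    apply hE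
    have := congrArg (fun X => X * ((P⁻¹ : GL (Fin 4) F) : Matrix (Fin 4) (Fin 4) F)) hEP
    simpa [mul_assoc] using this

end Cfsg.Agent.Lib.Helper99.Symp4H
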