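import Mathlib
import Cfsg.Agent.Lib.Helper99.Symp4D
import Cfsg.Agent.Lib.Helper99.Symp4H

/-!
# The rational frame of an extraspecial group of minus type
-/

set_option autoImplicit false

namespace Cfsg.Agent.Lib.Helper99.Sp4C

open scoped Matrix
open Cfsg.Agent.Lib.Helper99.Symp4L Cfsg.Agent.Lib.Helper99.Symp4D Cfsg.Agent.Lib.Helper99.Symp4H

variable {F : Type*} [Field F]

/-- the standard generators -/
def A1s (F : Type*) [Field F] : Matrix (Fin 4) (Fin 4) F :=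
  !![1, 0, 0, 0; 0, 1, 0, 0; 0, 0, -1, 0; 0, 0, 0, -1]

def B1s (F : Type*) [Field F] : Matrix (Fin 4) (Fin 4) F :=
  !![0, 0, 1, 0; 0, 0, 0, 1; 1, 0, 0, 0; 0, 1, 0, 0]

def A2s (F : Type*) [Field F] : Matrix (Fin 4) (Fin 4) F :=
  !![0, -1, 0, 0; 1, 0, 0, 0; 0, 0, 0, -1; 0, 0, 1, 0]

def B2s (α β : F) : Matrix (Fin 4) (Fin 4) F :=
  !![α, β, 0, 0; β, -α, 0, 0; 0, 0, α, β; 0, 0, β, -α]

/-- the rational frame -/
theorem exists_frameQ (h2 : (2 : F) ≠ 0) {A1 B1 A2 B2 : Matrix (Fin 4) (Fin 4) F}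
    (hA1 : A1 * A1 = 1) (hB1 : B1 * B1 = 1) (hA2 : A2 * A2 = -1) (hB2 : B2 * B2 = -1)
    (h11 : A1 * B1 = -(B1 * A1)) (h22 : A2 * B2 = -(B2 * A2))
    (h21 : A2 * A1 = A1 * A2) (ha2b1 : A2 * B1 = B1 * A2) (hb2a1 : B2 * A1 = A1 * B2)
    (hb2b1 : B2 * B1 = B1 * B2) :
    ∃ (Q : GL (Fin 4) F) (α β : F), α * α + β * β = -1 ∧
      A1 * (Q : Matrix (Fin 4) (Fin 4) F) = (Q : Matrix (Fin 4) (Fin 4) F) * A1s F ∧
      B1 * (Q : Matrix (Fin 4) (Fin 4) F) = (Q : Matrix (Fin 4) (Fin 4) F) * B1s F ∧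
      A2 * (Q : Matrix (Fin 4) (Fin 4) F) = (Q : Matrix (Fin 4) (Fin 4) F) * A2s F ∧
      B2 * (Q : Matrix (Fin 4) (Fin 4) F) = (Q : Matrix (Fin 4) (Fin 4) F) * B2s α β := by
  -- a fixed vector of `A1`
  have s1 : ∃ v : Fin 4 → F, v ≠ 0 ∧ A1 *ᵥ v = v := by
    have hu : (Pi.single 0 1 : Fin 4 → F) ≠ 0 := by
      intro h; have := congrFun h 0; simp at this
    set u : Fin 4 → F := Pi.single 0 1
    by_cases h : u + A1 *ᵥ u = 0
    · refine ⟨B1 *ᵥ u, ?_, ?_⟩
      · intro h0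
        have : B1 *ᵥ (B1 *ᵥ u) = 0 := by rw [h0, Matrix.mulVec_zero]
        rw [mv, hB1, Matrix.one_mulVec] at this
        exact hu this
      · have hAu : A1 *ᵥ u = -u := by
          have : A1 *ᵥ u = (u + A1 *ᵥ u) - u := by abel
          rw [this, h, zero_sub]
        rw [mv, h11, Matrix.neg_mulVec, ← mv, hAu, Matrix.mulVec_neg, neg_neg]
    · refine ⟨u + A1 *ᵥ u, h, ?_⟩
      rw [Matrix.mulVec_add, mv, hA1, Matrix.one_mulVec, add_comm]
  obtain ⟨v0, hv0, hA1v0⟩ := s1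
  have hA2inj : ∀ w : Fin 4 → F, A2 *ᵥ w = 0 → w = 0 := by
    intro w hw
    have : A2 *ᵥ (A2 *ᵥ w) = 0 := by rw [hw, Matrix.mulVec_zero]
    rw [mv, hA2, Matrix.neg_mulVec, Matrix.one_mulVec] at this
    exact neg_eq_zero.mp this
  have hB2inj : ∀ w : Fin 4 → F, B2 *ᵥ w = 0 → w = 0 := by
    intro w hw
    have : B2 *ᵥ (B2 *ᵥ w) = 0 := by rw [hw, Matrix.mulVec_zero]
    rw [mv, hB2, Matrix.neg_mulVec, Matrix.one_mulVec] at this
    exact neg_eq_zero.mp this
  have hB1inj : ∀ w : Fin 4 → F, B1 *ᵥ w = 0 → w = 0 := by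
    intro w hw
    have : B1 *ᵥ (B1 *ᵥ w) = 0 := by rw [hw, Matrix.mulVec_zero]
    rw [mv, hB1, Matrix.one_mulVec] at this
    exact this
  -- a fixed vector of `A1` that is not an eigenvector of `A2`
  have s2 : ∃ v : Fin 4 → F, v ≠ 0 ∧ A1 *ᵥ v = v ∧ ∀ l : F, A2 *ᵥ v ≠ l • v := by
    by_cases hev : ∃ l : F, A2 *ᵥ v0 = l • v0
    · obtain ⟨l, hl⟩ := hev
      have hl0 : l ≠ 0 := by
        intro h0
        rw [h0, zero_smul] at hl
        exact hv0 (hA2inj _ hl)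
      set w := B2 *ᵥ v0 with hw
      have hw0 : w ≠ 0 := fun h0 => hv0 (hB2inj _ h0)
      have hA1w : A1 *ᵥ w = w := by rw [hw, mv, ← hb2a1, ← mv, hA1v0]
      have hA2w : A2 *ᵥ w = (-l) • w := by
        rw [hw, mv, h22, Matrix.neg_mulVec, ← mv, hl, Matrix.mulVec_smul, neg_smul]
      refine ⟨v0 + w, ?_, ?_, ?_⟩
      · intro h0
        -- apply A2
        have h1 : A2 *ᵥ (v0 + w) = 0 := by rw [h0, Matrix.mulVec_zero]
        rw [Matrix.mulVec_add, hl, hA2w] at h1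
        have h3 : (2 * l) • v0 = 0 := by
          linear_combination (norm := module) h1 + l • h0
        rcases smul_eq_zero.mp h3 with h4 | h4
        · exact (mul_ne_zero h2 hl0) h4
        · exact hv0 h4
      · rw [Matrix.mulVec_add, hA1v0, hA1w]
      · intro m hm
        rw [Matrix.mulVec_add, hl, hA2w] at hm
        -- (l - m) v0 = (l + m) w
        have h3 : (2 * l) • ((l - m) • v0) = 0 := by
          have e1 : (l - m) • v0 = (l + m) • w := by
            linear_combination (norm := module) hm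
          -- apply A2 to e1
          have e2 := congrArg (fun z => A2 *ᵥ z) e1
          simp only [Matrix.mulVec_smul, hl, hA2w] at e2
          linear_combination (norm := module) e2 + l • e1
        have h4 : (l - m) • v0 = 0 := by
          rcases smul_eq_zero.mp h3 with h5 | h5
          · exact absurd h5 (mul_ne_zero h2 hl0)
          · exact h5
        have hlm : l - m = 0 := (smul_eq_zero.mp h4).resolve_right hv0
        have e1 : (l + m) • w = 0 := by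
          have : (l - m) • v0 = (l + m) • w := by linear_combination (norm := module) hm
          rw [← this, h4]
        have hlm' : l + m = 0 := (smul_eq_zero.mp e1).resolve_right hw0
        apply hl0
        have : 2 * l = 0 := by linear_combination hlm + hlm'
        exact (mul_eq_zero.mp this).resolve_left h2
    · push Not at hev
      exact ⟨v0, hv0, hA1v0, hev⟩
  obtain ⟨v, hv, hA1v, hnev⟩ := s2
  set c1 := A2 *ᵥ v with hc1
  set c2 := B1 *ᵥ v with hc2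
  set c3 := B1 *ᵥ c1 with hc3
  have a1c1 : A1 *ᵥ c1 = c1 := by rw [hc1, mv, ← h21, ← mv, hA1v]
  have a1c2 : A1 *ᵥ c2 = -c2 := by rw [hc2, mv, h11, Matrix.neg_mulVec, ← mv, hA1v]
  have a1c3 : A1 *ᵥ c3 = -c3 := by rw [hc3, mv, h11, Matrix.neg_mulVec, ← mv, a1c1]
  have b1c0 : B1 *ᵥ v = c2 := rfl
  have b1c1 : B1 *ᵥ c1 = c3 := rfl
  have b1c2 : B1 *ᵥ c2 = v := by rw [hc2, mv, hB1, Matrix.one_mulVec]
  have b1c3 : B1 *ᵥ c3 = c1 := by rw [hc3, mv, hB1, Matrix.one_mulVec]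
  have a2c0 : A2 *ᵥ v = c1 := rfl
  have a2c1 : A2 *ᵥ c1 = -v := by rw [hc1, mv, hA2, Matrix.neg_mulVec, Matrix.one_mulVec]
  have a2c2 : A2 *ᵥ c2 = c3 := by rw [hc2, mv, ha2b1, ← mv]
  have a2c3 : A2 *ᵥ c3 = -c2 := by
    rw [hc3, mv, ha2b1, ← mv, a2c1, Matrix.mulVec_neg]
  -- independence of the first two
  have hLI2 : ∀ x y : F, x • v + y • c1 = 0 → x = 0 ∧ y = 0 := by
    intro x y hxy
    by_cases hy : y = 0
    · rw [hy, zero_smul, add_zero] at hxy
      exact ⟨(smul_eq_zero.mp hxy).resolve_right hv, hy⟩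
    · exfalso
      apply hnev (-(x / y))
      have : y • c1 = -(x • v) := by linear_combination (norm := module) hxy
      have h3 : c1 = y⁻¹ • (y • c1) := by rw [smul_smul, inv_mul_cancel₀ hy, one_smul]
      rw [h3, this]
      rw [div_eq_mul_inv]
      module
  have hLI : ∀ c : Fin 4 → F, (∑ k, c k • (![v, c1, c2, c3] : Fin 4 → Fin 4 → F) k) = 0 → c = 0 := by
    intro c hc
    simp only [Fin.sum_univ_four, Matrix.cons_val_zero, Matrix.cons_val_one, Matrix.cons_val_two,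
      Matrix.cons_val_three] at hc
    have e0 : c 0 • v + c 1 • c1 + c 2 • c2 + c 3 • c3 = 0 := by simpa using hc
    have e1 : c 0 • v + c 1 • c1 - c 2 • c2 - c 3 • c3 = 0 := by
      have := congrArg (fun w => A1 *ᵥ w) e0
      simp only [Matrix.mulVec_add, Matrix.mulVec_smul, hA1v, a1c1, a1c2, a1c3, Matrix.mulVec_zero] at this
      rw [← this]; module
    have f0 : (2 : F) • (c 0 • v + c 1 • c1) = 0 := by linear_combination (norm := module) e0 + e1
    have f1 : (2 : F) • (c 2 • c2 + c 3 • c3) = 0 := by linear_combination (norm := module) e0 - e1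
    have g0 : c 0 • v + c 1 • c1 = 0 := (smul_eq_zero.mp f0).resolve_left h2
    have g1 : c 2 • c2 + c 3 • c3 = 0 := (smul_eq_zero.mp f1).resolve_left h2
    have g2 : c 2 • v + c 3 • c1 = 0 := by
      have := congrArg (fun w => B1 *ᵥ w) g1
      simp only [Matrix.mulVec_add, Matrix.mulVec_smul, b1c2, b1c3, Matrix.mulVec_zero] at this
      exact this
    obtain ⟨r0, r1⟩ := hLI2 _ _ g0
    obtain ⟨r2, r3⟩ := hLI2 _ _ g2
    funext k
    fin_cases k
    · exact r0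
    · exact r1
    · exact r2
    · exact r3
  obtain ⟨Q, hQ⟩ := exists_GL_of_cols _ hLI
  -- expansion of `B2 v`
  set Qm : Matrix (Fin 4) (Fin 4) F := (Q : Matrix (Fin 4) (Fin 4) F) with hQm
  set Qi : Matrix (Fin 4) (Fin 4) F := ((Q⁻¹ : GL (Fin 4) F) : Matrix (Fin 4) (Fin 4) F) with hQi
  have hQQi : Qm * Qi = 1 := by rw [hQm, hQi, ← Units.val_mul, mul_inv_cancel, Units.val_one]
  have hexp : ∀ w : Fin 4 → F, ∃ y : Fin 4 → F, w = y 0 • v + y 1 • c1 + y 2 • c2 + y 3 • c3 := by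
    intro w
    refine ⟨Qi *ᵥ w, ?_⟩
    have h1 : w = Qm *ᵥ (Qi *ᵥ w) := by rw [mv, hQQi, Matrix.one_mulVec]
    have h3 : ∀ y : Fin 4 → F, Qm *ᵥ y = y 0 • v + y 1 • c1 + y 2 • c2 + y 3 • c3 := by
      intro y
      ext i
      simp only [Matrix.mulVec, dotProduct, Fin.sum_univ_four, hQ, Pi.add_apply, Pi.smul_apply,
        smul_eq_mul]
      simp
      ring
    rw [← h3]; exact h1
  obtain ⟨y, hy⟩ := hexp (B2 *ᵥ v)
  have hA1B2v : A1 *ᵥ (B2 *ᵥ v) = B2 *ᵥ v := by rw [mv, ← hb2a1, ← mv, hA1v]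
  have hy23 : y 2 = 0 ∧ y 3 = 0 := by
    have h1 := hA1B2v
    rw [hy] at h1
    simp only [Matrix.mulVec_add, Matrix.mulVec_smul, hA1v, a1c1, a1c2, a1c3] at h1
    have h3 : (2 : F) • (y 2 • c2 + y 3 • c3) = 0 := by linear_combination (norm := module) -h1
    have h4 : y 2 • c2 + y 3 • c3 = 0 := (smul_eq_zero.mp h3).resolve_left h2
    have h5 : y 2 • v + y 3 • c1 = 0 := by
      have := congrArg (fun w => B1 *ᵥ w) h4
      simp only [Matrix.mulVec_add, Matrix.mulVec_smul, b1c2, b1c3, Matrix.mulVec_zero] at this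
      exact this
    exact hLI2 _ _ h5
  set α := y 0 with hα
  set β := y 1 with hβ
  have b2c0 : B2 *ᵥ v = α • v + β • c1 := by
    rw [hy, hy23.1, hy23.2]; module
  have b2c1 : B2 *ᵥ c1 = β • v - α • c1 := by
    rw [hc1, mv, ← neg_neg (B2 * A2), ← h22, Matrix.neg_mulVec, ← mv, b2c0, Matrix.mulVec_add,
      Matrix.mulVec_smul, Matrix.mulVec_smul, a2c1]
    module
  have b2c2 : B2 *ᵥ c2 = α • c2 + β • c3 := by
    rw [hc2, mv, hb2b1, ← mv, b2c0, Matrix.mulVec_add, Matrix.mulVec_smul, Matrix.mulVec_smul]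
  have b2c3 : B2 *ᵥ c3 = β • c2 - α • c3 := by
    rw [hc3, mv, hb2b1, ← mv, b2c1, Matrix.mulVec_sub, Matrix.mulVec_smul, Matrix.mulVec_smul]
  have hαβ : α * α + β * β = -1 := by
    have h1 : B2 *ᵥ (B2 *ᵥ v) = -v := by rw [mv, hB2, Matrix.neg_mulVec, Matrix.one_mulVec]
    rw [b2c0, Matrix.mulVec_add, Matrix.mulVec_smul, Matrix.mulVec_smul, b2c0, b2c1] at h1
    have h3 : (α * α + β * β + 1) • v = 0 := by linear_combination (norm := module) h1
    have := (smul_eq_zero.mp h3).resolve_right hv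
    linear_combination this
  refine ⟨Q, α, β, hαβ, ?_, ?_, ?_, ?_⟩
  · apply mul_eq_mul_of_cols _ hQ
    intro k
    fin_cases k <;> simp [Fin.sum_univ_four, A1s, hA1v, a1c1, a1c2, a1c3]
  · apply mul_eq_mul_of_cols _ hQ
    intro k
    fin_cases k <;> simp [Fin.sum_univ_four, B1s, b1c0, b1c1, b1c2, b1c3]
  · apply mul_eq_mul_of_cols _ hQ
    intro k
    fin_cases k <;> simp [Fin.sum_univ_four, A2s, a2c0, a2c1, a2c2, a2c3]
  · apply mul_eq_mul_of_cols _ hQ
    intro k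
    fin_cases k <;> simp [Fin.sum_univ_four, B2s, b2c0, b2c1, b2c2, b2c3] <;> module

end Cfsg.Agent.Lib.Helper99.Sp4C
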