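import Mathlib
import Cfsg.Agent.Lib.Helper99.Sp4C

/-!
# Computations with the standard extraspecial group of minus type
-/

set_option autoImplicit false

namespace Cfsg.Agent.Lib.Helper99.Sp4D

open scoped Matrix
open Cfsg.Agent.Lib.Helper99.Sp4C

variable {F : Type*} [Field F] {α β h : F}

/-- the invariant alternating form (it coincides with one of the generators) -/
def J0 (F : Type*) [Field F] : Matrix (Fin 4) (Fin 4) F :=
  !![0, -1, 0, 0; 1, 0, 0, 0; 0, 0, 0, -1; 0, 0, 1, 0]

theorem J0_transpose_mul : (J0 F)ᵀ * J0 F = 1 := by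
  ext i j
  fin_cases i <;> fin_cases j <;> simp [J0, Matrix.mul_apply, Fin.sum_univ_four, Matrix.one_apply]

theorem J0_mul_transpose : J0 F * (J0 F)ᵀ = 1 := by
  ext i j
  fin_cases i <;> fin_cases j <;> simp [J0, Matrix.mul_apply, Fin.sum_univ_four, Matrix.one_apply]

theorem J0_transpose : (J0 F)ᵀ = -J0 F := by
  ext i j
  fin_cases i <;> fin_cases j <;> simp [J0]

theorem J0_det : (J0 F).det = 1 := by
  simp [J0, Matrix.det_succ_row_zero, Fin.sum_univ_succ, Fin.succAbove, Matrix.submatrix]

section invariance

theorem A1s_form : (A1s F)ᵀ * J0 F * A1s F = J0 F := by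
  ext i j
  fin_cases i <;> fin_cases j <;> simp [J0, A1s, Matrix.mul_apply, Fin.sum_univ_four]

theorem B1s_form : (B1s F)ᵀ * J0 F * B1s F = J0 F := by
  ext i j
  fin_cases i <;> fin_cases j <;> simp [J0, B1s, Matrix.mul_apply, Fin.sum_univ_four]

theorem A2s_form : (A2s F)ᵀ * J0 F * A2s F = J0 F := by
  ext i j
  fin_cases i <;> fin_cases j <;> simp [J0, A2s, Matrix.mul_apply, Fin.sum_univ_four]

theorem B2s_form (hαβ : α * α + β * β = -1) : (B2s α β)ᵀ * J0 F * B2s α β = J0 F := by
  ext i j
  fin_cases i <;> fin_cases j <;> simp [J0, B2s, Matrix.mul_apply, Fin.sum_univ_four] <;> grind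

end invariance

section relations

theorem A1s_sq : A1s F * A1s F = 1 := by
  ext i j
  fin_cases i <;> fin_cases j <;> simp [A1s, Matrix.mul_apply, Fin.sum_univ_four, Matrix.one_apply]

theorem B1s_sq : B1s F * B1s F = 1 := by
  ext i j
  fin_cases i <;> fin_cases j <;> simp [B1s, Matrix.mul_apply, Fin.sum_univ_four, Matrix.one_apply]

theorem A2s_sq : A2s F * A2s F = -1 := by
  ext i j
  fin_cases i <;> fin_cases j <;> simp [A2s, Matrix.mul_apply, Fin.sum_univ_four, Matrix.one_apply]

theorem B2s_sq (hαβ : α * α + β * β = -1) : B2s α β * B2s α β = -1 := by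
  ext i j
  fin_cases i <;> fin_cases j <;>
    simp [B2s, Matrix.mul_apply, Fin.sum_univ_four, Matrix.one_apply] <;> grind

end relations

/-- matrices commuting with the standard generators are scalar -/
theorem commutant_scalar (h2 : (2 : F) ≠ 0) (hαβ : α * α + β * β = -1) {M : Matrix (Fin 4) (Fin 4) F}
    (h1 : M * A1s F = A1s F * M) (h3 : M * B1s F = B1s F * M) (h4 : M * A2s F = A2s F * M)
    (h5 : M * B2s α β = B2s α β * M) : ∃ c : F, M = c • (1 : Matrix (Fin 4) (Fin 4) F) := by
  have e : ∀ (X : Matrix (Fin 4) (Fin 4) F) (hX : M * X = X * M) (i j : Fin 4),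
      ∑ k, M i k * X k j = ∑ k, X i k * M k j := by
    intro X hX i j
    have := congrFun (congrFun hX i) j
    simpa [Matrix.mul_apply] using this
  -- from `A1s`: block diagonal
  have z02 : M 0 2 = 0 := by
    have := e _ h1 0 2
    simp [A1s, Fin.sum_univ_four] at this
    have h' : (2 : F) * M 0 2 = 0 := by linear_combination -this
    exact (mul_eq_zero.mp h').resolve_left h2
  have z03 : M 0 3 = 0 := by
    have := e _ h1 0 3
    simp [A1s, Fin.sum_univ_four] at this
    have h' : (2 : F) * M 0 3 = 0 := by linear_combination -this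
    exact (mul_eq_zero.mp h').resolve_left h2
  have z12 : M 1 2 = 0 := by
    have := e _ h1 1 2
    simp [A1s, Fin.sum_univ_four] at this
    have h' : (2 : F) * M 1 2 = 0 := by linear_combination -this
    exact (mul_eq_zero.mp h').resolve_left h2
  have z13 : M 1 3 = 0 := by
    have := e _ h1 1 3
    simp [A1s, Fin.sum_univ_four] at this
    have h' : (2 : F) * M 1 3 = 0 := by linear_combination -this
    exact (mul_eq_zero.mp h').resolve_left h2
  have z20 : M 2 0 = 0 := by
    have := e _ h1 2 0
    simp [A1s, Fin.sum_univ_four] at this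
    have h' : (2 : F) * M 2 0 = 0 := by linear_combination this
    exact (mul_eq_zero.mp h').resolve_left h2
  have z21 : M 2 1 = 0 := by
    have := e _ h1 2 1
    simp [A1s, Fin.sum_univ_four] at this
    have h' : (2 : F) * M 2 1 = 0 := by linear_combination this
    exact (mul_eq_zero.mp h').resolve_left h2
  have z30 : M 3 0 = 0 := by
    have := e _ h1 3 0
    simp [A1s, Fin.sum_univ_four] at this
    have h' : (2 : F) * M 3 0 = 0 := by linear_combination this
    exact (mul_eq_zero.mp h').resolve_left h2
  have z31 : M 3 1 = 0 := by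
    have := e _ h1 3 1
    simp [A1s, Fin.sum_univ_four] at this
    have h' : (2 : F) * M 3 1 = 0 := by linear_combination this
    exact (mul_eq_zero.mp h').resolve_left h2
  -- from `B1s`: equal blocks
  have b00 : M 2 2 = M 0 0 := by
    have := e _ h3 0 2
    simp [B1s, Fin.sum_univ_four] at this
    exact this.symm
  have b01 : M 2 3 = M 0 1 := by
    have := e _ h3 0 3
    simp [B1s, Fin.sum_univ_four] at this
    exact this.symm
  have b10 : M 3 2 = M 1 0 := by
    have := e _ h3 1 2
    simp [B1s, Fin.sum_univ_four] at this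
    exact this.symm
  have b11 : M 3 3 = M 1 1 := by
    have := e _ h3 1 3
    simp [B1s, Fin.sum_univ_four] at this
    exact this.symm
  -- from `A2s`
  have a00 : M 0 1 = -M 1 0 := by
    have := e _ h4 0 0
    simp [A2s, Fin.sum_univ_four] at this
    linear_combination this
  have a01 : M 1 1 = M 0 0 := by
    have := e _ h4 0 1
    simp [A2s, Fin.sum_univ_four] at this
    exact this.symm
  -- from `B2s`
  have c00 := e _ h5 0 0
  have c01 := e _ h5 0 1
  simp [B2s, Fin.sum_univ_four] at c00 c01
  have hy : M 1 0 = 0 := by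
    have e1 : 2 * β * M 1 0 = 0 := by rw [a00] at c00; linear_combination -c00
    have e2 : 2 * α * M 1 0 = 0 := by rw [a00, a01] at c01; linear_combination c01
    by_contra hne
    have hb : β = 0 := by
      rcases mul_eq_zero.mp e1 with h' | h'
      · exact (mul_eq_zero.mp h').resolve_left h2
      · exact absurd h' hne
    have ha : α = 0 := by
      rcases mul_eq_zero.mp e2 with h' | h'
      · exact (mul_eq_zero.mp h').resolve_left h2
      · exact absurd h' hne
    rw [ha, hb] at hαβ
    simp at hαβ
  refine ⟨M 0 0, ?_⟩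
  ext i j
  fin_cases i <;> fin_cases j <;> simp [Matrix.one_apply] <;>
    first
      | assumption
      | (rw [a00, hy]; simp)
      | (rw [b01, a00, hy]; simp)
      | (rw [b10, hy])
      | exact a01
      | (rw [b11, a01])
      | exact b00
      | skip

end Cfsg.Agent.Lib.Helper99.Sp4D
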