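import Mathlib
import Cfsg.Agent.Lib.Helper99.Symp4C
import Cfsg.Agent.Lib.Helper99.Symp4B

set_option autoImplicit false

namespace Cfsg.Agent.Lib.Helper99.Symp4G

open scoped Matrix
open Cfsg.Agent.Lib.Helper99.Symp4C Cfsg.Agent.Lib.Helper99.Symp4B

theorem mem_normalizer_of_conj_mem {G : Type*} [Group G] {H : Subgroup G} [Finite H] {g : G}
    (h : ∀ x ∈ H, g * x * g⁻¹ ∈ H) : g ∈ Subgroup.normalizer (H : Set G) := by
  rw [Subgroup.mem_normalizer_iff]
  intro x
  refine ⟨h x, fun hx => ?_⟩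
  let φ : H → H := fun a => ⟨g * a * g⁻¹, h a a.2⟩
  have hinj : Function.Injective φ := by
    intro a b hab
    have := congrArg Subtype.val hab
    simp only [φ] at this
    apply Subtype.ext
    exact mul_left_cancel (mul_right_cancel this)
  obtain ⟨a, ha⟩ := (Finite.injective_iff_surjective.mp hinj) ⟨g * x * g⁻¹, hx⟩
  have := congrArg Subtype.val ha
  simp only [φ] at this
  have hax : (a : G) = x := mul_left_cancel (mul_right_cancel this)
  rw [← hax]; exact a.2

variable {F : Type*} [Field F]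

/-- the criterion for membership of the normaliser of the standard group -/
theorem mem_normalizer_of_gens [Finite F] {y : GL (Fin 4) F}
    (h10 : ∃ (c : F) (e f : Fin 4), c ^ 4 = 1 ∧
      (y : Matrix (Fin 4) (Fin 4) F) * W 1 0 = c • (W e f * (y : Matrix (Fin 4) (Fin 4) F)))
    (h20 : ∃ (c : F) (e f : Fin 4), c ^ 4 = 1 ∧
      (y : Matrix (Fin 4) (Fin 4) F) * W 2 0 = c • (W e f * (y : Matrix (Fin 4) (Fin 4) F)))
    (h01 : ∃ (c : F) (e f : Fin 4), c ^ 4 = 1 ∧
      (y : Matrix (Fin 4) (Fin 4) F) * W 0 1 = c • (W e f * (y : Matrix (Fin 4) (Fin 4) F)))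
    (h02 : ∃ (c : F) (e f : Fin 4), c ^ 4 = 1 ∧
      (y : Matrix (Fin 4) (Fin 4) F) * W 0 2 = c • (W e f * (y : Matrix (Fin 4) (Fin 4) F))) :
    y ∈ Subgroup.normalizer (R0 F : Set (GL (Fin 4) F)) := by
  have key : ∀ {e0 f0 : Fin 4}, (∃ (c : F) (e f : Fin 4), c ^ 4 = 1 ∧
      (y : Matrix (Fin 4) (Fin 4) F) * W e0 f0 = c • (W e f * (y : Matrix (Fin 4) (Fin 4) F))) →
      (Wg e0 f0 : GL (Fin 4) F) ∈ R0 F ⊓ (R0 F).comap (MulAut.conj y).toMonoidHom := by
    rintro e0 f0 ⟨c, e, f, hc, hrel⟩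
    rw [Subgroup.mem_inf]
    refine ⟨Wg_mem_R0 _ _, ?_⟩
    rw [Subgroup.mem_comap]
    refine ⟨c, e, f, hc, ?_⟩
    simp only [MulEquiv.coe_toMonoidHom, MulAut.conj_apply, Units.val_mul, Wg_val]
    rw [hrel, Matrix.smul_mul, mul_assoc, ← Units.val_mul, mul_inv_cancel, Units.val_one, mul_one]
  have hall := Wg_mem_of_gens (key h10) (key h20) (key h01) (key h02)
  have : Finite ↥(R0 F) := inferInstance
  apply mem_normalizer_of_conj_mem
  rintro g ⟨c, e, f, hc, hg⟩
  obtain ⟨_, h2⟩ := Subgroup.mem_inf.mp (hall e f)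
  rw [Subgroup.mem_comap] at h2
  obtain ⟨c', e', f', hc', hg'⟩ := h2
  simp only [MulEquiv.coe_toMonoidHom, MulAut.conj_apply, Units.val_mul, Wg_val] at hg'
  refine ⟨c * c', e', f', by rw [mul_pow, hc, hc', one_mul], ?_⟩
  rw [Units.val_mul, Units.val_mul, hg, Matrix.mul_smul, Matrix.smul_mul, hg', smul_smul]

/-- scalar matrices normalise everything -/
theorem scalar_mul_mem_normalizer {H : Subgroup (GL (Fin 4) F)} {y s : GL (Fin 4) F}
    (hy : y ∈ Subgroup.normalizer (H : Set (GL (Fin 4) F))) {z : F}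
    (hs : (s : Matrix (Fin 4) (Fin 4) F) = z • (1 : Matrix (Fin 4) (Fin 4) F)) :
    s * y ∈ Subgroup.normalizer (H : Set (GL (Fin 4) F)) := by
  have hcomm : ∀ g : GL (Fin 4) F, s * g = g * s := by
    intro g
    apply Units.ext
    rw [Units.val_mul, Units.val_mul, hs]
    simp
  rw [Subgroup.mem_normalizer_iff] at hy ⊢
  intro g
  rw [hy g]
  have : s * y * g * (s * y)⁻¹ = y * g * y⁻¹ := by
    calc s * y * g * (s * y)⁻¹ = s * (y * g * y⁻¹) * s⁻¹ := by group
      _ = (y * g * y⁻¹) * s * s⁻¹ := by rw [hcomm]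
      _ = _ := by group
  rw [this]

section explicit

variable (i h : F)

/-- the reflection -/
def sM : Matrix (Fin 4) (Fin 4) F :=
  !![h, -h, -h, -h; -h, h, -h, -h; -h, -h, h, -h; -h, -h, -h, h]

/-- the permutation matrix of a three-cycle -/
def pM : Matrix (Fin 4) (Fin 4) F :=
  !![1, 0, 0, 0; 0, 0, 0, 1; 0, 1, 0, 0; 0, 0, 1, 0]

/-- an element of order three without fixed vectors -/
def tM : Matrix (Fin 4) (Fin 4) F :=
  !![-h - h * i, -h - h * i, 0, 0; h - h * i, -h + h * i, 0, 0;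
     0, 0, -h - h * i, -h - h * i; 0, 0, h - h * i, -h + h * i]

/-- an element of order five -/
def yM : Matrix (Fin 4) (Fin 4) F :=
  !![0, h + h * i, h - h * i, 0; 0, -h - h * i, h - h * i, 0;
     -h - h * i, 0, 0, h - h * i; -h - h * i, 0, 0, -h + h * i]

/-- its square -/
def yM2 : Matrix (Fin 4) (Fin 4) F :=
  !![-h, -h * i, h, -h * i; -h, h * i, -h, -h * i; -h, -h * i, -h, h * i; h, -h * i, -h, -h * i]

/-- its fourth power -/
def yM4 : Matrix (Fin 4) (Fin 4) F :=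
  !![0, 0, -h + h * i, -h + h * i; h - h * i, -h + h * i, 0, 0;
     h + h * i, h + h * i, 0, 0; 0, 0, h + h * i, -h - h * i]

variable {i h}

theorem sM_sq (h2 : 2 * h = 1) : sM h * sM h = 1 := by
  ext k l
  fin_cases k <;> fin_cases l <;>
    simp [sM, Matrix.mul_apply, Fin.sum_univ_four, Matrix.one_apply] <;> grind

theorem sM_rel10 : sM h * W 1 0 = (-1 : F) • (W 1 2 * sM h) := by
  ext k l
  fin_cases k <;> fin_cases l <;>
    simp [sM, W_apply, xr, sg, sb, Matrix.mul_apply, Fin.sum_univ_four] <;> ring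

theorem sM_rel20 : sM h * W 2 0 = (-1 : F) • (W 2 1 * sM h) := by
  ext k l
  fin_cases k <;> fin_cases l <;>
    simp [sM, W_apply, xr, sg, sb, Matrix.mul_apply, Fin.sum_univ_four] <;> ring

theorem sM_rel01 : sM h * W 0 1 = (1 : F) • (W 0 1 * sM h) := by
  ext k l
  fin_cases k <;> fin_cases l <;>
    simp [sM, W_apply, xr, sg, sb, Matrix.mul_apply, Fin.sum_univ_four] <;> ring

theorem sM_rel02 : sM h * W 0 2 = (1 : F) • (W 0 2 * sM h) := by
  ext k l
  fin_cases k <;> fin_cases l <;>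
    simp [sM, W_apply, xr, sg, sb, Matrix.mul_apply, Fin.sum_univ_four] <;> ring

theorem pM_cube : (pM : Matrix (Fin 4) (Fin 4) F) * pM * pM = 1 := by
  ext k l
  fin_cases k <;> fin_cases l <;>
    simp [pM, Matrix.mul_apply, Fin.sum_univ_four, Matrix.one_apply]

theorem pM_rel10 : (pM : Matrix (Fin 4) (Fin 4) F) * W 1 0 = (1 : F) • (W 3 0 * pM) := by
  ext k l
  fin_cases k <;> fin_cases l <;>
    simp [pM, W_apply, xr, sg, sb, Matrix.mul_apply, Fin.sum_univ_four]

theorem pM_rel20 : (pM : Matrix (Fin 4) (Fin 4) F) * W 2 0 = (1 : F) • (W 1 0 * pM) := by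
  ext k l
  fin_cases k <;> fin_cases l <;>
    simp [pM, W_apply, xr, sg, sb, Matrix.mul_apply, Fin.sum_univ_four]

theorem pM_rel01 : (pM : Matrix (Fin 4) (Fin 4) F) * W 0 1 = (1 : F) • (W 0 2 * pM) := by
  ext k l
  fin_cases k <;> fin_cases l <;>
    simp [pM, W_apply, xr, sg, sb, Matrix.mul_apply, Fin.sum_univ_four]

theorem pM_rel02 : (pM : Matrix (Fin 4) (Fin 4) F) * W 0 2 = (1 : F) • (W 0 3 * pM) := by
  ext k l
  fin_cases k <;> fin_cases l <;>
    simp [pM, W_apply, xr, sg, sb, Matrix.mul_apply, Fin.sum_univ_four]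

theorem tM_quad (hi : i * i = -1) (h2 : 2 * h = 1) : tM i h * tM i h + tM i h + 1 = 0 := by
  ext k l
  fin_cases k <;> fin_cases l <;>
    simp [tM, Matrix.mul_apply, Fin.sum_univ_four, Matrix.one_apply, Matrix.add_apply] <;> grind

theorem tM_rel10 (hi : i * i = -1) : tM i h * W 1 0 = (-i) • (W 1 1 * tM i h) := by
  ext k l
  fin_cases k <;> fin_cases l <;>
    simp [tM, W_apply, xr, sg, sb, Matrix.mul_apply, Fin.sum_univ_four] <;> grind

theorem tM_rel20 : tM i h * W 2 0 = (1 : F) • (W 2 0 * tM i h) := by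
  ext k l
  fin_cases k <;> fin_cases l <;>
    simp [tM, W_apply, xr, sg, sb, Matrix.mul_apply, Fin.sum_univ_four] <;> ring

theorem tM_rel01 : tM i h * W 0 1 = (1 : F) • (W 1 0 * tM i h) := by
  ext k l
  fin_cases k <;> fin_cases l <;>
    simp [tM, W_apply, xr, sg, sb, Matrix.mul_apply, Fin.sum_univ_four] <;> ring

theorem tM_rel02 : tM i h * W 0 2 = (1 : F) • (W 0 2 * tM i h) := by
  ext k l
  fin_cases k <;> fin_cases l <;>
    simp [tM, W_apply, xr, sg, sb, Matrix.mul_apply, Fin.sum_univ_four] <;> ring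

theorem yM_sq (hi : i * i = -1) (h2 : 2 * h = 1) : yM i h * yM i h = yM2 i h := by
  ext k l
  fin_cases k <;> fin_cases l <;>
    simp [yM, yM2, Matrix.mul_apply, Fin.sum_univ_four] <;> grind

theorem yM2_sq (hi : i * i = -1) (h2 : 2 * h = 1) : yM2 i h * yM2 i h = yM4 i h := by
  ext k l
  fin_cases k <;> fin_cases l <;>
    simp [yM2, yM4, Matrix.mul_apply, Fin.sum_univ_four] <;> grind

theorem yM4_mul (hi : i * i = -1) (h2 : 2 * h = 1) : yM4 i h * yM i h = 1 := by
  ext k l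
  fin_cases k <;> fin_cases l <;>
    simp [yM, yM4, Matrix.mul_apply, Fin.sum_univ_four, Matrix.one_apply] <;> grind

theorem yM_rel10 : yM i h * W 1 0 = (1 : F) • (W 0 1 * yM i h) := by
  ext k l
  fin_cases k <;> fin_cases l <;>
    simp [yM, W_apply, xr, sg, sb, Matrix.mul_apply, Fin.sum_univ_four] <;> ring

theorem yM_rel20 : yM i h * W 2 0 = (-1 : F) • (W 2 1 * yM i h) := by
  ext k l
  fin_cases k <;> fin_cases l <;>
    simp [yM, W_apply, xr, sg, sb, Matrix.mul_apply, Fin.sum_univ_four] <;> ring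

theorem yM_rel01 : yM i h * W 0 1 = (-1 : F) • (W 3 3 * yM i h) := by
  ext k l
  fin_cases k <;> fin_cases l <;>
    simp [yM, W_apply, xr, sg, sb, Matrix.mul_apply, Fin.sum_univ_four] <;> grind

theorem yM_rel02 (hi : i * i = -1) : yM i h * W 0 2 = i • (W 2 2 * yM i h) := by
  ext k l
  fin_cases k <;> fin_cases l <;>
    simp [yM, W_apply, xr, sg, sb, Matrix.mul_apply, Fin.sum_univ_four] <;> grind

end explicit

end Cfsg.Agent.Lib.Helper99.Symp4G
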