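import Mathlib
import Cfsg.Agent.Lib.Helper99.Symp4L
import Cfsg.Agent.Lib.Helper99.Symp4H

set_option autoImplicit false

namespace Cfsg.Agent.Lib.Helper99.Symp4I

open scoped Matrix
open Polynomial
open Cfsg.Agent.Lib.Helper99.Symp4L Cfsg.Agent.Lib.Helper99.Symp4H

variable {F : Type*} [Field F]

/-- the columns of a cyclic basis -/
def cyc (x : Matrix (Fin 4) (Fin 4) F) (v : Fin 4 → F) : Fin 4 → Fin 4 → F :=
  fun k => (x ^ (k : ℕ)) *ᵥ v

theorem cyc_LI (hirr : Irreducible (cyclotomic 5 F)) {x : Matrix (Fin 4) (Fin 4) F} {v : Fin 4 → F}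
    (hv : v ≠ 0) (hN : (1 + x + x ^ 2 + x ^ 3 + x ^ 4) *ᵥ v = 0) :
    ∀ c : Fin 4 → F, (∑ k, c k • cyc x v k) = 0 → c = 0 := by
  intro c hc
  set q : F[X] := C (c 3) * X ^ 3 + C (c 2) * X ^ 2 + C (c 1) * X + C (c 0) with hq
  have hqx : aeval x q = c 3 • x ^ 3 + c 2 • x ^ 2 + c 1 • x + c 0 • 1 := by
    simp [hq, Algebra.algebraMap_eq_smul_one]
  have hΦx : aeval x (cyclotomic 5 F) = 1 + x + x ^ 2 + x ^ 3 + x ^ 4 := by
    have : Fact (Nat.Prime 5) := ⟨by norm_num⟩
    rw [cyclotomic_prime]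
    simp [Finset.sum_range_succ]
  have hqv : (aeval x q) *ᵥ v = 0 := by
    rw [hqx, ← hc]
    simp only [cyc, Fin.sum_univ_four, Matrix.add_mulVec, Matrix.smul_mulVec]
    simp
    abel
  have hq0 : q = 0 := by
    by_contra hne
    have hnd : ¬ cyclotomic 5 F ∣ q := by
      intro hd
      apply hne
      apply Polynomial.eq_zero_of_dvd_of_natDegree_lt hd
      rw [natDegree_cyclotomic]
      have : q.natDegree ≤ 3 := by rw [hq]; exact natDegree_cubic_le
      have : Nat.totient 5 = 4 := by decide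
      omega
    obtain ⟨a, b, hab⟩ := (hirr.coprime_iff_not_dvd).mpr hnd
    have h1 := congrArg (fun r => (aeval x r) *ᵥ v) hab
    simp only [map_add, map_mul, map_one, Matrix.add_mulVec, Matrix.one_mulVec,
      ← Matrix.mulVec_mulVec, hΦx, hN, hqv, Matrix.mulVec_zero, add_zero] at h1
    exact hv h1.symm
  have h0 : c 0 = 0 := by
    have := congrArg (fun r => r.coeff 0) hq0
    simpa [hq] using this
  have h1 : c 1 = 0 := by
    have := congrArg (fun r => r.coeff 1) hq0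
    simpa [hq, coeff_X, coeff_C] using this
  have h2 : c 2 = 0 := by
    have := congrArg (fun r => r.coeff 2) hq0
    simpa [hq, coeff_X, coeff_C, coeff_X_pow] using this
  have h3 : c 3 = 0 := by
    have := congrArg (fun r => r.coeff 3) hq0
    simpa [hq, coeff_X, coeff_C, coeff_X_pow] using this
  funext k
  fin_cases k <;> assumption

/-- the companion matrix of the fifth cyclotomic polynomial -/
def C5 (F : Type*) [Field F] : Matrix (Fin 4) (Fin 4) F :=
  !![0, 0, 0, -1; 1, 0, 0, -1; 0, 1, 0, -1; 0, 0, 1, -1]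

theorem cyc_rel {x : Matrix (Fin 4) (Fin 4) F} (hN : 1 + x + x ^ 2 + x ^ 3 + x ^ 4 = 0)
    {P : Matrix (Fin 4) (Fin 4) F} {v : Fin 4 → F} (hP : ∀ i k, P i k = cyc x v k i) :
    x * P = P * C5 F := by
  apply mul_eq_mul_of_cols _ hP
  have hx4 : x ^ 4 = -(1 + x + x ^ 2 + x ^ 3) := by
    apply eq_neg_of_add_eq_zero_right
    rw [← hN]
  have e0 : x *ᵥ cyc x v 0 = cyc x v 1 := by
    simp only [cyc, Matrix.mulVec_mulVec]; simp
  have e1 : x *ᵥ cyc x v 1 = cyc x v 2 := by
    simp only [cyc, Matrix.mulVec_mulVec]; simp [pow_two]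
  have e2 : x *ᵥ cyc x v 2 = cyc x v 3 := by
    simp only [cyc, Matrix.mulVec_mulVec]
    have : x * x ^ ((2 : Fin 4) : ℕ) = x ^ ((3 : Fin 4) : ℕ) := by
      rw [← pow_succ']; rfl
    rw [this]
  have e3 : x *ᵥ cyc x v 3 = -(cyc x v 0 + cyc x v 1 + cyc x v 2 + cyc x v 3) := by
    simp only [cyc, Matrix.mulVec_mulVec]
    have : x * x ^ ((3 : Fin 4) : ℕ) = x ^ 4 := by
      rw [← pow_succ']; rfl
    rw [this, hx4]
    simp [Matrix.neg_mulVec, Matrix.add_mulVec]
  intro k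
  fin_cases k
  · show x *ᵥ cyc x v 0 = ∑ j, C5 F j 0 • cyc x v j
    rw [e0]; simp [Fin.sum_univ_four, C5]
  · show x *ᵥ cyc x v 1 = ∑ j, C5 F j 1 • cyc x v j
    rw [e1]; simp [Fin.sum_univ_four, C5]
  · show x *ᵥ cyc x v 2 = ∑ j, C5 F j 2 • cyc x v j
    rw [e2]; simp [Fin.sum_univ_four, C5]
  · show x *ᵥ cyc x v 3 = ∑ j, C5 F j 3 • cyc x v j
    rw [e3]; simp [Fin.sum_univ_four, C5]; abel

theorem cyc_N_zero (hirr : Irreducible (cyclotomic 5 F)) {x : Matrix (Fin 4) (Fin 4) F}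
    (hx5 : x ^ 5 = 1) (hx1 : x ≠ 1) : 1 + x + x ^ 2 + x ^ 3 + x ^ 4 = 0 := by
  by_contra hne
  set Nx := 1 + x + x ^ 2 + x ^ 3 + x ^ 4 with hNx
  have h1 : Nx * (x - 1) = 0 := by
    have : Nx * (x - 1) = x ^ 5 - 1 := by rw [hNx]; noncomm_ring
    rw [this, hx5, sub_self]
  have h2 : Nx * x = Nx := by
    have : Nx * x = Nx * (x - 1) + Nx := by noncomm_ring
    rw [this, h1, zero_add]
  have h3 : ∀ k : ℕ, Nx * x ^ k = Nx := by
    intro k
    induction k with
    | zero => simp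
    | succ k ih => rw [pow_succ, ← mul_assoc, ih, h2]
  obtain ⟨u, hu⟩ := exists_mulVec_ne_zero (sub_ne_zero.mpr hx1)
  set w := (x - 1) *ᵥ u with hw
  have hNw : Nx *ᵥ w = 0 := by rw [hw, Matrix.mulVec_mulVec, h1, Matrix.zero_mulVec]
  have hLI := cyc_LI hirr hu hNw
  obtain ⟨P, hP⟩ := exists_GL_of_cols _ hLI
  have hEP : Nx * (P : Matrix (Fin 4) (Fin 4) F) = (P : Matrix (Fin 4) (Fin 4) F) * 0 := by
    apply mul_eq_mul_of_cols _ hP
    intro k
    simp only [cyc, Matrix.mulVec_mulVec, h3, hNw]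
    simp
  rw [mul_zero] at hEP
  apply hne
  have := congrArg (fun X => X * ((P⁻¹ : GL (Fin 4) F) : Matrix (Fin 4) (Fin 4) F)) hEP
  simpa [mul_assoc] using this

/-- the determinant of the cyclic basis attached to `v` -/
noncomputable def cycDet (x : Matrix (Fin 4) (Fin 4) F) (v : Fin 4 → F) : F :=
  (Matrix.of fun i k => cyc x v k i : Matrix (Fin 4) (Fin 4) F).det

theorem cycDet_smul (x : Matrix (Fin 4) (Fin 4) F) (a : F) (v : Fin 4 → F) :
    cycDet x (a • v) = a ^ 4 * cycDet x v := by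
  unfold cycDet
  have : (Matrix.of fun i k => cyc x (a • v) k i : Matrix (Fin 4) (Fin 4) F) =
      a • (Matrix.of fun i k => cyc x v k i : Matrix (Fin 4) (Fin 4) F) := by
    ext i k
    simp [cyc, Matrix.mulVec_smul]
  rw [this, Matrix.det_smul]
  simp

theorem cycDet_zero (x : Matrix (Fin 4) (Fin 4) F) : cycDet x 0 = 0 := by
  unfold cycDet
  have : (Matrix.of fun i k => cyc x 0 k i : Matrix (Fin 4) (Fin 4) F) = 0 := by
    ext i k
    simp [cyc]
  rw [this, Matrix.det_zero]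

/-- surjectivity of the norm form, by the Chevalley-Warning theorem -/
theorem exists_cycDet_eq [Fintype F] {p : ℕ} [Fact p.Prime] [CharP F p]
    (x : Matrix (Fin 4) (Fin 4) F) (hD : ∀ v : Fin 4 → F, v ≠ 0 → cycDet x v ≠ 0) {δ : F} (hδ : δ ≠ 0) :
    ∃ v : Fin 4 → F, cycDet x v = δ := by
  classical
  let Mp : Matrix (Fin 4) (Fin 4) (MvPolynomial (Option (Fin 4)) F) :=
    Matrix.of fun i k => ∑ j, MvPolynomial.C ((x ^ (k : ℕ)) i j) * MvPolynomial.X (some j)
  have hentry : ∀ i k, (Mp i k).totalDegree ≤ 1 := by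
    intro i k
    show (∑ j, MvPolynomial.C ((x ^ (k : ℕ)) i j) * MvPolynomial.X (some j) :
      MvPolynomial (Option (Fin 4)) F).totalDegree ≤ 1
    apply MvPolynomial.totalDegree_finsetSum_le
    intro j _
    refine (MvPolynomial.totalDegree_mul _ _).trans ?_
    rw [MvPolynomial.totalDegree_C, MvPolynomial.totalDegree_X]
  have hdet : Mp.det.totalDegree ≤ 4 := by
    rw [Matrix.det_apply']
    apply MvPolynomial.totalDegree_finsetSum_le
    intro τ _
    refine (MvPolynomial.totalDegree_mul _ _).trans ?_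
    have h1 : ((Equiv.Perm.sign τ : ℤ) : MvPolynomial (Option (Fin 4)) F).totalDegree = 0 := by
      rw [← map_intCast (MvPolynomial.C (σ := Option (Fin 4)) (R := F)), MvPolynomial.totalDegree_C]
    rw [h1, zero_add]
    refine (MvPolynomial.totalDegree_finsetProd _ _).trans ?_
    calc ∑ i : Fin 4, (Mp (τ i) i).totalDegree ≤ ∑ _i : Fin 4, 1 :=
          Finset.sum_le_sum (fun i _ => hentry _ _)
      _ = 4 := by simp
  set f : MvPolynomial (Option (Fin 4)) F :=
    Mp.det - MvPolynomial.C δ * MvPolynomial.X none ^ 4 with hf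
  have hfdeg : f.totalDegree < Fintype.card (Option (Fin 4)) := by
    have h1 : f.totalDegree ≤ 4 := by
      refine (MvPolynomial.totalDegree_sub _ _).trans (max_le hdet ?_)
      refine (MvPolynomial.totalDegree_mul _ _).trans ?_
      rw [MvPolynomial.totalDegree_C, MvPolynomial.totalDegree_X_pow, zero_add]
    have h2 : Fintype.card (Option (Fin 4)) = 5 := by simp
    omega
  have heval : ∀ u : Option (Fin 4) → F,
      MvPolynomial.eval u f = cycDet x (fun j => u (some j)) - δ * u none ^ 4 := by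
    intro u
    rw [hf, map_sub, RingHom.map_det]
    congr 1
    · unfold cycDet
      congr 1
      ext i k
      simp [Mp, cyc, Matrix.mulVec, dotProduct]
    · simp
  have hdvd := char_dvd_card_solutions p hfdeg
  have hzero : MvPolynomial.eval (0 : Option (Fin 4) → F) f = 0 := by
    rw [heval]
    have : cycDet x (fun j => (0 : Option (Fin 4) → F) (some j)) = 0 := cycDet_zero x
    rw [this]
    simp
  have hcard : 1 < Fintype.card {u : Option (Fin 4) → F // MvPolynomial.eval u f = 0} := by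
    have hpos : 0 < Fintype.card {u : Option (Fin 4) → F // MvPolynomial.eval u f = 0} :=
      Fintype.card_pos_iff.mpr ⟨⟨0, hzero⟩⟩
    have hp2 : 2 ≤ p := (Fact.out : p.Prime).two_le
    have := Nat.le_of_dvd hpos hdvd
    omega
  obtain ⟨⟨u, hu⟩, hune⟩ := Fintype.exists_ne_of_one_lt_card hcard ⟨0, hzero⟩
  have hu0 : u ≠ 0 := fun h => hune (Subtype.ext h)
  rw [heval] at hu
  set v : Fin 4 → F := fun j => u (some j) with hv
  have hw : u none ≠ 0 := by
    intro hw0
    rw [hw0] at hu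
    have hDv : cycDet x v = 0 := by
      have : cycDet x v - δ * 0 ^ 4 = 0 := hu
      simpa using this
    have hv0 : v = 0 := by
      by_contra hne
      exact hD v hne hDv
    apply hu0
    funext o
    cases o with
    | none => exact hw0
    | some j => exact congrFun hv0 j
  refine ⟨(u none)⁻¹ • v, ?_⟩
  rw [cycDet_smul]
  have : cycDet x v = δ * u none ^ 4 := sub_eq_zero.mp hu
  rw [this, inv_pow]
  field_simp

theorem exists_conj_C5 [Fintype F] {p : ℕ} [Fact p.Prime] [CharP F p]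
    (hirr : Irreducible (cyclotomic 5 F)) {x : Matrix (Fin 4) (Fin 4) F} (hx5 : x ^ 5 = 1) (hx1 : x ≠ 1)
    {δ : F} (hδ : δ ≠ 0) :
    ∃ P : GL (Fin 4) F, (P : Matrix (Fin 4) (Fin 4) F).det = δ ∧
      x * (P : Matrix (Fin 4) (Fin 4) F) = (P : Matrix (Fin 4) (Fin 4) F) * C5 F := by
  have hN := cyc_N_zero hirr hx5 hx1
  have hGL : ∀ v : Fin 4 → F, v ≠ 0 → ∃ P : GL (Fin 4) F,
      (P : Matrix (Fin 4) (Fin 4) F).det = cycDet x v ∧
      x * (P : Matrix (Fin 4) (Fin 4) F) = (P : Matrix (Fin 4) (Fin 4) F) * C5 F := by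
    intro v hv
    have hLI := cyc_LI hirr hv (by rw [hN, Matrix.zero_mulVec])
    obtain ⟨P, hP⟩ := exists_GL_of_cols _ hLI
    refine ⟨P, ?_, cyc_rel hN hP⟩
    unfold cycDet
    congr 1
    ext i k
    exact hP i k
  have hD : ∀ v : Fin 4 → F, v ≠ 0 → cycDet x v ≠ 0 := by
    intro v hv
    obtain ⟨P, hPdet, _⟩ := hGL v hv
    rw [← hPdet]
    have : IsUnit (P : Matrix (Fin 4) (Fin 4) F) := ⟨P, rfl⟩
    exact ((Matrix.isUnit_iff_isUnit_det _).mp this).ne_zero
  obtain ⟨v, hv⟩ := exists_cycDet_eq (p := p) x hD hδ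
  have hv0 : v ≠ 0 := by
    intro h0
    rw [h0, cycDet_zero] at hv
    exact hδ hv.symm
  obtain ⟨P, hPdet, hrel⟩ := hGL v hv0
  exact ⟨P, by rw [hPdet, hv], hrel⟩

end Cfsg.Agent.Lib.Helper99.Symp4I
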