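import Mathlib
import Cfsg.Prelude.Def_GeometricClasses
import Cfsg.Agent.Lib.Helper99.Symp4C
import Cfsg.Agent.Lib.Helper99.Symp4G
import Cfsg.Agent.Lib.Helper99.Symp4H
import Cfsg.Agent.Lib.Helper99.Symp4I

set_option autoImplicit false

namespace Cfsg.Agent.Lib.Helper99.Symp4J

open scoped Matrix
open Cfsg.Agent.Lib.Helper99.Symp4C Cfsg.Agent.Lib.Helper99.Symp4G Cfsg.Agent.Lib.Helper99.Symp4H
open Cfsg.Agent.Lib.Helper99.Symp4I

variable {F : Type*} [Field F]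

theorem mem_SL_iff {g : GL (Fin 4) F} :
    g ∈ Cfsg.Geo.specialLinear (Fin 4) F ↔ (g : Matrix (Fin 4) (Fin 4) F).det = 1 := by
  unfold Cfsg.Geo.specialLinear
  rw [MonoidHom.mem_ker, Units.ext_iff]
  simp

/-- transfer of the normaliser along the change of basis -/
theorem normalizer_transfer {R : Subgroup (GL (Fin 4) F)} {P : GL (Fin 4) F}
    (hP : ∀ g : GL (Fin 4) F, g ∈ R ↔ P⁻¹ * g * P ∈ R0 F) (n : GL (Fin 4) F) :
    n ∈ Cfsg.Geo.subgroupNormalizer R ↔ P⁻¹ * n * P ∈ Subgroup.normalizer (R0 F : Set (GL (Fin 4) F)) := by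
  unfold Cfsg.Geo.subgroupNormalizer
  rw [Subgroup.mem_normalizer_iff, Subgroup.mem_normalizer_iff]
  constructor
  · intro h g
    have h1 := h (P * g * P⁻¹)
    rw [hP, hP] at h1
    have e1 : P⁻¹ * (P * g * P⁻¹) * P = g := by group
    have e2 : P⁻¹ * (n * (P * g * P⁻¹) * n⁻¹) * P = P⁻¹ * n * P * g * (P⁻¹ * n * P)⁻¹ := by group
    rw [e1, e2] at h1
    exact h1
  · intro h g
    have h1 := h (P⁻¹ * g * P)
    rw [hP, hP]
    have e2 : P⁻¹ * (n * g * n⁻¹) * P = P⁻¹ * n * P * (P⁻¹ * g * P) * (P⁻¹ * n * P)⁻¹ := by group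
    rw [e2]
    exact h1

theorem val_inv_mul (k : GL (Fin 4) F) :
    ((k⁻¹ : GL (Fin 4) F) : Matrix (Fin 4) (Fin 4) F) * (k : Matrix (Fin 4) (Fin 4) F) = 1 := by
  rw [← Units.val_mul, inv_mul_cancel, Units.val_one]

theorem val_mul_inv (k : GL (Fin 4) F) :
    (k : Matrix (Fin 4) (Fin 4) F) * ((k⁻¹ : GL (Fin 4) F) : Matrix (Fin 4) (Fin 4) F) = 1 := by
  rw [← Units.val_mul, mul_inv_cancel, Units.val_one]

theorem det_val_inv (k : GL (Fin 4) F) :
    ((k⁻¹ : GL (Fin 4) F) : Matrix (Fin 4) (Fin 4) F).det = ((k : Matrix (Fin 4) (Fin 4) F).det)⁻¹ := by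
  have := congrArg Matrix.det (val_mul_inv k)
  rw [Matrix.det_mul, Matrix.det_one] at this
  exact (eq_inv_of_mul_eq_one_right this)

theorem det_val_ne_zero (k : GL (Fin 4) F) : (k : Matrix (Fin 4) (Fin 4) F).det ≠ 0 := by
  intro h0
  have := congrArg Matrix.det (val_mul_inv k)
  rw [Matrix.det_mul, Matrix.det_one, h0, zero_mul] at this
  exact zero_ne_one this

/-- the reduction of the conjugacy statement to canonical forms -/
theorem reduce' (P : GL (Fin 4) F) {x y : GL (Fin 4) F}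
    (hy : y ∈ Subgroup.normalizer (R0 F : Set (GL (Fin 4) F))) {l : F} (hl : l ≠ 0)
    (C : Matrix (Fin 4) (Fin 4) F)
    (hxC : ∀ δ : F, δ ≠ 0 → ∃ h : GL (Fin 4) F, (h : Matrix (Fin 4) (Fin 4) F).det = δ ∧
      (l • (x : Matrix (Fin 4) (Fin 4) F)) * (h : Matrix (Fin 4) (Fin 4) F) =
        (h : Matrix (Fin 4) (Fin 4) F) * C)
    (hyC : ∃ k : GL (Fin 4) F, (y : Matrix (Fin 4) (Fin 4) F) * (k : Matrix (Fin 4) (Fin 4) F) =
      (k : Matrix (Fin 4) (Fin 4) F) * C) :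
    ∃ g : GL (Fin 4) F, (g : Matrix (Fin 4) (Fin 4) F).det = 1 ∧
      P⁻¹ * (g⁻¹ * x * g) * P ∈ Subgroup.normalizer (R0 F : Set (GL (Fin 4) F)) := by
  obtain ⟨k, hk⟩ := hyC
  have hPd := det_val_ne_zero P
  have hkd := det_val_ne_zero k
  obtain ⟨h, hdet, hrel⟩ := hxC ((P : Matrix (Fin 4) (Fin 4) F).det * (k : Matrix (Fin 4) (Fin 4) F).det)
    (mul_ne_zero hPd hkd)
  refine ⟨h * k⁻¹ * P⁻¹, ?_, ?_⟩
  · rw [Units.val_mul, Units.val_mul, Matrix.det_mul, Matrix.det_mul, hdet, det_val_inv, det_val_inv]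
    field_simp
  · set n := k * h⁻¹ * x * h * k⁻¹ with hn
    have e1 : P⁻¹ * ((h * k⁻¹ * P⁻¹)⁻¹ * x * (h * k⁻¹ * P⁻¹)) * P = n := by rw [hn]; group
    rw [e1]
    have hxh : (x : Matrix (Fin 4) (Fin 4) F) * (h : Matrix (Fin 4) (Fin 4) F) =
        l⁻¹ • ((h : Matrix (Fin 4) (Fin 4) F) * C) := by
      rw [← hrel, Matrix.smul_mul, smul_smul, inv_mul_cancel₀ hl, one_smul]
    have hnk : (n : Matrix (Fin 4) (Fin 4) F) * (k : Matrix (Fin 4) (Fin 4) F) =
        (l⁻¹ • (y : Matrix (Fin 4) (Fin 4) F)) * (k : Matrix (Fin 4) (Fin 4) F) := by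
      have : n * k = k * h⁻¹ * (x * h) := by rw [hn]; group
      rw [← Units.val_mul, this, Units.val_mul, Units.val_mul, Units.val_mul, hxh, Matrix.mul_smul,
        mul_assoc, ← mul_assoc (((h⁻¹ : GL (Fin 4) F)) : Matrix (Fin 4) (Fin 4) F), val_inv_mul, one_mul,
        Matrix.smul_mul, hk]
    have hnv : (n : Matrix (Fin 4) (Fin 4) F) = l⁻¹ • (y : Matrix (Fin 4) (Fin 4) F) := by
      have := congrArg (fun X => X * ((k⁻¹ : GL (Fin 4) F) : Matrix (Fin 4) (Fin 4) F)) hnk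
      simpa [mul_assoc, val_mul_inv] using this
    have hs : ((n * y⁻¹ : GL (Fin 4) F) : Matrix (Fin 4) (Fin 4) F) = l⁻¹ • (1 : Matrix (Fin 4) (Fin 4) F) := by
      rw [Units.val_mul, hnv, Matrix.smul_mul, val_mul_inv]
    have : n = (n * y⁻¹) * y := by group
    rw [this]
    exact scalar_mul_mem_normalizer hy hs

/-- adjusting the determinant with the centraliser of the canonical form -/
theorem adjust_det {x' C : Matrix (Fin 4) (Fin 4) F} {P' : GL (Fin 4) F}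
    (hx : x' * (P' : Matrix (Fin 4) (Fin 4) F) = (P' : Matrix (Fin 4) (Fin 4) F) * C)
    (hc : ∀ a : F, a ≠ 0 → ∃ c : GL (Fin 4) F, (c : Matrix (Fin 4) (Fin 4) F).det = a ∧
      (c : Matrix (Fin 4) (Fin 4) F) * C = C * (c : Matrix (Fin 4) (Fin 4) F)) :
    ∀ δ : F, δ ≠ 0 → ∃ h : GL (Fin 4) F, (h : Matrix (Fin 4) (Fin 4) F).det = δ ∧
      x' * (h : Matrix (Fin 4) (Fin 4) F) = (h : Matrix (Fin 4) (Fin 4) F) * C := by
  intro δ hδ
  have hPd := det_val_ne_zero P'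
  obtain ⟨c, hcd, hcc⟩ := hc (δ / (P' : Matrix (Fin 4) (Fin 4) F).det) (div_ne_zero hδ hPd)
  refine ⟨P' * c, ?_, ?_⟩
  · rw [Units.val_mul, Matrix.det_mul, hcd]; field_simp
  · rw [Units.val_mul, ← mul_assoc, hx, mul_assoc, mul_assoc, hcc]

/-- diagonal scaling matrices -/
theorem exists_diag_scale (j : Fin 4) (a : F) (ha : a ≠ 0) :
    ∃ c : GL (Fin 4) F, (c : Matrix (Fin 4) (Fin 4) F) = Matrix.diagonal (Function.update (fun _ => (1 : F)) j a) ∧
      (c : Matrix (Fin 4) (Fin 4) F).det = a := by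
  have hdet : (Matrix.diagonal (Function.update (fun _ => (1 : F)) j a)).det = a := by
    rw [Matrix.det_diagonal, Finset.prod_update_of_mem (Finset.mem_univ j)]
    simp
  refine ⟨Matrix.GeneralLinearGroup.mkOfDetNeZero
    (Matrix.diagonal (Function.update (fun _ => (1 : F)) j a)) (by rw [hdet]; exact ha), rfl, ?_⟩
  exact hdet

theorem centralizer_diag (d : Fin 4 → F) (a : F) (ha : a ≠ 0) :
    ∃ c : GL (Fin 4) F, (c : Matrix (Fin 4) (Fin 4) F).det = a ∧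
      (c : Matrix (Fin 4) (Fin 4) F) * Matrix.diagonal d = Matrix.diagonal d * (c : Matrix (Fin 4) (Fin 4) F) := by
  obtain ⟨c, hc, hdet⟩ := exists_diag_scale 0 a ha
  refine ⟨c, hdet, ?_⟩
  rw [hc, Matrix.diagonal_mul_diagonal, Matrix.diagonal_mul_diagonal]
  congr 1
  funext k
  exact mul_comm _ _

theorem centralizer_TC (a : F) (ha : a ≠ 0) :
    ∃ c : GL (Fin 4) F, (c : Matrix (Fin 4) (Fin 4) F).det = a ∧
      (c : Matrix (Fin 4) (Fin 4) F) * TC F = TC F * (c : Matrix (Fin 4) (Fin 4) F) := by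
  obtain ⟨c, hc, hdet⟩ := exists_diag_scale 2 a ha
  refine ⟨c, hdet, ?_⟩
  rw [hc]
  ext k l
  fin_cases k <;> fin_cases l <;>
    simp [TC, Matrix.mul_apply, Fin.sum_univ_four, Matrix.diagonal_apply, Function.update]

/-- the norm form of the quadratic extension is universal -/
theorem exists_norm_eq [Fintype F] (h2 : (2 : F) ≠ 0) (h3 : (3 : F) ≠ 0) (a : F) :
    ∃ u v : F, u * u - u * v + v * v = a := by
  have hcard : Fintype.card F % 2 = 1 := by
    rcases Nat.mod_two_eq_zero_or_one (Fintype.card F) with h | h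
    · exfalso
      have hch := FiniteField.even_card_iff_char_two.mpr h
      have h2' : (2 : F) = 0 := by
        have := ringChar.spec F 2
        rw [hch] at this
        exact_mod_cast (this.mpr dvd_rfl)
      exact h2 h2'
    · exact h
  obtain ⟨hh, hhe⟩ : ∃ hh : F, 2 * hh = 1 := ⟨2⁻¹, mul_inv_cancel₀ h2⟩
  have hh0 : hh ≠ 0 := by
    intro h0; rw [h0, mul_zero] at hhe; exact zero_ne_one hhe
  have h34 : (3 * hh * hh : F) ≠ 0 := mul_ne_zero (mul_ne_zero h3 hh0) hh0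
  have hf : (Polynomial.X ^ 2 : Polynomial F).degree = 2 := by
    rw [Polynomial.degree_X_pow]; rfl
  have hg : (Polynomial.C (3 * hh * hh : F) * Polynomial.X ^ 2 - Polynomial.C a).degree = 2 := by
    rw [Polynomial.degree_sub_C]
    · rw [Polynomial.degree_C_mul_X_pow 2 h34]; rfl
    · rw [Polynomial.degree_C_mul_X_pow 2 h34]; decide
  obtain ⟨s, t, hst⟩ := FiniteField.exists_root_sum_quadratic hf hg hcard
  simp only [Polynomial.eval_pow, Polynomial.eval_X, Polynomial.eval_sub, Polynomial.eval_mul,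
    Polynomial.eval_C] at hst
  refine ⟨s + t * hh, t, ?_⟩
  grind

theorem centralizer_QC [Fintype F] (h2 : (2 : F) ≠ 0) (h3 : (3 : F) ≠ 0) (a : F) (ha : a ≠ 0) :
    ∃ c : GL (Fin 4) F, (c : Matrix (Fin 4) (Fin 4) F).det = a ∧
      (c : Matrix (Fin 4) (Fin 4) F) * QC (-1 : F) (-1) = QC (-1 : F) (-1) * (c : Matrix (Fin 4) (Fin 4) F) := by
  obtain ⟨u, v, huv⟩ := exists_norm_eq h2 h3 a
  have hdet : (!![u, -v, 0, 0; v, u - v, 0, 0; 0, 0, 1, 0; 0, 0, 0, 1] : Matrix (Fin 4) (Fin 4) F).det = a := by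
    rw [← huv]
    simp [Matrix.det_succ_row_zero, Fin.sum_univ_succ, Fin.succAbove, Matrix.submatrix]
    ring
  refine ⟨Matrix.GeneralLinearGroup.mkOfDetNeZero _ (by rw [hdet]; exact ha), hdet, ?_⟩
  show (!![u, -v, 0, 0; v, u - v, 0, 0; 0, 0, 1, 0; 0, 0, 0, 1] : Matrix (Fin 4) (Fin 4) F) * QC (-1 : F) (-1) =
    QC (-1 : F) (-1) * !![u, -v, 0, 0; v, u - v, 0, 0; 0, 0, 1, 0; 0, 0, 0, 1]
  ext k l
  fin_cases k <;> fin_cases l <;>
    simp [QC, Matrix.mul_apply, Fin.sum_univ_four] <;> ring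

end Cfsg.Agent.Lib.Helper99.Symp4J
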