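import Mathlib
import Cfsg.Agent.Lib.Helper99.Sp4B
import Cfsg.Agent.Lib.Helper99.Sp4D
import Cfsg.Agent.Lib.Helper99.Symp4J

/-!
# The structure of an extraspecial group of minus type in standard coordinates
-/

set_option autoImplicit false

namespace Cfsg.Agent.Lib.Helper99.Sp4E

open scoped Matrix
open Cfsg.Agent.Lib.Helper99.Symp4B Cfsg.Agent.Lib.Helper99.Sp4B Cfsg.Agent.Lib.Helper99.Sp4C
open Cfsg.Agent.Lib.Helper99.Sp4D Cfsg.Agent.Lib.Helper99.Symp4J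

variable {F : Type*} [Field F]

section coordinates

variable {Q x y : GL (Fin 4) F} {X Y : Matrix (Fin 4) (Fin 4) F}

/-- `x` corresponds to the matrix `X` in the coordinates given by `Q` -/
def CQ (Q : GL (Fin 4) F) (x : GL (Fin 4) F) (X : Matrix (Fin 4) (Fin 4) F) : Prop :=
  (x : Matrix (Fin 4) (Fin 4) F) * (Q : Matrix (Fin 4) (Fin 4) F) = (Q : Matrix (Fin 4) (Fin 4) F) * X

theorem CQ.mul (hx : CQ Q x X) (hy : CQ Q y Y) : CQ Q (x * y) (X * Y) := by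
  unfold CQ at *
  rw [Units.val_mul, mul_assoc, hy, ← mul_assoc, hx, mul_assoc]

theorem CQ.neg (hx : CQ Q x X) : CQ Q (-x) (-X) := by
  unfold CQ at *
  rw [Units.val_neg, neg_mul, hx, mul_neg]

theorem CQ.one : CQ Q 1 1 := by
  unfold CQ
  simp

theorem CQ.eq (hx : CQ Q x X) (hy : CQ Q y Y) (h : X = Y) : x = y := by
  unfold CQ at *
  apply Units.ext
  have h1 : (x : Matrix (Fin 4) (Fin 4) F) * (Q : Matrix (Fin 4) (Fin 4) F) =
      (y : Matrix (Fin 4) (Fin 4) F) * (Q : Matrix (Fin 4) (Fin 4) F) := by rw [hx, hy, h]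
  have h2 := congrArg (fun M => M * ((Q⁻¹ : GL (Fin 4) F) : Matrix (Fin 4) (Fin 4) F)) h1
  simp only [mul_assoc, val_mul_inv, mul_one] at h2
  exact h2

theorem CQ.mat_eq (hx : CQ Q x X) (hy : CQ Q y Y) (h : x = y) : X = Y := by
  unfold CQ at *
  have h1 : (Q : Matrix (Fin 4) (Fin 4) F) * X = (Q : Matrix (Fin 4) (Fin 4) F) * Y := by
    rw [← hx, ← hy, h]
  have h2 := congrArg (fun M => ((Q⁻¹ : GL (Fin 4) F) : Matrix (Fin 4) (Fin 4) F) * M) h1
  simp only [← mul_assoc, val_inv_mul, one_mul] at h2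
  exact h2

/-- every element has coordinates -/
theorem CQ.self (Q x : GL (Fin 4) F) :
    CQ Q x (((Q⁻¹ : GL (Fin 4) F) : Matrix (Fin 4) (Fin 4) F) * (x : Matrix (Fin 4) (Fin 4) F) *
      (Q : Matrix (Fin 4) (Fin 4) F)) := by
  unfold CQ
  rw [← mul_assoc, ← mul_assoc, val_mul_inv, one_mul]

end coordinates

/-- the generators of an extraspecial group of minus type -/
structure Gens (R : Subgroup (GL (Fin 4) F)) (a1 b1 a2 b2 : GL (Fin 4) F) : Prop where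
  ha1 : a1 ∈ Cr R
  hb1 : b1 ∈ Cr R
  ha2 : a2 ∈ Cr R
  hb2 : b2 ∈ Cr R
  a1sq : a1 * a1 = 1
  b1sq : b1 * b1 = 1
  a2sq : a2 * a2 = -1
  b2sq : b2 * b2 = -1
  a1b1 : a1 * b1 = -(b1 * a1)
  a2b2 : a2 * b2 = -(b2 * a2)
  a2a1 : a2 * a1 = a1 * a2
  a2b1 : a2 * b1 = b1 * a2
  b2a1 : b2 * a1 = a1 * b2
  b2b1 : b2 * b1 = b1 * b2

/-- the standard coordinates -/
structure Frame (Q : GL (Fin 4) F) (α β : F) (a1 b1 a2 b2 : GL (Fin 4) F) : Prop where
  hαβ : α * α + β * β = -1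
  qa1 : CQ Q a1 (A1s F)
  qb1 : CQ Q b1 (B1s F)
  qa2 : CQ Q a2 (A2s F)
  qb2 : CQ Q b2 (B2s α β)

variable {R : Subgroup (GL (Fin 4) F)} {a1 b1 a2 b2 Q : GL (Fin 4) F} {α β : F}

theorem exists_model (H : Hyp2 R)
    (hminus : ∀ t t' : GL (Fin 4) F, t ∈ R → t' ∈ R → t * t = 1 → t' * t' = 1 → t * t' = t' * t →
      t = 1 ∨ t = -1 ∨ t' = 1 ∨ t' = -1 ∨ t' = t ∨ t' = -t) :
    ∃ (a1 b1 a2 b2 Q : GL (Fin 4) F) (α β : F), Gens R a1 b1 a2 b2 ∧ Frame Q α β a1 b1 a2 b2 := by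
  obtain ⟨a1, b1, a2, b2, ha1, hb1, ha2, hb2, e1, e2, e3, e4, e5, e6, e7, e8, e9, e10⟩ :=
    exists_basis_minus H hminus
  have toM : ∀ {x y : GL (Fin 4) F}, x = y →
      (x : Matrix (Fin 4) (Fin 4) F) = (y : Matrix (Fin 4) (Fin 4) F) := fun h => congrArg Units.val h
  obtain ⟨Q, α, β, hαβ, q1, q2, q3, q4⟩ := exists_frameQ H.two_ne
    (A1 := (a1 : Matrix (Fin 4) (Fin 4) F)) (B1 := (b1 : Matrix (Fin 4) (Fin 4) F))
    (A2 := (a2 : Matrix (Fin 4) (Fin 4) F)) (B2 := (b2 : Matrix (Fin 4) (Fin 4) F))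
    (by simpa using toM e1) (by simpa using toM e2) (by simpa using toM e3) (by simpa using toM e4)
    (by simpa using toM e5) (by simpa using toM e6) (by simpa using toM e7) (by simpa using toM e8)
    (by simpa using toM e9) (by simpa using toM e10)
  exact ⟨a1, b1, a2, b2, Q, α, β, ⟨ha1, hb1, ha2, hb2, e1, e2, e3, e4, e5, e6, e7, e8, e9, e10⟩,
    ⟨hαβ, q1, q2, q3, q4⟩⟩

/-- an element of `R` commuting with the generators is `±1` -/
theorem central_of_commute (H : Hyp2 R) (G : Gens R a1 b1 a2 b2) (Fr : Frame Q α β a1 b1 a2 b2)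
    {z : GL (Fin 4) F} (hz : z ∈ R) (c1 : z * a1 = a1 * z) (c2 : z * b1 = b1 * z)
    (c3 : z * a2 = a2 * z) (c4 : z * b2 = b2 * z) : z = 1 ∨ z = -1 := by
  have hZ := CQ.self Q z
  set Z : Matrix (Fin 4) (Fin 4) F := ((Q⁻¹ : GL (Fin 4) F) : Matrix (Fin 4) (Fin 4) F) *
    (z : Matrix (Fin 4) (Fin 4) F) * (Q : Matrix (Fin 4) (Fin 4) F) with hZdef
  obtain ⟨c, hc⟩ := commutant_scalar H.two_ne Fr.hαβ
    (CQ.mat_eq (hZ.mul Fr.qa1) (Fr.qa1.mul hZ) c1) (CQ.mat_eq (hZ.mul Fr.qb1) (Fr.qb1.mul hZ) c2)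
    (CQ.mat_eq (hZ.mul Fr.qa2) (Fr.qa2.mul hZ) c3) (CQ.mat_eq (hZ.mul Fr.qb2) (Fr.qb2.mul hZ) c4)
  have hzs : (z : Matrix (Fin 4) (Fin 4) F) = c • (1 : Matrix (Fin 4) (Fin 4) F) := by
    have h1 : (z : Matrix (Fin 4) (Fin 4) F) * (Q : Matrix (Fin 4) (Fin 4) F) =
        (Q : Matrix (Fin 4) (Fin 4) F) * Z := hZ
    rw [hc] at h1
    have h2 := congrArg (fun M => M * ((Q⁻¹ : GL (Fin 4) F) : Matrix (Fin 4) (Fin 4) F)) h1
    simp only [mul_assoc, val_mul_inv, mul_one, Matrix.smul_mul, Matrix.one_mul, Matrix.mul_smul] at h2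
    exact h2
  apply central_pm H hz
  intro h _
  apply Units.ext
  rw [Units.val_mul, Units.val_mul, hzs]
  simp

/-- membership of the four-element sets of words -/
theorem four_mem {S : Subgroup (GL (Fin 4) F)} {x y t : GL (Fin 4) F} (hx : x ∈ S) (hy : y ∈ S)
    (ht : t = 1 ∨ t = x ∨ t = y ∨ t = x * y) : t ∈ S := by
  rcases ht with rfl | rfl | rfl | rfl
  · exact one_mem _
  · exact hx
  · exact hy
  · exact mul_mem hx hy

theorem four_comm {g x y t : GL (Fin 4) F} (hx : g * x = x * g) (hy : g * y = y * g)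
    (ht : t = 1 ∨ t = x ∨ t = y ∨ t = x * y) : g * t = t * g := by
  rcases ht with rfl | rfl | rfl | rfl
  · simp
  · exact hx
  · exact hy
  · rw [← mul_assoc, hx, mul_assoc, hy, mul_assoc]

/-- the enumeration of the elements of `R` -/
theorem enum (H : Hyp2 R) (G : Gens R a1 b1 a2 b2) (Fr : Frame Q α β a1 b1 a2 b2)
    {g : GL (Fin 4) F} (hg : g ∈ R) :
    ∃ t1 t2 s : GL (Fin 4) F, (t1 = 1 ∨ t1 = a1 ∨ t1 = b1 ∨ t1 = a1 * b1) ∧
      (t2 = 1 ∨ t2 = a2 ∨ t2 = b2 ∨ t2 = a2 * b2) ∧ (s = 1 ∨ s = -1) ∧ g = s * (t1 * t2) := by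
  have hgi : g⁻¹ ∈ R := inv_mem hg
  have dich : ∀ {c x : GL (Fin 4) F}, c ∈ Cr R → x ∈ R → x * c = c * x ∨ x * c = -(c * x) := by
    intro c x hc hx
    rcases dichA H hc hx with h | h
    · left; exact h.symm
    · right; exact anti_symm h
  obtain ⟨t1, ht1, p1, p2⟩ := adjust a1 b1 g⁻¹ G.a1b1 (dich G.ha1 hgi) (dich G.hb1 hgi)
  have ht1R : t1 ∈ R := four_mem (Cr_le G.ha1) (Cr_le G.hb1) ht1
  have hg1 : g⁻¹ * t1 ∈ R := mul_mem hgi ht1R
  obtain ⟨t2, ht2, p3, p4⟩ := adjust a2 b2 (g⁻¹ * t1) G.a2b2 (dich G.ha2 hg1) (dich G.hb2 hg1)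
  have ht2R : t2 ∈ R := four_mem (Cr_le G.ha2) (Cr_le G.hb2) ht2
  have q1 : t2 * a1 = a1 * t2 := by
    have := four_comm (g := a1) G.a2a1.symm G.b2a1.symm ht2
    exact this.symm
  have q2 : t2 * b1 = b1 * t2 := by
    have := four_comm (g := b1) G.a2b1.symm G.b2b1.symm ht2
    exact this.symm
  have hz : g⁻¹ * t1 * t2 ∈ R := mul_mem hg1 ht2R
  have c1 : g⁻¹ * t1 * t2 * a1 = a1 * (g⁻¹ * t1 * t2) := by
    rw [mul_assoc, q1, ← mul_assoc, p1, mul_assoc]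
  have c2 : g⁻¹ * t1 * t2 * b1 = b1 * (g⁻¹ * t1 * t2) := by
    rw [mul_assoc, q2, ← mul_assoc, p2, mul_assoc]
  rcases central_of_commute H G Fr hz c1 c2 p3 p4 with h | h
  · refine ⟨t1, t2, 1, ht1, ht2, Or.inl rfl, ?_⟩
    have : g = t1 * t2 := by
      have h' : g⁻¹ * (t1 * t2) = 1 := by rw [← mul_assoc]; exact h
      exact (inv_mul_eq_one.mp h')
    rw [this, one_mul]
  · refine ⟨t1, t2, -1, ht1, ht2, Or.inr rfl, ?_⟩
    have h' : g⁻¹ * (t1 * t2) = -1 := by rw [← mul_assoc]; exact h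
    have : t1 * t2 = g * -1 := by rw [← h', mul_inv_cancel_left]
    rw [this]
    simp

/-- `R` is generated by the four generators -/
theorem le_closure (H : Hyp2 R) (G : Gens R a1 b1 a2 b2) (Fr : Frame Q α β a1 b1 a2 b2) :
    R ≤ Subgroup.closure ({a1, b1, a2, b2} : Set (GL (Fin 4) F)) := by
  intro g hg
  obtain ⟨t1, t2, s, ht1, ht2, hs, rfl⟩ := enum H G Fr hg
  have m1 : a1 ∈ Subgroup.closure ({a1, b1, a2, b2} : Set (GL (Fin 4) F)) :=
    Subgroup.subset_closure (by simp)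
  have m2 : b1 ∈ Subgroup.closure ({a1, b1, a2, b2} : Set (GL (Fin 4) F)) :=
    Subgroup.subset_closure (by simp)
  have m3 : a2 ∈ Subgroup.closure ({a1, b1, a2, b2} : Set (GL (Fin 4) F)) :=
    Subgroup.subset_closure (by simp)
  have m4 : b2 ∈ Subgroup.closure ({a1, b1, a2, b2} : Set (GL (Fin 4) F)) :=
    Subgroup.subset_closure (by simp)
  refine mul_mem ?_ (mul_mem (four_mem m1 m2 ht1) (four_mem m3 m4 ht2))
  rcases hs with rfl | rfl
  · exact one_mem _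
  · rw [← G.a2sq]; exact mul_mem m3 m3

/-- the five involutions -/
def tk (a1 b1 a2 b2 : GL (Fin 4) F) : Fin 5 → GL (Fin 4) F :=
  ![a1, b1, a1 * b1 * a2, a1 * b1 * b2, a1 * b1 * (a2 * b2)]

/-- the five involutions in standard coordinates -/
def Tm (α β : F) : Fin 5 → Matrix (Fin 4) (Fin 4) F :=
  ![A1s F, B1s F, !![0, 0, 0, -1; 0, 0, 1, 0; 0, 1, 0, 0; -1, 0, 0, 0],
    !![0, 0, α, β; 0, 0, β, -α; -α, -β, 0, 0; -β, α, 0, 0],
    !![0, 0, -β, α; 0, 0, α, β; β, -α, 0, 0; -α, -β, 0, 0]]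

theorem Tm_two : A1s F * B1s F * A2s F = !![0, 0, 0, -1; 0, 0, 1, 0; 0, 1, 0, 0; -1, 0, 0, 0] := by
  ext i j
  fin_cases i <;> fin_cases j <;> simp [A1s, B1s, A2s, Matrix.mul_apply, Fin.sum_univ_four]

theorem Tm_three : A1s F * B1s F * B2s α β =
    !![0, 0, α, β; 0, 0, β, -α; -α, -β, 0, 0; -β, α, 0, 0] := by
  ext i j
  fin_cases i <;> fin_cases j <;> simp [A1s, B1s, B2s, Matrix.mul_apply, Fin.sum_univ_four]

theorem Tm_four : A1s F * B1s F * (A2s F * B2s α β) =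
    !![0, 0, -β, α; 0, 0, α, β; β, -α, 0, 0; -α, -β, 0, 0] := by
  ext i j
  fin_cases i <;> fin_cases j <;> simp [A1s, B1s, A2s, B2s, Matrix.mul_apply, Fin.sum_univ_four]

theorem tk_CQ (Fr : Frame Q α β a1 b1 a2 b2) (k : Fin 5) : CQ Q (tk a1 b1 a2 b2 k) (Tm α β k) := by
  fin_cases k
  · exact Fr.qa1
  · exact Fr.qb1
  · have := (Fr.qa1.mul Fr.qb1).mul Fr.qa2
    rw [Tm_two] at this
    exact this
  · have := (Fr.qa1.mul Fr.qb1).mul Fr.qb2
    rw [Tm_three] at this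
    exact this
  · have := (Fr.qa1.mul Fr.qb1).mul (Fr.qa2.mul Fr.qb2)
    rw [Tm_four] at this
    exact this

theorem Tm_sq (hαβ : α * α + β * β = -1) (k : Fin 5) : Tm α β k * Tm α β k = 1 := by
  fin_cases k <;>
  · ext i j
    fin_cases i <;> fin_cases j <;>
      simp [Tm, A1s, B1s, Matrix.mul_apply, Fin.sum_univ_four, Matrix.one_apply] <;> grind

set_option maxHeartbeats 4000000 in
theorem Tm_anti (k l : Fin 5) (hkl : k ≠ l) : Tm α β k * Tm α β l = -(Tm α β l * Tm α β k) := by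
  fin_cases k <;> fin_cases l <;> first | exact absurd rfl hkl | skip
  all_goals
    ext i j
    fin_cases i <;> fin_cases j <;>
      simp [Tm, A1s, B1s, Matrix.mul_apply, Fin.sum_univ_four] <;> ring

theorem tk_sq (Fr : Frame Q α β a1 b1 a2 b2) (k : Fin 5) :
    tk a1 b1 a2 b2 k * tk a1 b1 a2 b2 k = 1 :=
  CQ.eq ((tk_CQ Fr k).mul (tk_CQ Fr k)) CQ.one (Tm_sq Fr.hαβ k)

theorem tk_anti (Fr : Frame Q α β a1 b1 a2 b2) (k l : Fin 5) (hkl : k ≠ l) :
    tk a1 b1 a2 b2 k * tk a1 b1 a2 b2 l = -(tk a1 b1 a2 b2 l * tk a1 b1 a2 b2 k) :=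
  CQ.eq ((tk_CQ Fr k).mul (tk_CQ Fr l)) ((tk_CQ Fr l).mul (tk_CQ Fr k)).neg (Tm_anti k l hkl)

theorem tk_mem (G : Gens R a1 b1 a2 b2) (k : Fin 5) : tk a1 b1 a2 b2 k ∈ R := by
  have h1 := Cr_le G.ha1
  have h2 := Cr_le G.hb1
  have h3 := Cr_le G.ha2
  have h4 := Cr_le G.hb2
  fin_cases k
  · exact h1
  · exact h2
  · exact mul_mem (mul_mem h1 h2) h3
  · exact mul_mem (mul_mem h1 h2) h4
  · exact mul_mem (mul_mem h1 h2) (mul_mem h3 h4)

/-- an element commuting with the five involutions commutes with the generators -/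
theorem commute_gens_of_tk {M : Matrix (Fin 4) (Fin 4) F}
    (G : Gens R a1 b1 a2 b2)
    (h : ∀ k, M * (tk a1 b1 a2 b2 k : Matrix (Fin 4) (Fin 4) F) =
      (tk a1 b1 a2 b2 k : Matrix (Fin 4) (Fin 4) F) * M) :
    M * (a1 : Matrix (Fin 4) (Fin 4) F) = (a1 : Matrix (Fin 4) (Fin 4) F) * M ∧
    M * (b1 : Matrix (Fin 4) (Fin 4) F) = (b1 : Matrix (Fin 4) (Fin 4) F) * M ∧
    M * (a2 : Matrix (Fin 4) (Fin 4) F) = (a2 : Matrix (Fin 4) (Fin 4) F) * M ∧
    M * (b2 : Matrix (Fin 4) (Fin 4) F) = (b2 : Matrix (Fin 4) (Fin 4) F) * M := by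
  have h0 : M * (a1 : Matrix (Fin 4) (Fin 4) F) = (a1 : Matrix (Fin 4) (Fin 4) F) * M := h 0
  have h1 : M * (b1 : Matrix (Fin 4) (Fin 4) F) = (b1 : Matrix (Fin 4) (Fin 4) F) * M := h 1
  have h2 : M * ((a1 * b1 * a2 : GL (Fin 4) F) : Matrix (Fin 4) (Fin 4) F) =
      ((a1 * b1 * a2 : GL (Fin 4) F) : Matrix (Fin 4) (Fin 4) F) * M := h 2
  have h3 : M * ((a1 * b1 * b2 : GL (Fin 4) F) : Matrix (Fin 4) (Fin 4) F) =
      ((a1 * b1 * b2 : GL (Fin 4) F) : Matrix (Fin 4) (Fin 4) F) * M := h 3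
  set A : Matrix (Fin 4) (Fin 4) F := (a1 : Matrix (Fin 4) (Fin 4) F) with hA
  set B : Matrix (Fin 4) (Fin 4) F := (b1 : Matrix (Fin 4) (Fin 4) F) with hB
  have hAB : M * (A * B) = (A * B) * M := by
    rw [← mul_assoc, h0, mul_assoc, h1, mul_assoc]
  have hinv : ((b1⁻¹ * a1⁻¹ : GL (Fin 4) F) : Matrix (Fin 4) (Fin 4) F) * (A * B) = 1 := by
    rw [hA, hB, ← Units.val_mul, ← Units.val_mul]
    have : b1⁻¹ * a1⁻¹ * (a1 * b1) = 1 := by group
    rw [this, Units.val_one]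
  have key : ∀ X : Matrix (Fin 4) (Fin 4) F, M * (A * B * X) = (A * B * X) * M → M * X = X * M := by
    intro X hX
    have e1 : (A * B) * (M * X) = (A * B) * (X * M) := by
      calc (A * B) * (M * X) = ((A * B) * M) * X := (mul_assoc _ _ _).symm
        _ = (M * (A * B)) * X := by rw [hAB]
        _ = M * (A * B * X) := mul_assoc _ _ _
        _ = (A * B * X) * M := hX
        _ = (A * B) * (X * M) := mul_assoc _ _ _
    have e2 := congrArg (fun N => ((b1⁻¹ * a1⁻¹ : GL (Fin 4) F) : Matrix (Fin 4) (Fin 4) F) * N) e1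
    simp only [← mul_assoc, hinv, one_mul] at e2
    exact e2
  refine ⟨h0, h1, key _ ?_, key _ ?_⟩
  · simpa [Units.val_mul] using h2
  · simpa [Units.val_mul] using h3

/-- the classification of the involutions of `R` -/
theorem invol (H : Hyp2 R) (G : Gens R a1 b1 a2 b2) (Fr : Frame Q α β a1 b1 a2 b2)
    {g : GL (Fin 4) F} (hg : g ∈ R) (hgg : g * g = 1) :
    g = 1 ∨ g = -1 ∨ ∃ k : Fin 5, g = tk a1 b1 a2 b2 k ∨ g = -tk a1 b1 a2 b2 k := by
  obtain ⟨t1, t2, s, ht1, ht2, hs, rfl⟩ := enum H G Fr hg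
  have hne := one_ne_neg_one H
  -- squares
  have hcomm : t1 * t2 = t2 * t1 := by
    have c1 : t2 * a1 = a1 * t2 := (four_comm (g := a1) G.a2a1.symm G.b2a1.symm ht2).symm
    have c2 : t2 * b1 = b1 * t2 := (four_comm (g := b1) G.a2b1.symm G.b2b1.symm ht2).symm
    exact (four_comm c1 c2 ht1).symm
  have hsq : s * (t1 * t2) * (s * (t1 * t2)) = (t1 * t1) * (t2 * t2) := by
    have hs2 : ∀ x : GL (Fin 4) F, s * x * (s * x) = x * x := by
      intro x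
      rcases hs with rfl | rfl <;> simp
    rw [hs2]
    calc t1 * t2 * (t1 * t2) = t1 * (t2 * t1) * t2 := by simp only [mul_assoc]
      _ = t1 * (t1 * t2) * t2 := by rw [hcomm]
      _ = _ := by simp only [mul_assoc]
  rw [hsq] at hgg
  have sq1 : a1 * b1 * (a1 * b1) = -1 := by
    calc a1 * b1 * (a1 * b1) = a1 * (b1 * a1) * b1 := by simp only [mul_assoc]
      _ = a1 * (-(a1 * b1)) * b1 := by rw [anti_symm G.a1b1]
      _ = -((a1 * a1) * (b1 * b1)) := by simp only [mul_neg, neg_mul, mul_assoc]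
      _ = -1 := by rw [G.a1sq, G.b1sq, one_mul]
  have sq2 : a2 * b2 * (a2 * b2) = -1 := by
    calc a2 * b2 * (a2 * b2) = a2 * (b2 * a2) * b2 := by simp only [mul_assoc]
      _ = a2 * (-(a2 * b2)) * b2 := by rw [anti_symm G.a2b2]
      _ = -((a2 * a2) * (b2 * b2)) := by simp only [mul_neg, neg_mul, mul_assoc]
      _ = -1 := by rw [G.a2sq, G.b2sq]; simp
  have sgn : ∀ x : GL (Fin 4) F, s * x = x ∨ s * x = -x := by
    intro x
    rcases hs with rfl | rfl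
    · left; simp
    · right; simp
  have bad : (-1 : GL (Fin 4) F) = 1 → False := fun h => hne h.symm
  -- the case analysis
  rcases ht1 with h1 | h1 | h1 | h1 <;> rcases ht2 with h2 | h2 | h2 | h2 <;> rw [h1, h2] at hgg ⊢
  · rcases hs with rfl | rfl
    · left; simp
    · right; left; simp
  · exfalso; rw [G.a2sq] at hgg; simp at hgg; exact bad hgg
  · exfalso; rw [G.b2sq] at hgg; simp at hgg; exact bad hgg
  · exfalso; rw [sq2] at hgg; simp at hgg; exact bad hgg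
  · right; right; refine ⟨0, ?_⟩
    rw [mul_one]
    exact sgn a1
  · exfalso; rw [G.a1sq, G.a2sq] at hgg; simp at hgg; exact bad hgg
  · exfalso; rw [G.a1sq, G.b2sq] at hgg; simp at hgg; exact bad hgg
  · exfalso; rw [G.a1sq, sq2] at hgg; simp at hgg; exact bad hgg
  · right; right; refine ⟨1, ?_⟩
    rw [mul_one]
    exact sgn b1
  · exfalso; rw [G.b1sq, G.a2sq] at hgg; simp at hgg; exact bad hgg
  · exfalso; rw [G.b1sq, G.b2sq] at hgg; simp at hgg; exact bad hgg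
  · exfalso; rw [G.b1sq, sq2] at hgg; simp at hgg; exact bad hgg
  · exfalso; rw [sq1] at hgg; simp at hgg; exact bad hgg
  · right; right; exact ⟨2, sgn _⟩
  · right; right; exact ⟨3, sgn _⟩
  · right; right; exact ⟨4, sgn _⟩

end Cfsg.Agent.Lib.Helper99.Sp4E
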