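import Mathlib
import Cfsg.Agent.Lib.Helper99.Symp4C

set_option autoImplicit false

namespace Cfsg.Agent.Lib.Helper99.Symp4E

open scoped Matrix
open Cfsg.Agent.Lib.Helper99.Symp4C

/-- the index set of the standard matrices -/
abbrev V := Fin 4 × Fin 4

/-- addition on `V` -/
def vadd (u v : V) : V := (xr u.1 v.1, xr u.2 v.2)

/-- the symplectic form on `V` -/
def om (u v : V) : Bool := xor (sb v.1 u.2) (sb u.1 v.2)

theorem vadd_self : ∀ u : V, vadd u u = (0, 0) := by decide
theorem vadd_vadd_cancel : ∀ u v : V, vadd (vadd u v) v = u := by decide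
theorem vadd_eq_self_iff : ∀ u v : V, vadd u v = u ↔ v = (0, 0) := by decide
theorem om_self : ∀ u : V, om u u = false := by decide
theorem om_zero : ∀ u : V, om (0, 0) u = false := by decide
theorem card_perp : ∀ v : V, v ≠ (0, 0) →
    (Finset.univ.filter (fun u : V => om u v = false)).card = 8 := by decide

variable {F : Type*} [Field F]

/-- the standard matrix indexed by `v` -/
def Wv (v : V) : Matrix (Fin 4) (Fin 4) F := W v.1 v.2

theorem Wv_mul (u v : V) : (Wv u : Matrix (Fin 4) (Fin 4) F) * Wv v = (sg v.1 u.2 : F) • Wv (vadd u v) :=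
  W_mul _ _ _ _

theorem Wv_sq (u : V) : (Wv u : Matrix (Fin 4) (Fin 4) F) * Wv u = (sg u.1 u.2 : F) • 1 := W_sq _ _

theorem Wv_comm (u v : V) :
    (Wv u : Matrix (Fin 4) (Fin 4) F) * Wv v = (if om u v then (-1 : F) else 1) • (Wv v * Wv u) := by
  unfold Wv om
  rw [W_comm]
  congr 1
  unfold sg
  cases sb v.1 u.2 <;> cases sb u.1 v.2 <;> simp

theorem trace_Wv_mul (u v : V) :
    Matrix.trace ((Wv u : Matrix (Fin 4) (Fin 4) F) * Wv v) = if u = v then 4 * sg u.1 u.2 else 0 := by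
  unfold Wv
  rw [trace_W_mul]
  by_cases h : u = v
  · subst h; simp
  · rw [if_neg h, if_neg]
    intro h'
    exact h (Prod.ext h'.1 h'.2)

theorem Wv_ne_zero (u : V) : (Wv u : Matrix (Fin 4) (Fin 4) F) ≠ 0 := W_ne_zero _ _

theorem smul_Wv_inj [NeZero (2 : F)] {a b : F} {u v : V} (ha : a ≠ 0)
    (h : a • (Wv u : Matrix (Fin 4) (Fin 4) F) = b • Wv v) : u = v ∧ a = b := by
  obtain ⟨h1, h2, h3⟩ := smul_W_inj ha h
  exact ⟨Prod.ext h1 h2, h3⟩

/-- a matrix commuting with all standard matrices is scalar -/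
theorem scalar_of_commute (h4 : (4 : F) ≠ 0) {M : Matrix (Fin 4) (Fin 4) F}
    (h : ∀ v : V, M * Wv v = Wv v * M) : ∃ z : F, M = z • (1 : Matrix (Fin 4) (Fin 4) F) := by
  have h1 := averaging M
  have h2 : ∀ e f : Fin 4, (sg e f : F) • ((W e f : Matrix (Fin 4) (Fin 4) F) * M * W e f) = M := by
    intro e f
    have := h (e, f)
    unfold Wv at this
    simp only at this
    rw [← this, mul_assoc, W_sq, Matrix.mul_smul, Matrix.mul_one, smul_smul, sg_mul_self, one_smul]
  simp only [h2, Finset.sum_const, Finset.card_univ, Fintype.card_fin] at h1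
  have h16 : (16 : F) ≠ 0 := by
    have : (16 : F) = 4 * 4 := by norm_num
    rw [this]; exact mul_ne_zero h4 h4
  refine ⟨(4 * Matrix.trace M) / 16, ?_⟩
  have h3 : (16 : F) • M = (4 * Matrix.trace M) • (1 : Matrix (Fin 4) (Fin 4) F) := by
    rw [← h1, ← Nat.cast_smul_eq_nsmul F, ← Nat.cast_smul_eq_nsmul F, smul_smul]
    norm_num
  calc M = (16 : F)⁻¹ • ((16 : F) • M) := by rw [smul_smul, inv_mul_cancel₀ h16, one_smul]
    _ = _ := by rw [h3, smul_smul]; congr 1; field_simp

/-- the data attached to a matrix normalising the standard group -/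
structure NData (y : GL (Fin 4) F) (c : V → F) (π : V → V) : Prop where
  rel : ∀ v, (y : Matrix (Fin 4) (Fin 4) F) * Wv v = c v • (Wv (π v) * (y : Matrix (Fin 4) (Fin 4) F))
  ne : ∀ v, c v ≠ 0

theorem exists_ndata {y : GL (Fin 4) F} (hy : y ∈ Subgroup.normalizer (R0 F : Set (GL (Fin 4) F))) :
    ∃ c π, NData y c π := by
  have h1 : ∀ v : V, ∃ (c : F) (u : V), c ≠ 0 ∧
      (y : Matrix (Fin 4) (Fin 4) F) * Wv v = c • (Wv u * (y : Matrix (Fin 4) (Fin 4) F)) := by
    intro v
    have h2 := (Subgroup.mem_normalizer_iff.mp hy (Wg v.1 v.2)).mp (Wg_mem_R0 _ _)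
    obtain ⟨c, e, f, hc, hval⟩ := h2
    refine ⟨c, (e, f), ?_, ?_⟩
    · intro h0; rw [h0] at hc; norm_num at hc
    · have h3 : y * Wg v.1 v.2 = (y * Wg v.1 v.2 * y⁻¹) * y := by group
      have h4 := congrArg Units.val h3
      rw [Units.val_mul, Units.val_mul (y * Wg v.1 v.2 * y⁻¹), hval, Wg_val] at h4
      rw [Matrix.smul_mul] at h4
      exact h4
  choose c π hc hrel using h1
  exact ⟨c, π, hrel, hc⟩

section ndata

variable {y : GL (Fin 4) F} {c : V → F} {π : V → V}

theorem cancel_right (y : GL (Fin 4) F) {A B : Matrix (Fin 4) (Fin 4) F}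
    (h : A * (y : Matrix (Fin 4) (Fin 4) F) = B * (y : Matrix (Fin 4) (Fin 4) F)) : A = B := by
  have := congrArg (fun X => X * ((y⁻¹ : GL (Fin 4) F) : Matrix (Fin 4) (Fin 4) F)) h
  simpa [mul_assoc] using this

theorem cancel_left (y : GL (Fin 4) F) {A B : Matrix (Fin 4) (Fin 4) F}
    (h : (y : Matrix (Fin 4) (Fin 4) F) * A = (y : Matrix (Fin 4) (Fin 4) F) * B) : A = B := by
  have := congrArg (fun X => ((y⁻¹ : GL (Fin 4) F) : Matrix (Fin 4) (Fin 4) F) * X) h
  simpa [← mul_assoc] using this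

theorem NData.unique [NeZero (2 : F)] {c' : V → F} {π' : V → V} (h : NData y c π) (h' : NData y c' π') :
    π = π' ∧ c = c' := by
  have : ∀ v, π v = π' v ∧ c v = c' v := by
    intro v
    have h1 := h.rel v
    rw [h'.rel v, ← Matrix.smul_mul, ← Matrix.smul_mul] at h1
    have h2 := cancel_right y h1
    obtain ⟨h3, h4⟩ := smul_Wv_inj (h'.ne v) h2
    exact ⟨h3.symm, h4.symm⟩
  exact ⟨funext fun v => (this v).1, funext fun v => (this v).2⟩

theorem NData.inj [NeZero (2 : F)] (h : NData y c π) : Function.Injective π := by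
  intro u v huv
  have h1 := h.rel u
  have h2 := h.rel v
  rw [huv] at h1
  have h3 : (y : Matrix (Fin 4) (Fin 4) F) * ((c u)⁻¹ • Wv u) = (y : Matrix (Fin 4) (Fin 4) F) * ((c v)⁻¹ • Wv v) := by
    rw [Matrix.mul_smul, Matrix.mul_smul, h1, h2, smul_smul, smul_smul, inv_mul_cancel₀ (h.ne u),
      inv_mul_cancel₀ (h.ne v)]
  exact (smul_Wv_inj (inv_ne_zero (h.ne u)) (cancel_left y h3)).1

theorem NData.mul {y' : GL (Fin 4) F} {c' : V → F} {π' : V → V} (h : NData y c π) (h' : NData y' c' π') :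
    NData (y * y') (fun v => c' v * c (π' v)) (π ∘ π') := by
  refine ⟨fun v => ?_, fun v => mul_ne_zero (h'.ne v) (h.ne _)⟩
  rw [Units.val_mul, mul_assoc, h'.rel v, Matrix.mul_smul, ← mul_assoc, h.rel (π' v), Matrix.smul_mul,
    smul_smul, mul_assoc]
  rfl

theorem NData.one : NData (1 : GL (Fin 4) F) (fun _ => 1) id :=
  ⟨fun v => by simp, fun _ => one_ne_zero⟩

theorem NData.pow (h : NData y c π) (k : ℕ) :
    ∃ ck : V → F, NData (y ^ k) ck (π^[k]) ∧ ∀ v, π v = v → ck v = c v ^ k := by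
  induction k with
  | zero => exact ⟨fun _ => 1, by simpa using NData.one, fun v _ => by simp⟩
  | succ k ih =>
    obtain ⟨ck, hk, hfix⟩ := ih
    refine ⟨fun v => c v * ck (π v), ?_, ?_⟩
    · have := hk.mul h
      rw [pow_succ, Function.iterate_succ]
      exact this
    · intro v hv
      simp only
      rw [hv, hfix v hv, pow_succ, mul_comm]

theorem NData.scalar [NeZero (2 : F)] (h : NData y c π) {z : F}
    (hz : (y : Matrix (Fin 4) (Fin 4) F) = z • (1 : Matrix (Fin 4) (Fin 4) F)) :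
    π = id ∧ c = fun _ => 1 := by
  have h' : NData y (fun _ => 1) id := by
    refine ⟨fun v => ?_, fun _ => one_ne_zero⟩
    rw [hz]; simp
  exact h.unique h'

theorem NData.add [NeZero (2 : F)] (h : NData y c π) (u v : V) : π (vadd u v) = vadd (π u) (π v) := by
  have h1 : (y : Matrix (Fin 4) (Fin 4) F) * (Wv u * Wv v) =
      (c u * c v) • (Wv (π u) * Wv (π v) * (y : Matrix (Fin 4) (Fin 4) F)) := by
    rw [← mul_assoc, h.rel u, Matrix.smul_mul, mul_assoc, h.rel v, Matrix.mul_smul, smul_smul, ← mul_assoc]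
  rw [Wv_mul, Wv_mul, Matrix.mul_smul, h.rel (vadd u v), Matrix.smul_mul, smul_smul, smul_smul,
    ← Matrix.smul_mul, ← Matrix.smul_mul] at h1
  have h2 := cancel_right y h1
  have hne : (sg v.1 u.2 : F) * c (vadd u v) ≠ 0 := mul_ne_zero (sg_ne_zero _ _) (h.ne _)
  exact (smul_Wv_inj hne h2).1

theorem NData.om [NeZero (2 : F)] (h : NData y c π) (u v : V) : om (π u) (π v) = om u v := by
  have h1 : (y : Matrix (Fin 4) (Fin 4) F) * (Wv u * Wv v) =
      (c u * c v) • (Wv (π u) * Wv (π v) * (y : Matrix (Fin 4) (Fin 4) F)) := by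
    rw [← mul_assoc, h.rel u, Matrix.smul_mul, mul_assoc, h.rel v, Matrix.mul_smul, smul_smul, ← mul_assoc]
  have h2 : (y : Matrix (Fin 4) (Fin 4) F) * (Wv v * Wv u) =
      (c v * c u) • (Wv (π v) * Wv (π u) * (y : Matrix (Fin 4) (Fin 4) F)) := by
    rw [← mul_assoc, h.rel v, Matrix.smul_mul, mul_assoc, h.rel u, Matrix.mul_smul, smul_smul, ← mul_assoc]
  set X : Matrix (Fin 4) (Fin 4) F := Wv (π v) * Wv (π u) * (y : Matrix (Fin 4) (Fin 4) F) with hX
  have hne : X ≠ 0 := by
    intro h0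
    have h00 : (Wv (π v) * Wv (π u) : Matrix (Fin 4) (Fin 4) F) * (y : Matrix (Fin 4) (Fin 4) F) =
        0 * (y : Matrix (Fin 4) (Fin 4) F) := by rw [zero_mul]; exact h0
    have := cancel_right y h00
    rw [Wv_mul] at this
    exact smul_ne_zero (sg_ne_zero _ _) (Wv_ne_zero _) this
  have e1 : (y : Matrix (Fin 4) (Fin 4) F) * (Wv u * Wv v) =
      (c u * c v * (if Symp4E.om (π u) (π v) then (-1 : F) else 1)) • X := by
    rw [h1, Wv_comm (π u) (π v), Matrix.smul_mul, smul_smul]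
  have e2 : (y : Matrix (Fin 4) (Fin 4) F) * (Wv u * Wv v) =
      ((if Symp4E.om u v then (-1 : F) else 1) * (c v * c u)) • X := by
    rw [Wv_comm u v, Matrix.mul_smul, h2, smul_smul]
  have h4 : ((if Symp4E.om u v then (-1 : F) else 1) * (c v * c u) -
      c u * c v * (if Symp4E.om (π u) (π v) then (-1 : F) else 1)) • X = 0 := by
    rw [sub_smul, ← e1, ← e2, sub_self]
  have h5 := (smul_eq_zero.mp h4).resolve_right hne
  have hcc : c u * c v ≠ 0 := mul_ne_zero (h.ne u) (h.ne v)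
  have h6 : (if Symp4E.om u v then (-1 : F) else 1) = (if Symp4E.om (π u) (π v) then (-1 : F) else 1) := by
    have : (c u * c v) * ((if Symp4E.om u v then (-1 : F) else 1) - (if Symp4E.om (π u) (π v) then (-1 : F) else 1)) = 0 := by
      linear_combination h5
    rcases mul_eq_zero.mp this with h7 | h7
    · exact absurd h7 hcc
    · exact sub_eq_zero.mp h7
  have h2ne : (1 : F) ≠ -1 := by
    intro h3
    have : (2 : F) = 0 := by linear_combination h3
    exact NeZero.ne (2 : F) this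
  cases h7 : Symp4E.om u v <;> cases h8 : Symp4E.om (π u) (π v) <;> simp [h7, h8] at h6 ⊢
  · exact h2ne h6
  · exact h2ne h6.symm

theorem NData.sq_fix (h : NData y c π) {v : V} (hv : π v = v) : c v * c v = 1 := by
  have h1 : (y : Matrix (Fin 4) (Fin 4) F) * (Wv v * Wv v) =
      (c v * c v) • (Wv v * Wv v * (y : Matrix (Fin 4) (Fin 4) F)) := by
    have h0 := h.rel v
    rw [hv] at h0
    rw [← mul_assoc, h0, Matrix.smul_mul, mul_assoc, h0, Matrix.mul_smul, smul_smul, ← mul_assoc]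
  rw [Wv_sq, Matrix.mul_smul, Matrix.mul_one, Matrix.smul_mul, Matrix.one_mul, smul_smul] at h1
  have hy0 : (y : Matrix (Fin 4) (Fin 4) F) ≠ 0 := Units.ne_zero y
  have h2 : ((sg v.1 v.2 : F) - c v * c v * sg v.1 v.2) • (y : Matrix (Fin 4) (Fin 4) F) = 0 := by
    rw [sub_smul, ← h1, sub_self]
  have h3 := (smul_eq_zero.mp h2).resolve_right hy0
  have h4 : (sg v.1 v.2 : F) * (1 - c v * c v) = 0 := by linear_combination h3
  rcases mul_eq_zero.mp h4 with h5 | h5
  · exact absurd h5 (sg_ne_zero _ _)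
  · linear_combination -h5

end ndata

end Cfsg.Agent.Lib.Helper99.Symp4E
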