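import Mathlib
import Cfsg.Agent.Lib.Helper99.Symp4C
import Cfsg.Agent.Lib.Helper99.Symp4E

set_option autoImplicit false

namespace Cfsg.Agent.Lib.Helper99.Symp4F

open scoped Matrix
open Cfsg.Agent.Lib.Helper99.Symp4C Cfsg.Agent.Lib.Helper99.Symp4E

variable {F : Type*} [Field F]

theorem end_pow {α : Type*} (f : Function.End α) (k : ℕ) (h : (f : α → α)^[k] = id) : f ^ k = 1 := h

section ndata

variable {y : GL (Fin 4) F} {c : V → F} {π : V → V}

theorem NData.trace_formula (h4 : (4 : F) ≠ 0) (h : NData y c π) :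
    Matrix.trace (y : Matrix (Fin 4) (Fin 4) F) * Matrix.trace ((y⁻¹ : GL (Fin 4) F) : Matrix (Fin 4) (Fin 4) F) =
      ∑ v : V, if π v = v then c v else 0 := by
  set ym : Matrix (Fin 4) (Fin 4) F := (y : Matrix (Fin 4) (Fin 4) F) with hym
  set yi : Matrix (Fin 4) (Fin 4) F := ((y⁻¹ : GL (Fin 4) F) : Matrix (Fin 4) (Fin 4) F) with hyi
  have hyy : ym * yi = 1 := by rw [hym, hyi, ← Units.val_mul, mul_inv_cancel, Units.val_one]
  have term : ∀ v : V, Wv v * ym * Wv v * yi = c v • (Wv v * Wv (π v)) := by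
    intro v
    rw [mul_assoc (Wv v) ym, h.rel v, Matrix.mul_smul, Matrix.smul_mul, ← mul_assoc, mul_assoc, hyy, mul_one]
  have h1 := averaging ym
  have h2 := congrArg (fun X => Matrix.trace (X * yi)) h1
  simp only [Finset.sum_mul, Matrix.trace_sum, Matrix.smul_mul, Matrix.trace_smul, Matrix.one_mul,
    smul_eq_mul] at h2
  have h3 : ∀ e f : Fin 4, (sg e f : F) * Matrix.trace (W e f * ym * W e f * yi) =
      4 * (if π (e, f) = (e, f) then c (e, f) else 0) := by
    intro e f
    have := term (e, f)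
    unfold Wv at this
    simp only at this
    rw [this, Matrix.trace_smul, smul_eq_mul]
    have h5 := trace_Wv_mul (F := F) (e, f) (π (e, f))
    unfold Wv at h5
    simp only at h5
    rw [h5]
    by_cases hfix : π (e, f) = (e, f)
    · rw [if_pos hfix, if_pos hfix.symm]
      have := sg_mul_self (F := F) e f
      linear_combination (4 * c (e, f)) * this
    · rw [if_neg hfix, if_neg (fun h' => hfix h'.symm)]; ring
  simp only [h3] at h2
  rw [Fintype.sum_prod_type]
  have h6 : (4 : F) * ∑ e : Fin 4, ∑ f : Fin 4, (if π (e, f) = (e, f) then c (e, f) else 0) =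
      4 * (Matrix.trace ym * Matrix.trace yi) := by
    rw [Finset.mul_sum]
    simp only [Finset.mul_sum]
    rw [h2]; ring
  exact (mul_left_cancel₀ h4 h6).symm

theorem NData.fix_zero [NeZero (2 : F)] (h : NData y c π) : π (0, 0) = (0, 0) := by
  have := h.add (0, 0) (0, 0)
  rw [vadd_self, vadd_self] at this
  exact this

/-- the number of fixed points is one or even -/
theorem NData.parity [NeZero (2 : F)] (h : NData y c π) :
    (Finset.univ.filter (fun v : V => π v = v)).card = 1 ∨
      Even (Finset.univ.filter (fun v : V => π v = v)).card := by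
  set S := Finset.univ.filter (fun v : V => π v = v) with hS
  by_cases hex : ∃ v0 ∈ S, v0 ≠ ((0, 0) : V)
  · right
    obtain ⟨v0, hv0, hne⟩ := hex
    have hv0' : π v0 = v0 := (Finset.mem_filter.mp hv0).2
    have hsum : ∑ u ∈ S, (1 : ZMod 2) = 0 := by
      apply Finset.sum_involution (fun u _ => vadd u v0)
      · intro u _; decide
      · intro u _ _ h'
        exact hne ((vadd_eq_self_iff u v0).mp h')
      · intro u hu
        have hu' : π u = u := (Finset.mem_filter.mp hu).2
        rw [hS, Finset.mem_filter]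
        refine ⟨Finset.mem_univ _, ?_⟩
        rw [h.add, hu', hv0']
      · intro u _
        exact vadd_vadd_cancel u v0
    rw [Finset.sum_const, nsmul_eq_mul, mul_one] at hsum
    exact ZMod.natCast_eq_zero_iff_even.mp hsum
  · left
    push Not at hex
    have : S = {((0, 0) : V)} := by
      ext u
      constructor
      · intro hu
        rw [Finset.mem_singleton]
        exact hex u hu
      · intro hu
        rw [Finset.mem_singleton] at hu
        rw [hu, hS, Finset.mem_filter]
        exact ⟨Finset.mem_univ _, (NData.fix_zero h)⟩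
    rw [this]; rfl

theorem card_fix_modEq {π : V → V} {r : ℕ} [Fact r.Prime] (hπ : π^[r] = id) :
    16 ≡ (Finset.univ.filter (fun v : V => π v = v)).card [MOD r] := by
  let πE : Function.End V := π
  have h1 : πE ^ r ^ 1 = 1 := by
    rw [pow_one]; exact end_pow πE r hπ
  have h2 := Equiv.Perm.card_fixedPoints_modEq (f := πE) h1
  have h3 : Fintype.card V = 16 := by simp
  have h4 : Fintype.card ↑(Function.fixedPoints πE) =
      (Finset.univ.filter (fun v : V => π v = v)).card := by
    rw [Fintype.card_subtype]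
    rfl
  rw [h3, h4] at h2
  exact h2

/-- order seven: there cannot be exactly two fixed points -/
theorem NData.seven [NeZero (2 : F)] (h : NData y c π) (hπ : π^[7] = id) :
    (Finset.univ.filter (fun v : V => π v = v)).card ≠ 2 := by
  intro h2
  obtain ⟨a, b, hab, hS⟩ := Finset.card_eq_two.mp h2
  have h0 : ((0, 0) : V) ∈ Finset.univ.filter (fun v : V => π v = v) := by
    rw [Finset.mem_filter]; exact ⟨Finset.mem_univ _, (NData.fix_zero h)⟩
  -- a nonzero fixed vector
  have hex : ∃ v0 : V, v0 ≠ (0, 0) ∧ π v0 = v0 ∧ ∀ u, π u = u → u = (0, 0) ∨ u = v0 := by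
    rw [hS, Finset.mem_insert, Finset.mem_singleton] at h0
    have hmem : ∀ u, π u = u → u = a ∨ u = b := by
      intro u hu
      have : u ∈ Finset.univ.filter (fun v : V => π v = v) := by
        rw [Finset.mem_filter]; exact ⟨Finset.mem_univ _, hu⟩
      rw [hS, Finset.mem_insert, Finset.mem_singleton] at this
      exact this
    have ha : π a = a := by
      have : a ∈ Finset.univ.filter (fun v : V => π v = v) := by rw [hS]; simp
      exact (Finset.mem_filter.mp this).2
    have hb : π b = b := by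
      have : b ∈ Finset.univ.filter (fun v : V => π v = v) := by rw [hS]; simp
      exact (Finset.mem_filter.mp this).2
    rcases h0 with h0 | h0
    · refine ⟨b, ?_, hb, fun u hu => ?_⟩
      · rw [h0]; exact fun h' => hab h'.symm
      · rw [h0]; exact hmem u hu
    · refine ⟨a, ?_, ha, fun u hu => ?_⟩
      · rw [h0]; exact hab
      · rw [h0]; exact (hmem u hu).symm
  obtain ⟨v0, hv0, hfix0, honly⟩ := hex
  -- restrict to the perpendicular space
  set T := {u : V // om u v0 = false} with hT
  have hmaps : ∀ u : V, om u v0 = false → om (π u) v0 = false := by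
    intro u hu
    have := h.om u v0
    rw [hfix0] at this
    rw [this]; exact hu
  let g : T → T := fun u => ⟨π u.1, hmaps u.1 u.2⟩
  have hg : ∀ k (u : T), ((g^[k]) u).1 = (π^[k]) u.1 := by
    intro k
    induction k with
    | zero => intro u; rfl
    | succ k ih => intro u; rw [Function.iterate_succ_apply, Function.iterate_succ_apply, ih]
  have hg7 : g^[7] = id := by
    funext u
    apply Subtype.ext
    rw [hg, hπ]; rfl
  let gE : Function.End T := g
  have h1 : gE ^ 7 ^ 1 = 1 := by
    rw [pow_one]; exact end_pow gE 7 hg7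
  have : Fact (Nat.Prime 7) := ⟨by norm_num⟩
  have h3 := Equiv.Perm.card_fixedPoints_modEq (f := gE) h1
  have hcardT : Fintype.card T = 8 := by
    rw [Fintype.card_subtype]
    exact card_perp v0 hv0
  -- the fixed points of g are exactly the two elements
  have hfp : Fintype.card ↑(Function.fixedPoints gE) = 2 := by
    have hz : om ((0, 0) : V) v0 = false := om_zero v0
    have hv : om v0 v0 = false := om_self v0
    have : (Function.fixedPoints gE) = {⟨(0, 0), hz⟩, ⟨v0, hv⟩} := by
      ext u
      simp only [Function.mem_fixedPoints, Function.IsFixedPt, Set.mem_insert_iff, Set.mem_singleton_iff]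
      constructor
      · intro hu
        have hu' : π u.1 = u.1 := congrArg Subtype.val hu
        rcases honly u.1 hu' with h' | h'
        · left; exact Subtype.ext h'
        · right; exact Subtype.ext h'
      · rintro (rfl | rfl)
        · exact Subtype.ext (NData.fix_zero h)
        · exact Subtype.ext hfix0
    simp only [this]
    rw [Fintype.card_ofFinset]
    rw [Finset.card_eq_two]
    exact ⟨⟨(0, 0), hz⟩, ⟨v0, hv⟩, fun h' => hv0 (congrArg Subtype.val h').symm, by ext; simp⟩
  rw [hcardT, hfp] at h3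
  have : (8 : ℕ) % 7 = 2 % 7 := h3
  omega

end ndata

theorem two_ne_of_four (h4 : (4 : F) ≠ 0) : (2 : F) ≠ 0 := by
  intro h2
  apply h4
  have : (4 : F) = 2 * 2 := by norm_num
  rw [this, h2, mul_zero]

theorem commute_of_fix {y : GL (Fin 4) F} {c : V → F} {π : V → V} (h : NData y c π)
    (hπ : ∀ v, π v = v) (hc : ∀ v, c v = 1) (h4 : (4 : F) ≠ 0) :
    ∃ z' : F, (y : Matrix (Fin 4) (Fin 4) F) = z' • (1 : Matrix (Fin 4) (Fin 4) F) := by
  apply scalar_of_commute h4
  intro v
  have := h.rel v
  rw [hπ v, hc v, one_smul] at this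
  exact this

/-- the core counting statement -/
theorem core_count (h4 : (4 : F) ≠ 0) {y : GL (Fin 4) F}
    (hy : y ∈ Subgroup.normalizer (R0 F : Set (GL (Fin 4) F)))
    {r : ℕ} [hr : Fact r.Prime] (hr2 : r ≠ 2) {z : F}
    (hz : ((y ^ r : GL (Fin 4) F) : Matrix (Fin 4) (Fin 4) F) = z • (1 : Matrix (Fin 4) (Fin 4) F)) :
    ∃ n : ℕ, (n = 1 ∨ Even n) ∧ n ≤ 16 ∧ 16 ≡ n [MOD r] ∧
      (n = 16 → ∃ z' : F, (y : Matrix (Fin 4) (Fin 4) F) = z' • (1 : Matrix (Fin 4) (Fin 4) F)) ∧
      (r = 7 → n ≠ 2) ∧
      Matrix.trace (y : Matrix (Fin 4) (Fin 4) F) *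
        Matrix.trace ((y⁻¹ : GL (Fin 4) F) : Matrix (Fin 4) (Fin 4) F) = (n : F) := by
  have : NeZero (2 : F) := ⟨two_ne_of_four h4⟩
  obtain ⟨c, π, h⟩ := exists_ndata hy
  obtain ⟨ck, hk, hfix⟩ := h.pow r
  obtain ⟨hπr, hck⟩ := hk.scalar hz
  have hodd : Odd r := hr.out.odd_of_ne_two hr2
  have hc1 : ∀ v, π v = v → c v = 1 := by
    intro v hv
    have h1 : c v ^ r = 1 := by rw [← hfix v hv, hck]
    have h2 := h.sq_fix hv
    obtain ⟨m, hm⟩ := hodd
    rw [hm, pow_succ, pow_mul, pow_two, h2, one_pow, one_mul] at h1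
    exact h1
  refine ⟨(Finset.univ.filter (fun v : V => π v = v)).card, NData.parity h, ?_, card_fix_modEq hπr,
    ?_, ?_, ?_⟩
  · have := Finset.card_filter_le (Finset.univ : Finset V) (fun v : V => π v = v)
    simpa using this
  · intro hn
    have hall : ∀ v, π v = v := by
      intro v
      have h1 : (Finset.univ.filter (fun v : V => π v = v)) = Finset.univ := by
        apply Finset.eq_univ_of_card
        rw [hn]; simp
      have : v ∈ Finset.univ.filter (fun v : V => π v = v) := by rw [h1]; exact Finset.mem_univ _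
      exact (Finset.mem_filter.mp this).2
    exact commute_of_fix h hall (fun v => hc1 v (hall v)) h4
  · intro h7
    subst h7
    exact NData.seven h hπr
  · rw [NData.trace_formula h4 h]
    have : ∀ v : V, (if π v = v then c v else 0) = (if π v = v then (1 : F) else 0) := by
      intro v
      by_cases hv : π v = v
      · rw [if_pos hv, if_pos hv, hc1 v hv]
      · rw [if_neg hv, if_neg hv]
    simp only [this]
    rw [Finset.sum_boole]

/-- no elements of prime order at least seven modulo scalars -/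
theorem no_big_prime (h4 : (4 : F) ≠ 0) {y : GL (Fin 4) F}
    (hy : y ∈ Subgroup.normalizer (R0 F : Set (GL (Fin 4) F)))
    {r : ℕ} [hr : Fact r.Prime] (hr7 : 7 ≤ r) {z : F}
    (hz : ((y ^ r : GL (Fin 4) F) : Matrix (Fin 4) (Fin 4) F) = z • (1 : Matrix (Fin 4) (Fin 4) F)) :
    ∃ z' : F, (y : Matrix (Fin 4) (Fin 4) F) = z' • (1 : Matrix (Fin 4) (Fin 4) F) := by
  obtain ⟨n, hpar, hle, hmod, h16, h7, _⟩ := core_count h4 hy (by omega) hz
  apply h16
  by_contra hne
  have hlt : n < 16 := lt_of_le_of_ne hle hne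
  have hdvd : r ∣ 16 - n := (Nat.modEq_iff_dvd' hle).mp hmod.symm
  have hrle : r ≤ 16 - n := Nat.le_of_dvd (by omega) hdvd
  have hp := hr.out
  obtain ⟨d, hd⟩ := hdvd
  have hd2 : d ≤ 2 := by
    by_contra hd3
    push Not at hd3
    have : 7 * 3 ≤ r * d := Nat.mul_le_mul hr7 hd3
    omega
  interval_cases d
  · omega
  · -- r = 16 - n
    rcases hpar with h1 | ⟨m, hm⟩
    · subst h1
      have : r = 15 := by omega
      subst this
      norm_num at hp
    · have hreq : r = 2 * (8 - m) := by omega
      rw [hreq] at hp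
      rcases (Nat.prime_mul_iff.mp hp) with ⟨_, h8⟩ | ⟨_, h8⟩
      · omega
      · norm_num at h8
  · -- 2 r = 16 - n
    have hr8 : r ≤ 8 := by omega
    have hr7' : r = 7 := by
      interval_cases r
      · rfl
      · norm_num at hp
    have : n = 2 := by omega
    exact h7 hr7' this

theorem val_pow_of_sq_zero {y : GL (Fin 4) F} {N : Matrix (Fin 4) (Fin 4) F}
    (hyN : (y : Matrix (Fin 4) (Fin 4) F) = 1 + N) (hNN : N * N = 0) (k : ℕ) :
    ((y ^ k : GL (Fin 4) F) : Matrix (Fin 4) (Fin 4) F) = 1 + (k : F) • N := by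
  induction k with
  | zero => simp
  | succ k ih =>
    rw [pow_succ, Units.val_mul, ih, hyN]
    have : (1 + (k : F) • N) * (1 + N) = 1 + ((k : F) + 1) • N + (k : F) • (N * N) := by
      simp only [mul_add, add_mul, one_mul, mul_one, smul_mul_assoc, add_smul, one_smul]
      abel
    rw [this, hNN, smul_zero, add_zero]
    push_cast
    rfl

/-- in characteristic five the normaliser contains no transvection-like elements -/
theorem no_transvection (h4 : (4 : F) ≠ 0) (h5 : (5 : F) = 0) {y : GL (Fin 4) F}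
    (hy : y ∈ Subgroup.normalizer (R0 F : Set (GL (Fin 4) F)))
    {N : Matrix (Fin 4) (Fin 4) F} (hyN : (y : Matrix (Fin 4) (Fin 4) F) = 1 + N) (hNN : N * N = 0)
    (hN0 : N ≠ 0) : False := by
  have : NeZero (2 : F) := ⟨two_ne_of_four h4⟩
  obtain ⟨c, π, h⟩ := exists_ndata hy
  have hpow := val_pow_of_sq_zero hyN hNN
  have hz : ((y ^ 5 : GL (Fin 4) F) : Matrix (Fin 4) (Fin 4) F) = (1 : F) • (1 : Matrix (Fin 4) (Fin 4) F) := by
    rw [hpow 5]
    push_cast
    rw [h5, zero_smul, add_zero, one_smul]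
  obtain ⟨ck, hk, hfix⟩ := h.pow 5
  obtain ⟨hπr, hck⟩ := hk.scalar hz
  have hc1 : ∀ v, π v = v → c v = 1 := by
    intro v hv
    have h1 : c v ^ 5 = 1 := by rw [← hfix v hv, hck]
    have h2 := h.sq_fix hv
    have : c v ^ 5 = (c v * c v) * (c v * c v) * c v := by ring
    rw [this, h2, one_mul, one_mul] at h1
    exact h1
  have hex : ∃ v0, π v0 ≠ v0 := by
    by_contra hcon
    push Not at hcon
    obtain ⟨z', hz'⟩ := commute_of_fix h hcon (fun v => hc1 v (hcon v)) h4
    have hN : N = (z' - 1) • (1 : Matrix (Fin 4) (Fin 4) F) := by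
      have : N = (y : Matrix (Fin 4) (Fin 4) F) - 1 := by rw [hyN]; abel
      rw [this, hz', sub_smul, one_smul]
    have h0 := hNN
    rw [hN, Matrix.smul_mul, Matrix.one_mul, smul_smul] at h0
    have h00 := congrFun (congrFun h0 0) 0
    simp only [Matrix.smul_apply, Matrix.one_apply_eq, smul_eq_mul, mul_one, Matrix.zero_apply] at h00
    have : z' - 1 = 0 := by
      rcases mul_eq_zero.mp h00 with h' | h' <;> exact h'
    apply hN0
    rw [hN, this, zero_smul]
  obtain ⟨v0, hv0⟩ := hex
  have hper : ∀ j, 1 ≤ j → j ≤ 3 → π^[j] v0 ≠ v0 := by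
    intro j hj1 hj3 hj
    have hp5 : Function.IsPeriodicPt π 5 v0 := by
      show π^[5] v0 = v0
      rw [hπr]; rfl
    have hpj : Function.IsPeriodicPt π j v0 := hj
    have := hpj.gcd hp5
    have hg : Nat.gcd j 5 = 1 := by interval_cases j <;> rfl
    rw [hg] at this
    exact hv0 this
  -- the conjugates
  have conj : ∀ k : ℕ, ∃ a : F, (1 + (k : F) • N) * Wv v0 * (1 - (k : F) • N) = a • Wv (π^[k] v0) := by
    intro k
    obtain ⟨ck', hk', _⟩ := h.pow k
    refine ⟨ck' v0, ?_⟩
    have h1 := hk'.rel v0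
    rw [hpow k] at h1
    rw [h1, Matrix.smul_mul, mul_assoc]
    have : (1 + (k : F) • N) * (1 - (k : F) • N) = 1 := by
      have : (1 + (k : F) • N) * (1 - (k : F) • N) = 1 - ((k : F) * (k : F)) • (N * N) := by
        simp only [mul_sub, add_mul, one_mul, mul_one, smul_mul_assoc, mul_smul_comm, smul_smul]
        module
      rw [this, hNN, smul_zero, sub_zero]
    rw [this, mul_one]
  obtain ⟨a1, e1⟩ := conj 1
  obtain ⟨a2, e2⟩ := conj 2
  obtain ⟨a3, e3⟩ := conj 3
  have hid : (1 + ((3 : ℕ) : F) • N) * Wv v0 * (1 - ((3 : ℕ) : F) • N)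
      - (3 : F) • ((1 + ((2 : ℕ) : F) • N) * Wv v0 * (1 - ((2 : ℕ) : F) • N))
      + (3 : F) • ((1 + ((1 : ℕ) : F) • N) * Wv v0 * (1 - ((1 : ℕ) : F) • N)) - Wv v0 = 0 := by
    push_cast
    simp only [one_smul, mul_add, add_mul, mul_sub, sub_mul, Matrix.smul_mul, Matrix.mul_smul, one_mul,
      mul_one, smul_add, smul_sub, smul_smul]
    module
  rw [e1, e2, e3] at hid
  have htr := congrArg (fun X => Matrix.trace (X * Wv v0)) hid
  simp only [sub_mul, add_mul, Matrix.smul_mul, Matrix.trace_sub, Matrix.trace_add, Matrix.trace_smul,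
    trace_Wv_mul, hper 1 le_rfl (by norm_num), hper 2 (by norm_num) (by norm_num),
    hper 3 (by norm_num) le_rfl, if_false, if_true, smul_zero, zero_mul, Matrix.trace_zero] at htr
  have hs := sg_ne_zero (F := F) v0.1 v0.2
  apply hs
  have : (4 : F) * sg v0.1 v0.2 = 0 := by
    simpa using htr
  exact (mul_eq_zero.mp this).resolve_left h4

end Cfsg.Agent.Lib.Helper99.Symp4F
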