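import Mathlib
import Cfsg.Agent.Lib.Helper99.Symp4C
import Cfsg.Agent.Lib.Helper99.Symp4F
import Cfsg.Agent.Lib.Helper99.Symp4J

set_option autoImplicit false

namespace Cfsg.Agent.Lib.Helper99.Symp4M

open scoped Matrix
open Cfsg.Agent.Lib.Helper99.Symp4C Cfsg.Agent.Lib.Helper99.Symp4F Cfsg.Agent.Lib.Helper99.Symp4J

variable {F : Type*} [Field F]

theorem conj_pow_val {x q : GL (Fin 4) F} {r : ℕ} {z : F}
    (hz : ((x ^ r : GL (Fin 4) F) : Matrix (Fin 4) (Fin 4) F) = z • (1 : Matrix (Fin 4) (Fin 4) F)) :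
    (((q⁻¹ * x * q) ^ r : GL (Fin 4) F) : Matrix (Fin 4) (Fin 4) F) = z • (1 : Matrix (Fin 4) (Fin 4) F) := by
  have h1 : (q⁻¹ * x * q) ^ r = q⁻¹ * x ^ r * q := by
    have := conj_pow (a := q⁻¹) (b := x) (i := r)
    simpa using this
  rw [h1, Units.val_mul, Units.val_mul, hz]
  simp [val_inv_mul]

theorem conj_scalar {x q : GL (Fin 4) F} {z' : F}
    (h : ((q⁻¹ * x * q : GL (Fin 4) F) : Matrix (Fin 4) (Fin 4) F) = z' • (1 : Matrix (Fin 4) (Fin 4) F)) :
    (x : Matrix (Fin 4) (Fin 4) F) = z' • (1 : Matrix (Fin 4) (Fin 4) F) := by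
  have h1 : x = q * (q⁻¹ * x * q) * q⁻¹ := by group
  rw [h1, Units.val_mul, Units.val_mul, h]
  simp [val_mul_inv]

theorem conj_trace (x q : GL (Fin 4) F) :
    Matrix.trace ((q⁻¹ * x * q : GL (Fin 4) F) : Matrix (Fin 4) (Fin 4) F) =
      Matrix.trace (x : Matrix (Fin 4) (Fin 4) F) := by
  rw [Units.val_mul, Units.val_mul, Matrix.trace_mul_comm, ← mul_assoc, val_mul_inv, one_mul]

theorem conj_inv (x q : GL (Fin 4) F) : (q⁻¹ * x * q)⁻¹ = q⁻¹ * x⁻¹ * q := by group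

/-- primes at least seven -/
theorem witness_big (h4 : (4 : F) ≠ 0) {r : ℕ} [Fact r.Prime] (hr7 : 7 ≤ r) {x q : GL (Fin 4) F} {z : F}
    (hz : ((x ^ r : GL (Fin 4) F) : Matrix (Fin 4) (Fin 4) F) = z • (1 : Matrix (Fin 4) (Fin 4) F))
    (hy : q⁻¹ * x * q ∈ Subgroup.normalizer (R0 F : Set (GL (Fin 4) F))) :
    ∃ z' : F, (x : Matrix (Fin 4) (Fin 4) F) = z' • (1 : Matrix (Fin 4) (Fin 4) F) := by
  obtain ⟨z', hz'⟩ := no_big_prime h4 hy hr7 (conj_pow_val hz)
  exact ⟨z', conj_scalar hz'⟩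

/-- the witness for `r = 3` -/
theorem witness_three (h2 : (2 : F) ≠ 0) (h3 : (3 : F) ≠ 0) {ω : F} (hω : ω * ω + ω + 1 = 0)
    {x q : GL (Fin 4) F} (hx : (x : Matrix (Fin 4) (Fin 4) F) = Matrix.diagonal ![ω, ω, ω, 1])
    (hy : q⁻¹ * x * q ∈ Subgroup.normalizer (R0 F : Set (GL (Fin 4) F))) : False := by
  have h4 : (4 : F) ≠ 0 := by
    have : (4 : F) = 2 * 2 := by norm_num
    rw [this]; exact mul_ne_zero h2 h2
  have hω3 : ω * ω * ω = 1 := by linear_combination (ω - 1) * hω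
  have hx3 : ((x ^ 3 : GL (Fin 4) F) : Matrix (Fin 4) (Fin 4) F) = (1 : F) • (1 : Matrix (Fin 4) (Fin 4) F) := by
    rw [Units.val_pow_eq_pow_val, hx, Matrix.diagonal_pow, one_smul]
    ext k l
    fin_cases k <;> fin_cases l <;> simp [Matrix.diagonal_apply, Matrix.one_apply, pow_succ, hω3]
  have hxinv : ((x⁻¹ : GL (Fin 4) F) : Matrix (Fin 4) (Fin 4) F) = Matrix.diagonal ![ω * ω, ω * ω, ω * ω, 1] := by
    apply Units.inv_eq_of_mul_eq_one_right
    rw [hx, Matrix.diagonal_mul_diagonal]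
    ext k l
    fin_cases k <;> fin_cases l <;> simp [Matrix.diagonal_apply, Matrix.one_apply, ← mul_assoc, hω3]
  have : Fact (Nat.Prime 3) := ⟨by norm_num⟩
  obtain ⟨n, hpar, hle, hmod, _, _, htr⟩ := core_count h4 hy (r := 3) (by norm_num) (conj_pow_val hx3)
  have t1 : Matrix.trace (Matrix.diagonal ![ω, ω, ω, 1]) = 3 * ω + 1 := by
    simp [Matrix.trace_diagonal, Fin.sum_univ_four]; ring
  have t2 : Matrix.trace (Matrix.diagonal ![ω * ω, ω * ω, ω * ω, 1]) = 3 * (ω * ω) + 1 := by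
    simp [Matrix.trace_diagonal, Fin.sum_univ_four]; ring
  rw [conj_inv, conj_trace, conj_trace, hx, hxinv, t1, t2] at htr
  have h7 : (n : F) = 7 := by
    rw [← htr]
    linear_combination (9 : F) * hω3 + 3 * hω
  have hmod' : 16 % 3 = n % 3 := hmod
  have hn : n = 1 ∨ n = 4 ∨ n = 10 ∨ n = 16 := by
    rcases hpar with h | ⟨m, hm⟩
    · left; exact h
    · right; omega
  rcases hn with rfl | rfl | rfl | rfl
  · have : (2 : F) * 3 = 0 := by push_cast at h7; linear_combination -h7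
    rcases mul_eq_zero.mp this with h | h
    · exact h2 h
    · exact h3 h
  · apply h3; push_cast at h7; linear_combination -h7
  · apply h3; push_cast at h7; linear_combination h7
  · have : (3 : F) * 3 = 0 := by push_cast at h7; linear_combination h7
    rcases mul_eq_zero.mp this with h | h <;> exact h3 h

/-- the witness matrix for `r = 5` -/
def X5 (t : F) : Matrix (Fin 4) (Fin 4) F := !![1, 0, 0, 0; 0, 1, 0, 0; 0, 0, 0, -1; 0, 0, 1, t]

/-- its square -/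
def X5b (t : F) : Matrix (Fin 4) (Fin 4) F := !![1, 0, 0, 0; 0, 1, 0, 0; 0, 0, -1, -t; 0, 0, t, -t]

/-- its inverse -/
def X5i (t : F) : Matrix (Fin 4) (Fin 4) F := !![1, 0, 0, 0; 0, 1, 0, 0; 0, 0, t, 1; 0, 0, -1, 0]

theorem X5_sq {t : F} (ht : t * t + t - 1 = 0) : X5 t * X5 t = X5b t := by
  ext k l
  fin_cases k <;> fin_cases l <;> simp [X5, X5b, Matrix.mul_apply, Fin.sum_univ_four] <;> grind

theorem X5b_sq {t : F} (ht : t * t + t - 1 = 0) : X5b t * X5b t = X5i t := by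
  ext k l
  fin_cases k <;> fin_cases l <;> simp [X5b, X5i, Matrix.mul_apply, Fin.sum_univ_four] <;> grind

theorem X5i_mul (t : F) : X5i t * X5 t = 1 := by
  ext k l
  fin_cases k <;> fin_cases l <;> simp [X5, X5i, Matrix.mul_apply, Fin.sum_univ_four, Matrix.one_apply]

theorem X5_mul (t : F) : X5 t * X5i t = 1 := by
  ext k l
  fin_cases k <;> fin_cases l <;> simp [X5, X5i, Matrix.mul_apply, Fin.sum_univ_four, Matrix.one_apply]

theorem X5_det (t : F) : (X5 t).det = 1 := by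
  simp [X5, Matrix.det_succ_row_zero, Fin.sum_univ_succ, Fin.succAbove, Matrix.submatrix]

theorem X5_pow {t : F} (ht : t * t + t - 1 = 0) : (X5 t) ^ 5 = 1 := by
  have : (X5 t) ^ 5 = ((X5 t * X5 t) * (X5 t * X5 t)) * X5 t := by
    simp only [pow_succ, pow_zero, one_mul, mul_assoc]
  rw [this, X5_sq ht, X5b_sq ht, X5i_mul]

theorem X5_not_scalar (t z : F) : X5 t ≠ z • (1 : Matrix (Fin 4) (Fin 4) F) := by
  intro h
  have := congrFun (congrFun h 2) 3
  simp [X5] at this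

/-- the witness for `r = 5` when five is a square -/
theorem witness_five (h2 : (2 : F) ≠ 0) (h5 : (5 : F) ≠ 0) {t : F} (ht : t * t + t - 1 = 0)
    {x q : GL (Fin 4) F} (hx : (x : Matrix (Fin 4) (Fin 4) F) = X5 t)
    (hy : q⁻¹ * x * q ∈ Subgroup.normalizer (R0 F : Set (GL (Fin 4) F))) : False := by
  have h4 : (4 : F) ≠ 0 := by
    have : (4 : F) = 2 * 2 := by norm_num
    rw [this]; exact mul_ne_zero h2 h2
  have hx5 : ((x ^ 5 : GL (Fin 4) F) : Matrix (Fin 4) (Fin 4) F) = (1 : F) • (1 : Matrix (Fin 4) (Fin 4) F) := by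
    rw [Units.val_pow_eq_pow_val, hx, X5_pow ht, one_smul]
  have hxinv : ((x⁻¹ : GL (Fin 4) F) : Matrix (Fin 4) (Fin 4) F) = X5i t := by
    apply Units.inv_eq_of_mul_eq_one_right
    rw [hx, X5_mul]
  have : Fact (Nat.Prime 5) := ⟨by norm_num⟩
  obtain ⟨n, hpar, hle, hmod, h16, _, htr⟩ := core_count h4 hy (r := 5) (by norm_num) (conj_pow_val hx5)
  have t1 : Matrix.trace (X5 t) = 2 + t := by
    simp [X5, Matrix.trace, Fin.sum_univ_four]; ring
  have t2 : Matrix.trace (X5i t) = 2 + t := by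
    simp [X5i, Matrix.trace, Fin.sum_univ_four]; ring
  rw [conj_inv, conj_trace, conj_trace, hx, hxinv, t1, t2] at htr
  have hmod' : 16 % 5 = n % 5 := hmod
  have hn : n = 1 ∨ n = 6 ∨ n = 16 := by
    rcases hpar with h | ⟨m, hm⟩
    · left; exact h
    · right; omega
  rcases hn with rfl | rfl | rfl
  · apply h5; push_cast at htr; grind
  · apply h5; push_cast at htr; grind
  · obtain ⟨z', hz'⟩ := h16 rfl
    have := conj_scalar hz'
    rw [hx] at this
    exact X5_not_scalar t z' this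

/-- the nilpotent matrix of the transvection -/
def N0 (F : Type*) [Field F] : Matrix (Fin 4) (Fin 4) F := !![0, 1, 0, 0; 0, 0, 0, 0; 0, 0, 0, 0; 0, 0, 0, 0]

theorem N0_sq : N0 F * N0 F = 0 := by
  ext k l
  fin_cases k <;> fin_cases l <;> simp [N0, Matrix.mul_apply, Fin.sum_univ_four]

theorem N0_ne : N0 F ≠ 0 := by
  intro h
  have := congrFun (congrFun h 0) 1
  simp [N0] at this

/-- the transvection -/
def T0 (F : Type*) [Field F] : Matrix (Fin 4) (Fin 4) F := !![1, 1, 0, 0; 0, 1, 0, 0; 0, 0, 1, 0; 0, 0, 0, 1]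

theorem T0_eq : T0 F = 1 + N0 F := by
  ext k l
  fin_cases k <;> fin_cases l <;> simp [T0, N0, Matrix.one_apply]

theorem N0_det : (1 + N0 F).det = 1 := by
  rw [← T0_eq]
  simp [T0, Matrix.det_succ_row_zero, Fin.sum_univ_succ, Fin.succAbove, Matrix.submatrix]

theorem N0_not_scalar (z : F) : 1 + N0 F ≠ z • (1 : Matrix (Fin 4) (Fin 4) F) := by
  intro h
  have := congrFun (congrFun h 0) 1
  simp [N0] at this

/-- the witness for `r = 5` in characteristic five -/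
theorem witness_trans (h4 : (4 : F) ≠ 0) (h5 : (5 : F) = 0)
    {x q : GL (Fin 4) F} (hx : (x : Matrix (Fin 4) (Fin 4) F) = 1 + N0 F)
    (hy : q⁻¹ * x * q ∈ Subgroup.normalizer (R0 F : Set (GL (Fin 4) F))) : False := by
  set N : Matrix (Fin 4) (Fin 4) F :=
    ((q⁻¹ : GL (Fin 4) F) : Matrix (Fin 4) (Fin 4) F) * N0 F * (q : Matrix (Fin 4) (Fin 4) F) with hN
  have hyN : ((q⁻¹ * x * q : GL (Fin 4) F) : Matrix (Fin 4) (Fin 4) F) = 1 + N := by
    rw [Units.val_mul, Units.val_mul, hx, mul_add, add_mul, mul_one, val_inv_mul, hN]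
  have hNN : N * N = 0 := by
    rw [hN]
    have : ((q⁻¹ : GL (Fin 4) F) : Matrix (Fin 4) (Fin 4) F) * N0 F * (q : Matrix (Fin 4) (Fin 4) F) *
        (((q⁻¹ : GL (Fin 4) F) : Matrix (Fin 4) (Fin 4) F) * N0 F * (q : Matrix (Fin 4) (Fin 4) F)) =
        ((q⁻¹ : GL (Fin 4) F) : Matrix (Fin 4) (Fin 4) F) * (N0 F *
          ((q : Matrix (Fin 4) (Fin 4) F) * ((q⁻¹ : GL (Fin 4) F) : Matrix (Fin 4) (Fin 4) F)) * N0 F) *
          (q : Matrix (Fin 4) (Fin 4) F) := by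
      simp only [mul_assoc]
    rw [this, val_mul_inv, mul_one, N0_sq, mul_zero, zero_mul]
  have hN0 : N ≠ 0 := by
    intro h0
    apply N0_ne (F := F)
    have : N0 F = (q : Matrix (Fin 4) (Fin 4) F) * N * ((q⁻¹ : GL (Fin 4) F) : Matrix (Fin 4) (Fin 4) F) := by
      rw [hN]
      have : (q : Matrix (Fin 4) (Fin 4) F) * (((q⁻¹ : GL (Fin 4) F) : Matrix (Fin 4) (Fin 4) F) * N0 F *
          (q : Matrix (Fin 4) (Fin 4) F)) * ((q⁻¹ : GL (Fin 4) F) : Matrix (Fin 4) (Fin 4) F) =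
          ((q : Matrix (Fin 4) (Fin 4) F) * ((q⁻¹ : GL (Fin 4) F) : Matrix (Fin 4) (Fin 4) F)) * N0 F *
          ((q : Matrix (Fin 4) (Fin 4) F) * ((q⁻¹ : GL (Fin 4) F) : Matrix (Fin 4) (Fin 4) F)) := by
        simp only [mul_assoc]
      rw [this, val_mul_inv, one_mul, mul_one]
    rw [this, h0, mul_zero, zero_mul]
  exact no_transvection h4 h5 hy hyN hNN hN0

end Cfsg.Agent.Lib.Helper99.Symp4M
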