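import Mathlib
import Cfsg.Prelude.Def_LieClassical
import Cfsg.Agent.Lib.Helper19.UnitaryDet
import Cfsg.Agent.Lib.Helper46.UnitaryField
import Cfsg.Agent.Lib.Helper99.HermONB

/-!
# Unitary toolkit in dimension four: conjugate transposes, membership of `GU`, norms
-/

set_option autoImplicit false

namespace Cfsg.Agent.Lib.Helper99.Uni4A

open Cfsg.Agent.Lib.Helper19 (frobQ frobQ_apply pow_q_pow_q add_pow_q sum_pow_q q_pos one_lt_q)
open Cfsg.Agent.Lib.Helper99.HermONB
open scoped Matrix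

variable {F : Type*} [Field F] [Fintype F] {p : ℕ}

/-- the conjugate transpose -/
noncomputable def ct (hF : Fintype.card F = p ^ 2) (M : Matrix (Fin 4) (Fin 4) F) :
    Matrix (Fin 4) (Fin 4) F :=
  ((frobQ hF).mapMatrix M)ᵀ

variable (hF : Fintype.card F = p ^ 2)

theorem ct_apply (M : Matrix (Fin 4) (Fin 4) F) (i j : Fin 4) : ct hF M i j = (M j i) ^ p := by
  simp [ct, frobQ_apply]

theorem ct_mul (A B : Matrix (Fin 4) (Fin 4) F) : ct hF (A * B) = ct hF B * ct hF A := by
  unfold ct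
  rw [map_mul, Matrix.transpose_mul]

theorem ct_one : ct hF (1 : Matrix (Fin 4) (Fin 4) F) = 1 := by
  unfold ct
  rw [map_one, Matrix.transpose_one]

theorem ct_zero : ct hF (0 : Matrix (Fin 4) (Fin 4) F) = 0 := by
  unfold ct
  rw [map_zero, Matrix.transpose_zero]

theorem ct_add (A B : Matrix (Fin 4) (Fin 4) F) : ct hF (A + B) = ct hF A + ct hF B := by
  unfold ct
  rw [map_add, Matrix.transpose_add]

theorem ct_neg (A : Matrix (Fin 4) (Fin 4) F) : ct hF (-A) = -ct hF A := by
  unfold ct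
  rw [map_neg, Matrix.transpose_neg]

theorem ct_sub (A B : Matrix (Fin 4) (Fin 4) F) : ct hF (A - B) = ct hF A - ct hF B := by
  unfold ct
  rw [map_sub, Matrix.transpose_sub]

theorem ct_smul (c : F) (A : Matrix (Fin 4) (Fin 4) F) : ct hF (c • A) = (c ^ p) • ct hF A := by
  ext i j
  simp [ct_apply, mul_pow]

theorem ct_ct (A : Matrix (Fin 4) (Fin 4) F) : ct hF (ct hF A) = A := by
  ext i j
  simp [ct_apply, pow_q_pow_q hF]

theorem det_ct (A : Matrix (Fin 4) (Fin 4) F) : (ct hF A).det = A.det ^ p := by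
  unfold ct
  rw [Matrix.det_transpose, ← RingHom.map_det, frobQ_apply]

theorem trace_ct (A : Matrix (Fin 4) (Fin 4) F) : (ct hF A).trace = A.trace ^ p := by
  simp only [Matrix.trace, Matrix.diag, ct_apply]
  rw [sum_pow_q hF]

theorem ct_injective : Function.Injective (ct hF) := by
  intro A B h
  have := congrArg (ct hF) h
  rwa [ct_ct, ct_ct] at this

/-- the adjoint property -/
theorem herm_mulVec (M : Matrix (Fin 4) (Fin 4) F) (u w : Fin 4 → F) :
    Cfsg.hermForm 4 F p (M *ᵥ u) w = Cfsg.hermForm 4 F p u (ct hF M *ᵥ w) := by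
  unfold Cfsg.hermForm
  simp only [Matrix.mulVec, dotProduct, ct_apply]
  have : ∀ j : Fin 4, (∑ i : Fin 4, M i j ^ p * w i) ^ p = ∑ i : Fin 4, M i j * w i ^ p := by
    intro j
    rw [sum_pow_q hF]
    apply Finset.sum_congr rfl
    intro i _
    rw [mul_pow, pow_q_pow_q hF]
  simp only [this, Finset.sum_mul, Finset.mul_sum]
  rw [Finset.sum_comm]
  apply Finset.sum_congr rfl
  intro j _
  apply Finset.sum_congr rfl
  intro i _
  ring

/-- membership of the unitary group through the conjugate transpose -/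
theorem mem_GU_iff_ct (g : Matrix.GeneralLinearGroup (Fin 4) F) :
    g ∈ Cfsg.GU 4 F p ↔ ct hF (g : Matrix (Fin 4) (Fin 4) F) * (g : Matrix (Fin 4) (Fin 4) F) = 1 := by
  constructor
  · intro hg
    have h := Cfsg.Agent.Lib.Helper19.GU_transpose_mul_conj hF g hg
    have h2 := congrArg Matrix.transpose h
    rw [Matrix.transpose_mul, Matrix.transpose_transpose, Matrix.transpose_one] at h2
    exact h2
  · intro h
    rw [Cfsg.Agent.Lib.Helper19.mem_GU_iff]
    intro u v
    rw [herm_mulVec hF, Matrix.mulVec_mulVec, h, Matrix.one_mulVec]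

/-- the standard form is a nondegenerate hermitian form -/
theorem hform4 (hF : Fintype.card F = p ^ 2) : HForm p (Cfsg.hermForm 4 F p) := by
  refine ⟨Cfsg.Agent.Lib.Helper19.hermForm_add_left, Cfsg.Agent.Lib.Helper19.hermForm_smul_left,
    fun x y => (Cfsg.Agent.Lib.Helper19.hermForm_conj hF x y).symm, ?_⟩
  intro x hx
  funext i
  have := hx (Pi.single i 1)
  unfold Cfsg.hermForm at this
  rw [Finset.sum_eq_single i] at this
  · simpa using this
  · intro j _ hj
    simp [Pi.single_apply, hj, (q_pos hF).ne']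
  · intro h; exact absurd (Finset.mem_univ i) h

/-- norms are surjective onto the fixed field -/
theorem exists_norm_eq (hF : Fintype.card F = p ^ 2) {r : F} (hr0 : r ≠ 0) (hrp : r ^ p = r) :
    ∃ t : F, t ≠ 0 ∧ t * t ^ p = r := by
  have hp1 : 1 < p := one_lt_q hF
  have hrq1 : r ^ (p - 1) = 1 := by
    have h1 : r ^ (p - 1) * r = 1 * r := by
      rw [← pow_succ, Nat.sub_add_cancel (by omega), hrp, one_mul]
    exact mul_right_cancel₀ hr0 h1
  have hy : (Units.mk0 r hr0) ^ (p - 1) = 1 := by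
    apply Units.ext
    rw [Units.val_pow_eq_pow_val, Units.val_mk0, Units.val_one, hrq1]
  obtain ⟨x, hx⟩ := Cfsg.Agent.Lib.Helper46.exists_pow_eq_of_pow_eq_one (C := Fˣ) (p + 1) (p - 1)
    (Cfsg.Agent.Lib.Helper46.card_units_eq hF) _ hy
  refine ⟨(x : F), x.ne_zero, ?_⟩
  have := congrArg Units.val hx
  rw [Units.val_pow_eq_pow_val, Units.val_mk0] at this
  rw [← this, pow_succ']

/-- Hilbert's theorem 90 for the quadratic extension -/
theorem exists_div_conj (hF : Fintype.card F = p ^ 2) {d : F} (hd : d * d ^ p = 1) :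
    ∃ a : F, a ≠ 0 ∧ a = d * a ^ p := by
  by_cases h1 : 1 + d = 0
  · obtain ⟨c, hc0, hc⟩ := Cfsg.Agent.Lib.Helper46.exists_trace_zero hF
    rw [Cfsg.Agent.Lib.Helper46.frobRing_apply] at hc
    refine ⟨c, hc0, ?_⟩
    have hd' : d = -1 := by linear_combination h1
    rw [hd', hc]; ring
  · refine ⟨1 + d, h1, ?_⟩
    rw [add_pow_q hF, one_pow]
    linear_combination -hd

theorem natCast_pow (hF : Fintype.card F = p ^ 2) (n : ℕ) : ((n : F)) ^ p = n := by
  rw [← frobQ_apply hF, map_natCast]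

theorem ofNat_pow (hF : Fintype.card F = p ^ 2) (n : ℕ) [n.AtLeastTwo] : ((OfNat.ofNat n : F)) ^ p = OfNat.ofNat n := by
  rw [← frobQ_apply hF, map_ofNat]

theorem neg_pow_p (hF : Fintype.card F = p ^ 2) (a : F) : (-a) ^ p = -(a ^ p) := by
  rw [← frobQ_apply hF, ← frobQ_apply hF, map_neg]

theorem sub_pow_p (hF : Fintype.card F = p ^ 2) (a b : F) : (a - b) ^ p = a ^ p - b ^ p := by
  rw [← frobQ_apply hF, ← frobQ_apply hF, ← frobQ_apply hF, map_sub]

theorem half_pow (hF : Fintype.card F = p ^ 2) {h : F} (h2 : 2 * h = 1) : h ^ p = h := by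
  have h3 : (2 * h) ^ p = 1 := by rw [h2, one_pow]
  rw [mul_pow, ofNat_pow hF] at h3
  have h20 : (2 : F) ≠ 0 := by
    intro h0; rw [h0, zero_mul] at h2; exact zero_ne_one h2
  exact mul_left_cancel₀ h20 (h3.trans h2.symm)

/-- a square root of `-1` is inverted by the conjugation when `p ≡ 3 (mod 4)` -/
theorem i_pow {i : F} (hi : i * i = -1) (hp4 : p % 4 = 3) : i ^ p = -i := by
  have h4 : i ^ 4 = 1 := by
    have : i ^ 4 = (i * i) * (i * i) := by ring
    rw [this, hi]; ring
  have hp : p = 4 * (p / 4) + 3 := by omega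
  rw [hp, pow_add, pow_mul, h4, one_pow, one_mul]
  have : i ^ 3 = (i * i) * i := by ring
  rw [this, hi]; ring

end Cfsg.Agent.Lib.Helper99.Uni4A
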