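import Mathlib
import Cfsg.Agent.Lib.Helper99.Uni4A
import Cfsg.Agent.Lib.Helper99.Symp4F
import Cfsg.Agent.Lib.Helper99.Symp4M

/-!
# Witnesses in the unitary case
-/

set_option autoImplicit false

namespace Cfsg.Agent.Lib.Helper99.Uni4C

open Cfsg.Agent.Lib.Helper19 (frobQ frobQ_apply pow_q_pow_q add_pow_q sum_pow_q q_pos one_lt_q)
open Cfsg.Agent.Lib.Helper99.Uni4A Cfsg.Agent.Lib.Helper99.Symp4C Cfsg.Agent.Lib.Helper99.Symp4E
open Cfsg.Agent.Lib.Helper99.Symp4F Cfsg.Agent.Lib.Helper99.Symp4M Cfsg.Agent.Lib.Helper99.Symp4J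
open scoped Matrix

variable {F : Type*} [Field F]

/-- the trace form of the witness criterion for `r = 5` -/
theorem witness_five' (h2 : (2 : F) ≠ 0) (h5 : (5 : F) ≠ 0) {t : F} (ht : t * t + t - 1 = 0)
    {x q : GL (Fin 4) F}
    (hx5 : ((x ^ 5 : GL (Fin 4) F) : Matrix (Fin 4) (Fin 4) F) = (1 : F) • (1 : Matrix (Fin 4) (Fin 4) F))
    (ht1 : Matrix.trace (x : Matrix (Fin 4) (Fin 4) F) = 2 + t)
    (ht2 : Matrix.trace ((x⁻¹ : GL (Fin 4) F) : Matrix (Fin 4) (Fin 4) F) = 2 + t)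
    (hns : ∀ z : F, (x : Matrix (Fin 4) (Fin 4) F) ≠ z • (1 : Matrix (Fin 4) (Fin 4) F))
    (hy : q⁻¹ * x * q ∈ Subgroup.normalizer (R0 F : Set (GL (Fin 4) F))) : False := by
  have h4 : (4 : F) ≠ 0 := by
    have : (4 : F) = 2 * 2 := by norm_num
    rw [this]; exact mul_ne_zero h2 h2
  have : Fact (Nat.Prime 5) := ⟨by norm_num⟩
  obtain ⟨n, hpar, hle, hmod, h16, _, htr⟩ := core_count h4 hy (r := 5) (by norm_num) (conj_pow_val hx5)
  rw [Symp4M.conj_inv, conj_trace, conj_trace, ht1, ht2] at htr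
  have hmod' : 16 % 5 = n % 5 := hmod
  have hn : n = 1 ∨ n = 6 ∨ n = 16 := by
    rcases hpar with h | ⟨m, hm⟩
    · left; exact h
    · right; omega
  rcases hn with rfl | rfl | rfl
  · apply h5; push_cast at htr; grind
  · apply h5; push_cast at htr; grind
  · obtain ⟨z', hz'⟩ := h16 rfl
    exact hns z' (conj_scalar hz')

/-- a block matrix: the identity on the first two coordinates -/
def X5u (a b c d : F) : Matrix (Fin 4) (Fin 4) F := !![1, 0, 0, 0; 0, 1, 0, 0; 0, 0, a, c; 0, 0, b, d]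

theorem X5u_mul (a b c d a' b' c' d' : F) :
    X5u a b c d * X5u a' b' c' d' =
      X5u (a * a' + c * b') (b * a' + d * b') (a * c' + c * d') (b * c' + d * d') := by
  ext k l
  fin_cases k <;> fin_cases l <;> simp [X5u, Matrix.mul_apply, Fin.sum_univ_four]

theorem X5u_one : X5u (1 : F) 0 0 1 = 1 := by
  ext k l
  fin_cases k <;> fin_cases l <;> simp [X5u]

theorem X5u_det (a b c d : F) : (X5u a b c d).det = a * d - b * c := by
  simp [X5u, Matrix.det_succ_row_zero, Fin.sum_univ_succ, Fin.succAbove, Matrix.submatrix]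
  ring

theorem X5u_trace (a b c d : F) : Matrix.trace (X5u a b c d) = 2 + (a + d) := by
  simp [X5u, Matrix.trace, Fin.sum_univ_four]; ring

theorem X5u_inv {a b c d : F} (hdet : a * d - b * c = 1) : X5u a b c d * X5u d (-b) (-c) a = 1 := by
  rw [X5u_mul, ← X5u_one]
  congr 1 <;> grind

theorem X5u_inv' {a b c d : F} (hdet : a * d - b * c = 1) : X5u d (-b) (-c) a * X5u a b c d = 1 := by
  rw [X5u_mul, ← X5u_one]
  congr 1 <;> grind

theorem X5u_pow {a b c d t : F} (hdet : a * d - b * c = 1) (htr : a + d = t) (ht : t * t + t - 1 = 0) :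
    (X5u a b c d) ^ 5 = 1 := by
  have hsq : X5u a b c d * X5u a b c d = X5u (t * a - 1) (t * b) (t * c) (t * d - 1) := by
    rw [X5u_mul]
    congr 1 <;> grind
  have h4 : X5u (t * a - 1) (t * b) (t * c) (t * d - 1) * X5u (t * a - 1) (t * b) (t * c) (t * d - 1) =
      X5u d (-b) (-c) a := by
    rw [X5u_mul]
    congr 1 <;> grind
  have : (X5u a b c d) ^ 5 = ((X5u a b c d * X5u a b c d) * (X5u a b c d * X5u a b c d)) * X5u a b c d := by
    simp only [pow_succ, pow_zero, one_mul, mul_assoc]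
  rw [this, hsq, h4, X5u_inv' hdet]

theorem X5u_not_scalar {a b c d : F} (hne : b ≠ 0 ∨ a ≠ 1) (z : F) :
    X5u a b c d ≠ z • (1 : Matrix (Fin 4) (Fin 4) F) := by
  intro h
  have h00 := congrFun (congrFun h 0) 0
  have h22 := congrFun (congrFun h 2) 2
  have h32 := congrFun (congrFun h 3) 2
  simp [X5u] at h00 h22 h32
  rcases hne with h1 | h1
  · exact h1 h32
  · apply h1; rw [h22, ← h00]

section transvection

theorem zero_vadd : ∀ v : V, vadd ((0 : Fin 4), (0 : Fin 4)) v = v := by decide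

/-- in characteristic three no transvection normalises the standard group -/
theorem no_rank_one (h4 : (4 : F) ≠ 0) (h3 : (3 : F) = 0) {y : GL (Fin 4) F}
    (hy : y ∈ Subgroup.normalizer (R0 F : Set (GL (Fin 4) F))) {u φ : Fin 4 → F}
    (hyN : (y : Matrix (Fin 4) (Fin 4) F) = 1 + Matrix.vecMulVec u φ) (hφu : φ ⬝ᵥ u = 0)
    (hN0 : Matrix.vecMulVec u φ ≠ 0) : False := by
  have : NeZero (2 : F) := ⟨two_ne_of_four h4⟩
  have h2 : (2 : F) ≠ 0 := two_ne_of_four h4
  obtain ⟨c, π, h⟩ := exists_ndata hy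
  set N : Matrix (Fin 4) (Fin 4) F := Matrix.vecMulVec u φ with hN
  have hNN : N * N = 0 := by
    rw [hN, Matrix.vecMulVec_mul_vecMulVec, hφu, zero_smul]
    ext k l
    simp [Matrix.vecMulVec_apply]
  have htrN : Matrix.trace N = 0 := by
    rw [hN, Matrix.trace_vecMulVec, dotProduct_comm, hφu]
  by_cases hall : ∀ v, π v = v
  · have hpow := val_pow_of_sq_zero hyN hNN
    have hz : ((y ^ 3 : GL (Fin 4) F) : Matrix (Fin 4) (Fin 4) F) =
        (1 : F) • (1 : Matrix (Fin 4) (Fin 4) F) := by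
      rw [hpow 3]
      push_cast
      rw [h3, zero_smul, add_zero, one_smul]
    obtain ⟨ck, hk, hfix⟩ := h.pow 3
    obtain ⟨hπr, hck⟩ := hk.scalar hz
    have hc1 : ∀ v, c v = 1 := by
      intro v
      have h1 : c v ^ 3 = 1 := by rw [← hfix v (hall v), hck]
      have h2 := h.sq_fix (hall v)
      have : c v ^ 3 = (c v * c v) * c v := by ring
      rw [this, h2, one_mul] at h1
      exact h1
    obtain ⟨z', hz'⟩ := commute_of_fix h hall hc1 h4
    have hNz : N = (z' - 1) • (1 : Matrix (Fin 4) (Fin 4) F) := by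
      have : N = (y : Matrix (Fin 4) (Fin 4) F) - 1 := by rw [hyN]; abel
      rw [this, hz', sub_smul, one_smul]
    have h0 := hNN
    rw [hNz, Matrix.smul_mul, Matrix.one_mul, smul_smul] at h0
    have h00 := congrFun (congrFun h0 0) 0
    simp only [Matrix.smul_apply, Matrix.one_apply_eq, smul_eq_mul, mul_one, Matrix.zero_apply] at h00
    have : z' - 1 = 0 := by
      rcases mul_eq_zero.mp h00 with h' | h' <;> exact h'
    apply hN0
    rw [hNz, this, zero_smul]
  · push Not at hall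
    obtain ⟨v, hv⟩ := hall
    have hrel := h.rel v
    rw [hyN] at hrel
    have hc0 := h.ne v
    set cv : F := c v with hcv
    set s' : F := sg (π v).1 (π v).2 with hs'
    set W1 : Matrix (Fin 4) (Fin 4) F := Wv v with hW1
    set W2 : Matrix (Fin 4) (Fin 4) F := Wv (π v) with hW2
    have hW22 : W2 * W2 = s' • (1 : Matrix (Fin 4) (Fin 4) F) := Wv_sq _
    have hs2 : s' * s' = 1 := sg_mul_self _ _
    set S : Matrix (Fin 4) (Fin 4) F := (cv⁻¹ * s') • (W2 * W1) with hS
    -- the key relation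
    have hkey : 1 - S = (cv⁻¹ * s') • (W2 * N * W1) - N := by
      have e1 : (cv⁻¹ * s') • (W2 * ((1 + N) * W1)) = (cv⁻¹ * s') • (W2 * (cv • (W2 * (1 + N)))) := by
        rw [hrel]
      have e2 : (cv⁻¹ * s') • (W2 * (cv • (W2 * (1 + N)))) = 1 + N := by
        rw [Matrix.mul_smul, smul_smul, ← mul_assoc, hW22, Matrix.smul_mul, Matrix.one_mul, smul_smul]
        have : cv⁻¹ * s' * cv * s' = 1 := by
          calc cv⁻¹ * s' * cv * s' = (cv⁻¹ * cv) * (s' * s') := by ring
            _ = 1 := by rw [inv_mul_cancel₀ hc0, hs2, one_mul]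
        rw [this, one_smul]
      have e3 : (cv⁻¹ * s') • (W2 * ((1 + N) * W1)) = S + (cv⁻¹ * s') • (W2 * N * W1) := by
        rw [hS, add_mul, one_mul, mul_add, smul_add, mul_assoc]
      rw [e3, e2] at e1
      have : S = 1 + N - (cv⁻¹ * s') • (W2 * N * W1) := by rw [← e1]; abel
      rw [this]; abel
    set a : Fin 4 → F := (cv⁻¹ * s') • (W2 *ᵥ u) with ha
    set ψ : Fin 4 → F := φ ᵥ* W1 with hψ
    set A : Matrix (Fin 4) (Fin 4) F := Matrix.vecMulVec a ψ with hA
    have hAeq : (cv⁻¹ * s') • (W2 * N * W1) = A := by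
      rw [hA, ha, hψ, hN, Matrix.mul_vecMulVec, Matrix.vecMulVec_mul, Matrix.smul_vecMulVec]
    rw [hAeq] at hkey
    set α : F := Matrix.trace A with hα
    have hAA : A * A = α • A := by
      rw [hα, hA, Matrix.vecMulVec_mul_vecMulVec, Matrix.trace_vecMulVec, Matrix.vecMulVec_smul,
        dotProduct_comm]
    -- facts on S
    set w : V := vadd (π v) v with hw
    have hw0 : w ≠ (0, 0) := by
      intro h0
      apply hv
      have := vadd_vadd_cancel (π v) v
      rw [← hw, h0] at this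
      rw [zero_vadd] at this
      exact this.symm
    have hSw : S = (cv⁻¹ * s' * sg v.1 (π v).2) • Wv w := by
      rw [hS, hW1, hW2, Wv_mul, smul_smul]
    have hκ : cv⁻¹ * s' * sg v.1 (π v).2 ≠ 0 :=
      mul_ne_zero (mul_ne_zero (inv_ne_zero hc0) (sg_ne_zero _ _)) (sg_ne_zero _ _)
    obtain ⟨σ, hσ0, hSS⟩ : ∃ σ : F, σ ≠ 0 ∧ S * S = σ • (1 : Matrix (Fin 4) (Fin 4) F) := by
      refine ⟨(cv⁻¹ * s' * sg v.1 (π v).2) * (cv⁻¹ * s' * sg v.1 (π v).2) * sg w.1 w.2,
        mul_ne_zero (mul_ne_zero hκ hκ) (sg_ne_zero _ _), ?_⟩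
      rw [hSw, Matrix.smul_mul, Matrix.mul_smul, Wv_sq, smul_smul, smul_smul]
    have htrS : Matrix.trace S = 0 := by
      rw [hSw, Matrix.trace_smul]
      unfold Wv
      rw [trace_W, if_neg, smul_zero]
      rintro ⟨h1, h2⟩
      exact hw0 (Prod.ext h1 h2)
    have hα4 : α = 4 := by
      have := congrArg Matrix.trace hkey
      rw [Matrix.trace_sub, Matrix.trace_sub, Matrix.trace_one, htrS, htrN] at this
      simp at this
      rw [hα, ← this]
    have hMM : (A - N) * (A - N) = (σ - 1) • (1 : Matrix (Fin 4) (Fin 4) F) + (2 : F) • (A - N) := by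
      rw [← hkey]
      have : (1 - S) * (1 - S) = 1 - (2 : F) • S + S * S := by
        rw [two_smul]; noncomm_ring
      rw [this, hSS]
      module
    have hexp : (A - N) * (A - N) = α • A - A * N - N * A := by
      have : (A - N) * (A - N) = A * A - A * N - N * A + N * N := by noncomm_ring
      rw [this, hAA, hNN, add_zero]
    set β : F := Matrix.trace (A * N) with hβ
    have t1 : Matrix.trace ((A - N) * (A - N)) = α * α - 2 * β := by
      rw [hexp, Matrix.trace_sub, Matrix.trace_sub, Matrix.trace_smul, Matrix.trace_mul_comm N A]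
      rw [smul_eq_mul]; ring
    have t2 : Matrix.trace ((A - N) * (A - N)) = 4 * (σ - 1) + 2 * α := by
      rw [hMM, Matrix.trace_add, Matrix.trace_smul, Matrix.trace_smul, Matrix.trace_one,
        Matrix.trace_sub, htrN, sub_zero, smul_eq_mul, smul_eq_mul]
      simp
      ring
    have t3 : Matrix.trace ((A - N) * (A - N) * N) = α * β := by
      rw [hexp]
      have : (α • A - A * N - N * A) * N = α • (A * N) - A * (N * N) - N * (A * N) := by
        rw [sub_mul, sub_mul, Matrix.smul_mul]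
        simp only [mul_assoc]
      rw [this, hNN, Matrix.mul_zero, sub_zero, Matrix.trace_sub, Matrix.trace_smul,
        Matrix.trace_mul_comm N (A * N), mul_assoc, hNN, Matrix.mul_zero, Matrix.trace_zero, sub_zero,
        smul_eq_mul]
    have t4 : Matrix.trace ((A - N) * (A - N) * N) = 2 * β := by
      rw [hMM, add_mul, Matrix.smul_mul, Matrix.one_mul, Matrix.smul_mul, sub_mul, hNN, sub_zero,
        Matrix.trace_add, Matrix.trace_smul, Matrix.trace_smul, htrN, smul_zero, zero_add, smul_eq_mul]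
    have hβ0 : β = 0 := by
      have h5 : (α - 2) * β = 0 := by linear_combination t4 - t3
      rw [hα4] at h5
      have : (2 : F) * β = 0 := by linear_combination h5
      exact (mul_eq_zero.mp this).resolve_left h2
    have hσ : (4 : F) * σ = 0 := by
      have h6 : α * α - 2 * β = 4 * (σ - 1) + 2 * α := t1.symm.trans t2
      rw [hα4, hβ0] at h6
      linear_combination -h6 + (4 : F) * h3
    exact hσ0 ((mul_eq_zero.mp hσ).resolve_left h4)

/-- conjugates of transvections are transvections -/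
theorem conj_rank_one {x q : GL (Fin 4) F} {u φ : Fin 4 → F}
    (hx : (x : Matrix (Fin 4) (Fin 4) F) = 1 + Matrix.vecMulVec u φ) (hφu : φ ⬝ᵥ u = 0)
    (hN0 : Matrix.vecMulVec u φ ≠ 0) :
    ∃ u' φ' : Fin 4 → F, ((q⁻¹ * x * q : GL (Fin 4) F) : Matrix (Fin 4) (Fin 4) F) =
      1 + Matrix.vecMulVec u' φ' ∧ φ' ⬝ᵥ u' = 0 ∧ Matrix.vecMulVec u' φ' ≠ 0 := by
  set qi : Matrix (Fin 4) (Fin 4) F := ((q⁻¹ : GL (Fin 4) F) : Matrix (Fin 4) (Fin 4) F) with hqi
  set qm : Matrix (Fin 4) (Fin 4) F := (q : Matrix (Fin 4) (Fin 4) F) with hqm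
  have h1 : qi * qm = 1 := val_inv_mul q
  have h2 : qm * qi = 1 := val_mul_inv q
  have hconj : qi * Matrix.vecMulVec u φ * qm = Matrix.vecMulVec (qi *ᵥ u) (φ ᵥ* qm) := by
    rw [Matrix.mul_vecMulVec, Matrix.vecMulVec_mul]
  refine ⟨qi *ᵥ u, φ ᵥ* qm, ?_, ?_, ?_⟩
  · rw [Units.val_mul, Units.val_mul, hx, ← hqi, ← hqm, mul_add, add_mul, mul_one, h1, hconj]
  · rw [Matrix.dotProduct_mulVec, Matrix.vecMul_vecMul, h2, Matrix.vecMul_one, hφu]
  · intro h0
    apply hN0
    rw [← hconj] at h0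
    have := congrArg (fun X => qm * X * qi) h0
    simp only [mul_zero, zero_mul] at this
    rw [← mul_assoc, ← mul_assoc, h2, one_mul, mul_assoc, h2, mul_one] at this
    exact this

end transvection

section unitary

variable [Fintype F] {p : ℕ}

theorem X5u_unitary (hF : Fintype.card F = p ^ 2) {a b : F} (hab : a * a ^ p + b * b ^ p = 1) :
    ct hF (X5u a b (-(b ^ p)) (a ^ p)) * X5u a b (-(b ^ p)) (a ^ p) = 1 := by
  have hp0 : p ≠ 0 := (q_pos hF).ne'
  ext k l
  rw [Matrix.mul_apply, Fin.sum_univ_four]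
  simp only [ct_apply]
  fin_cases k <;> fin_cases l <;>
    simp [X5u, Matrix.one_apply, hp0, neg_pow_p hF, pow_q_pow_q hF] <;> grind

/-- the witness of order five in the special unitary group when `t` lies in the prime field -/
theorem exists_su2_witness (hF : Fintype.card F = p ^ 2) (h2 : (2 : F) ≠ 0) (h5 : (5 : F) ≠ 0)
    {t : F} (ht : t * t + t - 1 = 0) (htp : t ^ p = t) :
    ∃ x : GL (Fin 4) F, x ∈ Cfsg.GU 4 F p ∧ (x : Matrix (Fin 4) (Fin 4) F).det = 1 ∧
      ((x ^ 5 : GL (Fin 4) F) : Matrix (Fin 4) (Fin 4) F) = (1 : F) • (1 : Matrix (Fin 4) (Fin 4) F) ∧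
      Matrix.trace (x : Matrix (Fin 4) (Fin 4) F) = 2 + t ∧
      Matrix.trace ((x⁻¹ : GL (Fin 4) F) : Matrix (Fin 4) (Fin 4) F) = 2 + t ∧
      ∀ z : F, (x : Matrix (Fin 4) (Fin 4) F) ≠ z • (1 : Matrix (Fin 4) (Fin 4) F) := by
  obtain ⟨h, hh⟩ : ∃ h : F, 2 * h = 1 := ⟨2⁻¹, mul_inv_cancel₀ h2⟩
  have hhp : h ^ p = h := half_pow hF hh
  set a : F := h * t with ha
  have hap : a ^ p = a := by rw [ha, mul_pow, hhp, htp]
  have hr0 : 1 - a * a ≠ 0 := by
    intro h0
    apply h5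
    have h1 : (2 * h) * (2 * h) * (t * t) = 4 := by
      rw [ha] at h0; linear_combination (-4 : F) * h0
    rw [hh] at h1
    -- t * t = 4 and t * t + t = 1
    have ht3 : t = -3 := by linear_combination ht - h1
    rw [ht3] at h1
    linear_combination h1
  have hrp : (1 - a * a) ^ p = 1 - a * a := by
    rw [sub_pow_p hF, one_pow, mul_pow, hap]
  obtain ⟨b, hb0, hb⟩ := exists_norm_eq hF hr0 hrp
  have hab : a * a ^ p + b * b ^ p = 1 := by rw [hap, hb]; ring
  have hdet : a * a ^ p - b * (-(b ^ p)) = 1 := by linear_combination hab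
  have htr : a + a ^ p = t := by
    rw [hap, ha]; linear_combination t * hh
  refine ⟨⟨X5u a b (-(b ^ p)) (a ^ p), X5u (a ^ p) (-b) (-(-(b ^ p))) a, X5u_inv hdet, X5u_inv' hdet⟩,
    ?_, ?_, ?_, ?_, ?_, ?_⟩
  · rw [mem_GU_iff_ct hF]
    exact X5u_unitary hF hab
  · show (X5u a b (-(b ^ p)) (a ^ p)).det = 1
    rw [X5u_det]; exact hdet
  · rw [Units.val_pow_eq_pow_val]
    show (X5u a b (-(b ^ p)) (a ^ p)) ^ 5 = _
    rw [X5u_pow hdet htr ht, one_smul]
  · show Matrix.trace (X5u a b (-(b ^ p)) (a ^ p)) = _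
    rw [X5u_trace, htr]
  · show Matrix.trace (X5u (a ^ p) (-b) (-(-(b ^ p))) a) = _
    rw [X5u_trace, add_comm (a ^ p) a, htr]
  · intro z
    exact X5u_not_scalar (Or.inl hb0) z

/-- a unitary transvection of determinant one -/
theorem exists_unitary_transvection (hF : Fintype.card F = p ^ 2) :
    ∃ (x : GL (Fin 4) F) (u φ : Fin 4 → F), x ∈ Cfsg.GU 4 F p ∧
      (x : Matrix (Fin 4) (Fin 4) F).det = 1 ∧
      (x : Matrix (Fin 4) (Fin 4) F) = 1 + Matrix.vecMulVec u φ ∧ φ ⬝ᵥ u = 0 ∧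
      Matrix.vecMulVec u φ ≠ 0 := by
  obtain ⟨l, hl⟩ := Cfsg.Agent.Lib.Helper46.exists_norm_neg_one hF
  obtain ⟨δ, hδ0, hδ⟩ := Cfsg.Agent.Lib.Helper46.exists_trace_zero hF
  rw [Cfsg.Agent.Lib.Helper46.frobRing_apply] at hl hδ
  have hp0 : p ≠ 0 := (q_pos hF).ne'
  have hl' : l ^ p * l = -1 := by rw [mul_comm]; exact hl
  set T : Matrix (Fin 4) (Fin 4) F :=
    !![1 + δ, δ * l ^ p, 0, 0; l * δ, 1 - δ, 0, 0; 0, 0, 1, 0; 0, 0, 0, 1] with hT
  set Ti : Matrix (Fin 4) (Fin 4) F :=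
    !![1 - δ, -(δ * l ^ p), 0, 0; -(l * δ), 1 + δ, 0, 0; 0, 0, 1, 0; 0, 0, 0, 1] with hTi
  have h1 : T * Ti = 1 := by
    ext k m
    fin_cases k <;> fin_cases m <;>
      simp [hT, hTi, Matrix.mul_apply, Fin.sum_univ_four, Matrix.one_apply] <;> grind
  have h2 : Ti * T = 1 := mul_eq_one_comm.mp h1
  refine ⟨⟨T, Ti, h1, h2⟩, ![1, l, 0, 0], ![δ, δ * l ^ p, 0, 0], ?_, ?_, ?_, ?_, ?_⟩
  · rw [mem_GU_iff_ct hF]
    show ct hF T * T = 1
    ext k m
    rw [Matrix.mul_apply, Fin.sum_univ_four]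
    simp only [ct_apply]
    fin_cases k <;> fin_cases m <;>
      simp [hT, Matrix.one_apply, hp0, add_pow_q hF, sub_pow_p hF, mul_pow, pow_q_pow_q hF, hδ] <;>
      grind
  · show T.det = 1
    rw [hT]
    simp [Matrix.det_succ_row_zero, Fin.sum_univ_succ, Fin.succAbove, Matrix.submatrix]
    grind
  · show T = _
    ext k m
    fin_cases k <;> fin_cases m <;>
      simp [hT, Matrix.vecMulVec_apply, Matrix.one_apply] <;> grind
  · simp [dotProduct, Fin.sum_univ_four]
    grind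
  · intro h0
    have := congrFun (congrFun h0 0) 0
    simp [Matrix.vecMulVec_apply] at this
    exact hδ0 this

end unitary

end Cfsg.Agent.Lib.Helper99.Uni4C
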