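import Mathlib
import Cfsg.Agent.Lib.Helper99.Sp4E
import Cfsg.Agent.Lib.Helper99.Symp4G
import Cfsg.Agent.Lib.Helper99.Symp4M
import Cfsg.Agent.Lib.Helper99.Uni4C

/-!
# Extension of scalars: the normaliser of an extraspecial group of minus type
  inside the normaliser of the standard group of symplectic type
-/

set_option autoImplicit false

namespace Cfsg.Agent.Lib.Helper99.Sp4G

open scoped Matrix
open Cfsg.Agent.Lib.Helper99.Symp4B Cfsg.Agent.Lib.Helper99.Symp4C Cfsg.Agent.Lib.Helper99.Symp4D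
open Cfsg.Agent.Lib.Helper99.Symp4J Cfsg.Agent.Lib.Helper99.Sp4B Cfsg.Agent.Lib.Helper99.Sp4E

variable {F K : Type*} [Field F] [Field K] [Algebra F K]

/-- extension of scalars -/
noncomputable def ΦK (F K : Type*) [Field F] [Field K] [Algebra F K] : GL (Fin 4) F →* GL (Fin 4) K :=
  Matrix.GeneralLinearGroup.map (algebraMap F K)

theorem ΦK_val (g : GL (Fin 4) F) :
    ((ΦK F K g : GL (Fin 4) K) : Matrix (Fin 4) (Fin 4) K) =
      (g : Matrix (Fin 4) (Fin 4) F).map (algebraMap F K) := rfl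

theorem ΦK_neg (g : GL (Fin 4) F) : ΦK F K (-g) = -ΦK F K g := by
  apply Units.ext
  rw [ΦK_val, Units.val_neg, Units.val_neg, ΦK_val]
  ext i j
  simp

/-- the conjugated extension of scalars -/
noncomputable def ψ (P : GL (Fin 4) K) : GL (Fin 4) F →* GL (Fin 4) K :=
  (MulAut.conj P⁻¹).toMonoidHom.comp (ΦK F K)

theorem ψ_apply (P : GL (Fin 4) K) (g : GL (Fin 4) F) : ψ P g = P⁻¹ * ΦK F K g * P := by
  simp [ψ]

theorem ψ_val_mul (P : GL (Fin 4) K) (g : GL (Fin 4) F) :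
    (P : Matrix (Fin 4) (Fin 4) K) * ((ψ P g : GL (Fin 4) K) : Matrix (Fin 4) (Fin 4) K) =
      ((ΦK F K g : GL (Fin 4) K) : Matrix (Fin 4) (Fin 4) K) * (P : Matrix (Fin 4) (Fin 4) K) := by
  rw [ψ_apply, ← Units.val_mul, ← Units.val_mul]
  congr 1
  group

theorem val_eq_of_mul {P : GL (Fin 4) K} {X Y : Matrix (Fin 4) (Fin 4) K}
    (h : (P : Matrix (Fin 4) (Fin 4) K) * X = (P : Matrix (Fin 4) (Fin 4) K) * Y) : X = Y := by
  have h2 := congrArg (fun M => ((P⁻¹ : GL (Fin 4) K) : Matrix (Fin 4) (Fin 4) K) * M) h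
  simp only [← mul_assoc, val_inv_mul, one_mul] at h2
  exact h2

variable {R : Subgroup (GL (Fin 4) F)} {a1 b1 a2 b2 Q : GL (Fin 4) F} {α β : F}

/-- the transfer of normalisers -/
theorem transfer (H : Hyp2 R) (G : Gens R a1 b1 a2 b2) (Fr : Frame Q α β a1 b1 a2 b2) {i : K}
    (hi : i * i = -1) (h2K : (2 : K) ≠ 0) :
    ∃ P : GL (Fin 4) K, ∀ n : GL (Fin 4) F, n ∈ Subgroup.normalizer (R : Set (GL (Fin 4) F)) →
      P⁻¹ * ΦK F K n * P ∈ Subgroup.normalizer (R0 K : Set (GL (Fin 4) K)) := by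
  have toM : ∀ {x y : GL (Fin 4) F}, x = y →
      ((ΦK F K x : GL (Fin 4) K) : Matrix (Fin 4) (Fin 4) K) =
        ((ΦK F K y : GL (Fin 4) K) : Matrix (Fin 4) (Fin 4) K) := fun h => by rw [h]
  set A1 : Matrix (Fin 4) (Fin 4) K := ((ΦK F K a1 : GL (Fin 4) K) : Matrix (Fin 4) (Fin 4) K) with hA1
  set B1 : Matrix (Fin 4) (Fin 4) K := ((ΦK F K b1 : GL (Fin 4) K) : Matrix (Fin 4) (Fin 4) K) with hB1
  set A2 : Matrix (Fin 4) (Fin 4) K := ((ΦK F K a2 : GL (Fin 4) K) : Matrix (Fin 4) (Fin 4) K) with hA2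
  set B2 : Matrix (Fin 4) (Fin 4) K := ((ΦK F K b2 : GL (Fin 4) K) : Matrix (Fin 4) (Fin 4) K) with hB2
  have r1 : A1 * A1 = 1 := by
    have := toM G.a1sq
    rwa [map_mul, Units.val_mul, map_one, Units.val_one] at this
  have r2 : B1 * B1 = 1 := by
    have := toM G.b1sq
    rwa [map_mul, Units.val_mul, map_one, Units.val_one] at this
  have r3 : A2 * A2 = -1 := by
    have := toM G.a2sq
    rwa [map_mul, Units.val_mul, ΦK_neg, map_one, Units.val_neg, Units.val_one] at this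
  have r4 : B2 * B2 = -1 := by
    have := toM G.b2sq
    rwa [map_mul, Units.val_mul, ΦK_neg, map_one, Units.val_neg, Units.val_one] at this
  have r5 : A1 * B1 = -(B1 * A1) := by
    have := toM G.a1b1
    rwa [map_mul, Units.val_mul, ΦK_neg, Units.val_neg, map_mul, Units.val_mul] at this
  have r6 : A2 * B2 = -(B2 * A2) := by
    have := toM G.a2b2
    rwa [map_mul, Units.val_mul, ΦK_neg, Units.val_neg, map_mul, Units.val_mul] at this
  have r7 : A2 * A1 = A1 * A2 := by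
    have := toM G.a2a1
    rwa [map_mul, Units.val_mul, map_mul, Units.val_mul] at this
  have r8 : A2 * B1 = B1 * A2 := by
    have := toM G.a2b1
    rwa [map_mul, Units.val_mul, map_mul, Units.val_mul] at this
  have r9 : B2 * A1 = A1 * B2 := by
    have := toM G.b2a1
    rwa [map_mul, Units.val_mul, map_mul, Units.val_mul] at this
  have r10 : B2 * B1 = B1 * B2 := by
    have := toM G.b2b1
    rwa [map_mul, Units.val_mul, map_mul, Units.val_mul] at this
  have hii : i * i * (i * i) = 1 := by rw [hi]; ring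
  obtain ⟨P, p1, p2, p3, p4⟩ := exists_frame h2K (A1 := A1) (A2 := i • A2) (B1 := B1) (B2 := i • B2)
    r1 (by rw [Matrix.smul_mul, Matrix.mul_smul, smul_smul, r3, hi]; simp) r2
    (by rw [Matrix.smul_mul, Matrix.mul_smul, smul_smul, r4, hi]; simp) r5
    (by rw [Matrix.smul_mul, Matrix.mul_smul, Matrix.smul_mul, Matrix.mul_smul, r6]; simp)
    (by rw [Matrix.smul_mul, Matrix.mul_smul, r7])
    (by rw [Matrix.smul_mul, Matrix.mul_smul, r8])
    (by rw [Matrix.smul_mul, Matrix.mul_smul, r9])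
    (by rw [Matrix.smul_mul, Matrix.mul_smul, r10])
  refine ⟨P, ?_⟩
  have hi4 : i ^ 4 = 1 := by
    have : i ^ 4 = i * i * (i * i) := by ring
    rw [this, hii]
  have hni4 : (-i) ^ 4 = 1 := by
    have : (-i) ^ 4 = i * i * (i * i) := by ring
    rw [this, hii]
  -- the values of the generators
  have v1 : ((ψ P a1 : GL (Fin 4) K) : Matrix (Fin 4) (Fin 4) K) = W 1 0 := by
    apply val_eq_of_mul (P := P)
    rw [ψ_val_mul, ← hA1, p1]
  have v3 : ((ψ P b1 : GL (Fin 4) K) : Matrix (Fin 4) (Fin 4) K) = W 0 1 := by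
    apply val_eq_of_mul (P := P)
    rw [ψ_val_mul, ← hB1, p3]
  have v2 : i • ((ψ P a2 : GL (Fin 4) K) : Matrix (Fin 4) (Fin 4) K) = W 2 0 := by
    apply val_eq_of_mul (P := P)
    rw [Matrix.mul_smul, ψ_val_mul, ← hA2, ← p2, Matrix.smul_mul]
  have v4 : i • ((ψ P b2 : GL (Fin 4) K) : Matrix (Fin 4) (Fin 4) K) = W 0 2 := by
    apply val_eq_of_mul (P := P)
    rw [Matrix.mul_smul, ψ_val_mul, ← hB2, ← p4, Matrix.smul_mul]
  have hnegi : (-i) * i = 1 := by rw [neg_mul, hi, neg_neg]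
  have v2' : ((ψ P a2 : GL (Fin 4) K) : Matrix (Fin 4) (Fin 4) K) = (-i) • W 2 0 := by
    rw [← v2, smul_smul, hnegi, one_smul]
  have v4' : ((ψ P b2 : GL (Fin 4) K) : Matrix (Fin 4) (Fin 4) K) = (-i) • W 0 2 := by
    rw [← v4, smul_smul, hnegi, one_smul]
  -- `R` maps into the standard group
  have hRS : R ≤ (R0 K).comap (ψ P) := by
    refine (le_closure H G Fr).trans ?_
    rw [Subgroup.closure_le]
    intro g hg
    simp only [Set.mem_insert_iff, Set.mem_singleton_iff] at hg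
    rw [SetLike.mem_coe, Subgroup.mem_comap, mem_R0]
    rcases hg with rfl | rfl | rfl | rfl
    · exact ⟨1, 1, 0, by simp, by rw [v1, one_smul]⟩
    · exact ⟨1, 0, 1, by simp, by rw [v3, one_smul]⟩
    · exact ⟨-i, 2, 0, hni4, v2'⟩
    · exact ⟨-i, 0, 2, hni4, v4'⟩
  -- the standard group is covered by `R` and scalars
  let S' : Subgroup (GL (Fin 4) K) :=
    { carrier := {h | ∃ c : K, c ^ 4 = 1 ∧ ∃ g ∈ R, (h : Matrix (Fin 4) (Fin 4) K) =
        c • ((ψ P g : GL (Fin 4) K) : Matrix (Fin 4) (Fin 4) K)}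
      one_mem' := ⟨1, by simp, 1, one_mem _, by simp⟩
      mul_mem' := by
        rintro h h' ⟨c, hc, g, hg, hh⟩ ⟨c', hc', g', hg', hh'⟩
        refine ⟨c * c', by rw [mul_pow, hc, hc', one_mul], g * g', mul_mem hg hg', ?_⟩
        rw [Units.val_mul, hh, hh', map_mul, Units.val_mul, Matrix.smul_mul, Matrix.mul_smul, smul_smul]
      inv_mem' := by
        rintro h ⟨c, hc, g, hg, hh⟩
        have hc0 : c ≠ 0 := by
          intro h0; rw [h0] at hc; norm_num at hc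
        refine ⟨c⁻¹, by rw [inv_pow, hc, inv_one], g⁻¹, inv_mem hg, ?_⟩
        apply Units.inv_eq_of_mul_eq_one_right
        rw [hh, Matrix.smul_mul, Matrix.mul_smul, smul_smul, ← Units.val_mul, ← map_mul,
          mul_inv_cancel, map_one, Units.val_one, mul_inv_cancel₀ hc0, one_smul] }
  have memS' : ∀ h : GL (Fin 4) K, h ∈ S' ↔ ∃ c : K, c ^ 4 = 1 ∧ ∃ g ∈ R,
      (h : Matrix (Fin 4) (Fin 4) K) = c • ((ψ P g : GL (Fin 4) K) : Matrix (Fin 4) (Fin 4) K) :=
    fun h => Iff.rfl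
  have hWS : ∀ e f : Fin 4, (Wg e f : GL (Fin 4) K) ∈ S' := by
    apply Wg_mem_of_gens
    · rw [memS']; exact ⟨1, by simp, a1, Cr_le G.ha1, by rw [Wg_val, v1, one_smul]⟩
    · rw [memS']; exact ⟨i, hi4, a2, Cr_le G.ha2, by rw [Wg_val, v2]⟩
    · rw [memS']; exact ⟨1, by simp, b1, Cr_le G.hb1, by rw [Wg_val, v3, one_smul]⟩
    · rw [memS']; exact ⟨i, hi4, b2, Cr_le G.hb2, by rw [Wg_val, v4]⟩
  have hR0S : ∀ h ∈ R0 K, ∃ c : K, c ^ 4 = 1 ∧ ∃ g ∈ R,
      (h : Matrix (Fin 4) (Fin 4) K) = c • ((ψ P g : GL (Fin 4) K) : Matrix (Fin 4) (Fin 4) K) := by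
    rintro h ⟨c, e, f, hc, hh⟩
    obtain ⟨c', hc', g, hg, hW⟩ := (memS' _).mp (hWS e f)
    refine ⟨c * c', by rw [mul_pow, hc, hc', one_mul], g, hg, ?_⟩
    rw [hh, ← Wg_val, hW, smul_smul]
  -- conjugation by normalising elements
  have conj_mem : ∀ n : GL (Fin 4) F, n ∈ Subgroup.normalizer (R : Set (GL (Fin 4) F)) →
      ∀ h ∈ R0 K, ψ P n * h * (ψ P n)⁻¹ ∈ R0 K := by
    intro n hn h hh
    obtain ⟨c, hc, g, hg, hv⟩ := hR0S h hh
    have hng : n * g * n⁻¹ ∈ R := (Subgroup.mem_normalizer_iff.mp hn g).mp hg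
    obtain ⟨c', e', f', hc', hv'⟩ := mem_R0.mp (Subgroup.mem_comap.mp (hRS hng))
    refine ⟨c * c', e', f', by rw [mul_pow, hc, hc', one_mul], ?_⟩
    rw [Units.val_mul, Units.val_mul, hv, Matrix.mul_smul, Matrix.smul_mul, ← Units.val_mul,
      ← Units.val_mul, ← map_inv, ← map_mul, ← map_mul, hv', smul_smul]
  intro n hn
  rw [← ψ_apply, Subgroup.mem_normalizer_iff]
  intro h
  refine ⟨conj_mem n hn h, fun hh => ?_⟩
  have hn' : n⁻¹ ∈ Subgroup.normalizer (R : Set (GL (Fin 4) F)) := inv_mem hn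
  have := conj_mem n⁻¹ hn' _ hh
  rw [map_inv] at this
  have e : (ψ P n)⁻¹ * (ψ P n * h * (ψ P n)⁻¹) * ((ψ P n)⁻¹)⁻¹ = h := by group
  rw [e] at this
  exact this

/-- conjugates in terms of the extension of scalars -/
theorem to_K {P : GL (Fin 4) K}
    (hP : ∀ n : GL (Fin 4) F, n ∈ Subgroup.normalizer (R : Set (GL (Fin 4) F)) →
      P⁻¹ * ΦK F K n * P ∈ Subgroup.normalizer (R0 K : Set (GL (Fin 4) K)))
    {x q : GL (Fin 4) F} (hq : q⁻¹ * x * q ∈ Subgroup.normalizer (R : Set (GL (Fin 4) F))) :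
    (ΦK F K q * P)⁻¹ * ΦK F K x * (ΦK F K q * P) ∈ Subgroup.normalizer (R0 K : Set (GL (Fin 4) K)) := by
  have := hP _ hq
  rw [map_mul, map_mul, map_inv] at this
  have e : P⁻¹ * ((ΦK F K q)⁻¹ * ΦK F K x * ΦK F K q) * P =
      (ΦK F K q * P)⁻¹ * ΦK F K x * (ΦK F K q * P) := by group
  rw [e] at this
  exact this

theorem ΦK_pow_scalar {x : GL (Fin 4) F} {r : ℕ} {z : F}
    (hz : ((x ^ r : GL (Fin 4) F) : Matrix (Fin 4) (Fin 4) F) = z • (1 : Matrix (Fin 4) (Fin 4) F)) :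
    (((ΦK F K x) ^ r : GL (Fin 4) K) : Matrix (Fin 4) (Fin 4) K) =
      (algebraMap F K z) • (1 : Matrix (Fin 4) (Fin 4) K) := by
  rw [← map_pow, ΦK_val, hz]
  ext i j
  by_cases hij : i = j
  · subst hij; simp
  · simp [hij]

theorem scalar_of_ΦK {x : GL (Fin 4) F} {z' : K}
    (h : ((ΦK F K x : GL (Fin 4) K) : Matrix (Fin 4) (Fin 4) K) = z' • (1 : Matrix (Fin 4) (Fin 4) K)) :
    (x : Matrix (Fin 4) (Fin 4) F) = ((x : Matrix (Fin 4) (Fin 4) F) 0 0) • (1 : Matrix (Fin 4) (Fin 4) F) := by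
  have inj := (algebraMap F K).injective
  rw [ΦK_val] at h
  have e : ∀ k l : Fin 4, algebraMap F K ((x : Matrix (Fin 4) (Fin 4) F) k l) =
      (z' • (1 : Matrix (Fin 4) (Fin 4) K)) k l := by
    intro k l
    rw [← h]; rfl
  ext k l
  by_cases hkl : k = l
  · subst hkl
    apply inj
    rw [e k k]
    simp only [Matrix.smul_apply, Matrix.one_apply_eq, smul_eq_mul, mul_one]
    have := e 0 0
    simp only [Matrix.smul_apply, Matrix.one_apply_eq, smul_eq_mul, mul_one] at this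
    rw [this]
  · apply inj
    rw [e k l]
    simp [hkl]

theorem ΦK_trace (x : GL (Fin 4) F) :
    Matrix.trace ((ΦK F K x : GL (Fin 4) K) : Matrix (Fin 4) (Fin 4) K) =
      algebraMap F K (Matrix.trace (x : Matrix (Fin 4) (Fin 4) F)) := by
  rw [ΦK_val]
  simp [Matrix.trace, Fin.sum_univ_four]

end Cfsg.Agent.Lib.Helper99.Sp4G
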