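import Mathlib
import Cfsg.Agent.Lib.Helper99.Sp4A
import Cfsg.Agent.Lib.Helper99.Sp4G

/-!
# Elements which are not conjugate into the normaliser of an extraspecial group of minus type
-/

set_option autoImplicit false

namespace Cfsg.Agent.Lib.Helper99.Sp4H

open scoped Matrix
open Cfsg.Agent.Lib.Helper99.Symp4B Cfsg.Agent.Lib.Helper99.Symp4C Cfsg.Agent.Lib.Helper99.Symp4F
open Cfsg.Agent.Lib.Helper99.Symp4J Cfsg.Agent.Lib.Helper99.Symp4M Cfsg.Agent.Lib.Helper99.Uni4C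
open Cfsg.Agent.Lib.Helper99.Sp4A Cfsg.Agent.Lib.Helper99.Sp4B Cfsg.Agent.Lib.Helper99.Sp4E
open Cfsg.Agent.Lib.Helper99.Sp4G

variable {F : Type*} [Field F]

section witnesses

/-- the identity on one hyperbolic plane and a companion matrix on the other -/
def Xs (t : F) : Matrix (Fin 4) (Fin 4) F := !![1, 0, 0, 0; 0, 0, 0, -1; 0, 0, 1, 0; 0, 1, 0, t]

/-- its inverse -/
def Xsi (t : F) : Matrix (Fin 4) (Fin 4) F := !![1, 0, 0, 0; 0, t, 0, 1; 0, 0, 1, 0; 0, -1, 0, 0]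

/-- its square when `t` is the golden ratio -/
def Xsb (t : F) : Matrix (Fin 4) (Fin 4) F := !![1, 0, 0, 0; 0, -1, 0, -t; 0, 0, 1, 0; 0, t, 0, -t]

theorem Xs_mul_Xsi (t : F) : Xs t * Xsi t = 1 := by
  ext k l
  fin_cases k <;> fin_cases l <;> simp [Xs, Xsi, Matrix.mul_apply, Fin.sum_univ_four, Matrix.one_apply]

theorem Xsi_mul_Xs (t : F) : Xsi t * Xs t = 1 := by
  ext k l
  fin_cases k <;> fin_cases l <;> simp [Xs, Xsi, Matrix.mul_apply, Fin.sum_univ_four, Matrix.one_apply]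

theorem Xs_sq {t : F} (ht : t * t + t - 1 = 0) : Xs t * Xs t = Xsb t := by
  ext k l
  fin_cases k <;> fin_cases l <;> simp [Xs, Xsb, Matrix.mul_apply, Fin.sum_univ_four] <;> grind

theorem Xsb_sq {t : F} (ht : t * t + t - 1 = 0) : Xsb t * Xsb t = Xsi t := by
  ext k l
  fin_cases k <;> fin_cases l <;> simp [Xsb, Xsi, Matrix.mul_apply, Fin.sum_univ_four] <;> grind

theorem Xs_pow_five {t : F} (ht : t * t + t - 1 = 0) : (Xs t) ^ 5 = 1 := by
  have : (Xs t) ^ 5 = ((Xs t * Xs t) * (Xs t * Xs t)) * Xs t := by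
    simp only [pow_succ, pow_zero, one_mul, mul_assoc]
  rw [this, Xs_sq ht, Xsb_sq ht, Xsi_mul_Xs]

theorem Xs_sq_three : Xs (-1 : F) * Xs (-1) = Xsi (-1) := by
  ext k l
  fin_cases k <;> fin_cases l <;> simp [Xs, Xsi, Matrix.mul_apply, Fin.sum_univ_four]

theorem Xs_pow_three : (Xs (-1 : F)) ^ 3 = 1 := by
  have : (Xs (-1 : F)) ^ 3 = (Xs (-1) * Xs (-1)) * Xs (-1) := by
    simp only [pow_succ, pow_zero, one_mul]
  rw [this, Xs_sq_three, Xsi_mul_Xs]

theorem Xs_form (t : F) : (Xs t)ᵀ * J4 F * Xs t = J4 F := by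
  ext k l
  fin_cases k <;> fin_cases l <;> simp [Xs, J4, Matrix.mul_apply, Fin.sum_univ_four]

theorem Xs_not_scalar (t z : F) : Xs t ≠ z • (1 : Matrix (Fin 4) (Fin 4) F) := by
  intro h
  have := congrFun (congrFun h 1) 3
  simp [Xs] at this

theorem Xs_trace (t : F) : Matrix.trace (Xs t) = 2 + t := by
  simp [Xs, Matrix.trace, Fin.sum_univ_four]; ring

theorem Xsi_trace (t : F) : Matrix.trace (Xsi t) = 2 + t := by
  simp [Xsi, Matrix.trace, Fin.sum_univ_four]; ring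

/-- the witness as an invertible matrix -/
def XsG (t : F) : GL (Fin 4) F := ⟨Xs t, Xsi t, Xs_mul_Xsi t, Xsi_mul_Xs t⟩

theorem XsG_val (t : F) : ((XsG t : GL (Fin 4) F) : Matrix (Fin 4) (Fin 4) F) = Xs t := rfl

theorem XsG_inv_val (t : F) : (((XsG t)⁻¹ : GL (Fin 4) F) : Matrix (Fin 4) (Fin 4) F) = Xsi t := rfl

/-- the symplectic transvection -/
def Ts (F : Type*) [Field F] : Matrix (Fin 4) (Fin 4) F := !![1, 0, 1, 0; 0, 1, 0, 0; 0, 0, 1, 0; 0, 0, 0, 1]

/-- its inverse -/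
def Tsi (F : Type*) [Field F] : Matrix (Fin 4) (Fin 4) F := !![1, 0, -1, 0; 0, 1, 0, 0; 0, 0, 1, 0; 0, 0, 0, 1]

theorem Ts_mul_Tsi : Ts F * Tsi F = 1 := by
  ext k l
  fin_cases k <;> fin_cases l <;> simp [Ts, Tsi, Matrix.mul_apply, Fin.sum_univ_four, Matrix.one_apply]

theorem Tsi_mul_Ts : Tsi F * Ts F = 1 := by
  ext k l
  fin_cases k <;> fin_cases l <;> simp [Ts, Tsi, Matrix.mul_apply, Fin.sum_univ_four, Matrix.one_apply]

theorem Ts_form : (Ts F)ᵀ * J4 F * Ts F = J4 F := by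
  ext k l
  fin_cases k <;> fin_cases l <;> simp [Ts, J4, Matrix.mul_apply, Fin.sum_univ_four]

theorem Ts_eq : Ts F = 1 + Matrix.vecMulVec ![1, 0, 0, 0] ![0, 0, 1, 0] := by
  ext k l
  fin_cases k <;> fin_cases l <;> simp [Ts, Matrix.vecMulVec_apply, Matrix.one_apply]

theorem Ts_ne : Matrix.vecMulVec ![(1 : F), 0, 0, 0] ![(0 : F), 0, 1, 0] ≠ 0 := by
  intro h
  have := congrFun (congrFun h 0) 2
  simp [Matrix.vecMulVec_apply] at this

theorem Ts_dot : ![(0 : F), 0, 1, 0] ⬝ᵥ ![(1 : F), 0, 0, 0] = 0 := by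
  simp [dotProduct, Fin.sum_univ_four]

/-- the transvection as an invertible matrix -/
def TsG (F : Type*) [Field F] : GL (Fin 4) F := ⟨Ts F, Tsi F, Ts_mul_Tsi, Tsi_mul_Ts⟩

theorem TsG_val : ((TsG F : GL (Fin 4) F) : Matrix (Fin 4) (Fin 4) F) = Ts F := rfl

theorem TsG_not_scalar (z : F) :
    ((TsG F : GL (Fin 4) F) : Matrix (Fin 4) (Fin 4) F) ≠ z • (1 : Matrix (Fin 4) (Fin 4) F) := by
  intro h
  have := congrFun (congrFun h 0) 2
  simp [TsG_val, Ts] at this

theorem TsG_pow {p : ℕ} [CharP F p] :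
    (((TsG F) ^ p : GL (Fin 4) F) : Matrix (Fin 4) (Fin 4) F) = (1 : F) • (1 : Matrix (Fin 4) (Fin 4) F) := by
  have hNN : Matrix.vecMulVec ![(1 : F), 0, 0, 0] ![(0 : F), 0, 1, 0] *
      Matrix.vecMulVec ![(1 : F), 0, 0, 0] ![(0 : F), 0, 1, 0] = 0 := by
    rw [Matrix.vecMulVec_mul_vecMulVec, Ts_dot, zero_smul]
    ext k l
    simp [Matrix.vecMulVec_apply]
  rw [val_pow_of_sq_zero (y := TsG F) (by rw [TsG_val, Ts_eq]) hNN p, CharP.cast_eq_zero, zero_smul,
    add_zero, one_smul]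

end witnesses

section closure

variable {R : Subgroup (GL (Fin 4) F)} {a1 b1 a2 b2 Q : GL (Fin 4) F} {α β : F}

/-- the transfer to the algebraic closure -/
theorem exists_AC (H : Hyp2 R) (G : Gens R a1 b1 a2 b2) (Fr : Frame Q α β a1 b1 a2 b2) :
    (4 : AlgebraicClosure F) ≠ 0 ∧
    ∃ P : GL (Fin 4) (AlgebraicClosure F), ∀ n : GL (Fin 4) F,
      n ∈ Subgroup.normalizer (R : Set (GL (Fin 4) F)) →
      P⁻¹ * ΦK F (AlgebraicClosure F) n * P ∈
        Subgroup.normalizer (R0 (AlgebraicClosure F) : Set (GL (Fin 4) (AlgebraicClosure F))) := by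
  have inj := (algebraMap F (AlgebraicClosure F)).injective
  have h2K : (2 : AlgebraicClosure F) ≠ 0 := by
    intro h
    apply H.two_ne
    apply inj
    rw [map_ofNat, map_zero, h]
  have h4K : (4 : AlgebraicClosure F) ≠ 0 := by
    have : (4 : AlgebraicClosure F) = 2 * 2 := by norm_num
    rw [this]; exact mul_ne_zero h2K h2K
  obtain ⟨i, hi⟩ := IsAlgClosed.exists_eq_mul_self (-1 : AlgebraicClosure F)
  exact ⟨h4K, transfer H G Fr hi.symm h2K⟩

/-- primes at least seven -/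
theorem no_big (H : Hyp2 R) (G : Gens R a1 b1 a2 b2) (Fr : Frame Q α β a1 b1 a2 b2)
    {r : ℕ} [Fact r.Prime] (hr7 : 7 ≤ r) {x q : GL (Fin 4) F} {z : F}
    (hz : ((x ^ r : GL (Fin 4) F) : Matrix (Fin 4) (Fin 4) F) = z • (1 : Matrix (Fin 4) (Fin 4) F))
    (hq : q⁻¹ * x * q ∈ Subgroup.normalizer (R : Set (GL (Fin 4) F))) :
    ∃ z' : F, (x : Matrix (Fin 4) (Fin 4) F) = z' • (1 : Matrix (Fin 4) (Fin 4) F) := by
  obtain ⟨h4K, P, hP⟩ := exists_AC H G Fr
  obtain ⟨z', hz'⟩ := witness_big h4K hr7 (ΦK_pow_scalar hz) (to_K hP hq)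
  exact ⟨_, scalar_of_ΦK hz'⟩

/-- the golden ratio witness -/
theorem no_five (H : Hyp2 R) (G : Gens R a1 b1 a2 b2) (Fr : Frame Q α β a1 b1 a2 b2)
    (h5 : (5 : F) ≠ 0) {t : F} (ht : t * t + t - 1 = 0) {q : GL (Fin 4) F}
    (hq : q⁻¹ * XsG t * q ∈ Subgroup.normalizer (R : Set (GL (Fin 4) F))) : False := by
  obtain ⟨h4K, P, hP⟩ := exists_AC H G Fr
  have inj := (algebraMap F (AlgebraicClosure F)).injective
  have h2K : (2 : AlgebraicClosure F) ≠ 0 := two_ne_of_four h4K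
  have h5K : (5 : AlgebraicClosure F) ≠ 0 := by
    intro h
    apply h5
    apply inj
    rw [map_ofNat, map_zero, h]
  have htK : algebraMap F (AlgebraicClosure F) t * algebraMap F (AlgebraicClosure F) t +
      algebraMap F (AlgebraicClosure F) t - 1 = 0 := by
    rw [← map_mul, ← map_add, ← map_one (algebraMap F (AlgebraicClosure F)), ← map_sub, ht, map_zero]
  have hx5 : (((XsG t) ^ 5 : GL (Fin 4) F) : Matrix (Fin 4) (Fin 4) F) =
      (1 : F) • (1 : Matrix (Fin 4) (Fin 4) F) := by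
    rw [Units.val_pow_eq_pow_val, XsG_val, Xs_pow_five ht, one_smul]
  have hx5K := ΦK_pow_scalar (K := AlgebraicClosure F) hx5
  rw [map_one] at hx5K
  have htr1 : Matrix.trace ((ΦK F (AlgebraicClosure F) (XsG t) : GL (Fin 4) (AlgebraicClosure F)) :
      Matrix (Fin 4) (Fin 4) (AlgebraicClosure F)) = 2 + algebraMap F (AlgebraicClosure F) t := by
    rw [ΦK_trace, XsG_val, Xs_trace, map_add, map_ofNat]
  have htr2 : Matrix.trace (((ΦK F (AlgebraicClosure F) (XsG t))⁻¹ : GL (Fin 4) (AlgebraicClosure F)) :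
      Matrix (Fin 4) (Fin 4) (AlgebraicClosure F)) = 2 + algebraMap F (AlgebraicClosure F) t := by
    rw [← map_inv, ΦK_trace, XsG_inv_val, Xsi_trace, map_add, map_ofNat]
  have hns : ∀ z : AlgebraicClosure F,
      ((ΦK F (AlgebraicClosure F) (XsG t) : GL (Fin 4) (AlgebraicClosure F)) :
        Matrix (Fin 4) (Fin 4) (AlgebraicClosure F)) ≠ z • (1 : Matrix (Fin 4) (Fin 4) (AlgebraicClosure F)) := by
    intro z hz
    have := scalar_of_ΦK hz
    exact Xs_not_scalar t _ this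
  exact witness_five' h2K h5K htK hx5K htr1 htr2 hns (to_K hP hq)

/-- transvections in characteristic three or five -/
theorem no_transvection_s (H : Hyp2 R) (G : Gens R a1 b1 a2 b2) (Fr : Frame Q α β a1 b1 a2 b2)
    (h35 : (3 : F) = 0 ∨ (5 : F) = 0) {q : GL (Fin 4) F}
    (hq : q⁻¹ * TsG F * q ∈ Subgroup.normalizer (R : Set (GL (Fin 4) F))) : False := by
  obtain ⟨h4K, P, hP⟩ := exists_AC H G Fr
  have hy := to_K hP hq
  have hxK : ((ΦK F (AlgebraicClosure F) (TsG F) : GL (Fin 4) (AlgebraicClosure F)) :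
      Matrix (Fin 4) (Fin 4) (AlgebraicClosure F)) =
      1 + Matrix.vecMulVec ![1, 0, 0, 0] ![0, 0, 1, 0] := by
    rw [ΦK_val, TsG_val]
    ext k l
    fin_cases k <;> fin_cases l <;> simp [Ts, Matrix.vecMulVec_apply, Matrix.one_apply]
  obtain ⟨u', φ', hv, hφu', hN0'⟩ := conj_rank_one (q := ΦK F (AlgebraicClosure F) q * P) hxK
    (Ts_dot (F := AlgebraicClosure F)) (Ts_ne (F := AlgebraicClosure F))
  rcases h35 with h3 | h5
  · have h3K : (3 : AlgebraicClosure F) = 0 := by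
      rw [← map_ofNat (algebraMap F (AlgebraicClosure F)), h3, map_zero]
    exact no_rank_one h4K h3K hy hv hφu' hN0'
  · have h5K : (5 : AlgebraicClosure F) = 0 := by
      rw [← map_ofNat (algebraMap F (AlgebraicClosure F)), h5, map_zero]
    have hNN : Matrix.vecMulVec u' φ' * Matrix.vecMulVec u' φ' = 0 := by
      rw [Matrix.vecMulVec_mul_vecMulVec, hφu', zero_smul]
      ext k l
      simp [Matrix.vecMulVec_apply]
    exact no_transvection h4K h5K hy hv hNN hN0'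

end closure

section three

variable {R : Subgroup (GL (Fin 4) F)} {a1 b1 a2 b2 Q : GL (Fin 4) F} {α β : F}

/-- equality up to sign -/
def E (x y : GL (Fin 4) F) : Prop := x = y ∨ x = -y

theorem E.conj {x y : GL (Fin 4) F} (h : E x y) (n : GL (Fin 4) F) : E (n * x * n⁻¹) (n * y * n⁻¹) := by
  rcases h with rfl | rfl
  · left; rfl
  · right; simp

theorem E.trans {x y z : GL (Fin 4) F} (h : E x y) (h' : E y z) : E x z := by
  rcases h with rfl | rfl <;> rcases h' with rfl | rfl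
  · left; rfl
  · right; rfl
  · right; rfl
  · left; simp

theorem tk_inj (h2 : (2 : F) ≠ 0) (Fr : Frame Q α β a1 b1 a2 b2) {k l : Fin 5}
    (h : E (tk a1 b1 a2 b2 k) (tk a1 b1 a2 b2 l)) : k = l := by
  by_contra hkl
  have hanti := tk_anti Fr k l hkl
  have hsq := tk_sq Fr l
  rcases h with h | h
  · rw [h, hsq] at hanti
    exact no_self_neg h2 1 hanti
  · rw [h] at hanti
    simp only [neg_mul, mul_neg, neg_neg, hsq] at hanti
    exact no_self_neg h2 1 hanti.symm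

theorem fix3 : ∀ a b c d e : Fin 5, (∀ k : Fin 5, (![a, b, c, d, e] : Fin 5 → Fin 5)
      ((![a, b, c, d, e] : Fin 5 → Fin 5) ((![a, b, c, d, e] : Fin 5 → Fin 5) k)) = k) →
    ∃ k l : Fin 5, k ≠ l ∧ (![a, b, c, d, e] : Fin 5 → Fin 5) k = k ∧
      (![a, b, c, d, e] : Fin 5 → Fin 5) l = l := by
  decide

theorem fix3' (σ : Fin 5 → Fin 5) (h : ∀ k, σ (σ (σ k)) = k) : ∃ k l : Fin 5, k ≠ l ∧ σ k = k ∧ σ l = l := by
  have e : σ = ![σ 0, σ 1, σ 2, σ 3, σ 4] := by
    funext k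
    fin_cases k <;> rfl
  rw [e] at h ⊢
  exact fix3 _ _ _ _ _ h

/-- the action of a normalising element on the five involutions -/
theorem exists_sigma (H : Hyp2 R) (G : Gens R a1 b1 a2 b2) (Fr : Frame Q α β a1 b1 a2 b2)
    {n : GL (Fin 4) F} (hn : n ∈ Subgroup.normalizer (R : Set (GL (Fin 4) F))) :
    ∃ σ : Fin 5 → Fin 5, ∀ k, E (n * tk a1 b1 a2 b2 k * n⁻¹) (tk a1 b1 a2 b2 (σ k)) := by
  have h2 := H.two_ne
  have key : ∀ k : Fin 5, ∃ l : Fin 5, E (n * tk a1 b1 a2 b2 k * n⁻¹) (tk a1 b1 a2 b2 l) := by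
    intro k
    have hmem : n * tk a1 b1 a2 b2 k * n⁻¹ ∈ R :=
      (Subgroup.mem_normalizer_iff.mp hn _).mp (tk_mem G k)
    have hsq : n * tk a1 b1 a2 b2 k * n⁻¹ * (n * tk a1 b1 a2 b2 k * n⁻¹) = 1 := by
      have : n * tk a1 b1 a2 b2 k * n⁻¹ * (n * tk a1 b1 a2 b2 k * n⁻¹) =
          n * (tk a1 b1 a2 b2 k * tk a1 b1 a2 b2 k) * n⁻¹ := by group
      rw [this, tk_sq Fr k]; group
    have hcen : ∀ s : GL (Fin 4) F, (s = 1 ∨ s = -1) → n * tk a1 b1 a2 b2 k * n⁻¹ ≠ s := by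
      intro s hs h
      have h' : tk a1 b1 a2 b2 k = s := by
        have : tk a1 b1 a2 b2 k = n⁻¹ * (n * tk a1 b1 a2 b2 k * n⁻¹) * n := by group
        rw [this, h]
        rcases hs with rfl | rfl <;> simp
      -- `tk k` anticommutes with another involution
      obtain ⟨l, hl⟩ : ∃ l : Fin 5, k ≠ l := by
        by_cases h0 : k = 0
        · exact ⟨1, by rw [h0]; decide⟩
        · exact ⟨0, h0⟩
      have hanti := tk_anti Fr k l hl
      rw [h'] at hanti
      rcases hs with rfl | rfl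
      · simp only [one_mul, mul_one] at hanti
        exact no_self_neg h2 _ hanti
      · simp only [neg_mul, one_mul, mul_neg, mul_one, neg_neg] at hanti
        exact no_self_neg h2 _ hanti.symm
    rcases invol H G Fr hmem hsq with h | h | ⟨l, hl⟩
    · exact absurd h (hcen 1 (Or.inl rfl))
    · exact absurd h (hcen (-1) (Or.inr rfl))
    · exact ⟨l, hl⟩
  choose σ hσ using key
  exact ⟨σ, hσ⟩

/-- the witness for `r = 3` away from characteristic three -/
theorem no_three (H : Hyp2 R) (G : Gens R a1 b1 a2 b2) (Fr : Frame Q α β a1 b1 a2 b2)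
    (hRf : ∀ g ∈ R, (g : Matrix (Fin 4) (Fin 4) F)ᵀ * J4 F * (g : Matrix (Fin 4) (Fin 4) F) = J4 F)
    {n : GL (Fin 4) F} (hn : n ∈ Subgroup.normalizer (R : Set (GL (Fin 4) F))) (hn3 : n ^ 3 = 1)
    (hfix : ∃ u : Fin 4 → F, u ≠ 0 ∧ (n : Matrix (Fin 4) (Fin 4) F) *ᵥ u = u)
    (hplane : ∀ u u' : Fin 4 → F, (n : Matrix (Fin 4) (Fin 4) F) *ᵥ u = u →
      (n : Matrix (Fin 4) (Fin 4) F) *ᵥ u' = u' → u ⬝ᵥ (J4 F *ᵥ u') = 0 →
      ∃ a b : F, (a ≠ 0 ∨ b ≠ 0) ∧ a • u + b • u' = 0) : False := by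
  have h2 := H.two_ne
  obtain ⟨σ, hσ⟩ := exists_sigma H G Fr hn
  set t := tk a1 b1 a2 b2 with ht
  -- the third power of the permutation is trivial
  have hcube : ∀ x : GL (Fin 4) F, n * (n * (n * x * n⁻¹) * n⁻¹) * n⁻¹ = x := by
    intro x
    have h3' : n * n * n = 1 := by rw [← hn3]; simp [pow_succ]
    have : n * (n * (n * x * n⁻¹) * n⁻¹) * n⁻¹ = (n * n * n) * x * (n * n * n)⁻¹ := by group
    rw [this, h3']; simp
  have h3 : ∀ k, σ (σ (σ k)) = k := by
    intro k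
    have e1 := ((hσ k).conj n).trans (hσ (σ k))
    have e2 := (e1.conj n).trans (hσ (σ (σ k)))
    rw [hcube] at e2
    exact (tk_inj h2 Fr e2).symm
  obtain ⟨k, l, hkl, hk, hl⟩ := fix3' σ h3
  -- fixed involutions commute with `n`
  have hcomm : ∀ k, σ k = k → n * t k = t k * n := by
    intro k hk
    have e := hσ k
    rw [hk] at e
    rcases e with e | e
    · calc n * t k = (n * t k * n⁻¹) * n := by group
        _ = t k * n := by rw [e]
    · exfalso
      have e' : n * (-t k) * n⁻¹ = t k := by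
        have : n * (-t k) * n⁻¹ = -(n * t k * n⁻¹) := by simp
        rw [this, e, neg_neg]
      have := hcube (t k)
      rw [e] at this
      have e'' : n * (-t k) * n⁻¹ = -(n * t k * n⁻¹) := by simp
      rw [e', e] at this
      exact no_self_neg h2 _ this.symm
  have ck := hcomm k hk
  have cl := hcomm l hl
  have hanti := tk_anti Fr k l hkl
  have sk := tk_sq Fr k
  have sl := tk_sq Fr l
  -- matrices
  set N : Matrix (Fin 4) (Fin 4) F := (n : Matrix (Fin 4) (Fin 4) F) with hN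
  set T : Matrix (Fin 4) (Fin 4) F := (t k : Matrix (Fin 4) (Fin 4) F) with hT
  set T' : Matrix (Fin 4) (Fin 4) F := (t l : Matrix (Fin 4) (Fin 4) F) with hT'
  have mNT : N * T = T * N := by
    have := congrArg Units.val ck
    simpa [Units.val_mul] using this
  have mNT' : N * T' = T' * N := by
    have := congrArg Units.val cl
    simpa [Units.val_mul] using this
  have mTT : T * T = 1 := by
    have := congrArg Units.val sk
    simpa [Units.val_mul] using this
  have mT'T' : T' * T' = 1 := by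
    have := congrArg Units.val sl
    simpa [Units.val_mul] using this
  have manti : T * T' = -(T' * T) := by
    have := congrArg Units.val hanti
    simpa [Units.val_mul] using this
  have mform : Tᵀ * J4 F * T = J4 F := hRf _ (tk_mem G k)
  have mv : ∀ (A B : Matrix (Fin 4) (Fin 4) F) (v : Fin 4 → F), A *ᵥ (B *ᵥ v) = (A * B) *ᵥ v :=
    fun A B v => Matrix.mulVec_mulVec v A B
  -- a common eigenvector
  obtain ⟨u0, hu0, hNu0⟩ := hfix
  have T'inj : ∀ v : Fin 4 → F, T' *ᵥ v = 0 → v = 0 := by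
    intro v hv
    have := congrArg (fun w => T' *ᵥ w) hv
    simp only [mv, mT'T', Matrix.one_mulVec, Matrix.mulVec_zero] at this
    exact this
  obtain ⟨up, hup0, hNup, hTup⟩ : ∃ up : Fin 4 → F, up ≠ 0 ∧ N *ᵥ up = up ∧ T *ᵥ up = up := by
    by_cases hcase : u0 + T *ᵥ u0 = 0
    · refine ⟨T' *ᵥ u0, fun h => hu0 (T'inj _ h), ?_, ?_⟩
      · rw [mv, mNT', ← mv, hNu0]
      · have hT0 : T *ᵥ u0 = -u0 := by
          rw [add_comm] at hcase
          exact eq_neg_of_add_eq_zero_left hcase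
        rw [mv, manti, Matrix.neg_mulVec, ← mv, hT0, Matrix.mulVec_neg, neg_neg]
    · refine ⟨u0 + T *ᵥ u0, hcase, ?_, ?_⟩
      · rw [Matrix.mulVec_add, mv, mNT, ← mv, hNu0]
      · rw [Matrix.mulVec_add, mv, mTT, Matrix.one_mulVec, add_comm]
  set um : Fin 4 → F := T' *ᵥ up with hum
  have hum0 : um ≠ 0 := fun h => hup0 (T'inj _ h)
  have hNum : N *ᵥ um = um := by rw [hum, mv, mNT', ← mv, hNup]
  have hTum : T *ᵥ um = -um := by
    rw [hum, mv, manti, Matrix.neg_mulVec, ← mv, hTup]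
  have hform : up ⬝ᵥ (J4 F *ᵥ um) = 0 := by
    have e1 : (T *ᵥ up) ⬝ᵥ (J4 F *ᵥ (T *ᵥ um)) = up ⬝ᵥ (J4 F *ᵥ um) := by
      rw [form_transpose, mform]
    rw [hTup, hTum, Matrix.mulVec_neg, dotProduct_neg] at e1
    have e2 : (2 : F) * (up ⬝ᵥ (J4 F *ᵥ um)) = 0 := by linear_combination -e1
    exact (mul_eq_zero.mp e2).resolve_left h2
  obtain ⟨a, b, hab, hlin⟩ := hplane up um hNup hNum hform
  have hlin' : a • up - b • um = 0 := by
    have := congrArg (fun w => T *ᵥ w) hlin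
    simp only [Matrix.mulVec_add, Matrix.mulVec_smul, hTup, hTum, Matrix.mulVec_zero, smul_neg] at this
    rw [← sub_eq_add_neg] at this
    exact this
  have ha : a = 0 := by
    have e : (2 * a) • up = 0 := by
      have : (2 * a) • up = (a • up + b • um) + (a • up - b • um) := by
        rw [mul_smul, two_smul]; abel
      rw [this, hlin, hlin', add_zero]
    rcases smul_eq_zero.mp e with h | h
    · exact (mul_eq_zero.mp h).resolve_left h2
    · exact absurd h hup0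
  have hb : b = 0 := by
    have e : (2 * b) • um = 0 := by
      have : (2 * b) • um = (a • up + b • um) - (a • up - b • um) := by
        rw [mul_smul, two_smul]; abel
      rw [this, hlin, hlin', sub_zero]
    rcases smul_eq_zero.mp e with h | h
    · exact (mul_eq_zero.mp h).resolve_left h2
    · exact absurd h hum0
  rcases hab with h | h
  · exact h ha
  · exact h hb

end three

end Cfsg.Agent.Lib.Helper99.Sp4H
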