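import Mathlib
import Cfsg.Agent.Lib.Helper99.Uni4A

/-!
# Hermitian spaces with an isometry: hyperbolic pairs of eigenvectors and complements
-/

set_option autoImplicit false

namespace Cfsg.Agent.Lib.Helper99.Uni4D

open Cfsg.Agent.Lib.Helper19 (frobQ frobQ_apply pow_q_pow_q add_pow_q sum_pow_q q_pos one_lt_q)
open Cfsg.Agent.Lib.Helper99.HermONB

universe u

variable {F : Type*} [Field F] [Fintype F] {p : ℕ} {V : Type u} [AddCommGroup V] [Module F V]
variable {h : V → V → F}

omit [Fintype F] in
theorem neg_left (hh : HForm p h) (x y : V) : h (-x) y = -h x y := by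
  have := hh.smul_left (-1) x y
  simpa using this

omit [Fintype F] in
theorem sub_left (hh : HForm p h) (x x' y : V) : h (x - x') y = h x y - h x' y := by
  rw [sub_eq_add_neg, hh.add_left, neg_left hh, sub_eq_add_neg]

theorem neg_right (hF : Fintype.card F = p ^ 2) (hh : HForm p h) (x y : V) : h x (-y) = -h x y := by
  have := hh.add_right hF x y (-y)
  rw [add_neg_cancel, hh.zero_right hF] at this
  linear_combination -this

theorem sub_right (hF : Fintype.card F = p ^ 2) (hh : HForm p h) (x y y' : V) :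
    h x (y - y') = h x y - h x y' := by
  rw [sub_eq_add_neg, hh.add_right hF, neg_right hF hh, sub_eq_add_neg]

omit [Fintype F] in
theorem conj_eq_zero (hh : HForm p h) {x y : V} (hxy : h x y = 0) (hp0 : p ≠ 0) : h y x = 0 := by
  rw [hh.conj x y, hxy, zero_pow hp0]

omit [Fintype F] in
theorem conj_eq_one (hh : HForm p h) {x y : V} (hxy : h x y = 1) : h y x = 1 := by
  rw [hh.conj x y, hxy, one_pow]

omit [Fintype F] in
/-- eigenvectors are orthogonal unless the eigenvalues are paired -/
theorem eig_orth (hh : HForm p h) {T : V →ₗ[F] V} (hT : ∀ x y, h (T x) (T y) = h x y) {u u' : V}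
    {a b : F} (hu : T u = a • u) (hu' : T u' = b • u') (hab : a * b ^ p ≠ 1) : h u u' = 0 := by
  have := hT u u'
  rw [hu, hu', hh.smul_left, hh.smul_right] at this
  have h1 : (a * b ^ p - 1) * h u u' = 0 := by linear_combination this
  rcases mul_eq_zero.mp h1 with h2 | h2
  · exact absurd (sub_eq_zero.mp h2) hab
  · exact h2

/-- a partner for an eigenvector of order three -/
theorem partner3 (hF : Fintype.card F = p ^ 2) (hh : HForm p h) {T : V →ₗ[F] V}
    (hT : ∀ x y, h (T x) (T y) = h x y) (hT3 : ∀ v, T (T (T v)) = v) {l : F}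
    (hl : l * l + l + 1 = 0) (hlp : l ^ p = l) (h3 : (3 : F) ≠ 0) {u : V} (hu0 : u ≠ 0)
    (hu : T u = l • u) : ∃ u', T u' = (l * l) • u' ∧ h u u' = 1 := by
  have hl3 : l * l * l = 1 := by linear_combination (l - 1) * hl
  obtain ⟨y, hy⟩ : ∃ y, h u y ≠ 0 := by
    by_contra hno
    push Not at hno
    exact hu0 (hh.nondeg u hno)
  have hshift : ∀ z, h u (T z) = (l * l) * h u z := by
    intro z
    have := hT u z
    rw [hu, hh.smul_left] at this
    calc h u (T z) = (l * l * l) * h u (T z) := by rw [hl3, one_mul]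
      _ = (l * l) * (l * h u (T z)) := by ring
      _ = (l * l) * h u z := by rw [this]
  obtain ⟨y', hy'⟩ : ∃ y', y' = y + l • T y + (l * l) • T (T y) := ⟨_, rfl⟩
  have hTy' : T y' = (l * l) • y' := by
    rw [hy']
    simp only [map_add, map_smul, hT3]
    rw [smul_add, smul_add, smul_smul, smul_smul]
    have e2 : l * l * (l * l) = l := by linear_combination l * hl3
    rw [hl3, e2, one_smul]; abel
  have hval : h u y' = 3 * h u y := by
    rw [hy', hh.add_right hF, hh.add_right hF, hh.smul_right, hh.smul_right, hshift, hshift, hshift,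
      mul_pow, hlp]
    linear_combination (h u y) * (l * l * l + 2) * hl3
  have hne : h u y' ≠ 0 := by rw [hval]; exact mul_ne_zero h3 hy
  refine ⟨(((h u y')⁻¹) ^ p) • y', ?_, ?_⟩
  · rw [map_smul, hTy', smul_comm]
  · rw [hh.smul_right, pow_q_pow_q hF, inv_mul_cancel₀ hne]

omit [Fintype F] in
theorem iso3 (hh : HForm p h) {T : V →ₗ[F] V}
    (hT : ∀ x y, h (T x) (T y) = h x y) {l : F}
    (hl : l * l + l + 1 = 0) (hlp : l ^ p = l) (h3 : (3 : F) ≠ 0) {u : V}
    (hu : T u = l • u) : h u u = 0 := by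
  apply eig_orth hh hT hu hu
  rw [hlp]
  intro h1
  apply h3
  have h2 : l = -2 := by linear_combination hl - h1
  rw [h2] at h1
  linear_combination h1

/-- a hyperbolic pair of eigenvectors of a nontrivial isometry of order three -/
theorem pair3 (hF : Fintype.card F = p ^ 2) (hh : HForm p h) {T : V →ₗ[F] V}
    (hT : ∀ x y, h (T x) (T y) = h x y) (hT3 : ∀ v, T (T (T v)) = v) {ω : F}
    (hω : ω * ω + ω + 1 = 0) (hωp : ω ^ p = ω) (h3 : (3 : F) ≠ 0) (hne : ∃ v, T v ≠ v) :
    ∃ e e', T e = ω • e ∧ T e' = (ω * ω) • e' ∧ h e e = 0 ∧ h e' e' = 0 ∧ h e e' = 1 := by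
  have hω3 : ω * ω * ω = 1 := by linear_combination (ω - 1) * hω
  have hω2 : (ω * ω) * (ω * ω) + ω * ω + 1 = 0 := by
    linear_combination (ω * ω - ω + 1) * hω
  have hω2p : (ω * ω) ^ p = ω * ω := by rw [mul_pow, hωp]
  obtain ⟨v, hv⟩ := hne
  obtain ⟨e1, he1⟩ : ∃ e1, e1 = v + (ω * ω) • T v + ω • T (T v) := ⟨_, rfl⟩
  obtain ⟨e2, he2⟩ : ∃ e2, e2 = v + ω • T v + (ω * ω) • T (T v) := ⟨_, rfl⟩
  have hTe1 : T e1 = ω • e1 := by
    rw [he1]
    simp only [map_add, map_smul, hT3]
    rw [smul_add, smul_add, smul_smul, smul_smul]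
    have : ω * (ω * ω) = 1 := by linear_combination hω3
    rw [this, one_smul]; abel
  have hTe2 : T e2 = (ω * ω) • e2 := by
    rw [he2]
    simp only [map_add, map_smul, hT3]
    rw [smul_add, smul_add, smul_smul, smul_smul]
    have e3 : ω * ω * (ω * ω) = ω := by linear_combination ω * hω3
    rw [hω3, e3, one_smul]; abel
  have hnot : ¬ (e1 = 0 ∧ e2 = 0) := by
    rintro ⟨h1, h2⟩
    apply hv
    have hsum : (3 : F) • v = v + T v + T (T v) := by
      have : e1 + e2 = (2 : F) • v + (ω * ω + ω) • T v + (ω + ω * ω) • T (T v) := by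
        rw [he1, he2]; module
      rw [h1, h2, add_zero] at this
      have h4 : ω * ω + ω = -1 := by linear_combination hω
      have h5 : ω + ω * ω = -1 := by linear_combination hω
      rw [h4, h5] at this
      have h6 : (3 : F) • v - (v + T v + T (T v)) = (2 : F) • v + (-1 : F) • T v + (-1 : F) • T (T v) := by
        module
      rw [← this] at h6
      exact sub_eq_zero.mp h6
    have hT3v : T ((3 : F) • v) = (3 : F) • v := by
      rw [hsum]
      simp only [map_add, hT3]
      abel
    rw [map_smul] at hT3v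
    exact smul_right_injective V h3 hT3v
  by_cases h1 : e1 = 0
  · have h2 : e2 ≠ 0 := fun h2 => hnot ⟨h1, h2⟩
    obtain ⟨e'', hTe'', hpair⟩ := partner3 hF hh hT hT3 hω2 hω2p h3 h2 hTe2
    have e4 : ω * ω * (ω * ω) = ω := by linear_combination ω * hω3
    rw [e4] at hTe''
    exact ⟨e'', e2, hTe'', hTe2, iso3 hh hT hω hωp h3 hTe'', iso3 hh hT hω2 hω2p h3 hTe2,
      conj_eq_one hh hpair⟩
  · obtain ⟨e', hTe', hpair⟩ := partner3 hF hh hT hT3 hω hωp h3 h1 hTe1
    exact ⟨e1, e', hTe1, hTe', iso3 hh hT hω hωp h3 hTe1, iso3 hh hT hω2 hω2p h3 hTe', hpair⟩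

section complement

omit [Fintype F] in
/-- the map `v ↦ (h v e, h v e')` -/
def pairMap (hh : HForm p h) (e e' : V) : V →ₗ[F] F × F where
  toFun v := (h v e, h v e')
  map_add' a b := by rw [hh.add_left, hh.add_left]; rfl
  map_smul' c a := by rw [hh.smul_left, hh.smul_left]; rfl

/-- the orthogonal complement of a pair of vectors -/
def hypCompl (hh : HForm p h) (e e' : V) : Submodule F V := LinearMap.ker (pairMap hh e e')

omit [Fintype F] in
theorem mem_hypCompl (hh : HForm p h) {e e' w : V} :
    w ∈ hypCompl hh e e' ↔ h w e = 0 ∧ h w e' = 0 := by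
  unfold hypCompl
  rw [LinearMap.mem_ker]
  show (h w e, h w e') = 0 ↔ _
  rw [Prod.mk_eq_zero]

theorem hypCompl_hform (hF : Fintype.card F = p ^ 2) (hh : HForm p h) {e e' : V}
    (he : h e e = 0) (he' : h e' e' = 0) (hee' : h e e' = 1) :
    HForm p (fun w w' : hypCompl hh e e' => h (w : V) (w' : V)) := by
  have he'e : h e' e = 1 := conj_eq_one hh hee'
  refine ⟨fun a b c => hh.add_left _ _ _, fun c a b => hh.smul_left _ _ _,
    fun a b => hh.conj _ _, ?_⟩
  intro w hw
  apply Subtype.ext
  apply hh.nondeg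
  intro y
  obtain ⟨hwe, hwe'⟩ := (mem_hypCompl hh).mp w.2
  have hyW : y - (h y e') • e - (h y e) • e' ∈ hypCompl hh e e' := by
    rw [mem_hypCompl]
    constructor
    · rw [sub_left hh, sub_left hh, hh.smul_left, hh.smul_left, he, he'e]; ring
    · rw [sub_left hh, sub_left hh, hh.smul_left, hh.smul_left, hee', he']; ring
  have h1 := hw ⟨_, hyW⟩
  simp only at h1
  have h3 : y = (y - (h y e') • e - (h y e) • e') + (h y e') • e + (h y e) • e' := by abel
  rw [h3, hh.add_right hF, hh.add_right hF, h1, hh.smul_right, hh.smul_right, hwe, hwe']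
  simp

omit [Fintype F] in
theorem finrank_hypCompl [FiniteDimensional F V] (hh : HForm p h) {e e' : V}
    (he : h e e = 0) (he' : h e' e' = 0) (hee' : h e e' = 1) :
    Module.finrank F (hypCompl hh e e') + 2 = Module.finrank F V := by
  have he'e : h e' e = 1 := conj_eq_one hh hee'
  have hsurj : Function.Surjective (pairMap hh e e') := by
    rintro ⟨a, b⟩
    refine ⟨a • e' + b • e, ?_⟩
    show (h (a • e' + b • e) e, h (a • e' + b • e) e') = (a, b)
    rw [hh.add_left, hh.add_left, hh.smul_left, hh.smul_left, hh.smul_left, hh.smul_left,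
      he, he', hee', he'e]
    simp
  have := LinearMap.finrank_range_add_finrank_ker (pairMap hh e e')
  rw [LinearMap.range_eq_top.mpr hsurj, finrank_top, Module.finrank_prod, Module.finrank_self] at this
  unfold hypCompl
  omega

omit [Fintype F] in
theorem hypCompl_invariant (hh : HForm p h) {T : V →ₗ[F] V} (hT : ∀ x y, h (T x) (T y) = h x y)
    {e e' : V} {a b : F} (ha : a ≠ 0) (hb : b ≠ 0) (hTe : T e = a • e) (hTe' : T e' = b • e') :
    ∀ w ∈ hypCompl hh e e', T w ∈ hypCompl hh e e' := by
  intro w hw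
  obtain ⟨hwe, hwe'⟩ := (mem_hypCompl hh).mp hw
  rw [mem_hypCompl]
  constructor
  · have h1 : e = T (a⁻¹ • e) := by rw [map_smul, hTe, smul_smul, inv_mul_cancel₀ ha, one_smul]
    rw [h1, hT, hh.smul_right, hwe, mul_zero]
  · have h1 : e' = T (b⁻¹ • e') := by rw [map_smul, hTe', smul_smul, inv_mul_cancel₀ hb, one_smul]
    rw [h1, hT, hh.smul_right, hwe', mul_zero]

end complement

section frames

/-- `b` has Gram matrix `G` -/
def IsFrame (h : V → V → F) (b : Fin 4 → V) (G : Matrix (Fin 4) (Fin 4) F) : Prop :=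
  ∀ j k, h (b j) (b k) = G j k

/-- the Gram matrix of the mixed frame -/
def G1 (F : Type*) [Field F] : Matrix (Fin 4) (Fin 4) F :=
  !![1, 0, 0, 0; 0, 1, 0, 0; 0, 0, 0, 1; 0, 0, 1, 0]

/-- the Gram matrix of the hyperbolic frame -/
def G2 (F : Type*) [Field F] : Matrix (Fin 4) (Fin 4) F :=
  !![0, 0, 1, 0; 0, 0, 0, 1; 1, 0, 0, 0; 0, 1, 0, 0]

omit [Fintype F] in
theorem isFrame_of_upper (hh : HForm p h) (hp0 : p ≠ 0) {b : Fin 4 → V} {G : Matrix (Fin 4) (Fin 4) F}
    (hG : ∀ j k, G j k = 0 ∨ G j k = 1) (hsymm : ∀ j k, G j k = G k j)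
    (hup : ∀ j k, j ≤ k → h (b j) (b k) = G j k) : IsFrame h b G := by
  intro j k
  rcases le_total j k with hjk | hjk
  · exact hup j k hjk
  · have h1 := hup k j hjk
    rw [hsymm j k]
    rcases hG k j with h0 | h0
    · rw [h0] at h1 ⊢; exact conj_eq_zero hh h1 hp0
    · rw [h0] at h1 ⊢; exact conj_eq_one hh h1

/-- the frames for an isometry of order three of a four-dimensional space -/
theorem frame3 (hF : Fintype.card F = p ^ 2) (h2 : (2 : F) ≠ 0) (hh : HForm p h)
    [FiniteDimensional F V] (hV : Module.finrank F V = 4) {T : V →ₗ[F] V}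
    (hT : ∀ x y, h (T x) (T y) = h x y) (hT3 : ∀ v, T (T (T v)) = v) {ω : F}
    (hω : ω * ω + ω + 1 = 0) (hωp : ω ^ p = ω) (h3 : (3 : F) ≠ 0) (hne : ∃ v, T v ≠ v) :
    (∃ b : Fin 4 → V, IsFrame h b (G1 F) ∧ T (b 0) = b 0 ∧ T (b 1) = b 1 ∧ T (b 2) = ω • b 2 ∧
        T (b 3) = (ω * ω) • b 3) ∨
    (∃ b : Fin 4 → V, IsFrame h b (G2 F) ∧ T (b 0) = ω • b 0 ∧ T (b 1) = ω • b 1 ∧
        T (b 2) = (ω * ω) • b 2 ∧ T (b 3) = (ω * ω) • b 3) := by
  have hp0 : p ≠ 0 := (q_pos hF).ne'
  have hω3 : ω * ω * ω = 1 := by linear_combination (ω - 1) * hω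
  have hω0 : ω ≠ 0 := by
    intro h0; rw [h0] at hω3; simp at hω3
  have hω20 : ω * ω ≠ 0 := mul_ne_zero hω0 hω0
  obtain ⟨e, e', hTe, hTe', he, he', hee'⟩ := pair3 hF hh hT hT3 hω hωp h3 hne
  have hW := hypCompl_hform hF hh he he' hee'
  have hWn : Module.finrank F (hypCompl hh e e') = 2 := by
    have := finrank_hypCompl hh he he' hee'
    omega
  have hinv := hypCompl_invariant hh hT hω0 hω20 hTe hTe'
  set TW : hypCompl hh e e' →ₗ[F] hypCompl hh e e' := T.restrict hinv with hTW
  have hTWv : ∀ w : hypCompl hh e e', ((TW w : hypCompl hh e e') : V) = T (w : V) := fun w => rfl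
  have hTWiso : ∀ x y : hypCompl hh e e', h ((TW x : hypCompl hh e e') : V) ((TW y : hypCompl hh e e') : V) =
      h (x : V) (y : V) := fun x y => by rw [hTWv, hTWv, hT]
  have hTW3 : ∀ w, TW (TW (TW w)) = w := by
    intro w
    apply Subtype.ext
    rw [hTWv, hTWv, hTWv, hT3]
  by_cases hneW : ∃ w, TW w ≠ w
  · right
    obtain ⟨e2, e2', hTe2, hTe2', he2, he2', hee2⟩ :=
      pair3 (h := fun w w' : hypCompl hh e e' => h (w : V) (w' : V)) hF hW hTWiso hTW3 hω hωp h3 hneW
    obtain ⟨h2e, h2e'⟩ := (mem_hypCompl hh).mp e2.2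
    obtain ⟨h2'e, h2'e'⟩ := (mem_hypCompl hh).mp e2'.2
    refine ⟨![e, (e2 : V), e', (e2' : V)], ?_, hTe, ?_, hTe', ?_⟩
    · apply isFrame_of_upper hh hp0
      · intro j k; fin_cases j <;> fin_cases k <;> simp [G2]
      · intro j k; fin_cases j <;> fin_cases k <;> simp [G2]
      · intro j k hjk
        fin_cases j <;> fin_cases k <;> simp [G2] at hjk ⊢
        · exact he
        · exact conj_eq_zero hh h2e hp0
        · exact hee'
        · exact conj_eq_zero hh h2'e hp0
        · exact he2
        · exact h2e'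
        · exact hee2
        · exact he'
        · exact conj_eq_zero hh h2'e' hp0
        · exact he2'
    · show T (e2 : V) = ω • (e2 : V)
      have := congrArg Subtype.val hTe2
      rw [hTWv] at this
      exact this
    · show T (e2' : V) = (ω * ω) • (e2' : V)
      have := congrArg Subtype.val hTe2'
      rw [hTWv] at this
      exact this
  · left
    push Not at hneW
    obtain ⟨f, hf⟩ := exists_orthonormal hF h2 2 (hypCompl hh e e')
      (fun w w' : hypCompl hh e e' => h (w : V) (w' : V)) hW hWn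
    obtain ⟨h0e, h0e'⟩ := (mem_hypCompl hh).mp (f 0).2
    obtain ⟨h1e, h1e'⟩ := (mem_hypCompl hh).mp (f 1).2
    refine ⟨![((f 0 : hypCompl hh e e') : V), ((f 1 : hypCompl hh e e') : V), e, e'], ?_, ?_, ?_, hTe, hTe'⟩
    · apply isFrame_of_upper hh hp0
      · intro j k; fin_cases j <;> fin_cases k <;> simp [G1]
      · intro j k; fin_cases j <;> fin_cases k <;> simp [G1]
      · intro j k hjk
        fin_cases j <;> fin_cases k <;> simp [G1] at hjk ⊢
        · have := hf 0 0; simpa using this
        · have := hf 0 1; simpa using this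
        · exact h0e
        · exact h0e'
        · have := hf 1 1; simpa using this
        · exact h1e
        · exact h1e'
        · exact he
        · exact hee'
        · exact he'
    · show T ((f 0 : hypCompl hh e e') : V) = ((f 0 : hypCompl hh e e') : V)
      have := congrArg Subtype.val (hneW (f 0))
      rw [hTWv] at this
      exact this
    · show T ((f 1 : hypCompl hh e e') : V) = ((f 1 : hypCompl hh e e') : V)
      have := congrArg Subtype.val (hneW (f 1))
      rw [hTWv] at this
      exact this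

end frames

section five

variable {T : V →ₗ[F] V}

/-- five times the idempotent attached to the pair `(t, s)` -/
def E5 (T : V →ₗ[F] V) (t s : F) (v : V) : V :=
  (2 : F) • v + t • T v + s • T (T v) + s • T (T (T v)) + t • T (T (T (T v)))

omit [Fintype F] in
theorem E5_add (t s : F) (v w : V) : E5 T t s (v + w) = E5 T t s v + E5 T t s w := by
  unfold E5
  simp only [map_add, smul_add]
  abel

omit [Fintype F] in
theorem E5_smul (t s c : F) (v : V) : E5 T t s (c • v) = c • E5 T t s v := by
  unfold E5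
  simp only [map_smul, smul_add, smul_smul]
  congr 1
  · congr 1
    · congr 1
      · congr 1
        · rw [mul_comm]
        · rw [mul_comm]
      · rw [mul_comm]
    · rw [mul_comm]
  · rw [mul_comm]

omit [Fintype F] in
/-- the powers of `T` on the kernel of `T^2 - t T + 1` -/
theorem pow_of_ker {t : F} (ht : t * t + t - 1 = 0) {u : V} (hu : T (T u) = t • T u - u) :
    T (T (T u)) = (-t) • T u - t • u ∧ T (T (T (T u))) = -T u + t • u := by
  have h3 : T (T (T u)) = (-t) • T u - t • u := by
    rw [hu, map_sub, map_smul, hu]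
    have : t • (t • T u - u) - T u = (t * t - 1) • T u - t • u := by module
    rw [this]
    have : t * t - 1 = -t := by linear_combination ht
    rw [this]
  refine ⟨h3, ?_⟩
  rw [h3, map_sub, map_smul, map_smul, hu]
  have : (-t) • (t • T u - u) - t • T u = (-(t * t) - t) • T u + t • u := by module
  rw [this]
  have : -(t * t) - t = -1 := by linear_combination -ht
  rw [this]
  module

omit [Fintype F] in
theorem E5_of_ker {t s : F} (ht : t * t + t - 1 = 0) (hts : t + s = -1) {u : V}
    (hu : T (T u) = t • T u - u) : E5 T t s u = (5 : F) • u ∧ E5 T s t u = 0 := by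
  obtain ⟨h3, h4⟩ := pow_of_ker ht hu
  have hs : s = -1 - t := by linear_combination hts
  constructor
  · unfold E5
    rw [h4, h3, hu]
    have : (2 : F) • u + t • T u + s • (t • T u - u) + s • ((-t) • T u - t • u) + t • (-T u + t • u) =
        (2 - s - s * t + t * t) • u + (t + s * t - s * t - t) • T u := by module
    rw [this]
    have e1 : 2 - s - s * t + t * t = 5 := by rw [hs]; linear_combination (2 : F) * ht
    have e2 : t + s * t - s * t - t = 0 := by ring
    rw [e1, e2, zero_smul, add_zero]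
  · unfold E5
    rw [h4, h3, hu]
    have : (2 : F) • u + s • T u + t • (t • T u - u) + t • ((-t) • T u - t • u) + s • (-T u + t • u) =
        (2 - t - t * t + s * t) • u + (s + t * t - t * t - s) • T u := by module
    rw [this]
    have e1 : 2 - t - t * t + s * t = 0 := by rw [hs]; linear_combination (-2 : F) * ht
    have e2 : s + t * t - t * t - s = 0 := by ring
    rw [e1, e2, zero_smul, zero_smul, add_zero]

omit [Fintype F] in
/-- `E5 T t s` maps into the kernel of `T^2 - t T + 1` -/
theorem ker_of_E5 (hT5 : ∀ v, T (T (T (T (T v)))) = v) {t s : F} (ht : t * t + t - 1 = 0)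
    (hts : t + s = -1) (v : V) :
    T (T (E5 T t s v)) = t • T (E5 T t s v) - E5 T t s v := by
  have hs : s = -1 - t := by linear_combination hts
  unfold E5
  simp only [map_add, map_smul, hT5]
  rw [hs]
  have e : t * t = 1 - t := by linear_combination ht
  have key : ∀ (a b c d e' : V),
      (2 : F) • c + t • d + (-1 - t) • e' + (-1 - t) • a + t • b =
      t • ((2 : F) • b + t • c + (-1 - t) • d + (-1 - t) • e' + t • a) -
        ((2 : F) • a + t • b + (-1 - t) • c + (-1 - t) • d + t • e') := by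
    intro a b c d e'
    have : t • ((2 : F) • b + t • c + (-1 - t) • d + (-1 - t) • e' + t • a) -
        ((2 : F) • a + t • b + (-1 - t) • c + (-1 - t) • d + t • e') =
        (t * t - 2) • a + (2 * t - t) • b + (t * t + 1 + t) • c + (t * (-1 - t) + 1 + t) • d +
          (t * (-1 - t) - t) • e' := by module
    rw [this]
    have e1 : t * t - 2 = -1 - t := by linear_combination ht
    have e2 : 2 * t - t = t := by ring
    have e3 : t * t + 1 + t = 2 := by linear_combination ht
    have e4 : t * (-1 - t) + 1 + t = t := by linear_combination -ht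
    have e5 : t * (-1 - t) - t = -1 - t := by linear_combination -ht
    rw [e1, e2, e3, e4, e5]
    abel
  exact key _ _ _ _ _

theorem E5_adjoint (hF : Fintype.card F = p ^ 2) (hh : HForm p h)
    (hT : ∀ x y, h (T x) (T y) = h x y) (hT5 : ∀ v, T (T (T (T (T v)))) = v) {t s : F}
    (htp : t ^ p = s) (hsp : s ^ p = t) (a b : V) : h (E5 T t s a) b = h a (E5 T s t b) := by
  have hp0 : p ≠ 0 := (q_pos hF).ne'
  have h1 : ∀ x y, h (T x) y = h x (T (T (T (T y)))) := by
    intro x y
    have := hT x (T (T (T (T y))))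
    rw [hT5] at this
    exact this
  have h2p : (2 : F) ^ p = 2 := Cfsg.Agent.Lib.Helper99.Uni4A.ofNat_pow hF 2
  unfold E5
  simp only [hh.add_left, hh.smul_left, hh.add_right hF, hh.smul_right, htp, hsp, h2p]
  have e1 : h (T a) b = h a (T (T (T (T b)))) := h1 a b
  have e2 : h (T (T a)) b = h a (T (T (T b))) := by
    rw [h1, h1, hT5 (T (T (T b)))]
  have e3 : h (T (T (T a))) b = h a (T (T b)) := by
    rw [h1, h1, h1, hT5 (T (T (T (T (T (T (T b))))))), hT5 (T (T b))]
  have e4 : h (T (T (T (T a)))) b = h a (T b) := by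
    rw [h1, h1, h1, h1, hT5 (T (T (T (T (T (T (T (T (T (T (T b))))))))))),
      hT5 (T (T (T (T (T (T b)))))), hT5 (T b)]
  rw [e1, e2, e3, e4]
  ring

end five

section five'

variable {T : V →ₗ[F] V}

theorem iso5 (hF : Fintype.card F = p ^ 2) (hh : HForm p h)
    (hT : ∀ x y, h (T x) (T y) = h x y) (hT5 : ∀ v, T (T (T (T (T v)))) = v) {t s : F}
    (ht : t * t + t - 1 = 0) (hts : t + s = -1) (htp : t ^ p = s) (hsp : s ^ p = t)
    (h5 : (5 : F) ≠ 0) {u u' : V} (hu : T (T u) = t • T u - u) (hu' : T (T u') = t • T u' - u') :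
    h u u' = 0 := by
  have h1 := E5_adjoint hF hh hT hT5 htp hsp u u'
  rw [(E5_of_ker ht hts hu).1, (E5_of_ker ht hts hu').2, hh.smul_left, hh.zero_right hF] at h1
  exact (mul_eq_zero.mp h1).resolve_left h5

theorem partner5 (hF : Fintype.card F = p ^ 2) (hh : HForm p h)
    (hT : ∀ x y, h (T x) (T y) = h x y) (hT5 : ∀ v, T (T (T (T (T v)))) = v) {t s : F}
    (ht : t * t + t - 1 = 0) (hts : t + s = -1) (htp : t ^ p = s) (hsp : s ^ p = t)
    (h5 : (5 : F) ≠ 0) {u : V} (hu0 : u ≠ 0) (hu : T (T u) = t • T u - u) :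
    ∃ w, T (T w) = s • T w - w ∧ h u w = 1 := by
  have hs : s * s + s - 1 = 0 := by
    have : s = -1 - t := by linear_combination hts
    rw [this]; linear_combination ht
  have hst : s + t = -1 := by rw [add_comm]; exact hts
  obtain ⟨y, hy⟩ : ∃ y, h u y ≠ 0 := by
    by_contra hno
    push Not at hno
    exact hu0 (hh.nondeg u hno)
  have h1 := E5_adjoint hF hh hT hT5 htp hsp u y
  rw [(E5_of_ker ht hts hu).1, hh.smul_left] at h1
  have hne : h u (E5 T s t y) ≠ 0 := by rw [← h1]; exact mul_ne_zero h5 hy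
  refine ⟨(((h u (E5 T s t y))⁻¹) ^ p) • E5 T s t y, ?_, ?_⟩
  · rw [map_smul, map_smul, ker_of_E5 hT5 hs hst y]
    module
  · rw [hh.smul_right, pow_q_pow_q hF, inv_mul_cancel₀ hne]

/-- the frame for an isometry of order five whose quadratic factors are conjugate and irreducible -/
theorem frame5 (hF : Fintype.card F = p ^ 2) (hh : HForm p h)
    (hT : ∀ x y, h (T x) (T y) = h x y) (hT5 : ∀ v, T (T (T (T (T v)))) = v) {t s : F}
    (ht : t * t + t - 1 = 0) (hts : t + s = -1) (htp : t ^ p = s) (hsp : s ^ p = t)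
    (h5 : (5 : F) ≠ 0) (hirr : ∀ c : F, c * c - t * c + 1 ≠ 0) (hne : ∃ v, T v ≠ v) :
    ∃ e1 e1' e2' : V, T (T e1) = t • T e1 - e1 ∧ T (T e1') = s • T e1' - e1' ∧
      T (T e2') = s • T e2' - e2' ∧ h e1 e1' = 1 ∧ h e1 e2' = 0 ∧ h (T e1) e1' = 0 ∧
      h (T e1) e2' = 1 := by
  have hs : s * s + s - 1 = 0 := by
    have : s = -1 - t := by linear_combination hts
    rw [this]; linear_combination ht
  have hst : s + t = -1 := by rw [add_comm]; exact hts
  -- a nonzero vector in the kernel for `t`
  obtain ⟨e1, he10, he1⟩ : ∃ e1 : V, e1 ≠ 0 ∧ T (T e1) = t • T e1 - e1 := by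
    obtain ⟨v, hv⟩ := hne
    by_cases h1 : E5 T t s v = 0
    · by_cases h2 : E5 T s t v = 0
      · exfalso
        apply hv
        have hsum : (5 : F) • v = v + T v + T (T v) + T (T (T v)) + T (T (T (T v))) := by
          have h3 : E5 T t s v + E5 T s t v =
              (4 : F) • v + (t + s) • (T v + T (T v) + T (T (T v)) + T (T (T (T v)))) := by
            unfold E5; module
          rw [h1, h2, add_zero, hts] at h3
          have h4 : (5 : F) • v - (v + T v + T (T v) + T (T (T v)) + T (T (T (T v)))) =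
              (4 : F) • v + (-1 : F) • (T v + T (T v) + T (T (T v)) + T (T (T (T v)))) := by module
          rw [← h3] at h4
          exact sub_eq_zero.mp h4
        have hT5v : T ((5 : F) • v) = (5 : F) • v := by
          rw [hsum]
          simp only [map_add, hT5]
          abel
        rw [map_smul] at hT5v
        exact smul_right_injective V h5 hT5v
      · obtain ⟨w, hw, hpair⟩ := partner5 hF hh hT hT5 hs hst hsp htp h5 h2 (ker_of_E5 hT5 hs hst v)
        refine ⟨w, ?_, hw⟩
        intro h0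
        rw [h0, hh.zero_right hF] at hpair
        exact zero_ne_one hpair
    · exact ⟨E5 T t s v, h1, ker_of_E5 hT5 ht hts v⟩
  -- independence of `e1` and `T e1`
  have hind : ∀ a b : F, a • e1 + b • T e1 = 0 → a = 0 ∧ b = 0 := by
    intro a b hab
    by_cases hb : b = 0
    · rw [hb, zero_smul, add_zero] at hab
      exact ⟨(smul_eq_zero.mp hab).resolve_right he10, hb⟩
    · exfalso
      have hTe : T e1 = (-(a / b)) • e1 := by
        have : b • T e1 = (-a) • e1 := by
          rw [neg_smul]; exact eq_neg_of_add_eq_zero_right hab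
        calc T e1 = b⁻¹ • (b • T e1) := by rw [smul_smul, inv_mul_cancel₀ hb, one_smul]
          _ = (-(a / b)) • e1 := by rw [this, smul_smul]; congr 1; field_simp
      set c : F := -(a / b) with hc
      have h2 := he1
      rw [hTe, map_smul, hTe, smul_smul, smul_smul] at h2
      have h3 : (c * c - t * c + 1) • e1 = 0 := by
        have : (c * c - t * c + 1) • e1 = (c * c) • e1 - ((t * c) • e1 - e1) := by module
        rw [this, ← h2, sub_self]
      exact hirr c ((smul_eq_zero.mp h3).resolve_right he10)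
  have kert : ∀ a b : F, T (T (a • e1 + b • T e1)) = t • T (a • e1 + b • T e1) - (a • e1 + b • T e1) := by
    intro a b
    obtain ⟨h3, _⟩ := pow_of_ker ht he1
    have hL : T (T (a • e1 + b • T e1)) = a • T (T e1) + b • T (T (T e1)) := by
      simp only [map_add, map_smul]
    have hR : T (a • e1 + b • T e1) = a • T e1 + b • T (T e1) := by
      simp only [map_add, map_smul]
    rw [hL, hR, h3, he1]
    have : t • (a • T e1 + b • (t • T e1 - e1)) - (a • e1 + b • T e1) =
        (t * a + b * (t * t) - b) • T e1 + (-(t * b) - a) • e1 := by module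
    rw [this]
    have e : t * a + b * (t * t) - b = a * t - b * t := by linear_combination b * ht
    rw [e]
    module
  -- the dual vectors
  obtain ⟨wa, hwa, hpa⟩ := partner5 hF hh hT hT5 ht hts htp hsp h5 he10 he1
  set β : F := h (T e1) wa with hβ
  have hu2 : (-β) • e1 + (1 : F) • T e1 ≠ 0 := by
    intro h0
    have := (hind _ _ h0).2
    exact one_ne_zero this
  obtain ⟨wc, hwc, hpc⟩ := partner5 hF hh hT hT5 ht hts htp hsp h5 hu2 (kert _ _)
  set γ : F := h e1 wc with hγ
  have hpc' : h (T e1) wc - β * γ = 1 := by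
    rw [hh.add_left, hh.smul_left, hh.smul_left, ← hγ] at hpc
    linear_combination hpc
  -- combinations in the kernel for `s`
  have kers : ∀ (c : F) (w w' : V), T (T w) = s • T w - w → T (T w') = s • T w' - w' →
      T (T (w - c • w')) = s • T (w - c • w') - (w - c • w') := by
    intro c w w' hw hw'
    simp only [map_sub, map_smul, hw, hw']
    module
  set wb : V := wc - (γ ^ p) • wa with hwb
  have hwbk := kers (γ ^ p) wc wa hwc hwa
  have hb1 : h e1 wb = 0 := by
    rw [hwb, sub_right hF hh, hh.smul_right, pow_q_pow_q hF, hpa, ← hγ]; ring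
  have hb2 : h (T e1) wb = 1 := by
    rw [hwb, sub_right hF hh, hh.smul_right, pow_q_pow_q hF, ← hβ]
    linear_combination hpc'
  set wa' : V := wa - (β ^ p) • wb with hwa'
  have hwa'k := kers (β ^ p) wa wb hwa hwbk
  have ha1 : h e1 wa' = 1 := by
    rw [hwa', sub_right hF hh, hh.smul_right, pow_q_pow_q hF, hpa, hb1]; ring
  have ha2 : h (T e1) wa' = 0 := by
    rw [hwa', sub_right hF hh, hh.smul_right, pow_q_pow_q hF, ← hβ, hb2]; ring
  exact ⟨e1, wa', wb, he1, hwa'k, hwbk, ha1, hb1, ha2, hb2⟩

end five'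

section two

variable {T : V →ₗ[F] V}

/-- the sorted orthonormal eigenbasis of an isometry of order two -/
theorem frame2 (hF : Fintype.card F = p ^ 2) (h2 : (2 : F) ≠ 0) (hh : HForm p h)
    [FiniteDimensional F V] (hV : Module.finrank F V = 4)
    (hT : ∀ x y, h (T x) (T y) = h x y) (hT2 : ∀ v, T (T v) = v) :
    ∃ (m : Fin 5) (b : Fin 4 → V), (∀ j k, h (b j) (b k) = if j = k then 1 else 0) ∧
      ∀ k : Fin 4, T (b k) = (if k.val < m.val then (1 : F) else -1) • b k := by
  have hp0 : p ≠ 0 := (q_pos hF).ne'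
  have hneg1 : (-1 : F) ^ p = -1 := by
    rw [Cfsg.Agent.Lib.Helper99.Uni4A.neg_pow_p hF, one_pow]
  have h1ne : (1 : F) * (-1 : F) ^ p ≠ 1 := by
    rw [hneg1, one_mul]
    intro h0
    apply h2
    linear_combination -h0
  have h1ne' : (-1 : F) * (1 : F) ^ p ≠ 1 := by
    rw [one_pow, mul_one]
    intro h0
    apply h2
    linear_combination -h0
  set Vp : Submodule F V := LinearMap.ker (T - 1) with hVp
  set Vm : Submodule F V := LinearMap.ker (T + 1) with hVm
  have memp : ∀ v, v ∈ Vp ↔ T v = v := by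
    intro v
    rw [hVp, LinearMap.mem_ker, LinearMap.sub_apply, Module.End.one_apply, sub_eq_zero]
  have memm : ∀ v, v ∈ Vm ↔ T v = -v := by
    intro v
    rw [hVm, LinearMap.mem_ker, LinearMap.add_apply, Module.End.one_apply, add_eq_zero_iff_eq_neg]
  have decomp : ∀ y : V, ∃ yp ∈ Vp, ∃ ym ∈ Vm, y = yp + ym := by
    intro y
    refine ⟨(2 : F)⁻¹ • (y + T y), ?_, (2 : F)⁻¹ • (y - T y), ?_, ?_⟩
    · rw [memp, map_smul, map_add, hT2, add_comm]
    · rw [memm, map_smul, map_sub, hT2, ← smul_neg, neg_sub]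
    · have : (2 : F)⁻¹ • (y + T y) + (2 : F)⁻¹ • (y - T y) = ((2 : F)⁻¹ * 2) • y := by module
      rw [this, inv_mul_cancel₀ h2, one_smul]
  have orth : ∀ u ∈ Vp, ∀ w ∈ Vm, h u w = 0 := by
    intro u hu w hw
    have hu' : T u = (1 : F) • u := by rw [one_smul]; exact (memp u).mp hu
    have hw' : T w = (-1 : F) • w := by rw [neg_one_smul]; exact (memm w).mp hw
    exact eig_orth hh hT hu' hw' h1ne
  have orth' : ∀ u ∈ Vp, ∀ w ∈ Vm, h w u = 0 := fun u hu w hw => conj_eq_zero hh (orth u hu w hw) hp0
  have hWp : HForm p (fun w w' : Vp => h (w : V) (w' : V)) := by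
    refine ⟨fun a b c => hh.add_left _ _ _, fun c a b => hh.smul_left _ _ _,
      fun a b => hh.conj _ _, ?_⟩
    intro w hw
    apply Subtype.ext
    apply hh.nondeg
    intro y
    obtain ⟨yp, hyp, ym, hym, rfl⟩ := decomp y
    rw [hh.add_right hF, orth w w.2 ym hym, add_zero]
    exact hw ⟨yp, hyp⟩
  have hWm : HForm p (fun w w' : Vm => h (w : V) (w' : V)) := by
    refine ⟨fun a b c => hh.add_left _ _ _, fun c a b => hh.smul_left _ _ _,
      fun a b => hh.conj _ _, ?_⟩
    intro w hw
    apply Subtype.ext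
    apply hh.nondeg
    intro y
    obtain ⟨yp, hyp, ym, hym, rfl⟩ := decomp y
    rw [hh.add_right hF, orth' yp hyp w w.2, zero_add]
    exact hw ⟨ym, hym⟩
  have hcompl : IsCompl Vp Vm := by
    constructor
    · rw [Submodule.disjoint_def]
      intro v hvp hvm
      have h1 := (memp v).mp hvp
      have h2' := (memm v).mp hvm
      have h3 : (2 : F) • v = 0 := by
        have : v = -v := h1.symm.trans h2'
        have h4 : (2 : F) • v = v - -v := by module
        rw [h4, ← this, sub_self]
      exact (smul_eq_zero.mp h3).resolve_left h2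
    · rw [codisjoint_iff, eq_top_iff]
      intro y _
      obtain ⟨yp, hyp, ym, hym, rfl⟩ := decomp y
      exact Submodule.add_mem_sup hyp hym
  have hdim := Submodule.finrank_add_eq_of_isCompl hcompl
  rw [hV] at hdim
  obtain ⟨a, ha⟩ : ∃ a, Module.finrank F Vp = a := ⟨_, rfl⟩
  obtain ⟨c, hc⟩ : ∃ c, Module.finrank F Vm = c := ⟨_, rfl⟩
  rw [ha, hc] at hdim
  obtain ⟨ep, hep⟩ := exists_orthonormal hF h2 a Vp _ hWp ha
  obtain ⟨em, hem⟩ := exists_orthonormal hF h2 c Vm _ hWm hc
  have hlt : ∀ k : Fin 4, ¬ k.val < a → k.val - a < c := fun k hk => by omega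
  refine ⟨⟨a, by omega⟩, fun k => if hk : k.val < a then ((ep ⟨k.val, hk⟩ : Vp) : V)
    else ((em ⟨k.val - a, hlt k hk⟩ : Vm) : V), ?_, ?_⟩
  · intro j k
    by_cases hj : j.val < a <;> by_cases hk : k.val < a
    · simp only [dif_pos hj, dif_pos hk]
      rw [hep]
      simp only [Fin.mk.injEq, Fin.val_inj]
    · simp only [dif_pos hj, dif_neg hk]
      rw [orth _ (ep _).2 _ (em _).2, if_neg]
      intro hjk; rw [hjk] at hj; exact hk hj
    · simp only [dif_neg hj, dif_pos hk]
      rw [orth' _ (ep _).2 _ (em _).2, if_neg]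
      intro hjk; rw [hjk] at hj; exact hj hk
    · simp only [dif_neg hj, dif_neg hk]
      rw [hem]
      simp only [Fin.mk.injEq]
      have : (j.val - a = k.val - a) ↔ j = k := by
        rw [← Fin.val_inj]; omega
      simp only [this]
  · intro k
    by_cases hk : k.val < a
    · simp only [dif_pos hk]
      rw [if_pos (by simpa using hk), one_smul]
      exact (memp _).mp (ep _).2
    · simp only [dif_neg hk]
      rw [if_neg (by simpa using hk), neg_one_smul]
      exact (memm _).mp (em _).2

end two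

end Cfsg.Agent.Lib.Helper99.Uni4D
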