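import Mathlib
import Cfsg.Agent.Lib.Helper99.Uni4A
import Cfsg.Agent.Lib.Helper99.Uni4D
import Cfsg.Agent.Lib.Helper99.Symp4H
import Cfsg.Agent.Lib.Helper99.Symp4J
import Cfsg.Agent.Lib.Helper99.Symp4L

/-!
# Unitary frames as matrices, and the unitary reduction of the conjugacy statement
-/

set_option autoImplicit false

namespace Cfsg.Agent.Lib.Helper99.Uni4E

open Cfsg.Agent.Lib.Helper19 (frobQ frobQ_apply pow_q_pow_q add_pow_q sum_pow_q q_pos one_lt_q)
open Cfsg.Agent.Lib.Helper99.HermONB Cfsg.Agent.Lib.Helper99.Uni4A Cfsg.Agent.Lib.Helper99.Uni4D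
open Cfsg.Agent.Lib.Helper99.Symp4C Cfsg.Agent.Lib.Helper99.Symp4G Cfsg.Agent.Lib.Helper99.Symp4H
open Cfsg.Agent.Lib.Helper99.Symp4J Cfsg.Agent.Lib.Helper99.Symp4L
open scoped Matrix

variable {F : Type*} [Field F] [Fintype F] {p : ℕ}

/-- the matrix whose columns are the given vectors -/
def colMat (b : Fin 4 → Fin 4 → F) : Matrix (Fin 4) (Fin 4) F := Matrix.of fun i j => b j i

omit [Fintype F] [Field F] in
theorem colMat_apply (b : Fin 4 → Fin 4 → F) (i j : Fin 4) : colMat b i j = b j i := rfl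

theorem ct_colMat_mul (hF : Fintype.card F = p ^ 2) (b : Fin 4 → Fin 4 → F)
    (M : Matrix (Fin 4) (Fin 4) F) (j k : Fin 4) :
    (ct hF (colMat b) * M) j k = Cfsg.hermForm 4 F p (fun i => M i k) (b j) := by
  simp only [Matrix.mul_apply, ct_apply, colMat_apply, Cfsg.hermForm]
  apply Finset.sum_congr rfl
  intro i _
  ring

theorem gram_colMat (hF : Fintype.card F = p ^ 2) (b : Fin 4 → Fin 4 → F)
    {G : Matrix (Fin 4) (Fin 4) F} (hG : ∀ j k, G j k = G k j)
    (hb : IsFrame (Cfsg.hermForm 4 F p) b G) : ct hF (colMat b) * colMat b = G := by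
  ext j k
  rw [ct_colMat_mul]
  have : (fun i => colMat b i k) = b k := rfl
  rw [this, hb k j, hG]

theorem gramT_colMat (hF : Fintype.card F = p ^ 2) (b : Fin 4 → Fin 4 → F)
    (X : Matrix (Fin 4) (Fin 4) F) (j k : Fin 4) :
    (ct hF (colMat b) * (X * colMat b)) j k = Cfsg.hermForm 4 F p (X *ᵥ b k) (b j) := by
  rw [ct_colMat_mul]
  congr 1

theorem isometry_of_ct (hF : Fintype.card F = p ^ 2) {X : Matrix (Fin 4) (Fin 4) F}
    (hX : ct hF X * X = 1) (u w : Fin 4 → F) :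
    Cfsg.hermForm 4 F p (X *ᵥ u) (X *ᵥ w) = Cfsg.hermForm 4 F p u w := by
  rw [herm_mulVec hF, Matrix.mulVec_mulVec, hX, Matrix.one_mulVec]

omit [Fintype F] in
theorem exists_gl_of_det {B : Matrix (Fin 4) (Fin 4) F} (h : B.det ≠ 0) :
    ∃ B' : GL (Fin 4) F, (B' : Matrix (Fin 4) (Fin 4) F) = B :=
  ⟨Matrix.GeneralLinearGroup.mkOfDetNeZero B h, rfl⟩

theorem det_ne_zero_of_gram (hF : Fintype.card F = p ^ 2) {B G : Matrix (Fin 4) (Fin 4) F}
    (hB : ct hF B * B = G) (hG : G.det ≠ 0) : B.det ≠ 0 := by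
  intro h0
  apply hG
  rw [← hB, Matrix.det_mul, h0, mul_zero]

theorem det_norm_of_gram (hF : Fintype.card F = p ^ 2) {B G : Matrix (Fin 4) (Fin 4) F}
    (hB : ct hF B * B = G) : B.det ^ p * B.det = G.det := by
  rw [← hB, Matrix.det_mul, det_ct]

/-- the unitary reduction of the conjugacy statement to frames -/
theorem reduceU (hF : Fintype.card F = p ^ 2) {R : Subgroup (GL (Fin 4) F)} {P : GL (Fin 4) F}
    (hPU : P ∈ Cfsg.GU 4 F p) (hP : ∀ g : GL (Fin 4) F, g ∈ R ↔ P⁻¹ * g * P ∈ R0 F)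
    {x y : GL (Fin 4) F} (hy : y ∈ Subgroup.normalizer (R0 F : Set (GL (Fin 4) F))) {l : F} (hl : l ≠ 0)
    {G D B B0 : Matrix (Fin 4) (Fin 4) F} (hGdet : G.det ≠ 0)
    (hB : ct hF B * B = G) (hB0 : ct hF B0 * B0 = G)
    (hxB : (l • (x : Matrix (Fin 4) (Fin 4) F)) * B = B * D)
    (hyB : (y : Matrix (Fin 4) (Fin 4) F) * B0 = B0 * D)
    (hΔ : ∀ δ : F, δ ^ p * δ = 1 → ∃ Δ : Matrix (Fin 4) (Fin 4) F,
      ct hF Δ * G * Δ = G ∧ Δ * D = D * Δ ∧ Δ.det = δ) :
    ∃ g ∈ Cfsg.GU 4 F p ⊓ Cfsg.Geo.specialLinear (Fin 4) F,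
      g⁻¹ * x * g ∈ Cfsg.Geo.subgroupNormalizer R := by
  have hBd := det_ne_zero_of_gram hF hB hGdet
  have hB0d := det_ne_zero_of_gram hF hB0 hGdet
  obtain ⟨B', hB'⟩ := exists_gl_of_det hBd
  obtain ⟨B0', hB0'⟩ := exists_gl_of_det hB0d
  have hPd := det_val_ne_zero P
  have hPn : (P : Matrix (Fin 4) (Fin 4) F).det ^ p * (P : Matrix (Fin 4) (Fin 4) F).det = 1 := by
    have := (mem_GU_iff_ct hF P).mp hPU
    have h1 := det_norm_of_gram hF this
    rw [Matrix.det_one] at h1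
    exact h1
  have hn1 := det_norm_of_gram hF hB
  have hn2 := det_norm_of_gram hF hB0
  set δ : F := (P : Matrix (Fin 4) (Fin 4) F).det * B0.det / B.det with hδ
  have hδn : δ ^ p * δ = 1 := by
    rw [hδ, div_pow, mul_pow]
    have hBp : B.det ^ p ≠ 0 := pow_ne_zero _ hBd
    field_simp
    calc (P : Matrix (Fin 4) (Fin 4) F).det ^ p * B0.det ^ p * (P : Matrix (Fin 4) (Fin 4) F).det * B0.det
        = ((P : Matrix (Fin 4) (Fin 4) F).det ^ p * (P : Matrix (Fin 4) (Fin 4) F).det) *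
          (B0.det ^ p * B0.det) := by ring
      _ = B.det ^ p * B.det := by rw [hPn, hn2, hn1, one_mul]
  obtain ⟨Δ, hΔG, hΔD, hΔdet⟩ := hΔ δ hδn
  have hδ0 : δ ≠ 0 := by
    intro h0; rw [h0, mul_zero] at hδn; exact zero_ne_one hδn
  obtain ⟨Δ', hΔ'⟩ := exists_gl_of_det (B := Δ) (by rw [hΔdet]; exact hδ0)
  set hm : GL (Fin 4) F := B' * Δ' * B0'⁻¹ with hhm
  set B0i : Matrix (Fin 4) (Fin 4) F := ((B0'⁻¹ : GL (Fin 4) F) : Matrix (Fin 4) (Fin 4) F) with hB0i
  have hi1 : B0 * B0i = 1 := by rw [← hB0', hB0i]; exact val_mul_inv B0'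
  have hi2 : B0i * B0 = 1 := by rw [← hB0', hB0i]; exact val_inv_mul B0'
  have hmv : (hm : Matrix (Fin 4) (Fin 4) F) = B * Δ * B0i := by
    rw [hhm, Units.val_mul, Units.val_mul, hB', hΔ']
  have hmU : hm ∈ Cfsg.GU 4 F p := by
    rw [mem_GU_iff_ct hF, hmv, ct_mul, ct_mul]
    calc ct hF B0i * (ct hF Δ * ct hF B) * (B * Δ * B0i)
        = ct hF B0i * (ct hF Δ * (ct hF B * B) * Δ) * B0i := by simp only [mul_assoc]
      _ = ct hF B0i * (ct hF B0 * B0) * B0i := by rw [hB, hΔG, hB0]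
      _ = ct hF (B0 * B0i) * (B0 * B0i) := by rw [ct_mul]; simp only [mul_assoc]
      _ = 1 := by rw [hi1, ct_one, mul_one]
  refine ⟨hm * P⁻¹, ⟨Subgroup.mul_mem _ hmU (Subgroup.inv_mem _ hPU), ?_⟩, ?_⟩
  · show hm * P⁻¹ ∈ Cfsg.Geo.specialLinear (Fin 4) F
    rw [mem_SL_iff, Units.val_mul, Matrix.det_mul, hmv, Matrix.det_mul, Matrix.det_mul, hΔdet, hB0i,
      det_val_inv, det_val_inv, hB0', hδ]
    field_simp
  · rw [normalizer_transfer hP]
    set n := hm⁻¹ * x * hm with hn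
    have e1 : P⁻¹ * ((hm * P⁻¹)⁻¹ * x * (hm * P⁻¹)) * P = n := by rw [hn]; group
    rw [e1]
    have hDB : D * B0i = B0i * (y : Matrix (Fin 4) (Fin 4) F) := by
      calc D * B0i = (B0i * B0) * D * B0i := by rw [hi2, one_mul]
        _ = B0i * (B0 * D) * B0i := by simp only [mul_assoc]
        _ = B0i * ((y : Matrix (Fin 4) (Fin 4) F) * B0) * B0i := by rw [hyB]
        _ = B0i * (y : Matrix (Fin 4) (Fin 4) F) * (B0 * B0i) := by simp only [mul_assoc]
        _ = B0i * (y : Matrix (Fin 4) (Fin 4) F) := by rw [hi1, mul_one]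
    have hxh : (x : Matrix (Fin 4) (Fin 4) F) * (hm : Matrix (Fin 4) (Fin 4) F) =
        l⁻¹ • ((hm : Matrix (Fin 4) (Fin 4) F) * (y : Matrix (Fin 4) (Fin 4) F)) := by
      have h1 : (l • (x : Matrix (Fin 4) (Fin 4) F)) * (hm : Matrix (Fin 4) (Fin 4) F) =
          (hm : Matrix (Fin 4) (Fin 4) F) * (y : Matrix (Fin 4) (Fin 4) F) := by
        rw [hmv]
        calc (l • (x : Matrix (Fin 4) (Fin 4) F)) * (B * Δ * B0i)
            = ((l • (x : Matrix (Fin 4) (Fin 4) F)) * B) * Δ * B0i := by simp only [mul_assoc]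
          _ = B * (D * Δ) * B0i := by rw [hxB]; simp only [mul_assoc]
          _ = B * Δ * (D * B0i) := by rw [← hΔD]; simp only [mul_assoc]
          _ = B * Δ * B0i * (y : Matrix (Fin 4) (Fin 4) F) := by rw [hDB]; simp only [mul_assoc]
      rw [← h1, Matrix.smul_mul, smul_smul, inv_mul_cancel₀ hl, one_smul]
    have hnv : (n : Matrix (Fin 4) (Fin 4) F) = l⁻¹ • (y : Matrix (Fin 4) (Fin 4) F) := by
      have : n = hm⁻¹ * (x * hm) := by rw [hn]; group
      rw [this, Units.val_mul, Units.val_mul, hxh, Matrix.mul_smul, ← mul_assoc, val_inv_mul, one_mul]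
    have hs : ((n * y⁻¹ : GL (Fin 4) F) : Matrix (Fin 4) (Fin 4) F) = l⁻¹ • (1 : Matrix (Fin 4) (Fin 4) F) := by
      rw [Units.val_mul, hnv, Matrix.smul_mul, val_mul_inv]
    have : n = (n * y⁻¹) * y := by group
    rw [this]
    exact scalar_mul_mem_normalizer hy hs

section frames

omit [Fintype F] in
theorem G1_symm (j k : Fin 4) : G1 F j k = G1 F k j := by
  fin_cases j <;> fin_cases k <;> simp [G1]

omit [Fintype F] in
theorem G2_symm (j k : Fin 4) : G2 F j k = G2 F k j := by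
  fin_cases j <;> fin_cases k <;> simp [G2]

omit [Fintype F] in
theorem G1_det : (G1 F).det = -1 := by
  simp [G1, Matrix.det_succ_row_zero, Fin.sum_univ_succ, Fin.succAbove, Matrix.submatrix]

omit [Fintype F] in
theorem G2_det : (G2 F).det = 1 := by
  simp [G2, Matrix.det_succ_row_zero, Fin.sum_univ_succ, Fin.succAbove, Matrix.submatrix]

omit [Fintype F] in
theorem sum_diag_smul (d : Fin 4 → F) (b : Fin 4 → Fin 4 → F) (k : Fin 4) :
    ∑ j, (Matrix.diagonal d) j k • b j = d k • b k := by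
  rw [Finset.sum_eq_single k]
  · rw [Matrix.diagonal_apply_eq]
  · intro j _ hj
    rw [Matrix.diagonal_apply_ne _ hj, zero_smul]
  · intro h; exact absurd (Finset.mem_univ k) h

theorem unitary_frame2 (hF : Fintype.card F = p ^ 2) (h2 : (2 : F) ≠ 0)
    {X : Matrix (Fin 4) (Fin 4) F} (hXU : ct hF X * X = 1) (hX2 : X * X = 1) :
    ∃ (m : Fin 5) (B : Matrix (Fin 4) (Fin 4) F), ct hF B * B = 1 ∧ X * B = B * Dm F m := by
  have hh := hform4 (F := F) hF
  obtain ⟨m, b, hb, hTb⟩ := frame2 hF h2 hh (V := Fin 4 → F) (by simp) (T := Matrix.mulVecLin X)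
    (fun u w => by simp only [Matrix.mulVecLin_apply]; exact isometry_of_ct hF hXU u w)
    (fun v => by
      simp only [Matrix.mulVecLin_apply]
      rw [Matrix.mulVec_mulVec, hX2, Matrix.one_mulVec])
  refine ⟨m, colMat b, ?_, ?_⟩
  · ext j k
    rw [ct_colMat_mul]
    show Cfsg.hermForm 4 F p (b k) (b j) = (1 : Matrix (Fin 4) (Fin 4) F) j k
    rw [hb k j, Matrix.one_apply]
    by_cases hjk : j = k
    · rw [if_pos hjk, if_pos hjk.symm]
    · rw [if_neg hjk, if_neg (Ne.symm hjk)]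
  · apply mul_eq_mul_of_cols b (fun i k => rfl)
    intro k
    have := hTb k
    rw [Matrix.mulVecLin_apply] at this
    rw [this]
    unfold Dm
    rw [sum_diag_smul]

omit [Fintype F] in
theorem exists_moved {X : Matrix (Fin 4) (Fin 4) F} (hX1 : X ≠ 1) :
    ∃ v, Matrix.mulVecLin X v ≠ v := by
  by_contra hcon
  push Not at hcon
  apply hX1
  apply Matrix.mulVec_injective
  funext v
  have := hcon v
  rw [Matrix.mulVecLin_apply] at this
  rw [this, Matrix.one_mulVec]

theorem unitary_frame3 (hF : Fintype.card F = p ^ 2) (h2 : (2 : F) ≠ 0) (h3 : (3 : F) ≠ 0)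
    {ω : F} (hω : ω * ω + ω + 1 = 0) (hωp : ω ^ p = ω)
    {X : Matrix (Fin 4) (Fin 4) F} (hXU : ct hF X * X = 1) (hX3 : X * X * X = 1) (hX1 : X ≠ 1) :
    (∃ B : Matrix (Fin 4) (Fin 4) F, ct hF B * B = G1 F ∧
      X * B = B * Matrix.diagonal ![1, 1, ω, ω * ω]) ∨
    (∃ B : Matrix (Fin 4) (Fin 4) F, ct hF B * B = G2 F ∧
      X * B = B * Matrix.diagonal ![ω, ω, ω * ω, ω * ω]) := by
  have hh := hform4 (F := F) hF
  have hne := exists_moved hX1
  have hT : ∀ u w : Fin 4 → F, Cfsg.hermForm 4 F p (Matrix.mulVecLin X u) (Matrix.mulVecLin X w) =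
      Cfsg.hermForm 4 F p u w := by
    intro u w
    simp only [Matrix.mulVecLin_apply]
    exact isometry_of_ct hF hXU u w
  have hT3 : ∀ v : Fin 4 → F, Matrix.mulVecLin X (Matrix.mulVecLin X (Matrix.mulVecLin X v)) = v := by
    intro v
    simp only [Matrix.mulVecLin_apply]
    rw [Matrix.mulVec_mulVec, Matrix.mulVec_mulVec, hX3, Matrix.one_mulVec]
  rcases frame3 hF h2 hh (V := Fin 4 → F) (by simp) hT hT3 hω hωp h3 hne with
    ⟨b, hb, h0, h1, h2', h3'⟩ | ⟨b, hb, h0, h1, h2', h3'⟩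
  · left
    refine ⟨colMat b, gram_colMat hF b G1_symm hb, ?_⟩
    apply mul_eq_mul_of_cols b (fun i k => rfl)
    intro k
    rw [sum_diag_smul]
    rw [Matrix.mulVecLin_apply] at h0 h1 h2' h3'
    fin_cases k
    · simpa using h0
    · simpa using h1
    · simpa using h2'
    · simpa using h3'
  · right
    refine ⟨colMat b, gram_colMat hF b G2_symm hb, ?_⟩
    apply mul_eq_mul_of_cols b (fun i k => rfl)
    intro k
    rw [sum_diag_smul]
    rw [Matrix.mulVecLin_apply] at h0 h1 h2' h3'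
    fin_cases k
    · simpa using h0
    · simpa using h1
    · simpa using h2'
    · simpa using h3'

/-- the canonical form of a unitary element of order five -/
def D5 (t s : F) : Matrix (Fin 4) (Fin 4) F := !![0, -1, 0, 0; 1, t, 0, 0; 0, 0, s, -1; 0, 0, 1, 0]

/-- its product with the Gram matrix -/
def GD5 (t s : F) : Matrix (Fin 4) (Fin 4) F := !![0, 0, s, -1; 0, 0, 1, 0; 0, -1, 0, 0; 1, t, 0, 0]

omit [Fintype F] in
theorem G2_mul_D5 (t s : F) : G2 F * D5 t s = GD5 t s := by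
  ext j k
  fin_cases j <;> fin_cases k <;> simp [G2, D5, GD5, Matrix.mul_apply, Fin.sum_univ_four]

omit [Fintype F] in
theorem G2_zero_or_one (j k : Fin 4) : G2 F j k = 0 ∨ G2 F j k = 1 := by
  fin_cases j <;> fin_cases k <;> simp [G2]

theorem unitary_frame5 (hF : Fintype.card F = p ^ 2) {t s : F} (ht : t * t + t - 1 = 0)
    (hts : t + s = -1) (htp : t ^ p = s) (hsp : s ^ p = t) (h5 : (5 : F) ≠ 0)
    (hirr : ∀ c : F, c * c - t * c + 1 ≠ 0)
    {X : Matrix (Fin 4) (Fin 4) F} (hXU : ct hF X * X = 1) (hX5 : X ^ 5 = 1) (hX1 : X ≠ 1) :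
    ∃ B : Matrix (Fin 4) (Fin 4) F, ct hF B * B = G2 F ∧ X * B = B * D5 t s := by
  have hh := hform4 (F := F) hF
  have hp0 : p ≠ 0 := (q_pos hF).ne'
  have hne := exists_moved hX1
  set T := Matrix.mulVecLin X with hTdef
  set h := Cfsg.hermForm 4 F p with hhdef
  have hT : ∀ u w : Fin 4 → F, h (T u) (T w) = h u w := by
    intro u w
    simp only [hTdef, Matrix.mulVecLin_apply]
    exact isometry_of_ct hF hXU u w
  have hT5 : ∀ v : Fin 4 → F, T (T (T (T (T v)))) = v := by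
    intro v
    simp only [hTdef, Matrix.mulVecLin_apply, Matrix.mulVec_mulVec]
    have : X * (X * (X * (X * X))) = X ^ 5 := by
      simp only [pow_succ, pow_zero, one_mul, mul_assoc]
    rw [this, hX5, Matrix.one_mulVec]
  have hs : s * s + s - 1 = 0 := by
    have : s = -1 - t := by linear_combination hts
    rw [this]; linear_combination ht
  have hst : s + t = -1 := by rw [add_comm]; exact hts
  obtain ⟨e1, e1', e2', he1, he1', he2', p11, p12, p21, p22⟩ :=
    frame5 hF hh hT hT5 ht hts htp hsp h5 hirr hne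
  have iso_t : ∀ u u' : Fin 4 → F, T (T u) = t • T u - u → T (T u') = t • T u' - u' → h u u' = 0 :=
    fun u u' hu hu' => iso5 hF hh hT hT5 ht hts htp hsp h5 hu hu'
  have iso_s : ∀ u u' : Fin 4 → F, T (T u) = s • T u - u → T (T u') = s • T u' - u' → h u u' = 0 :=
    fun u u' hu hu' => iso5 hF hh hT hT5 hs hst hsp htp h5 hu hu'
  have kT : ∀ (c : F) (u : Fin 4 → F), T (T u) = c • T u - u → T (T (T u)) = c • T (T u) - T u := by
    intro c u hu
    conv_lhs => rw [hu]
    rw [map_sub, map_smul]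
  have c11 : h e1' e1 = 1 := conj_eq_one hh p11
  have c12 : h e2' e1 = 0 := conj_eq_zero hh p12 hp0
  have c21 : h e1' (T e1) = 0 := conj_eq_zero hh p21 hp0
  have c22 : h e2' (T e1) = 1 := conj_eq_one hh p22
  have adj1 : ∀ w : Fin 4 → F, h (T w) e1 = s * h w e1 - h w (T e1) := by
    intro w
    have key : h (T w) (T (T e1)) = h w (T e1) := hT _ _
    rw [he1, sub_right hF hh, hh.smul_right, htp, hT] at key
    linear_combination -key
  set b : Fin 4 → Fin 4 → F := ![e1, T e1, e1', e2'] with hb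
  have hframe : IsFrame h b (G2 F) := by
    apply isFrame_of_upper hh hp0 G2_zero_or_one G2_symm
    intro j k hjk
    fin_cases j <;> fin_cases k
    · show h e1 e1 = 0
      exact iso_t _ _ he1 he1
    · show h e1 (T e1) = 0
      exact iso_t _ _ he1 (kT t _ he1)
    · show h e1 e1' = 1
      exact p11
    · show h e1 e2' = 0
      exact p12
    · exact absurd hjk (by decide)
    · show h (T e1) (T e1) = 0
      exact iso_t _ _ (kT t _ he1) (kT t _ he1)
    · show h (T e1) e1' = 0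
      exact p21
    · show h (T e1) e2' = 1
      exact p22
    · exact absurd hjk (by decide)
    · exact absurd hjk (by decide)
    · show h e1' e1' = 0
      exact iso_s _ _ he1' he1'
    · show h e1' e2' = 0
      exact iso_s _ _ he1' he2'
    · exact absurd hjk (by decide)
    · exact absurd hjk (by decide)
    · exact absurd hjk (by decide)
    · show h e2' e2' = 0
      exact iso_s _ _ he2' he2'
  have hgram := gram_colMat hF b G2_symm hframe
  refine ⟨colMat b, hgram, ?_⟩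
  have hM : ct hF (colMat b) * (X * colMat b) = ct hF (colMat b) * (colMat b * D5 t s) := by
    rw [← mul_assoc (ct hF (colMat b)) (colMat b), hgram, G2_mul_D5]
    ext j k
    rw [gramT_colMat]
    show h (T (b k)) (b j) = GD5 t s j k
    fin_cases j <;> fin_cases k
    · show h (T e1) e1 = 0
      exact iso_t _ _ (kT t _ he1) he1
    · show h (T (T e1)) e1 = 0
      exact iso_t _ _ (kT t _ (kT t _ he1)) he1
    · show h (T e1') e1 = s
      rw [adj1, c11, c21]; ring
    · show h (T e2') e1 = -1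
      rw [adj1, c12, c22]; ring
    · show h (T e1) (T e1) = 0
      exact iso_t _ _ (kT t _ he1) (kT t _ he1)
    · show h (T (T e1)) (T e1) = 0
      exact iso_t _ _ (kT t _ (kT t _ he1)) (kT t _ he1)
    · show h (T e1') (T e1) = 1
      rw [hT]; exact c11
    · show h (T e2') (T e1) = 0
      rw [hT]; exact c12
    · show h (T e1) e1' = 0
      exact p21
    · show h (T (T e1)) e1' = -1
      rw [he1, sub_left hh, hh.smul_left, p21, p11]; ring
    · show h (T e1') e1' = 0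
      exact iso_s _ _ (kT s _ he1') he1'
    · show h (T e2') e1' = 0
      exact iso_s _ _ (kT s _ he2') he1'
    · show h (T e1) e2' = 1
      exact p22
    · show h (T (T e1)) e2' = t
      rw [he1, sub_left hh, hh.smul_left, p22, p12]; ring
    · show h (T e1') e2' = 0
      exact iso_s _ _ (kT s _ he1') he2'
    · show h (T e2') e2' = 0
      exact iso_s _ _ (kT s _ he2') he2'
  have hdet : (ct hF (colMat b)).det ≠ 0 := by
    intro h0
    have := congrArg Matrix.det hgram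
    rw [Matrix.det_mul, h0, zero_mul, G2_det] at this
    exact zero_ne_one this
  have hU : IsUnit (ct hF (colMat b)) := (Matrix.isUnit_iff_isUnit_det _).mpr (isUnit_iff_ne_zero.mpr hdet)
  exact hU.mul_right_inj.mp hM

end frames

section deltas

theorem delta_one (hF : Fintype.card F = p ^ 2) (d : Fin 4 → F) (δ : F) (hδ : δ ^ p * δ = 1) :
    ∃ Δ : Matrix (Fin 4) (Fin 4) F, ct hF Δ * 1 * Δ = 1 ∧
      Δ * Matrix.diagonal d = Matrix.diagonal d * Δ ∧ Δ.det = δ := by
  have hp0 : p ≠ 0 := (q_pos hF).ne'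
  refine ⟨Matrix.diagonal ![δ, 1, 1, 1], ?_, ?_, ?_⟩
  · ext j k
    fin_cases j <;> fin_cases k <;>
      simp [ct_apply, Matrix.mul_apply, Fin.sum_univ_four, Matrix.diagonal_apply, Matrix.one_apply, hδ, hp0]
  · rw [Matrix.diagonal_mul_diagonal, Matrix.diagonal_mul_diagonal]
    congr 1
    funext k
    exact mul_comm _ _
  · rw [Matrix.det_diagonal, Fin.prod_univ_four]
    simp

theorem delta_G1 (hF : Fintype.card F = p ^ 2) (d : Fin 4 → F) (δ : F) (hδ : δ ^ p * δ = 1) :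
    ∃ Δ : Matrix (Fin 4) (Fin 4) F, ct hF Δ * G1 F * Δ = G1 F ∧
      Δ * Matrix.diagonal d = Matrix.diagonal d * Δ ∧ Δ.det = δ := by
  have hp0 : p ≠ 0 := (q_pos hF).ne'
  refine ⟨Matrix.diagonal ![δ, 1, 1, 1], ?_, ?_, ?_⟩
  · ext j k
    fin_cases j <;> fin_cases k <;>
      simp [ct_apply, Matrix.mul_apply, Fin.sum_univ_four, Matrix.diagonal_apply, G1, hδ, hp0]
  · rw [Matrix.diagonal_mul_diagonal, Matrix.diagonal_mul_diagonal]
    congr 1
    funext k
    exact mul_comm _ _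
  · rw [Matrix.det_diagonal, Fin.prod_univ_four]
    simp

theorem delta_G2 (hF : Fintype.card F = p ^ 2) (d : Fin 4 → F) (δ : F) (hδ : δ ^ p * δ = 1) :
    ∃ Δ : Matrix (Fin 4) (Fin 4) F, ct hF Δ * G2 F * Δ = G2 F ∧
      Δ * Matrix.diagonal d = Matrix.diagonal d * Δ ∧ Δ.det = δ := by
  have hδ' : δ * δ ^ p = 1 := by rw [mul_comm]; exact hδ
  obtain ⟨a, ha0, ha⟩ := exists_div_conj hF hδ'
  have hap0 : a ^ p ≠ 0 := pow_ne_zero _ ha0
  have happ : (a ^ p) ^ p = a := pow_q_pow_q hF a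
  have hp0 : p ≠ 0 := (q_pos hF).ne'
  refine ⟨Matrix.diagonal ![a, 1, (a ^ p)⁻¹, 1], ?_, ?_, ?_⟩
  · ext j k
    fin_cases j <;> fin_cases k <;>
      simp [ct_apply, Matrix.mul_apply, Fin.sum_univ_four, Matrix.diagonal_apply, G2, inv_pow, happ,
        ha0, hap0, hp0]
  · rw [Matrix.diagonal_mul_diagonal, Matrix.diagonal_mul_diagonal]
    congr 1
    funext k
    exact mul_comm _ _
  · rw [Matrix.det_diagonal, Fin.prod_univ_four]
    simp
    field_simp
    rw [mul_comm]; exact ha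

/-- a binary quadratic form of nonzero discriminant is universal -/
theorem norm_form_universal (h2 : (2 : F) ≠ 0) {t : F} (ht4 : t * t ≠ 4) (ν : F) :
    ∃ α β : F, α * α + t * α * β + β * β = ν := by
  have hcard : Fintype.card F % 2 = 1 := by
    rcases Nat.mod_two_eq_zero_or_one (Fintype.card F) with h | h
    · exfalso
      have hch := FiniteField.even_card_iff_char_two.mpr h
      have h2' : (2 : F) = 0 := by
        have := ringChar.spec F 2
        rw [hch] at this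
        exact_mod_cast (this.mpr dvd_rfl)
      exact h2 h2'
    · exact h
  obtain ⟨hh, hhe⟩ : ∃ hh : F, 2 * hh = 1 := ⟨2⁻¹, mul_inv_cancel₀ h2⟩
  have hc : (1 - t * t * hh * hh : F) ≠ 0 := by
    intro h0
    apply ht4
    have : t * t = (t * t * hh * hh) * 4 := by
      have : (4 : F) = 2 * 2 := by norm_num
      rw [this]
      linear_combination (-(t * t) * (2 * hh + 1)) * hhe
    rw [this]
    have h1 : t * t * hh * hh = 1 := by linear_combination -h0
    rw [h1, one_mul]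
  have hf : (Polynomial.X ^ 2 : Polynomial F).degree = 2 := by
    rw [Polynomial.degree_X_pow]; rfl
  have hg : (Polynomial.C (1 - t * t * hh * hh : F) * Polynomial.X ^ 2 - Polynomial.C ν).degree = 2 := by
    rw [Polynomial.degree_sub_C]
    · rw [Polynomial.degree_C_mul_X_pow 2 hc]; rfl
    · rw [Polynomial.degree_C_mul_X_pow 2 hc]; decide
  obtain ⟨a, b, hab⟩ := FiniteField.exists_root_sum_quadratic hf hg hcard
  simp only [Polynomial.eval_pow, Polynomial.eval_X, Polynomial.eval_sub, Polynomial.eval_mul,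
    Polynomial.eval_C] at hab
  refine ⟨a - t * b * hh, b, ?_⟩
  grind

theorem delta_D5 (hF : Fintype.card F = p ^ 2) (h2 : (2 : F) ≠ 0) {t s : F} (ht : t * t + t - 1 = 0)
    (htp : t ^ p = s) (hsp : s ^ p = t) (h5 : (5 : F) ≠ 0) (δ : F)
    (hδ : δ ^ p * δ = 1) :
    ∃ Δ : Matrix (Fin 4) (Fin 4) F, ct hF Δ * G2 F * Δ = G2 F ∧
      Δ * D5 t s = D5 t s * Δ ∧ Δ.det = δ := by
  have hp0 : p ≠ 0 := (q_pos hF).ne'
  have hδ' : δ * δ ^ p = 1 := by rw [mul_comm]; exact hδ
  obtain ⟨ν, hν0, hν⟩ := exists_div_conj hF hδ'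
  have ht4 : t * t ≠ 4 := by
    intro h4
    apply h5
    have h1 : t = -3 := by linear_combination ht - h4
    rw [h1] at ht
    linear_combination ht
  obtain ⟨α, β, hαβ⟩ := norm_form_universal h2 ht4 ν
  set A := α ^ p with hA
  set Bb := β ^ p with hBb
  set N := ν ^ p with hN
  have hAp : A ^ p = α := pow_q_pow_q hF α
  have hBp : Bb ^ p = β := pow_q_pow_q hF β
  have hNp : N ^ p = ν := pow_q_pow_q hF ν
  have hN0 : N ≠ 0 := pow_ne_zero _ hν0
  have hNeq : A * A + s * A * Bb + Bb * Bb = N := by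
    have := congrArg (fun x => x ^ p) hαβ
    simp only [add_pow_q hF, mul_pow, htp] at this
    exact this
  set Δ : Matrix (Fin 4) (Fin 4) F :=
    !![α, -β, 0, 0; β, α + β * t, 0, 0; 0, 0, (A + Bb * s) / N, -Bb / N; 0, 0, Bb / N, A / N] with hΔ
  have hct : ct hF Δ =
      !![A, Bb, 0, 0; -Bb, A + Bb * s, 0, 0; 0, 0, (α + β * t) / ν, β / ν; 0, 0, -β / ν, α / ν] := by
    ext j k
    fin_cases j <;> fin_cases k <;>
      simp [ct_apply, hΔ, div_pow, mul_pow, add_pow_q hF, neg_pow_p hF, hAp, hBp, hNp, hsp, htp, hp0,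
        ← hA, ← hBb, ← hN]
  refine ⟨Δ, ?_, ?_, ?_⟩
  · rw [hct, hΔ]
    ext j k
    fin_cases j <;> fin_cases k <;>
      simp [Matrix.mul_apply, Fin.sum_univ_four, G2] <;> field_simp <;> grind
  · rw [hΔ]
    ext j k
    fin_cases j <;> fin_cases k <;>
      simp [Matrix.mul_apply, Fin.sum_univ_four, D5] <;> field_simp <;> ring
  · rw [hΔ]
    simp [Matrix.det_succ_row_zero, Fin.sum_univ_succ, Fin.succAbove, Matrix.submatrix]
    field_simp
    grind

end deltas

end Cfsg.Agent.Lib.Helper99.Uni4E
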