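import Mathlib
import Cfsg.Agent.Lib.Helper99.Sp4A
import Cfsg.Agent.Lib.Helper99.Sp4E
import Cfsg.Agent.Lib.Helper99.Symp4G
import Cfsg.Agent.Lib.Helper99.Symp4L
import Cfsg.Agent.Lib.Helper99.Uni4E

/-!
# Symplectic frames and the elements of order two modulo scalars
-/

set_option autoImplicit false

namespace Cfsg.Agent.Lib.Helper99.Sp4I

open scoped Matrix
open Cfsg.Agent.Lib.Helper99.Symp4B Cfsg.Agent.Lib.Helper99.Symp4G Cfsg.Agent.Lib.Helper99.Symp4J
open Cfsg.Agent.Lib.Helper99.Symp4L Cfsg.Agent.Lib.Helper99.Sp4A Cfsg.Agent.Lib.Helper99.Sp4B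
open Cfsg.Agent.Lib.Helper99.Sp4C Cfsg.Agent.Lib.Helper99.Sp4E
open Cfsg.Agent.Lib.Helper99.Uni4E (colMat colMat_apply)

variable {F : Type*} [Field F]

/-- the alternating form -/
def fJ (u v : Fin 4 → F) : F := u ⬝ᵥ (J4 F *ᵥ v)

theorem fJ_eq (u v : Fin 4 → F) : fJ u v = -(u 0 * v 2) - u 1 * v 3 + u 2 * v 0 + u 3 * v 1 := by
  simp [fJ, J4, dotProduct, Matrix.mulVec, Fin.sum_univ_four]
  ring

theorem fJ_add_left (u u' v : Fin 4 → F) : fJ (u + u') v = fJ u v + fJ u' v := by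
  simp only [fJ_eq, Pi.add_apply]; ring

theorem fJ_add_right (u v v' : Fin 4 → F) : fJ u (v + v') = fJ u v + fJ u v' := by
  simp only [fJ_eq, Pi.add_apply]; ring

theorem fJ_smul_left (c : F) (u v : Fin 4 → F) : fJ (c • u) v = c * fJ u v := by
  simp only [fJ_eq, Pi.smul_apply, smul_eq_mul]; ring

theorem fJ_smul_right (c : F) (u v : Fin 4 → F) : fJ u (c • v) = c * fJ u v := by
  simp only [fJ_eq, Pi.smul_apply, smul_eq_mul]; ring

theorem fJ_neg_left (u v : Fin 4 → F) : fJ (-u) v = -fJ u v := by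
  simp only [fJ_eq, Pi.neg_apply]; ring

theorem fJ_neg_right (u v : Fin 4 → F) : fJ u (-v) = -fJ u v := by
  simp only [fJ_eq, Pi.neg_apply]; ring

theorem fJ_sub_left (u u' v : Fin 4 → F) : fJ (u - u') v = fJ u v - fJ u' v := by
  simp only [fJ_eq, Pi.sub_apply]; ring

theorem fJ_sub_right (u v v' : Fin 4 → F) : fJ u (v - v') = fJ u v - fJ u v' := by
  simp only [fJ_eq, Pi.sub_apply]; ring

theorem fJ_self (u : Fin 4 → F) : fJ u u = 0 := by
  simp only [fJ_eq]; ring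

theorem fJ_swap (u v : Fin 4 → F) : fJ u v = -fJ v u := by
  simp only [fJ_eq]; ring

theorem fJ_zero_left (v : Fin 4 → F) : fJ 0 v = 0 := by
  simp [fJ_eq]

theorem fJ_nondeg {u : Fin 4 → F} (hu : u ≠ 0) : ∃ v : Fin 4 → F, fJ u v ≠ 0 := by
  by_contra hcon
  push Not at hcon
  apply hu
  have h0 := hcon (Pi.single 2 1)
  have h1 := hcon (Pi.single 3 1)
  have h2 := hcon (Pi.single 0 1)
  have h3 := hcon (Pi.single 1 1)
  simp [fJ_eq] at h0 h1 h2 h3
  ext i
  fin_cases i <;> simp <;> assumption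

theorem fJ_inv {x : Matrix (Fin 4) (Fin 4) F} (hx : xᵀ * J4 F * x = J4 F) (u v : Fin 4 → F) :
    fJ (x *ᵥ u) (x *ᵥ v) = fJ u v := by
  unfold fJ
  rw [form_transpose, hx]

/-- the Gram matrix of four vectors -/
theorem gram_colMat (b : Fin 4 → Fin 4 → F) :
    (colMat b)ᵀ * J4 F * colMat b = Matrix.of fun j k => fJ (b j) (b k) := by
  ext j k
  rw [mul_assoc, Matrix.mul_apply]
  simp only [Matrix.transpose_apply, colMat_apply, Matrix.of_apply, fJ, dotProduct]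
  apply Finset.sum_congr rfl
  intro i _
  congr 1

theorem J4_det : (J4 F).det = 1 := by
  simp [J4, Matrix.det_succ_row_zero, Fin.sum_univ_succ, Fin.succAbove, Matrix.submatrix]

/-- the standard Gram matrix -/
def G2s (F : Type*) [Field F] : Matrix (Fin 4) (Fin 4) F :=
  !![0, 1, 0, 0; -1, 0, 0, 0; 0, 0, 0, 1; 0, 0, -1, 0]

theorem G2s_det : (G2s F).det = 1 := by
  simp [G2s, Matrix.det_succ_row_zero, Fin.sum_univ_succ, Fin.succAbove, Matrix.submatrix]

theorem gram_G2s {b : Fin 4 → Fin 4 → F} (h01 : fJ (b 0) (b 1) = 1) (h23 : fJ (b 2) (b 3) = 1)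
    (h02 : fJ (b 0) (b 2) = 0) (h03 : fJ (b 0) (b 3) = 0) (h12 : fJ (b 1) (b 2) = 0)
    (h13 : fJ (b 1) (b 3) = 0) : (colMat b)ᵀ * J4 F * colMat b = G2s F := by
  rw [gram_colMat]
  have s10 : fJ (b 1) (b 0) = -1 := by rw [fJ_swap, h01]
  have s32 : fJ (b 3) (b 2) = -1 := by rw [fJ_swap, h23]
  have s20 : fJ (b 2) (b 0) = 0 := by rw [fJ_swap, h02, neg_zero]
  have s30 : fJ (b 3) (b 0) = 0 := by rw [fJ_swap, h03, neg_zero]
  have s21 : fJ (b 2) (b 1) = 0 := by rw [fJ_swap, h12, neg_zero]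
  have s31 : fJ (b 3) (b 1) = 0 := by rw [fJ_swap, h13, neg_zero]
  ext j k
  fin_cases j <;> fin_cases k <;> simp [G2s, fJ_self, *]

/-- the reduction of conjugacy to frames -/
theorem reduceS {R : Subgroup (GL (Fin 4) F)} {x y : GL (Fin 4) F}
    (hy : y ∈ Subgroup.normalizer (R : Set (GL (Fin 4) F))) {l : F} (hl : l ≠ 0)
    {Gm D B B0 : Matrix (Fin 4) (Fin 4) F} (hGdet : Gm.det ≠ 0)
    (hB : Bᵀ * J4 F * B = Gm) (hB0 : B0ᵀ * J4 F * B0 = Gm)
    (hxB : (l • (x : Matrix (Fin 4) (Fin 4) F)) * B = B * D)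
    (hyB : (y : Matrix (Fin 4) (Fin 4) F) * B0 = B0 * D) :
    ∃ g : GL (Fin 4) F, (g : Matrix (Fin 4) (Fin 4) F)ᵀ * J4 F * (g : Matrix (Fin 4) (Fin 4) F) = J4 F ∧
      g⁻¹ * x * g ∈ Subgroup.normalizer (R : Set (GL (Fin 4) F)) := by
  have hBd : B.det ≠ 0 := by
    intro h0
    apply hGdet
    rw [← hB, Matrix.det_mul, h0, mul_zero]
  have hB0d : B0.det ≠ 0 := by
    intro h0
    apply hGdet
    rw [← hB0, Matrix.det_mul, h0, mul_zero]
  set B' : GL (Fin 4) F := Matrix.GeneralLinearGroup.mkOfDetNeZero B hBd with hB'def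
  set B0' : GL (Fin 4) F := Matrix.GeneralLinearGroup.mkOfDetNeZero B0 hB0d with hB0'def
  have hB' : (B' : Matrix (Fin 4) (Fin 4) F) = B := rfl
  have hB0' : (B0' : Matrix (Fin 4) (Fin 4) F) = B0 := rfl
  set hm : GL (Fin 4) F := B' * B0'⁻¹ with hhm
  set B0i : Matrix (Fin 4) (Fin 4) F := ((B0'⁻¹ : GL (Fin 4) F) : Matrix (Fin 4) (Fin 4) F) with hB0i
  have hi1 : B0 * B0i = 1 := by rw [← hB0', hB0i]; exact val_mul_inv B0'
  have hi2 : B0i * B0 = 1 := by rw [← hB0', hB0i]; exact val_inv_mul B0'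
  have hmv : (hm : Matrix (Fin 4) (Fin 4) F) = B * B0i := by
    rw [hhm, Units.val_mul, hB']
  refine ⟨hm, ?_, ?_⟩
  · rw [hmv, Matrix.transpose_mul]
    calc B0iᵀ * Bᵀ * J4 F * (B * B0i) = B0iᵀ * (Bᵀ * J4 F * B) * B0i := by simp only [mul_assoc]
      _ = B0iᵀ * (B0ᵀ * J4 F * B0) * B0i := by rw [hB, hB0]
      _ = (B0 * B0i)ᵀ * J4 F * (B0 * B0i) := by rw [Matrix.transpose_mul]; simp only [mul_assoc]
      _ = J4 F := by rw [hi1]; simp
  · set n := hm⁻¹ * x * hm with hn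
    have hDB : D * B0i = B0i * (y : Matrix (Fin 4) (Fin 4) F) := by
      calc D * B0i = (B0i * B0) * D * B0i := by rw [hi2, one_mul]
        _ = B0i * (B0 * D) * B0i := by simp only [mul_assoc]
        _ = B0i * ((y : Matrix (Fin 4) (Fin 4) F) * B0) * B0i := by rw [hyB]
        _ = B0i * (y : Matrix (Fin 4) (Fin 4) F) * (B0 * B0i) := by simp only [mul_assoc]
        _ = B0i * (y : Matrix (Fin 4) (Fin 4) F) := by rw [hi1, mul_one]
    have hxh : (x : Matrix (Fin 4) (Fin 4) F) * (hm : Matrix (Fin 4) (Fin 4) F) =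
        l⁻¹ • ((hm : Matrix (Fin 4) (Fin 4) F) * (y : Matrix (Fin 4) (Fin 4) F)) := by
      have h1 : (l • (x : Matrix (Fin 4) (Fin 4) F)) * (hm : Matrix (Fin 4) (Fin 4) F) =
          (hm : Matrix (Fin 4) (Fin 4) F) * (y : Matrix (Fin 4) (Fin 4) F) := by
        rw [hmv]
        calc (l • (x : Matrix (Fin 4) (Fin 4) F)) * (B * B0i)
            = ((l • (x : Matrix (Fin 4) (Fin 4) F)) * B) * B0i := by simp only [mul_assoc]
          _ = B * (D * B0i) := by rw [hxB]; simp only [mul_assoc]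
          _ = B * B0i * (y : Matrix (Fin 4) (Fin 4) F) := by rw [hDB]; simp only [mul_assoc]
      rw [← h1, Matrix.smul_mul, smul_smul, inv_mul_cancel₀ hl, one_smul]
    have hnv : (n : Matrix (Fin 4) (Fin 4) F) = l⁻¹ • (y : Matrix (Fin 4) (Fin 4) F) := by
      have : n = hm⁻¹ * (x * hm) := by rw [hn]; group
      rw [this, Units.val_mul, Units.val_mul, hxh, Matrix.mul_smul, ← mul_assoc, val_inv_mul, one_mul]
    have hs : ((n * y⁻¹ : GL (Fin 4) F) : Matrix (Fin 4) (Fin 4) F) = l⁻¹ • (1 : Matrix (Fin 4) (Fin 4) F) := by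
      rw [Units.val_mul, hnv, Matrix.smul_mul, val_mul_inv]
    have : n = (n * y⁻¹) * y := by group
    rw [this]
    exact scalar_mul_mem_normalizer hy hs

/-- the action of a matrix on a frame, by columns -/
theorem act_colMat {X C : Matrix (Fin 4) (Fin 4) F} (b : Fin 4 → Fin 4 → F)
    (h : ∀ k, X *ᵥ b k = ∑ j, C j k • b j) : X * colMat b = colMat b * C :=
  mul_eq_mul_of_cols b (fun _ _ => rfl) h

section involution

variable {x : Matrix (Fin 4) (Fin 4) F}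

theorem mv (M N : Matrix (Fin 4) (Fin 4) F) (v : Fin 4 → F) : M *ᵥ (N *ᵥ v) = (M * N) *ᵥ v :=
  Matrix.mulVec_mulVec v M N

/-- eigenvectors of an isometric involution for different eigenvalues are orthogonal -/
theorem perp_of_eig (h2 : (2 : F) ≠ 0) (hx : xᵀ * J4 F * x = J4 F) {u v : Fin 4 → F}
    (hu : x *ᵥ u = u) (hv : x *ᵥ v = -v) : fJ u v = 0 := by
  have := fJ_inv hx u v
  rw [hu, hv, fJ_neg_right] at this
  have e : (2 : F) * fJ u v = 0 := by linear_combination -this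
  exact (mul_eq_zero.mp e).resolve_left h2

/-- a hyperbolic pair inside an eigenspace of an involution -/
theorem exists_pair_eig (h2 : (2 : F) ≠ 0) (hx : xᵀ * J4 F * x = J4 F) (hxx : x * x = 1) {ε : F}
    (hε : ε = 1 ∨ ε = -1) (hne : x ≠ (-ε) • (1 : Matrix (Fin 4) (Fin 4) F)) :
    ∃ e f : Fin 4 → F, x *ᵥ e = ε • e ∧ x *ᵥ f = ε • f ∧ fJ e f = 1 := by
  have hεε : ε * ε = 1 := by rcases hε with rfl | rfl <;> ring
  -- a nonzero eigenvector
  obtain ⟨v, hv⟩ : ∃ v : Fin 4 → F, ε • v + x *ᵥ v ≠ 0 := by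
    by_contra hcon
    push Not at hcon
    apply hne
    apply Matrix.toLin'.injective
    apply LinearMap.ext
    intro v
    have := hcon v
    rw [Matrix.toLin'_apply, Matrix.toLin'_apply, Matrix.smul_mulVec, Matrix.one_mulVec, neg_smul]
    rw [add_comm] at this
    exact eq_neg_of_add_eq_zero_left this
  have eig : ∀ w : Fin 4 → F, x *ᵥ (ε • w + x *ᵥ w) = ε • (ε • w + x *ᵥ w) := by
    intro w
    rw [Matrix.mulVec_add, Matrix.mulVec_smul, mv, hxx, Matrix.one_mulVec, smul_add, smul_smul, hεε,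
      one_smul, add_comm]
  set e := ε • v + x *ᵥ v with he
  obtain ⟨w, hw⟩ := fJ_nondeg hv
  have hew : fJ e (ε • w + x *ᵥ w) = 2 * ε * fJ e w := by
    have h1 : fJ e (x *ᵥ w) = ε * fJ e w := by
      have h3 : fJ (x *ᵥ e) (x *ᵥ w) = fJ e w := fJ_inv hx e w
      rw [eig v, fJ_smul_left] at h3
      have : fJ e (x *ᵥ w) = (ε * ε) * fJ e (x *ᵥ w) := by rw [hεε, one_mul]
      rw [this, mul_assoc, h3]
    rw [fJ_add_right, fJ_smul_right, h1]; ring
  have hε0 : ε ≠ 0 := by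
    intro h0; rw [h0] at hεε; simp at hεε
  have hc : 2 * ε * fJ e w ≠ 0 := mul_ne_zero (mul_ne_zero h2 hε0) hw
  refine ⟨e, (2 * ε * fJ e w)⁻¹ • (ε • w + x *ᵥ w), eig v, ?_, ?_⟩
  · rw [Matrix.mulVec_smul, eig w, smul_comm]
  · rw [fJ_smul_right, hew, inv_mul_cancel₀ hc]

/-- the frame of an involution -/
theorem invol_frame (h2 : (2 : F) ≠ 0) (hx : xᵀ * J4 F * x = J4 F) (hxx : x * x = 1)
    (hne1 : x ≠ 1) (hne2 : x ≠ -1) :
    ∃ B : Matrix (Fin 4) (Fin 4) F, Bᵀ * J4 F * B = G2s F ∧ x * B = B * A1s F := by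
  obtain ⟨e1, f1, he1, hf1, hef1⟩ := exists_pair_eig h2 hx hxx (ε := 1) (Or.inl rfl)
    (by rw [neg_smul, one_smul]; exact hne2)
  obtain ⟨e2, f2, he2, hf2, hef2⟩ := exists_pair_eig h2 hx hxx (ε := -1) (Or.inr rfl)
    (by rw [neg_neg, one_smul]; exact hne1)
  rw [one_smul] at he1 hf1
  rw [neg_smul, one_smul] at he2 hf2
  set b : Fin 4 → Fin 4 → F := ![e1, f1, e2, f2] with hb
  refine ⟨colMat b, ?_, ?_⟩
  · apply gram_G2s
    · exact hef1
    · exact hef2
    · exact perp_of_eig h2 hx he1 he2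
    · exact perp_of_eig h2 hx he1 hf2
    · exact perp_of_eig h2 hx hf1 he2
    · exact perp_of_eig h2 hx hf1 hf2
  · apply act_colMat
    intro k
    fin_cases k <;> simp [hb, A1s, Fin.sum_univ_four, he1, hf1, he2, hf2]

end involution

section complex

variable [Fintype F] {x : Matrix (Fin 4) (Fin 4) F}

/-- a vector of norm one for the symmetric form attached to a complex structure -/
theorem exists_unit (h2 : (2 : F) ≠ 0) (hx : xᵀ * J4 F * x = J4 F) (hxx : x * x = -1)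
    (P : (Fin 4 → F) → Prop) (hPadd : ∀ u v, P u → P v → P (u + v)) (hPsmul : ∀ (c : F) u, P u → P (c • u))
    (hPx : ∀ u, P u → P (x *ᵥ u))
    (hnd : ∃ w0 w : Fin 4 → F, P w0 ∧ P w ∧ fJ w0 (x *ᵥ w) ≠ 0) :
    ∃ e : Fin 4 → F, P e ∧ fJ e (x *ᵥ e) = 1 := by
  have h4 : (4 : F) ≠ 0 := by
    have : (4 : F) = 2 * 2 := by norm_num
    rw [this]; exact mul_ne_zero h2 h2
  have hxxv : ∀ v : Fin 4 → F, x *ᵥ (x *ᵥ v) = -v := by
    intro v; rw [mv, hxx, Matrix.neg_mulVec, Matrix.one_mulVec]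
  -- symmetry of the associated form
  have hsymm : ∀ u v : Fin 4 → F, fJ u (x *ᵥ v) = fJ v (x *ᵥ u) := by
    intro u v
    have h1 := fJ_inv hx u (x *ᵥ v)
    rw [hxxv, fJ_neg_right] at h1
    rw [fJ_swap v, h1]
  obtain ⟨w0, w, hw0, hw, hne⟩ := hnd
  -- an anisotropic vector
  obtain ⟨u, hu, hc⟩ : ∃ u : Fin 4 → F, P u ∧ fJ u (x *ᵥ u) ≠ 0 := by
    by_cases h0 : fJ w0 (x *ᵥ w0) = 0
    · by_cases h1 : fJ w (x *ᵥ w) = 0
      · refine ⟨w0 + w, hPadd _ _ hw0 hw, ?_⟩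
        rw [Matrix.mulVec_add, fJ_add_left, fJ_add_right, fJ_add_right, h0, h1, hsymm w w0]
        intro h
        apply hne
        have e : (2 : F) * fJ w0 (x *ᵥ w) = 0 := by linear_combination h
        exact (mul_eq_zero.mp e).resolve_left h2
      · exact ⟨w, hw, h1⟩
    · exact ⟨w0, hw0, h0⟩
  obtain ⟨a, b, hab⟩ := Cfsg.Agent.Lib.Helper99.Uni4E.norm_form_universal (F := F) h2 (t := 0)
    (by rw [mul_zero]; exact fun h => h4 h.symm) (fJ u (x *ᵥ u))⁻¹
  refine ⟨a • u + b • (x *ᵥ u), hPadd _ _ (hPsmul _ _ hu) (hPsmul _ _ (hPx _ hu)), ?_⟩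
  have hxu : fJ (x *ᵥ u) (x *ᵥ u) = 0 := fJ_self _
  have hux : fJ (x *ᵥ u) u = -fJ u (x *ᵥ u) := fJ_swap _ _
  rw [Matrix.mulVec_add, Matrix.mulVec_smul, Matrix.mulVec_smul, hxxv]
  simp only [fJ_add_left, fJ_add_right, fJ_smul_left, fJ_smul_right, fJ_neg_right, fJ_self, hxu, hux]
  have : (a * a + b * b) * fJ u (x *ᵥ u) = 1 := by
    have h' : a * a + b * b = (fJ u (x *ᵥ u))⁻¹ := by linear_combination hab
    rw [h', inv_mul_cancel₀ hc]
  linear_combination this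

/-- the frame of a complex structure -/
theorem cplx_frame (h2 : (2 : F) ≠ 0) (hx : xᵀ * J4 F * x = J4 F) (hxx : x * x = -1) :
    ∃ B : Matrix (Fin 4) (Fin 4) F, Bᵀ * J4 F * B = G2s F ∧ x * B = B * A2s F := by
  have hxxv : ∀ v : Fin 4 → F, x *ᵥ (x *ᵥ v) = -v := by
    intro v; rw [mv, hxx, Matrix.neg_mulVec, Matrix.one_mulVec]
  -- the first pair
  obtain ⟨e1, -, he1⟩ := exists_unit h2 hx hxx (fun _ => True) (fun _ _ _ _ => trivial)
    (fun _ _ _ => trivial) (fun _ _ => trivial) (by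
      have hs : (Pi.single 0 1 : Fin 4 → F) ≠ 0 := by
        intro h; have := congrFun h 0; simp at this
      obtain ⟨w', hw'⟩ := fJ_nondeg hs
      refine ⟨Pi.single 0 1, -(x *ᵥ w'), trivial, trivial, ?_⟩
      rw [Matrix.mulVec_neg, hxxv, neg_neg]
      exact hw')
  set f1 := x *ᵥ e1 with hf1
  have hxf1 : x *ᵥ f1 = -e1 := hxxv e1
  -- the orthogonal complement
  set P : (Fin 4 → F) → Prop := fun w => fJ e1 w = 0 ∧ fJ f1 w = 0 with hP
  have hPadd : ∀ u v, P u → P v → P (u + v) := by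
    intro u v hu hv
    exact ⟨by rw [fJ_add_right, hu.1, hv.1, add_zero], by rw [fJ_add_right, hu.2, hv.2, add_zero]⟩
  have hPsmul : ∀ (c : F) u, P u → P (c • u) := by
    intro c u hu
    exact ⟨by rw [fJ_smul_right, hu.1, mul_zero], by rw [fJ_smul_right, hu.2, mul_zero]⟩
  have hPx : ∀ u, P u → P (x *ᵥ u) := by
    intro u hu
    constructor
    · have := fJ_inv hx f1 u
      rw [hxf1, fJ_neg_left, hu.2] at this
      have h' : fJ e1 (x *ᵥ u) = 0 := by linear_combination -this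
      exact h'
    · have := fJ_inv hx e1 u
      rw [← hf1, hu.1] at this
      exact this
  have proj : ∀ v : Fin 4 → F, P (v + (fJ f1 v) • e1 - (fJ e1 v) • f1) := by
    intro v
    have hfe : fJ f1 e1 = -1 := by rw [fJ_swap, he1]
    constructor
    · simp only [fJ_add_right, fJ_sub_right, fJ_smul_right, fJ_self, he1]; ring
    · simp only [fJ_add_right, fJ_sub_right, fJ_smul_right, fJ_self, hfe]; ring
  obtain ⟨v0, hv0⟩ := exists_not_mem_span2 e1 f1
  set w0 := v0 + (fJ f1 v0) • e1 - (fJ e1 v0) • f1 with hw0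
  have hw0P : P w0 := proj v0
  have hw0ne : w0 ≠ 0 := by
    intro h0
    apply hv0 (-(fJ f1 v0)) (fJ e1 v0)
    have h0' : v0 + (fJ f1 v0) • e1 - (fJ e1 v0) • f1 = 0 := by rw [← hw0]; exact h0
    rw [neg_smul]
    calc -((fJ f1 v0) • e1) + (fJ e1 v0) • f1
        = v0 - (v0 + (fJ f1 v0) • e1 - (fJ e1 v0) • f1) := by abel
      _ = v0 := by rw [h0', sub_zero]
  obtain ⟨e2, he2P, he2⟩ := exists_unit h2 hx hxx P hPadd hPsmul hPx (by
    obtain ⟨w', hw'⟩ := fJ_nondeg hw0ne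
    set w'' := w' + (fJ f1 w') • e1 - (fJ e1 w') • f1 with hw''
    have h1 : fJ w0 e1 = 0 := by rw [fJ_swap, hw0P.1, neg_zero]
    have h1' : fJ w0 f1 = 0 := by rw [fJ_swap, hw0P.2, neg_zero]
    have hne : fJ w0 w'' ≠ 0 := by
      rw [hw'', fJ_sub_right, fJ_add_right, fJ_smul_right, fJ_smul_right, h1, h1']
      simpa using hw'
    refine ⟨w0, -(x *ᵥ w''), hw0P, ?_, ?_⟩
    · have := hPsmul (-1) _ (hPx _ (proj w'))
      rw [neg_smul, one_smul] at this
      exact this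
    · rw [Matrix.mulVec_neg, hxxv, neg_neg]
      exact hne)
  set f2 := x *ᵥ e2 with hf2
  have hxf2 : x *ᵥ f2 = -e2 := hxxv e2
  have hf2P : P f2 := hPx _ he2P
  set b : Fin 4 → Fin 4 → F := ![e1, f1, e2, f2] with hb
  refine ⟨colMat b, ?_, ?_⟩
  · apply gram_G2s
    · exact he1
    · exact he2
    · exact he2P.1
    · exact hf2P.1
    · exact he2P.2
    · exact hf2P.2
  · apply act_colMat
    intro k
    fin_cases k <;> simp [hb, A2s, Fin.sum_univ_four, ← hf1, ← hf2, hxf1, hxf2]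

end complex

section caseTwo

variable [Fintype F] {R : Subgroup (GL (Fin 4) F)} {a1 b1 a2 b2 Q : GL (Fin 4) F} {α β : F}

/-- every element of order two modulo scalars is conjugate into `R` -/
theorem case_twoS (H : Hyp2 R) (G : Gens R a1 b1 a2 b2)
    (hRf : ∀ g ∈ R, (g : Matrix (Fin 4) (Fin 4) F)ᵀ * J4 F * (g : Matrix (Fin 4) (Fin 4) F) = J4 F)
    {x : GL (Fin 4) F}
    (hx : (x : Matrix (Fin 4) (Fin 4) F)ᵀ * J4 F * (x : Matrix (Fin 4) (Fin 4) F) = J4 F)
    (hns : ∀ z : F, (x : Matrix (Fin 4) (Fin 4) F) ≠ z • (1 : Matrix (Fin 4) (Fin 4) F)) {z : F}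
    (hz : ((x ^ 2 : GL (Fin 4) F) : Matrix (Fin 4) (Fin 4) F) = z • (1 : Matrix (Fin 4) (Fin 4) F)) :
    ∃ g : GL (Fin 4) F, (g : Matrix (Fin 4) (Fin 4) F)ᵀ * J4 F * (g : Matrix (Fin 4) (Fin 4) F) = J4 F ∧
      g⁻¹ * x * g ∈ Subgroup.normalizer (R : Set (GL (Fin 4) F)) := by
  have h2 := H.two_ne
  set X : Matrix (Fin 4) (Fin 4) F := (x : Matrix (Fin 4) (Fin 4) F) with hX
  have hXX : X * X = z • (1 : Matrix (Fin 4) (Fin 4) F) := by
    rw [← hz, pow_two, Units.val_mul]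
  -- the scalar is a sign
  have hzz : z * z = 1 := by
    have h1 : (X * X)ᵀ * J4 F * (X * X) = J4 F := by
      rw [Matrix.transpose_mul]
      calc Xᵀ * Xᵀ * J4 F * (X * X) = Xᵀ * (Xᵀ * J4 F * X) * X := by simp only [mul_assoc]
        _ = J4 F := by rw [hx, hx]
    rw [hXX] at h1
    have h02 := congrFun (congrFun h1 2) 0
    simp [J4, Matrix.mul_apply, Fin.sum_univ_four, Matrix.one_apply] at h02
    exact h02
  have hRN : R ≤ Subgroup.normalizer (R : Set (GL (Fin 4) F)) := Subgroup.le_normalizer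
  have one_smul_x : ((1 : F) • (x : Matrix (Fin 4) (Fin 4) F)) = X := one_smul _ _
  rcases mul_self_eq_one_iff.mp hzz with rfl | rfl
  · -- an involution
    rw [one_smul] at hXX
    obtain ⟨B, hB, hxB⟩ := invol_frame h2 hx hXX (by
      intro h; exact hns 1 (by rw [one_smul]; exact h)) (by
      intro h; exact hns (-1) (by rw [neg_smul, one_smul]; exact h))
    have ha1R := Cr_le G.ha1
    have hA : (a1 : Matrix (Fin 4) (Fin 4) F) * (a1 : Matrix (Fin 4) (Fin 4) F) = 1 := by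
      have := congrArg Units.val G.a1sq
      simpa [Units.val_mul] using this
    have hne1 : (a1 : Matrix (Fin 4) (Fin 4) F) ≠ 1 := by
      intro h
      have h' : a1 = 1 := Units.ext (by rw [h, Units.val_one])
      have := G.a1b1
      rw [h', one_mul, mul_one] at this
      exact no_self_neg h2 _ this
    have hne2 : (a1 : Matrix (Fin 4) (Fin 4) F) ≠ -1 := by
      intro h
      have h' : a1 = -1 := Units.ext (by rw [h, Units.val_neg, Units.val_one])
      have := G.a1b1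
      rw [h'] at this
      simp only [neg_mul, one_mul, mul_neg, mul_one, neg_neg] at this
      exact no_self_neg h2 _ this.symm
    obtain ⟨B0, hB0, hyB⟩ := invol_frame h2 (hRf a1 ha1R) hA hne1 hne2
    exact reduceS (hRN ha1R) (l := 1) one_ne_zero (by rw [G2s_det]; exact one_ne_zero) hB hB0
      (by rw [one_smul]; exact hxB) hyB
  · -- a complex structure
    rw [neg_smul, one_smul] at hXX
    obtain ⟨B, hB, hxB⟩ := cplx_frame h2 hx hXX
    have ha2R := Cr_le G.ha2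
    have hA : (a2 : Matrix (Fin 4) (Fin 4) F) * (a2 : Matrix (Fin 4) (Fin 4) F) = -1 := by
      have := congrArg Units.val G.a2sq
      simpa [Units.val_mul] using this
    obtain ⟨B0, hB0, hyB⟩ := cplx_frame h2 (hRf a2 ha2R) hA
    exact reduceS (hRN ha2R) (l := 1) one_ne_zero (by rw [G2s_det]; exact one_ne_zero) hB hB0
      (by rw [one_smul]; exact hxB) hyB

end caseTwo

end Cfsg.Agent.Lib.Helper99.Sp4I
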