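import Mathlib
import Cfsg.Agent.Lib.Helper99.Sp4I
import Cfsg.Agent.Lib.Helper99.Symp4I

/-!
# An element of order five normalising the extraspecial group of minus type,
  and the elements of order five modulo scalars
-/

set_option autoImplicit false

namespace Cfsg.Agent.Lib.Helper99.Sp4J

open scoped Matrix
open Cfsg.Agent.Lib.Helper99.Symp4B Cfsg.Agent.Lib.Helper99.Symp4G Cfsg.Agent.Lib.Helper99.Symp4J
open Cfsg.Agent.Lib.Helper99.Symp4L Cfsg.Agent.Lib.Helper99.Symp4I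
open Cfsg.Agent.Lib.Helper99.Sp4A Cfsg.Agent.Lib.Helper99.Sp4B
open Cfsg.Agent.Lib.Helper99.Sp4C Cfsg.Agent.Lib.Helper99.Sp4D Cfsg.Agent.Lib.Helper99.Sp4E
open Cfsg.Agent.Lib.Helper99.Sp4I
open Cfsg.Agent.Lib.Helper99.Uni4E (colMat colMat_apply)

variable {F : Type*} [Field F]

section explicit

variable (α β h : F)

/-- the element of order five -/
def Ym : Matrix (Fin 4) (Fin 4) F :=
  !![h * β, h * (1 - α), h * (1 + α), h * β;
     h * (-1 - α), h * (-β), h * β, h * (1 - α);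
     h * β, h * (-1 - α), h * (-1 + α), h * β;
     h * (1 - α), h * (-β), h * β, h * (-1 - α)]

/-- its square -/
def Y2m : Matrix (Fin 4) (Fin 4) F :=
  !![h * (-1 + β), h * (-α), h * (-1 + β), h * (-α);
     h * (-α), h * (-1 - β), h * (-α), h * (-1 - β);
     h * α, h * (1 + β), h * (-α), h * (-1 - β);
     h * (-1 + β), h * (-α), h * (1 - β), h * α]

/-- its inverse -/
def Y4m : Matrix (Fin 4) (Fin 4) F :=
  !![h * (-β), h * (-1 + α), h * (-β), h * (1 + α);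
     h * (1 + α), h * β, h * (-1 + α), h * β;
     h * (1 - α), h * (-β), h * (-1 - α), h * (-β);
     h * (-β), h * (1 + α), h * (-β), h * (-1 + α)]

variable {α β h}

theorem Ym_sq (hαβ : α * α + β * β = -1) (h2e : 2 * h = 1) : Ym α β h * Ym α β h = Y2m α β h := by
  ext i j
  fin_cases i <;> fin_cases j <;>
    simp [Ym, Y2m, Matrix.mul_apply, Fin.sum_univ_four] <;> grind

theorem Y2m_sq (hαβ : α * α + β * β = -1) (h2e : 2 * h = 1) : Y2m α β h * Y2m α β h = Y4m α β h := by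
  ext i j
  fin_cases i <;> fin_cases j <;>
    simp [Y2m, Y4m, Matrix.mul_apply, Fin.sum_univ_four] <;> grind

theorem Y4m_mul (hαβ : α * α + β * β = -1) (h2e : 2 * h = 1) : Y4m α β h * Ym α β h = 1 := by
  ext i j
  fin_cases i <;> fin_cases j <;>
    simp [Ym, Y4m, Matrix.mul_apply, Fin.sum_univ_four, Matrix.one_apply] <;> grind

theorem Ym_mul (hαβ : α * α + β * β = -1) (h2e : 2 * h = 1) : Ym α β h * Y4m α β h = 1 := by
  ext i j
  fin_cases i <;> fin_cases j <;>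
    simp [Ym, Y4m, Matrix.mul_apply, Fin.sum_univ_four, Matrix.one_apply] <;> grind

theorem Ym_form (hαβ : α * α + β * β = -1) (h2e : 2 * h = 1) :
    (Ym α β h)ᵀ * J0 F * Ym α β h = J0 F := by
  ext i j
  fin_cases i <;> fin_cases j <;>
    simp [Ym, J0, Matrix.mul_apply, Fin.sum_univ_four] <;> grind

theorem Ym_rel1 (hαβ : α * α + β * β = -1) :
    Ym α β h * A1s F = !![0, 0, α, β; 0, 0, β, -α; -α, -β, 0, 0; -β, α, 0, 0] * Ym α β h := by
  ext i j
  fin_cases i <;> fin_cases j <;>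
    simp [Ym, A1s, Matrix.mul_apply, Fin.sum_univ_four] <;> grind

theorem Ym_rel2 (hαβ : α * α + β * β = -1) :
    Ym α β h * B1s F = !![0, 0, -β, α; 0, 0, α, β; β, -α, 0, 0; -α, -β, 0, 0] * Ym α β h := by
  ext i j
  fin_cases i <;> fin_cases j <;>
    simp [Ym, B1s, Matrix.mul_apply, Fin.sum_univ_four] <;> grind

theorem Ym_rel3 :
    Ym α β h * A2s F = !![0, 0, 0, 1; 0, 0, -1, 0; 0, 1, 0, 0; -1, 0, 0, 0] * Ym α β h := by
  ext i j
  fin_cases i <;> fin_cases j <;>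
    simp [Ym, A2s, Matrix.mul_apply, Fin.sum_univ_four] <;> ring

theorem Ym_rel4 (hαβ : α * α + β * β = -1) :
    Ym α β h * B2s α β = !![0, 0, 1, 0; 0, 0, 0, 1; -1, 0, 0, 0; 0, -1, 0, 0] * Ym α β h := by
  ext i j
  fin_cases i <;> fin_cases j <;>
    simp [Ym, B2s, Matrix.mul_apply, Fin.sum_univ_four] <;> grind

theorem lit3 : -(B1s F * A2s F) = !![0, 0, 0, 1; 0, 0, -1, 0; 0, 1, 0, 0; -1, 0, 0, 0] := by
  ext i j
  fin_cases i <;> fin_cases j <;> simp [B1s, A2s, Matrix.mul_apply, Fin.sum_univ_four]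

theorem lit4 : A1s F * B1s F = !![0, 0, 1, 0; 0, 0, 0, 1; -1, 0, 0, 0; 0, -1, 0, 0] := by
  ext i j
  fin_cases i <;> fin_cases j <;> simp [A1s, B1s, Matrix.mul_apply, Fin.sum_univ_four]

theorem Ym_ne_one (h2 : (2 : F) ≠ 0) (h2e : 2 * h = 1) : Ym α β h ≠ 1 := by
  intro he
  have e1 := congrFun (congrFun he 0) 1
  have e2 := congrFun (congrFun he 1) 0
  simp [Ym] at e1 e2
  have hh : h ≠ 0 := by
    intro h0; rw [h0, mul_zero] at h2e; exact zero_ne_one h2e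
  have a1 : 1 - α = 0 := e1.resolve_left hh
  have a2 : -1 - α = 0 := e2.resolve_left hh
  apply h2
  linear_combination a1 - a2

/-- the element of order five as an invertible matrix -/
def YG (hαβ : α * α + β * β = -1) (h2e : 2 * h = 1) : GL (Fin 4) F :=
  ⟨Ym α β h, Y4m α β h, Ym_mul hαβ h2e, Y4m_mul hαβ h2e⟩

theorem YG_val (hαβ : α * α + β * β = -1) (h2e : 2 * h = 1) :
    ((YG hαβ h2e : GL (Fin 4) F) : Matrix (Fin 4) (Fin 4) F) = Ym α β h := rfl

theorem YG_pow (hαβ : α * α + β * β = -1) (h2e : 2 * h = 1) : (YG hαβ h2e) ^ 5 = 1 := by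
  apply Units.ext
  rw [Units.val_pow_eq_pow_val, YG_val, Units.val_one]
  have : (Ym α β h) ^ 5 = ((Ym α β h * Ym α β h) * (Ym α β h * Ym α β h)) * Ym α β h := by
    simp only [pow_succ, pow_zero, one_mul, mul_assoc]
  rw [this, Ym_sq hαβ h2e, Y2m_sq hαβ h2e, Y4m_mul hαβ h2e]

end explicit

section unique

variable {α β : F}

theorem A1s_form' : A1s F * J0 F * (A1s F)ᵀ = J0 F := by
  ext i j
  fin_cases i <;> fin_cases j <;> simp [J0, A1s, Matrix.mul_apply, Fin.sum_univ_four]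

theorem B1s_form' : B1s F * J0 F * (B1s F)ᵀ = J0 F := by
  ext i j
  fin_cases i <;> fin_cases j <;> simp [J0, B1s, Matrix.mul_apply, Fin.sum_univ_four]

theorem A2s_form' : A2s F * J0 F * (A2s F)ᵀ = J0 F := by
  ext i j
  fin_cases i <;> fin_cases j <;> simp [J0, A2s, Matrix.mul_apply, Fin.sum_univ_four]

theorem B2s_form' (hαβ : α * α + β * β = -1) : B2s α β * J0 F * (B2s α β)ᵀ = J0 F := by
  ext i j
  fin_cases i <;> fin_cases j <;> simp [J0, B2s, Matrix.mul_apply, Fin.sum_univ_four] <;> grind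

/-- the invariant form of the standard group is unique up to scalars -/
theorem form_unique (h2 : (2 : F) ≠ 0) (hαβ : α * α + β * β = -1) {M : Matrix (Fin 4) (Fin 4) F}
    (h1 : (A1s F)ᵀ * M * A1s F = M) (h3 : (B1s F)ᵀ * M * B1s F = M)
    (h4 : (A2s F)ᵀ * M * A2s F = M) (h5 : (B2s α β)ᵀ * M * B2s α β = M) :
    ∃ c : F, M = c • J0 F := by
  have key : ∀ G : Matrix (Fin 4) (Fin 4) F, G * J0 F * Gᵀ = J0 F → Gᵀ * M * G = M →
      (J0 F * M) * G = G * (J0 F * M) := by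
    intro G hG hM
    calc J0 F * M * G = (G * J0 F * Gᵀ) * M * G := by rw [hG]
      _ = G * J0 F * (Gᵀ * M * G) := by simp only [mul_assoc]
      _ = G * (J0 F * M) := by rw [hM]; simp only [mul_assoc]
  obtain ⟨c, hc⟩ := commutant_scalar h2 hαβ (key _ A1s_form' h1) (key _ B1s_form' h3)
    (key _ A2s_form' h4) (key _ (B2s_form' hαβ) h5)
  refine ⟨-c, ?_⟩
  have : M = (J0 F)ᵀ * (J0 F * M) := by rw [← mul_assoc, J0_transpose_mul, one_mul]
  rw [this, hc, Matrix.mul_smul, mul_one, J0_transpose, smul_neg, neg_smul]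

end unique

section normalizer

variable {R : Subgroup (GL (Fin 4) F)} {a1 b1 a2 b2 Q : GL (Fin 4) F} {α β : F}

/-- an element of order five in the normaliser -/
theorem exists_five (H : Hyp2 R) (G : Gens R a1 b1 a2 b2) (Fr : Frame Q α β a1 b1 a2 b2)
    (hRf : ∀ g ∈ R, (g : Matrix (Fin 4) (Fin 4) F)ᵀ * J4 F * (g : Matrix (Fin 4) (Fin 4) F) = J4 F) :
    ∃ y : GL (Fin 4) F, y ∈ Subgroup.normalizer (R : Set (GL (Fin 4) F)) ∧
      (y : Matrix (Fin 4) (Fin 4) F)ᵀ * J4 F * (y : Matrix (Fin 4) (Fin 4) F) = J4 F ∧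
      y ^ 5 = 1 ∧ y ≠ 1 := by
  have h2 := H.two_ne
  have hαβ := Fr.hαβ
  obtain ⟨h, h2e⟩ : ∃ h : F, 2 * h = 1 := ⟨2⁻¹, mul_inv_cancel₀ h2⟩
  set Y : GL (Fin 4) F := YG hαβ h2e with hY
  set y : GL (Fin 4) F := Q * Y * Q⁻¹ with hy
  have hyQ : CQ Q y (Ym α β h) := by
    unfold CQ
    have e : Q * Y * Q⁻¹ * Q = Q * Y := by group
    rw [hy, ← Units.val_mul, e, Units.val_mul, hY, YG_val]
  have ha1R := Cr_le G.ha1
  have hb1R := Cr_le G.hb1
  have ha2R := Cr_le G.ha2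
  have hb2R := Cr_le G.hb2
  -- conjugation of the generators
  have c1 : y * a1 = (a1 * b1 * b2) * y := by
    refine CQ.eq (hyQ.mul Fr.qa1) (((Fr.qa1.mul Fr.qb1).mul Fr.qb2).mul hyQ) ?_
    rw [Tm_three, Ym_rel1 hαβ]
  have c2 : y * b1 = (a1 * b1 * (a2 * b2)) * y := by
    refine CQ.eq (hyQ.mul Fr.qb1) (((Fr.qa1.mul Fr.qb1).mul (Fr.qa2.mul Fr.qb2)).mul hyQ) ?_
    rw [Tm_four, Ym_rel2 hαβ]
  have c3 : y * a2 = (-(b1 * a2)) * y := by
    refine CQ.eq (hyQ.mul Fr.qa2) ((Fr.qb1.mul Fr.qa2).neg.mul hyQ) ?_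
    rw [lit3, Ym_rel3]
  have c4 : y * b2 = (a1 * b1) * y := by
    refine CQ.eq (hyQ.mul Fr.qb2) ((Fr.qa1.mul Fr.qb1).mul hyQ) ?_
    rw [lit4, Ym_rel4 hαβ]
  have hfin := finite_RA H
  have hnorm : y ∈ Subgroup.normalizer (R : Set (GL (Fin 4) F)) := by
    apply mem_normalizer_of_conj_mem
    have hle : R ≤ R.comap (MulAut.conj y).toMonoidHom := by
      refine (le_closure H G Fr).trans ?_
      rw [Subgroup.closure_le]
      intro g hg
      simp only [Set.mem_insert_iff, Set.mem_singleton_iff] at hg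
      rw [SetLike.mem_coe, Subgroup.mem_comap]
      simp only [MulEquiv.coe_toMonoidHom, MulAut.conj_apply]
      rcases hg with rfl | rfl | rfl | rfl
      · rw [c1, mul_inv_cancel_right]
        exact mul_mem (mul_mem ha1R hb1R) hb2R
      · rw [c2, mul_inv_cancel_right]
        exact mul_mem (mul_mem ha1R hb1R) (mul_mem ha2R hb2R)
      · rw [c3, mul_inv_cancel_right]
        exact neg_mem H (mul_mem hb1R ha2R)
      · rw [c4, mul_inv_cancel_right]
        exact mul_mem ha1R hb1R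
    intro g hg
    have := hle hg
    rw [Subgroup.mem_comap] at this
    simpa using this
  -- the form
  set Qm : Matrix (Fin 4) (Fin 4) F := (Q : Matrix (Fin 4) (Fin 4) F) with hQm
  set Qi : Matrix (Fin 4) (Fin 4) F := ((Q⁻¹ : GL (Fin 4) F) : Matrix (Fin 4) (Fin 4) F) with hQi
  have inv1 : Qm * Qi = 1 := val_mul_inv Q
  have gen_form : ∀ {a : GL (Fin 4) F} {A : Matrix (Fin 4) (Fin 4) F}, a ∈ R → CQ Q a A →
      Aᵀ * (Qmᵀ * J4 F * Qm) * A = Qmᵀ * J4 F * Qm := by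
    intro a A haR hA
    unfold CQ at hA
    calc Aᵀ * (Qmᵀ * J4 F * Qm) * A = (Qm * A)ᵀ * J4 F * (Qm * A) := by
          rw [Matrix.transpose_mul]; simp only [mul_assoc]
      _ = ((a : Matrix (Fin 4) (Fin 4) F) * Qm)ᵀ * J4 F * ((a : Matrix (Fin 4) (Fin 4) F) * Qm) := by
          rw [hA]
      _ = Qmᵀ * ((a : Matrix (Fin 4) (Fin 4) F)ᵀ * J4 F * (a : Matrix (Fin 4) (Fin 4) F)) * Qm := by
          rw [Matrix.transpose_mul]; simp only [mul_assoc]
      _ = Qmᵀ * J4 F * Qm := by rw [hRf a haR]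
  obtain ⟨c, hc⟩ := form_unique h2 hαβ (gen_form ha1R Fr.qa1) (gen_form hb1R Fr.qb1)
    (gen_form ha2R Fr.qa2) (gen_form hb2R Fr.qb2)
  have hyv : (y : Matrix (Fin 4) (Fin 4) F) = Qm * Ym α β h * Qi := by
    rw [hy, Units.val_mul, Units.val_mul, YG_val]
  have hform : (y : Matrix (Fin 4) (Fin 4) F)ᵀ * J4 F * (y : Matrix (Fin 4) (Fin 4) F) = J4 F := by
    rw [hyv, Matrix.transpose_mul, Matrix.transpose_mul]
    calc Qiᵀ * ((Ym α β h)ᵀ * Qmᵀ) * J4 F * (Qm * Ym α β h * Qi)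
        = Qiᵀ * ((Ym α β h)ᵀ * (Qmᵀ * J4 F * Qm) * Ym α β h) * Qi := by simp only [mul_assoc]
      _ = Qiᵀ * (Qmᵀ * J4 F * Qm) * Qi := by
          rw [hc, Matrix.mul_smul, Matrix.smul_mul, Ym_form hαβ h2e]
      _ = (Qm * Qi)ᵀ * J4 F * (Qm * Qi) := by rw [Matrix.transpose_mul]; simp only [mul_assoc]
      _ = J4 F := by rw [inv1]; simp
  refine ⟨y, hnorm, hform, ?_, ?_⟩
  · have : y ^ 5 = Q * Y ^ 5 * Q⁻¹ := by
      rw [hy]
      have := conj_pow (a := Q) (b := Y) (i := 5)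
      simpa using this
    rw [this, hY, YG_pow hαβ h2e]
    group
  · intro h1
    have : Y = 1 := by
      have : Y = Q⁻¹ * y * Q := by rw [hy]; group
      rw [this, h1]; group
    apply Ym_ne_one (α := α) (β := β) h2 h2e
    rw [← YG_val hαβ h2e, ← hY, this, Units.val_one]

end normalizer

section matching

variable [Fintype F]

/-- a simultaneous representation of values by two pairs of quadratic forms -/
theorem exists_match {p : ℕ} [Fact p.Prime] [CharP F p] (A1 A2 B1 B2 : Matrix (Fin 4) (Fin 4) F) :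
    ∃ v w : Fin 4 → F, (v ≠ 0 ∨ w ≠ 0) ∧ v ⬝ᵥ (A1 *ᵥ v) = w ⬝ᵥ (B1 *ᵥ w) ∧
      v ⬝ᵥ (A2 *ᵥ v) = w ⬝ᵥ (B2 *ᵥ w) := by
  classical
  let q : Matrix (Fin 4) (Fin 4) F → (Fin 4 → Fin 4 ⊕ Fin 4) → MvPolynomial (Fin 4 ⊕ Fin 4) F :=
    fun A ι => ∑ i, ∑ j, MvPolynomial.C (A i j) * MvPolynomial.X (ι i) * MvPolynomial.X (ι j)
  have hq_deg : ∀ A ι, (q A ι).totalDegree ≤ 2 := by
    intro A ι
    apply MvPolynomial.totalDegree_finsetSum_le
    intro i _
    apply MvPolynomial.totalDegree_finsetSum_le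
    intro j _
    refine (MvPolynomial.totalDegree_mul _ _).trans ?_
    have h1 : (MvPolynomial.C (A i j) * MvPolynomial.X (ι i) :
        MvPolynomial (Fin 4 ⊕ Fin 4) F).totalDegree ≤ 1 := by
      refine (MvPolynomial.totalDegree_mul _ _).trans ?_
      rw [MvPolynomial.totalDegree_C, MvPolynomial.totalDegree_X]
    have h2 : (MvPolynomial.X (ι j) : MvPolynomial (Fin 4 ⊕ Fin 4) F).totalDegree = 1 :=
      MvPolynomial.totalDegree_X _
    omega
  have hq_eval : ∀ A ι (u : Fin 4 ⊕ Fin 4 → F), MvPolynomial.eval u (q A ι) =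
      (fun i => u (ι i)) ⬝ᵥ (A *ᵥ (fun i => u (ι i))) := by
    intro A ι u
    simp only [q, map_sum, map_mul, MvPolynomial.eval_C, MvPolynomial.eval_X, dotProduct, Matrix.mulVec,
      Finset.mul_sum]
    apply Finset.sum_congr rfl
    intro i _
    apply Finset.sum_congr rfl
    intro j _
    ring
  set f1 : MvPolynomial (Fin 4 ⊕ Fin 4) F := q A1 Sum.inl - q B1 Sum.inr with hf1
  set f2 : MvPolynomial (Fin 4 ⊕ Fin 4) F := q A2 Sum.inl - q B2 Sum.inr with hf2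
  have hd1 : f1.totalDegree ≤ 2 :=
    (MvPolynomial.totalDegree_sub _ _).trans (max_le (hq_deg _ _) (hq_deg _ _))
  have hd2 : f2.totalDegree ≤ 2 :=
    (MvPolynomial.totalDegree_sub _ _).trans (max_le (hq_deg _ _) (hq_deg _ _))
  have hdeg : f1.totalDegree + f2.totalDegree < Fintype.card (Fin 4 ⊕ Fin 4) := by
    have : Fintype.card (Fin 4 ⊕ Fin 4) = 8 := by simp
    omega
  have hdvd := char_dvd_card_solutions_of_add_lt p hdeg
  have hzero : MvPolynomial.eval (0 : Fin 4 ⊕ Fin 4 → F) f1 = 0 ∧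
      MvPolynomial.eval (0 : Fin 4 ⊕ Fin 4 → F) f2 = 0 := by
    constructor
    · rw [hf1, map_sub, hq_eval, hq_eval]
      simp [dotProduct]
    · rw [hf2, map_sub, hq_eval, hq_eval]
      simp [dotProduct]
  have hcard : 1 < Fintype.card {u : Fin 4 ⊕ Fin 4 → F //
      MvPolynomial.eval u f1 = 0 ∧ MvPolynomial.eval u f2 = 0} := by
    have hpos : 0 < Fintype.card {u : Fin 4 ⊕ Fin 4 → F //
        MvPolynomial.eval u f1 = 0 ∧ MvPolynomial.eval u f2 = 0} :=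
      Fintype.card_pos_iff.mpr ⟨⟨0, hzero⟩⟩
    have hp2 : 2 ≤ p := (Fact.out : p.Prime).two_le
    have := Nat.le_of_dvd hpos hdvd
    omega
  obtain ⟨⟨u, hu1, hu2⟩, hune⟩ := Fintype.exists_ne_of_one_lt_card hcard ⟨0, hzero⟩
  have hu0 : u ≠ 0 := fun h => hune (Subtype.ext h)
  rw [hf1, map_sub, hq_eval, hq_eval, sub_eq_zero] at hu1
  rw [hf2, map_sub, hq_eval, hq_eval, sub_eq_zero] at hu2
  refine ⟨fun i => u (Sum.inl i), fun i => u (Sum.inr i), ?_, hu1, hu2⟩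
  by_contra hcon
  push Not at hcon
  apply hu0
  funext k
  rcases k with k | k
  · exact congrFun hcon.1 k
  · exact congrFun hcon.2 k

end matching

section cyclic

variable {x : Matrix (Fin 4) (Fin 4) F}

/-- the Gram matrix of a cyclic basis in terms of two moments -/
def Gm (m1 m2 : F) : Matrix (Fin 4) (Fin 4) F :=
  !![0, m1, m2, -m2; -m1, 0, m1, m2; -m2, -m1, 0, m1; m2, -m2, -m1, 0]

theorem cyc_gram (hx : xᵀ * J4 F * x = J4 F) (hx5 : x ^ 5 = 1) (v : Fin 4 → F) :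
    (colMat (cyc x v))ᵀ * J4 F * colMat (cyc x v) =
      Gm (fJ v (x *ᵥ v)) (fJ v ((x * x) *ᵥ v)) := by
  rw [gram_colMat]
  have inv : ∀ u w : Fin 4 → F, fJ (x *ᵥ u) (x *ᵥ w) = fJ u w := fJ_inv hx
  have mvv : ∀ (A B : Matrix (Fin 4) (Fin 4) F) (u : Fin 4 → F), A *ᵥ (B *ᵥ u) = (A * B) *ᵥ u :=
    fun A B u => Matrix.mulVec_mulVec u A B
  set m1 := fJ v (x *ᵥ v) with hm1
  set m2 := fJ v ((x * x) *ᵥ v) with hm2
  have c0 : cyc x v 0 = v := by simp [cyc]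
  have c1 : cyc x v 1 = x *ᵥ v := by simp [cyc]
  have c2 : cyc x v 2 = x *ᵥ (x *ᵥ v) := by
    simp only [cyc, mvv]
    congr 1
    exact pow_two x
  have c3 : cyc x v 3 = x *ᵥ (x *ᵥ (x *ᵥ v)) := by
    simp only [cyc, mvv]
    congr 1
    show x ^ 3 = x * (x * x)
    rw [pow_succ, pow_two, mul_assoc]
  have hx5v : x *ᵥ (x *ᵥ (x *ᵥ (x *ᵥ (x *ᵥ v)))) = v := by
    simp only [mvv]
    have : x * (x * (x * (x * x))) = x ^ 5 := by
      simp only [pow_succ, pow_zero, one_mul, mul_assoc]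
    rw [this, hx5, Matrix.one_mulVec]
  have e01 : fJ v (x *ᵥ v) = m1 := rfl
  have e02 : fJ v (x *ᵥ (x *ᵥ v)) = m2 := by rw [hm2, mvv]
  have e03 : fJ v (x *ᵥ (x *ᵥ (x *ᵥ v))) = -m2 := by
    have h1 := inv v (x *ᵥ (x *ᵥ (x *ᵥ v)))
    have h2 := inv (x *ᵥ v) (x *ᵥ (x *ᵥ (x *ᵥ (x *ᵥ v))))
    rw [hx5v] at h2
    rw [← h1, ← h2, fJ_swap, e02]
  have e12 : fJ (x *ᵥ v) (x *ᵥ (x *ᵥ v)) = m1 := by rw [inv]
  have e13 : fJ (x *ᵥ v) (x *ᵥ (x *ᵥ (x *ᵥ v))) = m2 := by rw [inv, e02]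
  have e23 : fJ (x *ᵥ (x *ᵥ v)) (x *ᵥ (x *ᵥ (x *ᵥ v))) = m1 := by rw [inv, inv]
  have s10 : fJ (x *ᵥ v) v = -m1 := by rw [fJ_swap]
  have s20 : fJ (x *ᵥ (x *ᵥ v)) v = -m2 := by rw [fJ_swap, e02]
  have s30 : fJ (x *ᵥ (x *ᵥ (x *ᵥ v))) v = m2 := by rw [fJ_swap, e03, neg_neg]
  have s21 : fJ (x *ᵥ (x *ᵥ v)) (x *ᵥ v) = -m1 := by rw [fJ_swap, e12]
  have s31 : fJ (x *ᵥ (x *ᵥ (x *ᵥ v))) (x *ᵥ v) = -m2 := by rw [fJ_swap, e13]
  have s32 : fJ (x *ᵥ (x *ᵥ (x *ᵥ v))) (x *ᵥ (x *ᵥ v)) = -m1 := by rw [fJ_swap, e23]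
  ext j k
  fin_cases j <;> fin_cases k <;>
    simp only [Matrix.of_apply, Fin.zero_eta, Fin.mk_one, Fin.reduceFinMk, c0, c1, c2, c3, fJ_self,
      e01, e02, e03, e12, e13, e23, s10, s20, s30, s21, s31, s32] <;> simp [Gm]

end cyclic

section caseFive

variable [Fintype F] {R : Subgroup (GL (Fin 4) F)} {a1 b1 a2 b2 Q : GL (Fin 4) F} {α β : F}

/-- every element of order five modulo scalars is conjugate into the normaliser -/
theorem case_fiveS {p : ℕ} [Fact p.Prime] [CharP F p]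
    (hirr : Irreducible (Polynomial.cyclotomic 5 F))
    (H : Hyp2 R) (G : Gens R a1 b1 a2 b2) (Fr : Frame Q α β a1 b1 a2 b2)
    (hRf : ∀ g ∈ R, (g : Matrix (Fin 4) (Fin 4) F)ᵀ * J4 F * (g : Matrix (Fin 4) (Fin 4) F) = J4 F)
    {x : GL (Fin 4) F}
    (hx : (x : Matrix (Fin 4) (Fin 4) F)ᵀ * J4 F * (x : Matrix (Fin 4) (Fin 4) F) = J4 F)
    (hns : ∀ z : F, (x : Matrix (Fin 4) (Fin 4) F) ≠ z • (1 : Matrix (Fin 4) (Fin 4) F)) {z : F}
    (hz : ((x ^ 5 : GL (Fin 4) F) : Matrix (Fin 4) (Fin 4) F) = z • (1 : Matrix (Fin 4) (Fin 4) F)) :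
    ∃ g : GL (Fin 4) F, (g : Matrix (Fin 4) (Fin 4) F)ᵀ * J4 F * (g : Matrix (Fin 4) (Fin 4) F) = J4 F ∧
      g⁻¹ * x * g ∈ Subgroup.normalizer (R : Set (GL (Fin 4) F)) := by
  have h2 := H.two_ne
  obtain ⟨y, hyN, hyf, hy5, hy1⟩ := exists_five H G Fr hRf
  set X : Matrix (Fin 4) (Fin 4) F := (x : Matrix (Fin 4) (Fin 4) F) with hX
  set Y : Matrix (Fin 4) (Fin 4) F := (y : Matrix (Fin 4) (Fin 4) F) with hY
  have hX5 : X ^ 5 = z • (1 : Matrix (Fin 4) (Fin 4) F) := by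
    rw [← hz, Units.val_pow_eq_pow_val]
  -- the fifth power preserves the form, so the scalar is a sign
  have hpow_form : ∀ k : ℕ, (X ^ k)ᵀ * J4 F * X ^ k = J4 F := by
    intro k
    induction k with
    | zero => simp
    | succ k ih =>
      rw [pow_succ, Matrix.transpose_mul]
      calc Xᵀ * (X ^ k)ᵀ * J4 F * (X ^ k * X) = Xᵀ * ((X ^ k)ᵀ * J4 F * X ^ k) * X := by
            simp only [mul_assoc]
        _ = J4 F := by rw [ih, hx]
  have hzz : z * z = 1 := by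
    have h1 := hpow_form 5
    rw [hX5] at h1
    have h02 := congrFun (congrFun h1 2) 0
    simp [J4, Matrix.mul_apply, Fin.sum_univ_four, Matrix.one_apply] at h02
    exact h02
  have hz0 : z ≠ 0 := by
    intro h0; rw [h0, mul_zero] at hzz; exact zero_ne_one hzz
  -- the normalised element
  set X' : Matrix (Fin 4) (Fin 4) F := z • X with hX'
  have hX'5 : X' ^ 5 = 1 := by
    rw [hX', smul_pow, hX5, smul_smul]
    have : z ^ 5 * z = (z * z) * (z * z) * (z * z) := by ring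
    rw [this, hzz]; simp
  have hX'1 : X' ≠ 1 := by
    intro h1
    apply hns z
    have : X = z • X' := by rw [hX', smul_smul, hzz, one_smul]
    rw [this, h1]
  have hX'f : X'ᵀ * J4 F * X' = J4 F := by
    rw [hX', Matrix.transpose_smul, Matrix.smul_mul, Matrix.smul_mul, Matrix.mul_smul, smul_smul, hzz,
      one_smul, hx]
  have hY5 : Y ^ 5 = 1 := by
    rw [hY, ← Units.val_pow_eq_pow_val, hy5, Units.val_one]
  have hY1 : Y ≠ 1 := by
    intro h1
    apply hy1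
    apply Units.ext
    rw [← hY, h1, Units.val_one]
  have hNX := cyc_N_zero hirr hX'5 hX'1
  have hNY := cyc_N_zero hirr hY5 hY1
  -- matching of the moments
  obtain ⟨v, w, hvw, hm1, hm2⟩ := exists_match (p := p) (J4 F * X') (J4 F * (X' * X')) (J4 F * Y)
    (J4 F * (Y * Y))
  have mvv : ∀ (A B : Matrix (Fin 4) (Fin 4) F) (u : Fin 4 → F), A *ᵥ (B *ᵥ u) = (A * B) *ᵥ u :=
    fun A B u => Matrix.mulVec_mulVec u A B
  have hm1' : fJ v (X' *ᵥ v) = fJ w (Y *ᵥ w) := by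
    unfold fJ; rw [mvv, mvv]; exact hm1
  have hm2' : fJ v ((X' * X') *ᵥ v) = fJ w ((Y * Y) *ᵥ w) := by
    unfold fJ; rw [mvv, mvv]; exact hm2
  -- the frames
  have frame : ∀ (Z : Matrix (Fin 4) (Fin 4) F) (hZN : 1 + Z + Z ^ 2 + Z ^ 3 + Z ^ 4 = 0) (u : Fin 4 → F),
      u ≠ 0 → (colMat (cyc Z u)).det ≠ 0 := by
    intro Z hZN u hu
    have hLI := cyc_LI hirr hu (by rw [hZN, Matrix.zero_mulVec])
    obtain ⟨P, hP⟩ := exists_GL_of_cols _ hLI
    have : (P : Matrix (Fin 4) (Fin 4) F) = colMat (cyc Z u) := by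
      ext i k
      rw [hP, colMat_apply]
    rw [← this]
    exact det_val_ne_zero P
  have gram_det : ∀ (Z : Matrix (Fin 4) (Fin 4) F) (u : Fin 4 → F), (colMat (cyc Z u)).det ≠ 0 →
      ((colMat (cyc Z u))ᵀ * J4 F * colMat (cyc Z u)).det ≠ 0 := by
    intro Z u hd
    rw [Matrix.det_mul, Matrix.det_mul, Matrix.det_transpose, J4_det, mul_one]
    exact mul_ne_zero hd hd
  have Gm_zero : (Gm (0 : F) 0).det = 0 := by
    have : Gm (0 : F) 0 = 0 := by
      ext i j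
      fin_cases i <;> fin_cases j <;> simp [Gm]
    rw [this, Matrix.det_zero]
  -- both vectors are nonzero
  have hv0 : v ≠ 0 := by
    intro hv
    have hw0 : w ≠ 0 := by
      rcases hvw with h | h
      · exact absurd hv h
      · exact h
    have hd := gram_det Y w (frame Y hNY w hw0)
    rw [cyc_gram hyf hY5, ← hm1', ← hm2', hv] at hd
    simp only [fJ_zero_left] at hd
    exact hd Gm_zero
  have hw0 : w ≠ 0 := by
    intro hw
    have hd := gram_det X' v (frame X' hNX v hv0)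
    rw [cyc_gram hX'f hX'5, hm1', hm2', hw] at hd
    simp only [fJ_zero_left] at hd
    exact hd Gm_zero
  have hdet := gram_det X' v (frame X' hNX v hv0)
  have hB := cyc_gram hX'f hX'5 v
  have hB0 := cyc_gram hyf hY5 w
  rw [← hm1', ← hm2'] at hB0
  rw [hB] at hdet
  exact reduceS hyN hz0 hdet hB hB0 (cyc_rel hNX (fun _ _ => rfl)) (cyc_rel hNY (fun _ _ => rfl))

end caseFive

end Cfsg.Agent.Lib.Helper99.Sp4J
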