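import Mathlib
import Cfsg.Agent.Lib.Helper99.Sp4H
import Cfsg.Agent.Lib.Helper99.Sp4I

/-!
# The witness of order three away from characteristic three
-/

set_option autoImplicit false

namespace Cfsg.Agent.Lib.Helper99.Sp4K

open scoped Matrix
open Cfsg.Agent.Lib.Helper99.Symp4J
open Cfsg.Agent.Lib.Helper99.Sp4A Cfsg.Agent.Lib.Helper99.Sp4B Cfsg.Agent.Lib.Helper99.Sp4E
open Cfsg.Agent.Lib.Helper99.Sp4H Cfsg.Agent.Lib.Helper99.Sp4I

variable {F : Type*} [Field F]

theorem scalar_sq_of_form {z : F}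
    (h : (z • (1 : Matrix (Fin 4) (Fin 4) F))ᵀ * J4 F * (z • (1 : Matrix (Fin 4) (Fin 4) F)) = J4 F) :
    z * z = 1 := by
  have h02 := congrFun (congrFun h 2) 0
  simp [J4, Matrix.mul_apply, Fin.sum_univ_four, Matrix.one_apply] at h02
  exact h02

theorem Xs_fixed (h3 : (3 : F) ≠ 0) {v : Fin 4 → F} (hv : Xs (-1 : F) *ᵥ v = v) :
    v 1 = 0 ∧ v 3 = 0 := by
  have e1 := congrFun hv 1
  have e3 := congrFun hv 3
  simp [Xs, Matrix.mulVec, dotProduct, Fin.sum_univ_four] at e1 e3
  have h : (3 : F) * v 3 = 0 := by linear_combination -e1 - e3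
  have hv3 : v 3 = 0 := (mul_eq_zero.mp h).resolve_left h3
  refine ⟨?_, hv3⟩
  rw [← e1, hv3, neg_zero]

theorem Xs_single (t : F) : Xs t *ᵥ (Pi.single 0 1 : Fin 4 → F) = Pi.single 0 1 := by
  ext i
  fin_cases i <;> simp [Xs, Matrix.mulVec, dotProduct, Fin.sum_univ_four]

variable {R : Subgroup (GL (Fin 4) F)} {a1 b1 a2 b2 Q : GL (Fin 4) F} {α β : F}

/-- the witness of order three is not conjugate into the normaliser -/
theorem fwd_three (H : Hyp2 R) (G : Gens R a1 b1 a2 b2) (Fr : Frame Q α β a1 b1 a2 b2)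
    (hRf : ∀ g ∈ R, (g : Matrix (Fin 4) (Fin 4) F)ᵀ * J4 F * (g : Matrix (Fin 4) (Fin 4) F) = J4 F)
    (h3 : (3 : F) ≠ 0) {g : GL (Fin 4) F}
    (hg : (g : Matrix (Fin 4) (Fin 4) F)ᵀ * J4 F * (g : Matrix (Fin 4) (Fin 4) F) = J4 F)
    (hn : g⁻¹ * XsG (-1 : F) * g ∈ Subgroup.normalizer (R : Set (GL (Fin 4) F))) : False := by
  set gm : Matrix (Fin 4) (Fin 4) F := (g : Matrix (Fin 4) (Fin 4) F) with hgm
  set gi : Matrix (Fin 4) (Fin 4) F := ((g⁻¹ : GL (Fin 4) F) : Matrix (Fin 4) (Fin 4) F) with hgi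
  have i1 : gi * gm = 1 := val_inv_mul g
  have i2 : gm * gi = 1 := val_mul_inv g
  have hnv : ((g⁻¹ * XsG (-1 : F) * g : GL (Fin 4) F) : Matrix (Fin 4) (Fin 4) F) =
      gi * Xs (-1) * gm := by
    rw [Units.val_mul, Units.val_mul, XsG_val]
  have mvv : ∀ (A B : Matrix (Fin 4) (Fin 4) F) (u : Fin 4 → F), A *ᵥ (B *ᵥ u) = (A * B) *ᵥ u :=
    fun A B u => Matrix.mulVec_mulVec u A B
  -- fixed vectors of the conjugate
  have fixed : ∀ u : Fin 4 → F, (gi * Xs (-1) * gm) *ᵥ u = u → Xs (-1 : F) *ᵥ (gm *ᵥ u) = gm *ᵥ u := by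
    intro u hu
    have := congrArg (fun w => gm *ᵥ w) hu
    simp only [mvv] at this
    rw [← mul_assoc, ← mul_assoc, i2, one_mul] at this
    rw [mvv]
    exact this
  apply no_three H G Fr hRf hn
  · -- the third power
    have h1 : (g⁻¹ * XsG (-1 : F) * g) ^ 3 = g⁻¹ * (XsG (-1 : F)) ^ 3 * g := by
      have := conj_pow (a := g⁻¹) (b := XsG (-1 : F)) (i := 3)
      simpa using this
    have h2 : (XsG (-1 : F)) ^ 3 = 1 := by
      apply Units.ext
      rw [Units.val_pow_eq_pow_val, XsG_val, Xs_pow_three, Units.val_one]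
    rw [h1, h2]
    group
  · -- a fixed vector
    refine ⟨gi *ᵥ (Pi.single 0 1), ?_, ?_⟩
    · intro h0
      have := congrArg (fun w => gm *ᵥ w) h0
      simp only [mvv, i2, Matrix.one_mulVec, Matrix.mulVec_zero] at this
      have h00 := congrFun this 0
      simp at h00
    · rw [hnv, mvv]
      have : gi * Xs (-1) * gm * gi = gi * Xs (-1) := by
        rw [mul_assoc, i2, mul_one]
      rw [this, ← mvv, Xs_single]
  · -- the fixed space is a hyperbolic plane
    intro u u' hu hu' hform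
    rw [hnv] at hu hu'
    have hv := Xs_fixed h3 (fixed u hu)
    have hv' := Xs_fixed h3 (fixed u' hu')
    set v := gm *ᵥ u with hvdef
    set v' := gm *ᵥ u' with hv'def
    have hf : fJ v v' = 0 := by
      rw [hvdef, hv'def, fJ_inv hg]
      exact hform
    rw [fJ_eq, hv.1, hv.2, hv'.1, hv'.2] at hf
    have hf' : v 2 * v' 0 = v 0 * v' 2 := by linear_combination hf
    have back : ∀ a b : F, a • v + b • v' = 0 → a • u + b • u' = 0 := by
      intro a b hab
      have := congrArg (fun w => gi *ᵥ w) hab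
      simp only [Matrix.mulVec_add, Matrix.mulVec_smul, hvdef, hv'def, mvv, i1, Matrix.one_mulVec,
        Matrix.mulVec_zero] at this
      exact this
    by_cases h0 : v 0 = 0
    · by_cases h2 : v 2 = 0
      · -- `v = 0`
        refine ⟨1, 0, Or.inl one_ne_zero, back 1 0 ?_⟩
        ext i
        fin_cases i <;> simp [h0, h2, hv.1, hv.2]
      · refine ⟨v' 2, -v 2, Or.inr (neg_ne_zero.mpr h2), back _ _ ?_⟩
        have hv0' : v' 0 = 0 := by
          rw [h0, zero_mul] at hf'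
          exact (mul_eq_zero.mp hf').resolve_left h2
        ext i
        fin_cases i <;> simp [h0, hv0', hv.1, hv.2, hv'.1, hv'.2] <;>
          first | ring1 | linear_combination hf' | linear_combination -hf'
    · refine ⟨v' 0, -v 0, Or.inr (neg_ne_zero.mpr h0), back _ _ ?_⟩
      ext i
      fin_cases i <;> simp [hv.1, hv.2, hv'.1, hv'.2] <;>
        first | ring1 | linear_combination hf' | linear_combination -hf'

end Cfsg.Agent.Lib.Helper99.Sp4K
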