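import Mathlib
import Cfsg.Prelude.Def_GeometricClasses
import Cfsg.Prelude.Def_ClassicalGeometry
import Cfsg.Agent.Lib.Helper38.SpF.Defs

/-!
# K-SpF-OI (keystone 597511): the obstruction for involutions with a two-dimensional `-1`-eigenspace
-/

set_option autoImplicit false

namespace Cfsg.Agent.Lib.Helper99.SpF

open Cfsg Cfsg.Geo Cfsg.Agent.Lib.Helper38.SpF
open scoped Matrix MatrixGroups

variable {F : Type*} [Field F]

section form

variable (d : ℕ)

theorem sympForm_add_right (u v w : Fin d ⊕ Fin d → F) :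
    sympForm d F u (v + w) = sympForm d F u v + sympForm d F u w := by
  unfold sympForm
  rw [Matrix.mulVec_add, dotProduct_add]

theorem sympForm_sub_right (u v w : Fin d ⊕ Fin d → F) :
    sympForm d F u (v - w) = sympForm d F u v - sympForm d F u w := by
  unfold sympForm
  rw [Matrix.mulVec_sub, dotProduct_sub]

theorem sympForm_neg_left (u v : Fin d ⊕ Fin d → F) :
    sympForm d F (-u) v = - sympForm d F u v := by
  unfold sympForm
  rw [neg_dotProduct]

theorem sympForm_neg_right (u v : Fin d ⊕ Fin d → F) :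
    sympForm d F u (-v) = - sympForm d F u v := by
  unfold sympForm
  rw [Matrix.mulVec_neg, dotProduct_neg]

theorem sympForm_smul_right (c : F) (u v : Fin d ⊕ Fin d → F) :
    sympForm d F u (c • v) = c * sympForm d F u v := by
  unfold sympForm
  rw [Matrix.mulVec_smul, dotProduct_smul, smul_eq_mul]

theorem sympForm_nondeg (u : Fin d ⊕ Fin d → F) (h : ∀ v, sympForm d F u v = 0) : u = 0 := by
  funext i
  have h1 := h ((-Matrix.J (Fin d) F) *ᵥ Pi.single i 1)
  unfold sympForm at h1
  rw [Matrix.mulVec_mulVec, Matrix.mul_neg, Matrix.J_squared, neg_neg, Matrix.one_mulVec,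
    dotProduct_single, mul_one] at h1
  exact h1

end form

section ker

variable {ι : Type} [Fintype ι] [DecidableEq ι]

theorem mem_ker_add_one (Y : Matrix ι ι F) (v : ι → F) :
    v ∈ LinearMap.ker (Matrix.toLin' (Y + 1)) ↔ Y *ᵥ v = -v := by
  rw [LinearMap.mem_ker, Matrix.toLin'_apply, Matrix.add_mulVec, Matrix.one_mulVec,
    add_eq_zero_iff_eq_neg]

theorem mem_ker_sub_one (Y : Matrix ι ι F) (v : ι → F) :
    v ∈ LinearMap.ker (Matrix.toLin' (Y - 1)) ↔ Y *ᵥ v = v := by
  rw [LinearMap.mem_ker, Matrix.toLin'_apply, Matrix.sub_mulVec, Matrix.one_mulVec, sub_eq_zero]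

/-- for an involution in odd characteristic the two eigenspaces have complementary dimensions -/
theorem finrank_ker_add_ker (h2 : (2 : F) ≠ 0) (Y : Matrix ι ι F) (hYY : Y * Y = 1) :
    Module.finrank F (LinearMap.ker (Matrix.toLin' (Y - 1))) +
      Module.finrank F (LinearMap.ker (Matrix.toLin' (Y + 1))) = Fintype.card ι := by
  have hyy : ∀ v : ι → F, Y *ᵥ (Y *ᵥ v) = v := by
    intro v
    rw [Matrix.mulVec_mulVec, hYY, Matrix.one_mulVec]
  have hinf : LinearMap.ker (Matrix.toLin' (Y - 1)) ⊓ LinearMap.ker (Matrix.toLin' (Y + 1)) = ⊥ := by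
    rw [eq_bot_iff]
    intro v hv
    rw [Submodule.mem_inf, mem_ker_sub_one, mem_ker_add_one] at hv
    rw [Submodule.mem_bot]
    have h3 : v = -v := hv.1.symm.trans hv.2
    have h4 : (2 : F) • v = 0 := by
      rw [two_smul]
      nth_rewrite 1 [h3]
      exact neg_add_cancel v
    rcases smul_eq_zero.mp h4 with h | h
    · exact absurd h h2
    · exact h
  have hsup : LinearMap.ker (Matrix.toLin' (Y - 1)) ⊔ LinearMap.ker (Matrix.toLin' (Y + 1)) = ⊤ := by
    rw [eq_top_iff]
    intro v _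
    have e : v = (2 : F)⁻¹ • (v + Y *ᵥ v) + (2 : F)⁻¹ • (v - Y *ᵥ v) := by
      rw [← smul_add]
      have : v + Y *ᵥ v + (v - Y *ᵥ v) = (2 : F) • v := by
        rw [two_smul]; abel
      rw [this, smul_smul, inv_mul_cancel₀ h2, one_smul]
    rw [e]
    apply Submodule.add_mem_sup
    · apply Submodule.smul_mem
      rw [mem_ker_sub_one, Matrix.mulVec_add, hyy, add_comm]
    · apply Submodule.smul_mem
      rw [mem_ker_add_one, Matrix.mulVec_sub, hyy, neg_sub]
  have h := Submodule.finrank_sup_add_finrank_inf_eq (LinearMap.ker (Matrix.toLin' (Y - 1)))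
    (LinearMap.ker (Matrix.toLin' (Y + 1)))
  rw [hinf, hsup, finrank_bot, finrank_top, Module.finrank_fintype_fun_eq_card] at h
  omega

end ker

/-- K-SpF-OI (597511). -/
theorem invol_obstruction [Fintype F] (h2 : (2 : F) ≠ 0) (d k : ℕ) (hk : k.Prime)
    (K : Subalgebra F (Matrix (Fin d ⊕ Fin d) (Fin d ⊕ Fin d) F)) (hS : IsSType d k K)
    (y : GL (Fin d ⊕ Fin d) F) (hy : y ∈ spGL d F) (hyN : y ∈ subalgebraNormalizer K)
    (hy2 : (y : Matrix (Fin d ⊕ Fin d) (Fin d ⊕ Fin d) F) * (y : Matrix (Fin d ⊕ Fin d) (Fin d ⊕ Fin d) F) = 1)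
    (hker : Module.finrank F (LinearMap.ker (Matrix.toLin' ((y : Matrix (Fin d ⊕ Fin d) (Fin d ⊕ Fin d) F) + 1))) = 2)
    (hT1 : (∀ a ∈ K, (y : Matrix (Fin d ⊕ Fin d) (Fin d ⊕ Fin d) F) * a = a * (y : Matrix (Fin d ⊕ Fin d) (Fin d ⊕ Fin d) F)) ∨
      (2 = k ∧ ∀ a ∈ K, (y : Matrix (Fin d ⊕ Fin d) (Fin d ⊕ Fin d) F) * a = a * (y : Matrix (Fin d ⊕ Fin d) (Fin d ⊕ Fin d) F) →
        ∃ c : F, a = c • (1 : Matrix (Fin d ⊕ Fin d) (Fin d ⊕ Fin d) F)))
    (hT3 : ∀ W : Submodule F (Fin d ⊕ Fin d → F), (∀ a ∈ K, ∀ w ∈ W, a *ᵥ w ∈ W) →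
      (∀ u ∈ W, (∀ w ∈ W, sympForm d F u w = 0) → u = 0) → 2 * k ∣ Module.finrank F W) :
    d = 2 ∧ k = 2 := by
  classical
  set Y : Matrix (Fin d ⊕ Fin d) (Fin d ⊕ Fin d) F := (y : Matrix (Fin d ⊕ Fin d) (Fin d ⊕ Fin d) F) with hY
  have hyy : ∀ v : Fin d ⊕ Fin d → F, Y *ᵥ (Y *ᵥ v) = v := by
    intro v
    rw [Matrix.mulVec_mulVec, hy2, Matrix.one_mulVec]
  have hiso : ∀ u v, sympForm d F (Y *ᵥ u) (Y *ᵥ v) = sympForm d F u v := hy
  have hyinv : ((y⁻¹ : GL (Fin d ⊕ Fin d) F) : Matrix (Fin d ⊕ Fin d) (Fin d ⊕ Fin d) F) = Y := by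
    have h1 : y * y = 1 := Units.ext hy2
    have h3 : y⁻¹ = y := inv_eq_of_mul_eq_one_right h1
    rw [h3]
  have hN : ∀ a, a ∈ K ↔ Y * a * Y ∈ K := by
    intro a
    have := hyN a
    rw [hyinv] at this
    exact this
  rcases hT1 with hcen | ⟨hk2, hfix⟩
  · -- `y` centralises `K`
    exfalso
    have h1 := hT3 (LinearMap.ker (Matrix.toLin' (Y + 1))) ?_ ?_
    · rw [hker] at h1
      have h3 : k ∣ 1 := by
        have : 2 * k ∣ 2 * 1 := by simpa using h1
        exact (Nat.mul_dvd_mul_iff_left (by norm_num)).mp this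
      exact hk.one_lt.ne' (Nat.dvd_one.mp h3)
    · intro a ha w hw
      rw [mem_ker_add_one] at hw ⊢
      rw [Matrix.mulVec_mulVec, hcen a ha, ← Matrix.mulVec_mulVec, hw, Matrix.mulVec_neg]
    · intro u hu hu0
      apply sympForm_nondeg d u
      intro v
      rw [mem_ker_add_one] at hu
      have h3 : v - Y *ᵥ v ∈ LinearMap.ker (Matrix.toLin' (Y + 1)) := by
        rw [mem_ker_add_one, Matrix.mulVec_sub, hyy, neg_sub]
      have h4 := hu0 _ h3
      rw [sympForm_sub_right] at h4
      have h5 : sympForm d F u (Y *ᵥ v) = - sympForm d F u v := by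
        have e1 : sympForm d F u (Y *ᵥ v) = sympForm d F (Y *ᵥ (Y *ᵥ u)) (Y *ᵥ v) := by rw [hyy]
        rw [e1, hiso, hu, sympForm_neg_left]
      rw [h5, sub_neg_eq_add] at h4
      have h6 : (2 : F) * sympForm d F u v = 0 := by rw [two_mul]; exact h4
      rcases mul_eq_zero.mp h6 with h | h
      · exact absurd h h2
      · exact h
  · -- `k = 2` and `y` induces the nontrivial automorphism
    have hkk : k = 2 := hk2.symm
    refine ⟨?_, hkk⟩
    have hKf := hS.field
    -- a non-scalar element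
    have hθ : ∃ θ ∈ K, ∀ c : F, θ ≠ c • (1 : Matrix (Fin d ⊕ Fin d) (Fin d ⊕ Fin d) F) := by
      by_contra hcon
      push Not at hcon
      have hle : Subalgebra.toSubmodule K ≤
          Submodule.span F {(1 : Matrix (Fin d ⊕ Fin d) (Fin d ⊕ Fin d) F)} := by
        intro a ha
        obtain ⟨c, hc⟩ := hcon a ha
        rw [hc]
        exact Submodule.smul_mem _ _ (Submodule.subset_span rfl)
      have h3 := Submodule.finrank_mono hle
      have h4 : Module.finrank F (Submodule.span F {(1 : Matrix (Fin d ⊕ Fin d) (Fin d ⊕ Fin d) F)}) ≤ 1 := by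
        refine (finrank_span_le_card _).trans ?_
        simp
      have h5 : Module.finrank F (Subalgebra.toSubmodule K) = k := hKf.finrank_eq
      omega
    obtain ⟨θ, hθK, hθs⟩ := hθ
    set ω : Matrix (Fin d ⊕ Fin d) (Fin d ⊕ Fin d) F := θ - Y * θ * Y with hω
    have hωK : ω ∈ K := K.sub_mem hθK ((hN θ).mp hθK)
    have hω0 : ω ≠ 0 := by
      intro h0
      have h3 : θ = Y * θ * Y := sub_eq_zero.mp h0
      have h4 : Y * θ = θ * Y := by
        calc Y * θ = Y * (Y * θ * Y) := by rw [← h3]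
          _ = (Y * Y) * θ * Y := by simp only [mul_assoc]
          _ = θ * Y := by rw [hy2, one_mul]
      obtain ⟨c, hc⟩ := hfix θ hθK h4
      exact hθs c hc
    have hanti : Y * ω = - (ω * Y) := by
      rw [hω, mul_sub, sub_mul]
      have e1 : Y * (Y * θ * Y) = θ * Y := by
        calc Y * (Y * θ * Y) = (Y * Y) * θ * Y := by simp only [mul_assoc]
          _ = θ * Y := by rw [hy2, one_mul]
      have e2 : Y * θ * Y * Y = Y * θ := by
        calc Y * θ * Y * Y = Y * θ * (Y * Y) := by simp only [mul_assoc]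
          _ = Y * θ := by rw [hy2, mul_one]
      rw [e1, e2]
      abel
    obtain ⟨ω', hω'K, hωω'⟩ := hKf.inv ω hωK hω0
    have hω'ω : ω' * ω = 1 := by
      rw [hKf.comm ω' hω'K ω hωK]
      exact hωω'
    have hinj : Function.Injective (fun v : Fin d ⊕ Fin d → F => ω *ᵥ v) := by
      intro v v' hvv
      have := congrArg (fun x => ω' *ᵥ x) hvv
      simpa [Matrix.mulVec_mulVec, hω'ω] using this
    have hYω : ∀ v, Y *ᵥ (ω *ᵥ v) = - (ω *ᵥ (Y *ᵥ v)) := by
      intro v
      rw [Matrix.mulVec_mulVec, hanti, Matrix.neg_mulVec, ← Matrix.mulVec_mulVec]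
    -- the two eigenspaces have the same dimension
    have hle1 : Module.finrank F (LinearMap.ker (Matrix.toLin' (Y - 1))) ≤
        Module.finrank F (LinearMap.ker (Matrix.toLin' (Y + 1))) := by
      let φ : LinearMap.ker (Matrix.toLin' (Y - 1)) →ₗ[F] LinearMap.ker (Matrix.toLin' (Y + 1)) :=
        LinearMap.codRestrict _ ((Matrix.toLin' ω).comp (Submodule.subtype _)) (by
          intro v
          have hv := (mem_ker_sub_one Y v.1).mp v.2
          rw [mem_ker_add_one]
          simp only [LinearMap.comp_apply, Submodule.subtype_apply, Matrix.toLin'_apply]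
          rw [hYω, hv])
      apply LinearMap.finrank_le_finrank_of_injective (f := φ)
      intro a b hab
      apply Subtype.ext
      apply hinj
      have := congrArg Subtype.val hab
      simpa [φ] using this
    have hle2 : Module.finrank F (LinearMap.ker (Matrix.toLin' (Y + 1))) ≤
        Module.finrank F (LinearMap.ker (Matrix.toLin' (Y - 1))) := by
      let φ : LinearMap.ker (Matrix.toLin' (Y + 1)) →ₗ[F] LinearMap.ker (Matrix.toLin' (Y - 1)) :=
        LinearMap.codRestrict _ ((Matrix.toLin' ω).comp (Submodule.subtype _)) (by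
          intro v
          have hv := (mem_ker_add_one Y v.1).mp v.2
          rw [mem_ker_sub_one]
          simp only [LinearMap.comp_apply, Submodule.subtype_apply, Matrix.toLin'_apply]
          rw [hYω, hv, Matrix.mulVec_neg, neg_neg])
      apply LinearMap.finrank_le_finrank_of_injective (f := φ)
      intro a b hab
      apply Subtype.ext
      apply hinj
      have := congrArg Subtype.val hab
      simpa [φ] using this
    have hsum := finrank_ker_add_ker h2 Y hy2
    simp only [Fintype.card_sum, Fintype.card_fin] at hsum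
    omega

end Cfsg.Agent.Lib.Helper99.SpF
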