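import Mathlib
import Cfsg.Agent.Lib.Helper99.SpRPEx
import Cfsg.Agent.Lib.Helper07.SpCardD

set_option autoImplicit false

namespace Cfsg.Agent.Lib.Helper99.SpRP

section cyc

theorem exists_orderOf_units (K : Type*) [Field K] [Finite K] (N : ℕ) (hN : N ∣ Nat.card Kˣ) :
    ∃ ξ : Kˣ, orderOf ξ = N := by
  obtain ⟨γ, hγ⟩ := IsCyclic.exists_generator (α := Kˣ)
  have hoγ : orderOf γ = Nat.card Kˣ := orderOf_eq_card_of_forall_mem_zpowers hγ
  have hne : orderOf γ ≠ 0 := by rw [hoγ]; exact Nat.card_pos.ne'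
  exact ⟨γ ^ (orderOf γ / N), orderOf_pow_orderOf_div hne (by rw [hoγ]; exact hN)⟩

end cyc

section torus

variable {F : Type*} [Field F] [Fintype F]

theorem exists_orderOf_even (p : ℕ) [Fact p.Prime] [CharP F p] (η : ℕ) (hη : 0 < η) (N : ℕ)
    (hN : N ∣ Fintype.card F ^ η + 1) :
    ∃ s : Matrix.symplecticGroup (Fin η) F, orderOf s = N := by
  classical
  have : NeZero (2 * η) := ⟨by omega⟩
  let K := FiniteField.Extension F p (2 * η)
  have : Fintype K := Fintype.ofFinite K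
  have hfin : Module.finrank F K = 2 * η := FiniteField.finrank_extension F p (2 * η)
  have hcardK : Nat.card K = Fintype.card F ^ (2 * η) := by
    rw [FiniteField.natCard_extension, Nat.card_eq_fintype_card]
  have hcardU : Nat.card Kˣ = Fintype.card F ^ (2 * η) - 1 := by
    rw [Nat.card_eq_fintype_card, Fintype.card_units, ← Nat.card_eq_fintype_card, hcardK]
  have hdvd : N ∣ Nat.card Kˣ := by
    rw [hcardU]
    have h1 : Fintype.card F ^ (2 * η) - 1 =
        (Fintype.card F ^ η + 1) * (Fintype.card F ^ η - 1) := by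
      have hpos : 1 ≤ Fintype.card F ^ η := Nat.one_le_pow _ _ Fintype.card_pos
      obtain ⟨c, hc⟩ := Nat.exists_eq_add_of_le hpos
      rw [mul_comm 2 η, pow_mul, hc]
      have : (1 + c) ^ 2 - 1 = (1 + c + 1) * (1 + c - 1) := by
        rw [Nat.add_sub_cancel_left]
        have : (1 + c) ^ 2 = (1 + c + 1) * c + 1 := by ring
        rw [this, Nat.add_sub_cancel]
      exact this
    rw [h1]
    exact dvd_mul_of_dvd_left hN _
  obtain ⟨ξ, hξ⟩ := exists_orderOf_units K N hdvd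
  let C : Subgroup Kˣ := (powMonoidHom (Fintype.card F ^ η + 1) : Kˣ →* Kˣ).ker
  have hξC : ξ ∈ C := by
    rw [MonoidHom.mem_ker, powMonoidHom_apply]
    exact orderOf_dvd_iff_pow_eq_one.mp (hξ ▸ hN)
  have hC : ∀ u ∈ C, ((u : Kˣ) : K) ^ (Fintype.card F ^ η + 1) = 1 := by
    intro u hu
    rw [MonoidHom.mem_ker, powMonoidHom_apply] at hu
    rw [← Units.val_pow_eq_pow_val, hu, Units.val_one]
  obtain ⟨φ, hφ⟩ := Cfsg.Agent.Lib.Helper46.exists_hom_Sp_of_torus (F := F) (K := K) η hη hfin η 1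
    (by omega) C hC
  refine ⟨φ (fun _ => ⟨ξ, hξC⟩), ?_⟩
  rw [orderOf_injective φ hφ, ← hξ]
  apply orderOf_eq_orderOf_iff.mpr
  intro j
  constructor
  · intro h
    have h1 := congrFun h 0
    simp only [Pi.pow_apply, Pi.one_apply] at h1
    exact congrArg (fun c : C => (c : Kˣ)) h1
  · intro h
    funext i
    simp only [Pi.pow_apply, Pi.one_apply]
    exact Subtype.ext h

theorem exists_orderOf_odd (p : ℕ) [Fact p.Prime] [CharP F p] (η : ℕ) (hη : 0 < η) (N : ℕ)
    (hN : N ∣ Fintype.card F ^ η - 1) :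
    ∃ s : Matrix.symplecticGroup (Fin η) F, orderOf s = N := by
  classical
  have : NeZero η := ⟨by omega⟩
  let K := FiniteField.Extension F p η
  have : Fintype K := Fintype.ofFinite K
  have hfin : Module.finrank F K = η := FiniteField.finrank_extension F p η
  have hcardK : Nat.card K = Fintype.card F ^ η := by
    rw [FiniteField.natCard_extension, Nat.card_eq_fintype_card]
  have hcardU : Nat.card Kˣ = Fintype.card F ^ η - 1 := by
    rw [Nat.card_eq_fintype_card, Fintype.card_units, ← Nat.card_eq_fintype_card, hcardK]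
  have hdvd : N ∣ Nat.card Kˣ := by rw [hcardU]; exact hN
  obtain ⟨ξ, hξ⟩ := exists_orderOf_units K N hdvd
  let b : Module.Basis (Fin η) F K := Module.finBasisOfFinrankEq F K hfin
  let φ0 : K →* Matrix (Fin η) (Fin η) F :=
    (Algebra.leftMulMatrix b : K →ₐ[F] Matrix (Fin η) (Fin η) F)
  let Ψ : Kˣ →* Matrix.GeneralLinearGroup (Fin η) F := Units.map φ0
  have hΨ : Function.Injective Ψ := Units.map_injective (Algebra.leftMulMatrix_injective b)
  obtain ⟨Ψ', hΨ'⟩ := Cfsg.Agent.Lib.Helper46.exists_hom_Sp Ψ hΨ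
  exact ⟨Ψ' ξ, by rw [orderOf_injective Ψ' hΨ', hξ]⟩

omit [Fintype F] in
theorem exists_orderOf_lift (η m : ℕ) (hle : η ≤ m) (s : Matrix.symplecticGroup (Fin η) F) :
    ∃ s' : Matrix.symplecticGroup (Fin m) F, orderOf s' = orderOf s := by
  refine ⟨Cfsg.Agent.S0776.Psi hle (s, 1), ?_⟩
  rw [orderOf_injective _ (Cfsg.Agent.S0776.Psi_injective hle), Prod.orderOf_mk, orderOf_one,
    Nat.lcm_one_right]

omit [Fintype F] in
theorem exists_orderOf_mul (n a : ℕ) (ha : a ≤ n) (r s : ℕ) (hrs : Nat.Coprime r s)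
    (x : Matrix.symplecticGroup (Fin a) F) (hx : orderOf x = r)
    (y : Matrix.symplecticGroup (Fin (n - a)) F) (hy : orderOf y = s) :
    ∃ g : Matrix.symplecticGroup (Fin n) F, orderOf g = r * s := by
  refine ⟨Cfsg.Agent.S0776.Psi ha (x, y), ?_⟩
  rw [orderOf_injective _ (Cfsg.Agent.S0776.Psi_injective ha), Prod.orderOf_mk, hx, hy]
  exact hrs.lcm_eq_mul

end torus

section arith2

theorem dvd_pow_sub_one_of_order (q r k : ℕ) (hq : 0 < q)
    (hk : k = orderOf ((q : ℕ) : ZMod r)) (t : ℕ) : r ∣ q ^ (k * t) - 1 := by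
  have h0 : (((q ^ (k * t) - 1 : ℕ)) : ZMod r) = 0 := by
    rw [Nat.cast_sub (Nat.one_le_pow _ _ hq), Nat.cast_pow, pow_mul, hk, pow_orderOf_eq_one,
      one_pow, Nat.cast_one, sub_self]
  exact (ZMod.natCast_eq_zero_iff _ _).mp h0

theorem dvd_pow_add_one_of_order (q r k η : ℕ) [Fact r.Prime]
    (hk : k = orderOf ((q : ℕ) : ZMod r)) (hη : 2 * η = k) (hη0 : 0 < η) (t : ℕ) (ht : Odd t) :
    r ∣ q ^ (η * t) + 1 := by
  have hpowk : ((q : ℕ) : ZMod r) ^ k = 1 := by rw [hk]; exact pow_orderOf_eq_one _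
  have hsq : (((q : ℕ) : ZMod r) ^ η) * (((q : ℕ) : ZMod r) ^ η) = 1 := by
    rw [← pow_add, ← two_mul, hη, hpowk]
  have hne1 : ((q : ℕ) : ZMod r) ^ η ≠ 1 := by
    apply pow_ne_one_of_lt_orderOf hη0.ne'
    rw [← hk]; omega
  rcases mul_self_eq_one_iff.mp hsq with h1 | h1
  · exact absurd h1 hne1
  · have h0 : (((q ^ (η * t) + 1 : ℕ)) : ZMod r) = 0 := by
      rw [Nat.cast_add, Nat.cast_pow, pow_mul, h1, ht.neg_one_pow, Nat.cast_one, neg_add_cancel]
    exact (ZMod.natCast_eq_zero_iff _ _).mp h0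

end arith2

section card

variable {F : Type*} [Field F] [Fintype F]

theorem eta_le_of_dvd_card (p : ℕ) [Fact p.Prime] [CharP F p] (n : ℕ) (s : ℕ) (hs : s.Prime)
    (hsp : s ≠ p)
    (hsG : s ∣ Nat.card (Matrix.symplecticGroup (Fin n) F ⧸
      Subgroup.center (Matrix.symplecticGroup (Fin n) F)))
    (l ηl : ℕ) (hl : l = orderOf ((Fintype.card F : ℕ) : ZMod s))
    (hηl : (Odd l ∧ ηl = l) ∨ (Even l ∧ 2 * ηl = l)) : ηl ≤ n := by
  have hpp : p.Prime := Fact.out
  have h1 : s ∣ Nat.card (Matrix.symplecticGroup (Fin n) F) := by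
    rw [Subgroup.card_eq_card_quotient_mul_card_subgroup
      (Subgroup.center (Matrix.symplecticGroup (Fin n) F))]
    exact dvd_trans hsG (dvd_mul_right _ _)
  rw [Cfsg.Agent.Lib.Helper07.card_symplecticGroup rfl n] at h1
  have hsq : ¬ s ∣ Fintype.card F ^ (n ^ 2) := by
    intro h
    obtain ⟨f, _, hf⟩ := FiniteField.card F p
    rw [hf] at h
    have h' := hs.dvd_of_dvd_pow (hs.dvd_of_dvd_pow h)
    exact hsp ((Nat.prime_dvd_prime_iff_eq hs hpp).mp h')
  have h2 := (hs.dvd_mul.mp h1).resolve_left hsq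
  obtain ⟨i, hi, hdvd⟩ := (Prime.dvd_finsetProd_iff (Nat.prime_iff.mp hs) _).mp h2
  rw [Finset.mem_range] at hi
  have h3 : ((Fintype.card F : ℕ) : ZMod s) ^ (2 * (i + 1)) = 1 := by
    have h4 := (ZMod.natCast_eq_zero_iff _ _).mpr hdvd
    rw [Nat.cast_sub (Nat.one_le_pow _ _ Fintype.card_pos), Nat.cast_pow, Nat.cast_one,
      sub_eq_zero] at h4
    exact h4
  have h5 : l ∣ 2 * (i + 1) := by rw [hl]; exact orderOf_dvd_of_pow_eq_one h3
  rcases hηl with ⟨ho, h⟩ | ⟨_, h⟩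
  · have h6 : l ∣ i + 1 := Nat.Coprime.dvd_of_dvd_mul_left (Nat.coprime_two_right.mpr ho) h5
    have := Nat.le_of_dvd (by omega) h6
    omega
  · have h6 : ηl ∣ i + 1 := by
      rw [← h] at h5
      exact Nat.dvd_of_mul_dvd_mul_left (by norm_num) h5
    have := Nat.le_of_dvd (by omega) h6
    omega

end card

end Cfsg.Agent.Lib.Helper99.SpRP
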