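import Mathlib
import Cfsg.Agent.S2495

set_option autoImplicit false

namespace Cfsg.Agent.Lib.Helper99.Spec3

open Polynomial
open Cfsg.Agent.S2495 (gs gs_mul mem_range_of_pow_card)

section CH

variable {F : Type*} [Field F] {n : ℕ}

/-- Cayley--Hamilton: if the characteristic polynomial divides `X ^ N - c` then the `N`-th
power is the scalar `c`. -/
theorem pow_eq_scalar_of_charpoly_dvd (M : Matrix (Fin n) (Fin n) F) (N : ℕ) (c : F)
    (h : M.charpoly ∣ X ^ N - C c) : M ^ N = Matrix.scalar (Fin n) c := by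
  obtain ⟨R, hR⟩ := h
  have h1 := Matrix.aeval_self_charpoly M
  have h2 : aeval M (X ^ N - C c) = 0 := by rw [hR, map_mul, h1, zero_mul]
  rw [map_sub, map_pow, aeval_X, aeval_C, sub_eq_zero] at h2
  rw [h2]; rfl

end CH

section adj

variable {F : Type*} [Field F] [Fintype F]

/-- the norm of the root in the residue field of an irreducible polynomial -/
theorem root_pow_gs (f : F[X]) (hm : f.Monic) [hirr : Fact (Irreducible f)] :
    (AdjoinRoot.root f) ^ gs (Fintype.card F) f.natDegree =
      algebraMap F (AdjoinRoot f) ((-1) ^ f.natDegree * f.coeff 0) := by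
  have hf0 : f ≠ 0 := hm.ne_zero
  have : Module.Finite F (AdjoinRoot f) := (AdjoinRoot.powerBasis hf0).finite
  have : Finite (AdjoinRoot f) := Module.finite_of_finite F
  have hnorm : Algebra.norm F (AdjoinRoot.root f) = (-1) ^ f.natDegree * f.coeff 0 := by
    have h := Algebra.PowerBasis.norm_gen_eq_coeff_zero_minpoly (AdjoinRoot.powerBasis hf0)
    rw [AdjoinRoot.minpoly_powerBasis_gen_of_monic hm hf0] at h
    rw [AdjoinRoot.powerBasis_gen, AdjoinRoot.powerBasis_dim] at h
    exact h
  have h2 := FiniteField.algebraMap_norm_eq_pow (K := F) (K' := AdjoinRoot f)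
    (x := AdjoinRoot.root f)
  rw [hnorm] at h2
  rw [h2]
  congr 1
  have hq2 : 2 ≤ Fintype.card F := Fintype.one_lt_card
  have hcK : Nat.card (AdjoinRoot f) = Fintype.card F ^ f.natDegree := by
    rw [Module.natCard_eq_pow_finrank (K := F) (V := AdjoinRoot f),
      (AdjoinRoot.powerBasis hf0).finrank, AdjoinRoot.powerBasis_dim, Nat.card_eq_fintype_card]
  rw [hcK, Nat.card_eq_fintype_card]
  exact (Nat.div_eq_of_eq_mul_left (by omega) (gs_mul _ _ (by omega)).symm).symm

omit [Fintype F] in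
theorem dvd_X_pow_sub_C_of_root_pow (f : F[X]) (N : ℕ) (c : F)
    (h : (AdjoinRoot.root f) ^ N = algebraMap F (AdjoinRoot f) c) : f ∣ X ^ N - C c := by
  rw [← AdjoinRoot.mk_eq_zero, map_sub, map_pow, AdjoinRoot.mk_X, AdjoinRoot.mk_C, h,
    AdjoinRoot.algebraMap_eq, sub_self]

/-- roots of unity of order dividing `q - 1` lie in the base field -/
theorem mem_range_of_pow_eq_one {K : Type*} [Field K] [Algebra F K] (x : K) (d : ℕ)
    (hd : d ∣ Fintype.card F - 1) (hx : x ^ d = 1) : ∃ c : F, algebraMap F K c = x := by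
  apply mem_range_of_pow_card
  obtain ⟨e, he⟩ := hd
  have hq : 1 ≤ Fintype.card F := Fintype.card_pos
  have : Fintype.card F = d * e + 1 := by omega
  rw [this, pow_succ, pow_mul, hx, one_pow, one_mul]

theorem pow_eq_one_of_dvd {a : F} (ha : a ≠ 0) {N : ℕ} (h : Fintype.card F - 1 ∣ N) :
    a ^ N = 1 := by
  obtain ⟨e, rfl⟩ := h
  rw [pow_mul, FiniteField.pow_card_sub_one_eq_one a ha, one_pow]

end adj

section dict

variable {F : Type*} [Field F] {n : ℕ}

theorem scalar_eq_algebraMap' (c : F) :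
    Matrix.scalar (Fin n) c = algebraMap F (Matrix (Fin n) (Fin n) F) c := rfl

/-- the dictionary between powers in `PSL_n` and scalars, for a commutative algebra embedded in
the matrices -/
theorem mk_pow_eq_one_iff' {A : Type*} [CommRing A] [Algebra F A]
    (φ : A →ₐ[F] Matrix (Fin n) (Fin n) F) (hφ : Function.Injective φ)
    (g : Matrix.SpecialLinearGroup (Fin n) F) (k : A)
    (hgk : (g : Matrix (Fin n) (Fin n) F) = φ k) (j : ℕ) :
    (QuotientGroup.mk g : Matrix.ProjectiveSpecialLinearGroup (Fin n) F) ^ j = 1 ↔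
      ∃ c : F, algebraMap F A c = k ^ j := by
  have hpow : ((g ^ j : Matrix.SpecialLinearGroup (Fin n) F) : Matrix (Fin n) (Fin n) F) =
      φ (k ^ j) := by
    rw [Matrix.SpecialLinearGroup.coe_pow, hgk, map_pow]
  rw [← QuotientGroup.mk_pow, QuotientGroup.eq_one_iff, Matrix.SpecialLinearGroup.mem_center_iff]
  constructor
  · rintro ⟨c, _, hc⟩
    refine ⟨c, ?_⟩
    apply hφ
    rw [φ.commutes, ← scalar_eq_algebraMap', hc, hpow]
  · rintro ⟨c, hc⟩
    have hsc : Matrix.scalar (Fin n) c =
        ((g ^ j : Matrix.SpecialLinearGroup (Fin n) F) : Matrix (Fin n) (Fin n) F) := by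
      rw [hpow, ← hc, φ.commutes, scalar_eq_algebraMap']
    refine ⟨c, ?_, hsc⟩
    have hdet := congrArg Matrix.det hsc
    rw [(g ^ j).2] at hdet
    rw [← hdet]
    simp [Matrix.scalar_apply, Matrix.det_diagonal]

/-- the matrix version of the dictionary -/
theorem mk_pow_eq_one_iff_scalar (g : Matrix.SpecialLinearGroup (Fin n) F) (j : ℕ) :
    (QuotientGroup.mk g : Matrix.ProjectiveSpecialLinearGroup (Fin n) F) ^ j = 1 ↔
      ∃ c : F, (g : Matrix (Fin n) (Fin n) F) ^ j = Matrix.scalar (Fin n) c := by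
  rw [← QuotientGroup.mk_pow, QuotientGroup.eq_one_iff, Matrix.SpecialLinearGroup.mem_center_iff]
  constructor
  · rintro ⟨c, _, hc⟩
    exact ⟨c, by rw [hc, Matrix.SpecialLinearGroup.coe_pow]⟩
  · rintro ⟨c, hc⟩
    have hsc : Matrix.scalar (Fin n) c =
        ((g ^ j : Matrix.SpecialLinearGroup (Fin n) F) : Matrix (Fin n) (Fin n) F) := by
      rw [Matrix.SpecialLinearGroup.coe_pow, hc]
    refine ⟨c, ?_, hsc⟩
    have hdet := congrArg Matrix.det hsc
    rw [(g ^ j).2] at hdet
    rw [← hdet]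
    simp [Matrix.scalar_apply, Matrix.det_diagonal]

end dict

end Cfsg.Agent.Lib.Helper99.Spec3
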