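import Mathlib
import Cfsg.Agent.Lib.Helper69.StNDefs
import Cfsg.Agent.Lib.Helper99.StNA12

set_option autoImplicit false

/-!
# K-StN pack (S2401), leaf E4 (keystone 240115, architect helper69): `Upos_inj`

Route: peel off the last column.  `Ucol X m` is generated by the root elements in the columns `< m`,
`Vcol X l r` by the `X i l t` with `i < l`, `i.val < r`.  `Ucol X (l+1) = Ucol X l * Vcol X l l`,
`φ (Ucol X l)` fixes the basis vector `e_l`, `φ (Vcol X l _)` fixes every `e_c`, `c ≠ l`.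
-/

namespace Cfsg.Agent.Lib.Helper99.StN

open Cfsg.Agent.Lib.Helper69.StN Matrix

variable {n : ℕ} {K : Type*} [Field K] {S : Type*} [Group S] {X : Fin n → Fin n → K → S}

/-- generated by the root elements in the columns `< m` -/
def Ucol (X : Fin n → Fin n → K → S) (m : ℕ) : Subgroup S :=
  Subgroup.closure {g | ∃ i j t, i < j ∧ j.val < m ∧ g = X i j t}

/-- generated by the root elements `X i l t`, `i < l`, `i.val < r` -/
def Vcol (X : Fin n → Fin n → K → S) (l : Fin n) (r : ℕ) : Subgroup S :=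
  Subgroup.closure {g | ∃ i t, i < l ∧ i.val < r ∧ g = X i l t}

/-- matrices fixing the basis column vector `e_c` -/
def colStab (K : Type*) [Field K] {n : ℕ} (c : Fin n) : Subgroup (SpecialLinearGroup (Fin n) K) where
  carrier := {g | (g : Matrix (Fin n) (Fin n) K) *ᵥ Pi.single c 1 = Pi.single c 1}
  one_mem' := by
    show ((1 : SpecialLinearGroup (Fin n) K) : Matrix (Fin n) (Fin n) K) *ᵥ Pi.single c 1 = _
    rw [Matrix.SpecialLinearGroup.coe_one, Matrix.one_mulVec]
  mul_mem' := by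
    intro a b ha hb
    show ((a * b : SpecialLinearGroup (Fin n) K) : Matrix (Fin n) (Fin n) K) *ᵥ Pi.single c 1 = _
    have ha' : (a : Matrix (Fin n) (Fin n) K) *ᵥ Pi.single c 1 = Pi.single c 1 := ha
    have hb' : (b : Matrix (Fin n) (Fin n) K) *ᵥ Pi.single c 1 = Pi.single c 1 := hb
    rw [Matrix.SpecialLinearGroup.coe_mul, ← Matrix.mulVec_mulVec, hb', ha']
  inv_mem' := by
    intro a ha
    show ((a⁻¹ : SpecialLinearGroup (Fin n) K) : Matrix (Fin n) (Fin n) K) *ᵥ Pi.single c 1 = _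
    have ha' : (a : Matrix (Fin n) (Fin n) K) *ᵥ Pi.single c 1 = Pi.single c 1 := ha
    have h : ((a⁻¹ : SpecialLinearGroup (Fin n) K) : Matrix (Fin n) (Fin n) K) *ᵥ
        ((a : Matrix (Fin n) (Fin n) K) *ᵥ Pi.single c 1) = Pi.single c 1 := by
      rw [Matrix.mulVec_mulVec, ← Matrix.SpecialLinearGroup.coe_mul, inv_mul_cancel,
        Matrix.SpecialLinearGroup.coe_one, Matrix.one_mulVec]
    rwa [ha'] at h

/-- matrices fixing the basis row vector `e_r` -/
def rowStab (K : Type*) [Field K] {n : ℕ} (r : Fin n) : Subgroup (SpecialLinearGroup (Fin n) K) where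
  carrier := {g | Pi.single r 1 ᵥ* (g : Matrix (Fin n) (Fin n) K) = Pi.single r 1}
  one_mem' := by
    show Pi.single r 1 ᵥ* ((1 : SpecialLinearGroup (Fin n) K) : Matrix (Fin n) (Fin n) K) = _
    rw [Matrix.SpecialLinearGroup.coe_one, Matrix.vecMul_one]
  mul_mem' := by
    intro a b ha hb
    show Pi.single r 1 ᵥ* ((a * b : SpecialLinearGroup (Fin n) K) : Matrix (Fin n) (Fin n) K) = _
    have ha' : Pi.single r 1 ᵥ* (a : Matrix (Fin n) (Fin n) K) = Pi.single r 1 := ha
    have hb' : Pi.single r 1 ᵥ* (b : Matrix (Fin n) (Fin n) K) = Pi.single r 1 := hb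
    rw [Matrix.SpecialLinearGroup.coe_mul, ← Matrix.vecMul_vecMul, ha', hb']
  inv_mem' := by
    intro a ha
    show Pi.single r 1 ᵥ* ((a⁻¹ : SpecialLinearGroup (Fin n) K) : Matrix (Fin n) (Fin n) K) = _
    have ha' : Pi.single r 1 ᵥ* (a : Matrix (Fin n) (Fin n) K) = Pi.single r 1 := ha
    have h : (Pi.single r 1 ᵥ* (a : Matrix (Fin n) (Fin n) K)) ᵥ*
        ((a⁻¹ : SpecialLinearGroup (Fin n) K) : Matrix (Fin n) (Fin n) K) = Pi.single r 1 := by
      rw [Matrix.vecMul_vecMul, ← Matrix.SpecialLinearGroup.coe_mul, mul_inv_cancel,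
        Matrix.SpecialLinearGroup.coe_one, Matrix.vecMul_one]
    rwa [ha'] at h

theorem transv_mem_colStab {i j c : Fin n} (hij : i ≠ j) (hjc : j ≠ c) (t : K) :
    SpecialLinearGroup.transvection hij t ∈ colStab K c := by
  show ((SpecialLinearGroup.transvection hij t : SpecialLinearGroup (Fin n) K) :
    Matrix (Fin n) (Fin n) K) *ᵥ Pi.single c 1 = Pi.single c 1
  rw [Matrix.SpecialLinearGroup.transvection_coe, Matrix.add_mulVec, Matrix.one_mulVec,
    Matrix.single_mulVec_eq, Pi.single_eq_of_ne hjc, mul_zero, zero_smul, add_zero]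

theorem transv_mem_rowStab {i j r : Fin n} (hij : i ≠ j) (hri : r ≠ i) (t : K) :
    SpecialLinearGroup.transvection hij t ∈ rowStab K r := by
  show Pi.single r 1 ᵥ* ((SpecialLinearGroup.transvection hij t : SpecialLinearGroup (Fin n) K) :
    Matrix (Fin n) (Fin n) K) = Pi.single r 1
  rw [Matrix.SpecialLinearGroup.transvection_coe, Matrix.vecMul_add, Matrix.vecMul_one]
  have : Pi.single r (1 : K) ᵥ* Matrix.single i j t = 0 := by
    ext c
    rw [Matrix.single_vecMul]
    simp [Matrix.single_apply, hri.symm]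
  rw [this, add_zero]

/-- `Vcol X l l` is normalized by the root elements of the earlier columns -/
theorem Vcol_conj (hX : IsSt X) {i j l : Fin n} (hij : i < j) (hjl : j < l) (t : K) :
    ∀ v ∈ Vcol X l l.val, (X i j t)⁻¹ * v * X i j t ∈ Vcol X l l.val := by
  intro v hv
  have hil : i < l := lt_trans hij hjl
  have hy : (X i j t)⁻¹ = X i j (-t) := hX.inv hij.ne t
  have key : ∀ v ∈ Vcol X l l.val, X i j (-t) * v * (X i j (-t))⁻¹ ∈ Vcol X l l.val := by
    intro v hv
    induction hv using Subgroup.closure_induction with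
    | mem g hg =>
      obtain ⟨k, s, hkl, hkr, rfl⟩ := hg
      by_cases hkj : k = j
      · subst hkj
        rw [conj_three hX hij.ne hkl.ne hil.ne (-t) s]
        exact (Vcol X l l.val).mul_mem
          (Subgroup.subset_closure ⟨i, _, hil, Fin.lt_def.mp hil, rfl⟩)
          (Subgroup.subset_closure ⟨k, s, hkl, hkr, rfl⟩)
      · rw [conj_comm hX hij.ne hkl.ne hil.ne (fun h => hkj h.symm) (-t) s]
        exact Subgroup.subset_closure ⟨k, s, hkl, hkr, rfl⟩
    | one => simp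
    | mul a b ha hb iha ihb =>
      have e : X i j (-t) * (a * b) * (X i j (-t))⁻¹ =
          (X i j (-t) * a * (X i j (-t))⁻¹) * (X i j (-t) * b * (X i j (-t))⁻¹) := by group
      rw [e]
      exact mul_mem iha ihb
    | inv a ha iha =>
      have e : X i j (-t) * a⁻¹ * (X i j (-t))⁻¹ = (X i j (-t) * a * (X i j (-t))⁻¹)⁻¹ := by group
      rw [e]
      exact inv_mem iha
  have h := key v hv
  rwa [← hy, inv_inv] at h

/-- `Ucol X (l+1) = Ucol X l * Vcol X l l` -/
theorem Ucol_decomp (hX : IsSt X) (l : Fin n) :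
    ∀ g ∈ Ucol X (l.val + 1), ∃ g' ∈ Ucol X l.val, ∃ v ∈ Vcol X l l.val, g = g' * v := by
  have hstep : ∀ g : S, (∃ g' ∈ Ucol X l.val, ∃ v ∈ Vcol X l l.val, g = g' * v) →
      ∀ (i j : Fin n) (t : K), i < j → j.val < l.val + 1 →
      ∃ g' ∈ Ucol X l.val, ∃ v ∈ Vcol X l l.val, g * X i j t = g' * v := by
    rintro g ⟨g', hg', v, hv, rfl⟩ i j t hij hj
    by_cases hjm : j.val < l.val
    · refine ⟨g' * X i j t,
        (Ucol X l.val).mul_mem hg' (Subgroup.subset_closure ⟨i, j, t, hij, hjm, rfl⟩),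
        (X i j t)⁻¹ * v * X i j t, Vcol_conj hX hij (Fin.lt_def.mpr hjm) t v hv, by group⟩
    · have hjl : j = l := Fin.ext (by omega)
      subst hjl
      refine ⟨g', hg', v * X i j t, ?_, by group⟩
      exact (Vcol X j j.val).mul_mem hv
        (Subgroup.subset_closure ⟨i, t, hij, Fin.lt_def.mp hij, rfl⟩)
  intro g hg
  induction hg using Subgroup.closure_induction_right with
  | one => exact ⟨1, one_mem _, 1, one_mem _, by simp⟩
  | mul_right x hx y hy ih =>
    obtain ⟨i, j, t, hij, hj, rfl⟩ := hy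
    exact hstep x ih i j t hij hj
  | mul_inv_cancel x hx y hy ih =>
    obtain ⟨i, j, t, hij, hj, rfl⟩ := hy
    rw [hX.inv hij.ne]
    exact hstep x ih i j (-t) hij hj

/-- `Vcol X l (r+1) = Vcol X l r * X r l` -/
theorem Vcol_decomp (hX : IsSt X) {l r : Fin n} (hrl : r < l) :
    ∀ v ∈ Vcol X l (r.val + 1), ∃ v' ∈ Vcol X l r.val, ∃ t : K, v = v' * X r l t := by
  have hstep : ∀ v : S, (∃ v' ∈ Vcol X l r.val, ∃ t : K, v = v' * X r l t) →
      ∀ (i : Fin n) (s : K), i < l → i.val < r.val + 1 →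
      ∃ v' ∈ Vcol X l r.val, ∃ t : K, v * X i l s = v' * X r l t := by
    rintro v ⟨v', hv', t, rfl⟩ i s hil hir
    by_cases hi : i.val < r.val
    · refine ⟨v' * X i l s, mul_mem hv' (Subgroup.subset_closure ⟨i, s, hil, hi, rfl⟩), t, ?_⟩
      have hc := hX.comm r l i l hrl.ne hil.ne hrl.ne hil.ne.symm t s
      rw [mul_assoc, hc, ← mul_assoc]
    · have hir' : i = r := Fin.ext (by omega)
      subst hir'
      exact ⟨v', hv', t + s, by rw [mul_assoc, hX.add i l hil.ne]⟩
  intro v hv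
  induction hv using Subgroup.closure_induction_right with
  | one => exact ⟨1, one_mem _, 0, by rw [hX.zero hrl.ne, mul_one]⟩
  | mul_right x hx y hy ih =>
    obtain ⟨i, s, hil, hir, rfl⟩ := hy
    exact hstep x ih i s hil hir
  | mul_inv_cancel x hx y hy ih =>
    obtain ⟨i, s, hil, hir, rfl⟩ := hy
    rw [hX.inv hil.ne]
    exact hstep x ih i (-s) hil hir

theorem phi_Ucol_mem_colStab {φ : S →* SpecialLinearGroup (Fin n) K} (hφ : IsPhi X φ) (l : Fin n) :
    ∀ g ∈ Ucol X l.val, φ g ∈ colStab K l := by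
  have h : Ucol X l.val ≤ (colStab K l).comap φ := by
    unfold Ucol
    rw [Subgroup.closure_le]
    rintro g ⟨i, j, t, hij, hj, rfl⟩
    show φ (X i j t) ∈ colStab K l
    rw [hφ i j hij.ne t]
    exact transv_mem_colStab hij.ne (fun h => by rw [h] at hj; exact lt_irrefl _ hj) t
  exact fun g hg => h hg

theorem phi_Vcol_mem_colStab {φ : S →* SpecialLinearGroup (Fin n) K} (hφ : IsPhi X φ) (l : Fin n)
    (r : ℕ) {c : Fin n} (hc : c ≠ l) : ∀ v ∈ Vcol X l r, φ v ∈ colStab K c := by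
  have h : Vcol X l r ≤ (colStab K c).comap φ := by
    unfold Vcol
    rw [Subgroup.closure_le]
    rintro g ⟨i, t, hil, hi, rfl⟩
    show φ (X i l t) ∈ colStab K c
    rw [hφ i l hil.ne t]
    exact transv_mem_colStab hil.ne hc.symm t
  exact fun v hv => h hv

theorem phi_Vcol_mem_rowStab {φ : S →* SpecialLinearGroup (Fin n) K} (hφ : IsPhi X φ) (l r : Fin n) :
    ∀ v ∈ Vcol X l r.val, φ v ∈ rowStab K r := by
  have h : Vcol X l r.val ≤ (rowStab K r).comap φ := by
    unfold Vcol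
    rw [Subgroup.closure_le]
    rintro g ⟨i, t, hil, hi, rfl⟩
    show φ (X i l t) ∈ rowStab K r
    rw [hφ i l hil.ne t]
    exact transv_mem_rowStab hil.ne (fun h => by rw [h] at hi; exact lt_irrefl _ hi) t
  exact fun v hv => h hv

/-- `φ` is injective on the column groups -/
theorem Vcol_inj (hX : IsSt X) {φ : S →* SpecialLinearGroup (Fin n) K} (hφ : IsPhi X φ) (l : Fin n) :
    ∀ r : ℕ, r ≤ l.val → ∀ v ∈ Vcol X l r, φ v = 1 → v = 1 := by
  intro r
  induction r with
  | zero =>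
    intro _ v hv _
    have hbot : Vcol X l 0 = ⊥ := by
      unfold Vcol
      rw [Subgroup.closure_eq_bot_iff]
      rintro g ⟨i, t, _, hi, _⟩
      exact absurd hi (Nat.not_lt_zero _)
    rw [hbot] at hv
    exact Subgroup.mem_bot.mp hv
  | succ r ih =>
    intro hr v hv hφv
    have hrn : r < n := lt_of_lt_of_le hr (le_of_lt l.isLt)
    have hrl : (⟨r, hrn⟩ : Fin n) < l := Fin.lt_def.mpr hr
    obtain ⟨v', hv', t, rfl⟩ := Vcol_decomp hX hrl v hv
    have hrow : Pi.single (⟨r, hrn⟩ : Fin n) (1 : K) ᵥ*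
        ((φ v' : SpecialLinearGroup (Fin n) K) : Matrix (Fin n) (Fin n) K) = Pi.single ⟨r, hrn⟩ 1 :=
      phi_Vcol_mem_rowStab hφ l ⟨r, hrn⟩ v' hv'
    have e1 : ∀ M : Matrix (Fin n) (Fin n) K,
        M ⟨r, hrn⟩ l = (Pi.single (⟨r, hrn⟩ : Fin n) (1 : K) ᵥ* M) l := by
      intro M
      rw [Matrix.single_vecMul]
      simp
    have hmat : ((φ (v' * X ⟨r, hrn⟩ l t) : SpecialLinearGroup (Fin n) K) :
        Matrix (Fin n) (Fin n) K) ⟨r, hrn⟩ l = t := by
      rw [map_mul, hφ ⟨r, hrn⟩ l hrl.ne t, Matrix.SpecialLinearGroup.coe_mul]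
      rw [e1 (((φ v' : Matrix.SpecialLinearGroup (Fin n) K) : Matrix (Fin n) (Fin n) K) *
        ((Matrix.SpecialLinearGroup.transvection hrl.ne t : Matrix.SpecialLinearGroup (Fin n) K) :
          Matrix (Fin n) (Fin n) K))]
      rw [← Matrix.vecMul_vecMul, hrow, ← e1, Matrix.SpecialLinearGroup.transvection_coe]
      simp [Matrix.add_apply, hrl.ne]
    have ht : t = 0 := by
      rw [hφv, Matrix.SpecialLinearGroup.coe_one, Matrix.one_apply_ne hrl.ne] at hmat
      exact hmat.symm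
    rw [ht, hX.zero hrl.ne, mul_one] at hφv ⊢
    exact ih (Nat.le_of_succ_le hr) v' hv' hφv

theorem Ucol_inj (hX : IsSt X) {φ : S →* SpecialLinearGroup (Fin n) K} (hφ : IsPhi X φ) :
    ∀ m : ℕ, m ≤ n → ∀ g ∈ Ucol X m, φ g = 1 → g = 1 := by
  intro m
  induction m with
  | zero =>
    intro _ g hg _
    have hbot : Ucol X 0 = ⊥ := by
      unfold Ucol
      rw [Subgroup.closure_eq_bot_iff]
      rintro g ⟨i, j, t, _, hj, _⟩
      exact absurd hj (Nat.not_lt_zero _)
    rw [hbot] at hg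
    exact Subgroup.mem_bot.mp hg
  | succ m ih =>
    intro hm g hg hφg
    have hmn : m < n := hm
    obtain ⟨g', hg', v, hv, rfl⟩ := Ucol_decomp hX (⟨m, hmn⟩ : Fin n) g hg
    have h1 : φ g' ∈ colStab K (⟨m, hmn⟩ : Fin n) := phi_Ucol_mem_colStab hφ ⟨m, hmn⟩ g' hg'
    have h2 : ∀ c : Fin n, c ≠ ⟨m, hmn⟩ → φ v ∈ colStab K c := fun c hc =>
      phi_Vcol_mem_colStab hφ ⟨m, hmn⟩ m hc v hv
    have h3 : φ g' = (φ v)⁻¹ := by
      rw [map_mul] at hφg
      exact eq_inv_of_mul_eq_one_left hφg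
    have h4 : φ g' = 1 := by
      apply Subtype.ext
      apply Matrix.ext_of_mulVec_single
      intro c
      rw [Matrix.SpecialLinearGroup.coe_one, Matrix.one_mulVec]
      by_cases hc : c = ⟨m, hmn⟩
      · subst hc
        exact h1
      · rw [h3]
        exact (colStab K c).inv_mem (h2 c hc)
    have h5 : g' = 1 := ih (Nat.le_of_succ_le hm) g' hg' h4
    have h6 : φ v = 1 := by
      rw [h3] at h4
      exact inv_eq_one.mp h4
    have h7 : v = 1 := Vcol_inj hX hφ ⟨m, hmn⟩ m le_rfl v hv h6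
    rw [h5, h7, mul_one]

theorem Upos_le_Ucol : Upos X ≤ Ucol X n := by
  apply Subgroup.closure_mono
  rintro g ⟨i, j, t, hij, rfl⟩
  exact ⟨i, j, t, hij, j.isLt, rfl⟩

/-- **K-StN-E4** -/
theorem Upos_inj (hX : IsSt X) {φ : S →* SpecialLinearGroup (Fin n) K} (hφ : IsPhi X φ) :
    ∀ g ∈ Upos X, φ g = 1 → g = 1 :=
  fun g hg h => Ucol_inj hX hφ n le_rfl g (Upos_le_Ucol hg) h

end Cfsg.Agent.Lib.Helper99.StN
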