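import Mathlib
import Cfsg.Prelude.Def_Characters
import Cfsg.Agent.Lib.Helper84.CliffordDegree
import Cfsg.Agent.Lib.Helper82.DefectZero
import Cfsg.Agent.Lib.Helper83.Quotient
import Cfsg.Agent.Lib.Helper33.IrrComp

/-!
# K-StOp pack (S2548), leaf EX1 (keystone 254832, architect helper49):
defect zero passes to a normal subgroup of `p`-power index
-/

set_option autoImplicit false
set_option linter.unusedSectionVars false
set_option linter.unusedVariables false
set_option linter.style.haveILetI false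

namespace Cfsg.Agent.Lib.Helper99.StOp

open Cfsg
open scoped ComplexConjugate

universe u

/-- `X` has an irreducible character whose degree is the full `p`-part of `|X|`. -/
def DZ (p : ℕ) (X : Type u) [Group X] : Prop :=
  ∃ χ : X → ℂ, IsIrrCharacter X χ ∧ charDegree χ = p ^ (Nat.card X).factorization p

theorem dz_of_mulEquiv {X Y : Type u} [Group X] [Group Y] (p : ℕ) (e : X ≃* Y) (h : DZ p Y) :
    DZ p X := by
  obtain ⟨χ, hχ, hd⟩ := h
  refine ⟨fun x => χ (e.toMonoidHom x), ?_, ?_⟩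
  · exact Cfsg.Agent.Lib.Helper33.isIrrCharacter_comp_of_surjective e.toMonoidHom e.surjective hχ
  · have h1 : charDegree (fun x => χ (e.toMonoidHom x)) = charDegree χ := by
      unfold charDegree
      simp
    rw [h1, hd, Nat.card_congr e.toEquiv]

/-- the Steinberg-like property gives defect zero -/
theorem dz_of_st {X : Type u} [Group X] [Finite X] (p : ℕ) [Fact p.Prime]
    (h : ∃ χ : X → ℂ, IsIrrCharacter X χ ∧ ∀ Q : Sylow p X, χ 1 = Nat.card Q ∧
      ∀ x : X, x ∈ Q → x ≠ 1 → χ x = 0) : DZ p X := by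
  obtain ⟨χ, hχ, hQ⟩ := h
  obtain ⟨Q⟩ : Nonempty (Sylow p X) := inferInstance
  refine ⟨χ, hχ, ?_⟩
  have h1 : χ 1 = ((p ^ (Nat.card X).factorization p : ℕ) : ℂ) := by
    rw [(hQ Q).1, Sylow.card_eq_multiplicity]
  unfold charDegree
  rw [h1, Complex.natCast_re, Nat.floor_natCast]

/-- defect zero gives the Steinberg-like property -/
theorem st_of_dz {X : Type u} [Group X] [Finite X] (p : ℕ) [Fact p.Prime] (h : DZ p X) :
    ∃ χ : X → ℂ, IsIrrCharacter X χ ∧ ∀ Q : Sylow p X, χ 1 = Nat.card Q ∧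
      ∀ x : X, x ∈ Q → x ≠ 1 → χ x = 0 := by
  classical
  haveI : Fintype X := Fintype.ofFinite X
  have hp : p.Prime := Fact.out
  obtain ⟨χ, hχ, hd⟩ := h
  refine ⟨χ, hχ, ?_⟩
  intro Q
  have hχc : IsCharacter X χ := Cfsg.Agent.Lib.Helper83.isCharacter_of_irr hχ
  have hcardQ : Nat.card Q = p ^ (Nat.card X).factorization p := Sylow.card_eq_multiplicity Q
  refine ⟨?_, ?_⟩
  · rw [← Cfsg.Agent.Lib.Helper83.charDegree_cast hχc, hd, hcardQ]
  · intro x hx hx1
    obtain ⟨M, hM⟩ := Cfsg.Agent.Lib.Helper82.exists_isPModular p hp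
    have hnd : ¬ p ∣ Nat.card X / charDegree χ := by
      rw [hd]
      exact Nat.not_dvd_ordCompl hp Nat.card_pos.ne'
    have hblock := Cfsg.Agent.Lib.Helper82.blockOf_eq_singleton_of_not_dvd hM ⟨χ, hχ⟩ hnd
    have hox : p ∣ orderOf x := by
      obtain ⟨k, hk⟩ := (IsPGroup.iff_orderOf.mp Q.isPGroup') ⟨x, hx⟩
      rw [Subgroup.orderOf_mk] at hk
      rw [hk]
      apply dvd_pow_self
      rintro rfl
      rw [pow_zero, orderOf_eq_one_iff] at hk
      exact hx1 hk
    exact Cfsg.Agent.Lib.Helper82.eq_zero_of_blockOf_eq_singleton hM ⟨χ, hχ⟩ hblock x hox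

/-- the step of index `p` -/
theorem dz_step {G : Type u} [Group G] [Finite G] (p : ℕ) [Fact p.Prime] (N : Subgroup G)
    [hN : N.Normal] (hidx : N.index = p) (h : DZ p G) : DZ p N := by
  classical
  haveI : Fintype G := Fintype.ofFinite G
  haveI : Fintype N := Fintype.ofFinite N
  haveI : Fintype (IrrCharacter N) := Fintype.ofFinite _
  have hp : p.Prime := Fact.out
  obtain ⟨χ, hχ, hd⟩ := h
  have hχc : IsCharacter G χ := Cfsg.Agent.Lib.Helper83.isCharacter_of_irr hχ
  -- `χ` vanishes off `N`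
  obtain ⟨M, hM⟩ := Cfsg.Agent.Lib.Helper82.exists_isPModular p hp
  have hnd : ¬ p ∣ Nat.card G / charDegree χ := by
    rw [hd]
    exact Nat.not_dvd_ordCompl hp Nat.card_pos.ne'
  have hblock := Cfsg.Agent.Lib.Helper82.blockOf_eq_singleton_of_not_dvd hM ⟨χ, hχ⟩ hnd
  have hvan : ∀ g : G, g ∉ N → χ g = 0 := by
    intro g hg
    apply Cfsg.Agent.Lib.Helper82.eq_zero_of_blockOf_eq_singleton hM ⟨χ, hχ⟩ hblock g
    have h1 : orderOf (QuotientGroup.mk' N g) ∣ orderOf g := orderOf_map_dvd _ g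
    have h2 : orderOf (QuotientGroup.mk' N g) ∣ p := by
      have := orderOf_dvd_natCard (QuotientGroup.mk' N g)
      rwa [← Subgroup.index_eq_card, hidx] at this
    have h3 : orderOf (QuotientGroup.mk' N g) ≠ 1 := by
      rw [Ne, orderOf_eq_one_iff]
      intro h
      exact hg ((QuotientGroup.eq_one_iff g).mp h)
    rcases (Nat.dvd_prime hp).mp h2 with h4 | h4
    · exact absurd h4 h3
    · rw [← h4]; exact h1
  -- a constituent of the restriction
  set r : N → ℂ := fun n => χ n with hrdef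
  have hr : IsCharacter N r := Cfsg.Agent.Lib.Helper83.isCharacter_restrict N hχc
  have hex : ∃ θ : IrrCharacter N, Cfsg.Agent.Lib.Helper83.irrMult r θ ≠ 0 := by
    by_contra hcon
    push Not at hcon
    have h1 := Cfsg.Agent.Lib.Helper83.char_eq_sum_irrMult hr
    have h2 : (∑ ψ : IrrCharacter N,
        (Cfsg.Agent.Lib.Helper83.irrMult r ψ : ℂ) • (ψ : N → ℂ)) = 0 := by
      apply Finset.sum_eq_zero
      intro θ _
      rw [hcon θ, Nat.cast_zero, zero_smul]
    have h3 : r = 0 := h1.trans h2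
    have h4 : χ 1 = 0 := by
      have := congrFun h3 1
      simpa [hrdef] using this
    exact Cfsg.Agent.Lib.Helper82.IsIrrCharacter.apply_one_ne_zero hχ h4
  obtain ⟨θ, hθm⟩ := hex
  obtain ⟨m, hmdef⟩ : ∃ m : ℕ, m = Cfsg.Agent.Lib.Helper83.irrMult r θ := ⟨_, rfl⟩
  rw [← hmdef] at hθm
  have hmc : classInner r (θ : N → ℂ) = (m : ℂ) := by
    rw [hmdef]; exact (Cfsg.Agent.Lib.Helper83.irrMult_cast hr θ).symm
  have hdeg := Cfsg.Agent.Lib.Helper84.clifford_degree hN ⟨χ, hχ⟩ θ m hmc hθm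
  obtain ⟨t, htdef⟩ : ∃ t : ℕ, t = (Cfsg.Agent.Lib.Helper85.conjStab hN (θ : N → ℂ)).index :=
    ⟨_, rfl⟩
  rw [← htdef] at hdeg
  have hθcf : IsClassFunction N (θ : N → ℂ) :=
    Cfsg.Agent.Lib.Helper83.char_isClassFunction (Cfsg.Agent.Lib.Helper83.IrrCharacter_isCharacter θ)
  have htp : t ∣ p := by
    rw [htdef, ← hidx]
    exact Subgroup.index_dvd_of_le (Cfsg.Agent.Lib.Helper85.le_conjStab hN hθcf)
  -- the norm of the restriction, first computation: it is `p`
  have hcardmul : (Nat.card N : ℂ) * (p : ℂ) = (Nat.card G : ℂ) := by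
    have := Subgroup.card_mul_index N
    rw [hidx] at this
    exact_mod_cast this
  have hNne : (Nat.card N : ℂ) ≠ 0 := Nat.cast_ne_zero.mpr Nat.card_pos.ne'
  have hGne : (Nat.card G : ℂ) ≠ 0 := Nat.cast_ne_zero.mpr Nat.card_pos.ne'
  have hnorm1 : classInner r r = (p : ℂ) := by
    have h1 : classInner χ χ = 1 := Cfsg.Agent.Lib.Helper83.irr_inner_self ⟨χ, hχ⟩
    rw [Cfsg.Agent.Lib.Helper83.classInner_def] at h1 ⊢
    have h2 : ∑ n : N, r n * conj (r n) = ∑ g : G, χ g * conj (χ g) := by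
      rw [Cfsg.Agent.Lib.Helper83.sum_subgroup_eq_sum_ite N (fun g => χ g * conj (χ g))]
      apply Finset.sum_congr rfl
      intro g _
      split_ifs with hg
      · rfl
      · rw [hvan g hg, zero_mul]
    rw [h2]
    have h3 : ∑ g : G, χ g * conj (χ g) = (Nat.card G : ℂ) := by
      have := congrArg (fun z => (Nat.card G : ℂ) * z) h1
      simp only [mul_one] at this
      rw [← mul_assoc, mul_inv_cancel₀ hGne, one_mul] at this
      exact this
    rw [h3, ← hcardmul, ← mul_assoc, inv_mul_cancel₀ hNne, one_mul]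
  -- second computation: it is `m * (t * m)`
  have hconst : classInner (fun n : N => χ n) (θ : N → ℂ) ≠ 0 := by
    show classInner r (θ : N → ℂ) ≠ 0
    rw [hmc]
    exact_mod_cast hθm
  have hcl := Cfsg.Agent.Lib.Helper85.clifford_finset hN hχ θ.2 hconst
  have hScard := Cfsg.Agent.Lib.Helper85.card_conj_orbit_eq_index hN (θ : N → ℂ)
  rw [← htdef] at hScard
  have hnorm2 : classInner r r = (m : ℂ) * ((t : ℂ) * (m : ℂ)) := by
    have h1 : classInner r r = classInner (classInner (fun n : N => χ n) (θ : N → ℂ) •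
        ∑ ψ ∈ (Finset.univ.image (fun g : G => Cfsg.Agent.Lib.Helper85.conjFun hN (θ : N → ℂ) g)), ψ) r := by
      rw [← hcl]
    rw [h1, Cfsg.Agent.Lib.Helper83.classInner_smul_left, Cfsg.Agent.Lib.Helper83.classInner_sum_left]
    have h2 : ∀ ψ ∈ (Finset.univ.image (fun g : G => Cfsg.Agent.Lib.Helper85.conjFun hN (θ : N → ℂ) g)),
        classInner ψ r = (m : ℂ) := by
      intro ψ hψ
      rw [Finset.mem_image] at hψ
      obtain ⟨g, -, rfl⟩ := hψ
      rw [← Cfsg.Agent.Lib.Helper83.classInner_conj_symm]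
      have h3 : classInner r (Cfsg.Agent.Lib.Helper85.conjFun hN (θ : N → ℂ) g) = (m : ℂ) := by
        rw [← hmc]
        exact Cfsg.Agent.Lib.Helper85.classInner_restrict_conjFun hN
          (Cfsg.Agent.Lib.Helper83.char_isClassFunction hχc) (θ : N → ℂ) g
      rw [h3, Complex.conj_natCast]
    rw [Finset.sum_congr rfl h2, Finset.sum_const, hScard, nsmul_eq_mul]
    show classInner r (θ : N → ℂ) * _ = _
    rw [hmc]
  have hnat : m * (t * m) = p := by
    have : ((m * (t * m) : ℕ) : ℂ) = (p : ℂ) := by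
      push_cast
      rw [← hnorm2, hnorm1]
    exact_mod_cast this
  -- `t = p`, `m = 1`
  have hp1 : p ≠ 1 := hp.one_lt.ne'
  have hppos : 0 < p := hp.pos
  have htm : t = p ∧ m = 1 := by
    rcases (Nat.dvd_prime hp).mp htp with ht | ht
    · exfalso
      rw [ht, one_mul] at hnat
      have hmp : m ∣ p := ⟨m, hnat.symm⟩
      rcases (Nat.dvd_prime hp).mp hmp with h1 | h1
      · rw [h1] at hnat; exact hp1 hnat.symm
      · rw [h1] at hnat
        have : p * p = p * 1 := by rw [hnat, mul_one]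
        exact hp1 (Nat.eq_of_mul_eq_mul_left hppos this)
    · refine ⟨ht, ?_⟩
      rw [ht] at hnat
      have h1 : p * (m * m) = p * 1 := by
        rw [mul_one]
        calc p * (m * m) = m * (p * m) := by ring
          _ = p := hnat
      have h2 : m * m = 1 := Nat.eq_of_mul_eq_mul_left hppos h1
      exact Nat.eq_one_of_mul_eq_one_left h2
  obtain ⟨ht, hm1⟩ := htm
  rw [ht, hm1, one_mul, hd] at hdeg
  -- the `p`-parts
  have hcardN : Nat.card N * p = Nat.card G := by
    have := Subgroup.card_mul_index N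
    rwa [hidx] at this
  have hfac : (Nat.card G).factorization p = (Nat.card N).factorization p + 1 := by
    rw [← hcardN, Nat.factorization_mul Nat.card_pos.ne' hp.ne_zero]
    simp [hp.factorization_self]
  refine ⟨(θ : N → ℂ), θ.2, ?_⟩
  rw [hfac, pow_succ, mul_comm] at hdeg
  exact (Nat.eq_of_mul_eq_mul_left hppos hdeg).symm

/-- the chain -/
theorem dz_normal_pow (p : ℕ) [Fact p.Prime] : ∀ (k : ℕ) (G : Type u) [Group G] [Finite G]
    (H : Subgroup G) [H.Normal], H.index = p ^ k → DZ p G → DZ p H := by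
  have hp : p.Prime := Fact.out
  intro k
  induction k with
  | zero =>
    intro G _ _ H _ hidx h
    have hH : H = ⊤ := Subgroup.index_eq_one.mp (by simpa using hidx)
    subst hH
    exact dz_of_mulEquiv p Subgroup.topEquiv h
  | succ k ih =>
    intro G _ _ H _ hidx h
    have hcardQ : Nat.card (G ⧸ H) = p ^ (k + 1) := by
      rw [← Subgroup.index_eq_card, hidx]
    obtain ⟨Kb, hKb⟩ := Sylow.exists_subgroup_card_pow_prime (G := G ⧸ H) p
      (n := k) (by rw [hcardQ]; exact pow_dvd_pow p (Nat.le_succ k))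
    have hKbidx : Kb.index = p := by
      have h1 := Subgroup.card_mul_index Kb
      rw [hKb, hcardQ, pow_succ] at h1
      exact Nat.eq_of_mul_eq_mul_left (pow_pos hp.pos k) h1
    haveI hKbn : Kb.Normal := by
      apply Subgroup.normal_of_index_eq_minFac_card
      rw [hKbidx, hcardQ, Nat.Prime.pow_minFac hp (Nat.succ_ne_zero k)]
    obtain ⟨K, hKdef⟩ : ∃ K : Subgroup G, K = Kb.comap (QuotientGroup.mk' H) := ⟨_, rfl⟩
    haveI hKn : K.Normal := by
      rw [hKdef]; infer_instance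
    have hKidx : K.index = p := by
      rw [hKdef, Subgroup.index_comap_of_surjective _ (QuotientGroup.mk'_surjective H), hKbidx]
    have hHK : H ≤ K := by
      intro x hx
      rw [hKdef, Subgroup.mem_comap]
      have : QuotientGroup.mk' H x = 1 := (QuotientGroup.eq_one_iff x).mpr hx
      rw [this]
      exact Kb.one_mem
    have hK : DZ p K := dz_step p K hKidx h
    have hrel : (H.subgroupOf K).index = p ^ k := by
      have h1 := Subgroup.relIndex_mul_index hHK
      rw [hKidx, hidx, pow_succ] at h1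
      exact Nat.eq_of_mul_eq_mul_right hp.pos h1
    have h2 : DZ p ↥(H.subgroupOf K) := ih ↥K (H.subgroupOf K) hrel hK
    exact dz_of_mulEquiv p (Subgroup.subgroupOfEquivOfLe hHK).symm h2

/-- **K-StOp-EX1** -/
theorem exists_defect_zero_restrict {G : Type*} [Group G] [Finite G] (H : Subgroup G) [H.Normal]
    (p : ℕ) [Fact p.Prime] (hidx : ∃ k : ℕ, H.index = p ^ k)
    (hZG : Subgroup.center G = ⊥) (hZH : Subgroup.center ↥H = ⊥)
    (hχ : ∃ χ : G ⧸ Subgroup.center G → ℂ, Cfsg.IsIrrCharacter (G ⧸ Subgroup.center G) χ ∧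
      ∀ Q : Sylow p (G ⧸ Subgroup.center G), χ 1 = Nat.card Q ∧
        ∀ x : G ⧸ Subgroup.center G, x ∈ Q → x ≠ 1 → χ x = 0) :
    ∃ θ : ↥H ⧸ Subgroup.center ↥H → ℂ, Cfsg.IsIrrCharacter (↥H ⧸ Subgroup.center ↥H) θ ∧
      ∀ Q : Sylow p (↥H ⧸ Subgroup.center ↥H), θ 1 = Nat.card Q ∧
        ∀ x : ↥H ⧸ Subgroup.center ↥H, x ∈ Q → x ≠ 1 → θ x = 0 := by
  obtain ⟨k, hk⟩ := hidx
  have eG : G ≃* G ⧸ Subgroup.center G :=
    ((QuotientGroup.quotientMulEquivOfEq hZG).trans QuotientGroup.quotientBot).symm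
  have eH : ↥H ⧸ Subgroup.center ↥H ≃* ↥H :=
    (QuotientGroup.quotientMulEquivOfEq hZH).trans QuotientGroup.quotientBot
  have h1 : DZ p (G ⧸ Subgroup.center G) := dz_of_st p hχ
  have h2 : DZ p G := dz_of_mulEquiv p eG h1
  have h3 : DZ p ↥H := dz_normal_pow p k G H hk h2
  have h4 : DZ p (↥H ⧸ Subgroup.center ↥H) := dz_of_mulEquiv p eH h3
  exact st_of_dz p h4

end Cfsg.Agent.Lib.Helper99.StOp
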