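import Mathlib
import Cfsg.Prelude.Def_CaseTheorems

/-!
Generic transport lemmas: a finite group containing explicit elements generating a wreathed
(resp. quasi-dihedral) 2-subgroup of full 2-power order has wreathed (resp. quasi-dihedral)
Sylow 2-subgroups.
-/

set_option autoImplicit false

namespace Cfsg.Agent.Lib.Helper99

section grp
variable {G : Type*} [Group G]

theorem sylow2_exists_conj_mem [Finite G] (P : Sylow 2 G) (H : Subgroup G) (hH : IsPGroup 2 H) :
    ∃ g : G, ∀ h ∈ H, g * h * g⁻¹ ∈ (P : Subgroup G) := by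
  obtain ⟨Q, hQ⟩ := hH.exists_le_sylow
  obtain ⟨g, hg⟩ := MulAction.exists_smul_eq G Q P
  refine ⟨g, fun h hh => ?_⟩
  have h1 := Subgroup.smul_mem_pointwise_smul h (MulAut.conj g) (Q : Subgroup G) (hQ hh)
  rw [← Sylow.pointwise_smul_def, ← Sylow.smul_def, hg] at h1
  simpa [MulAut.smul_def, MulAut.conj_apply] using h1

theorem mem_normalizer_of_invol' (K : Subgroup G) (g : G) (hg : g * g = 1)
    (h1 : ∀ k ∈ K, g * k * g⁻¹ ∈ K) : g ∈ Subgroup.normalizer (K : Set G) := by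
  have hgi : g⁻¹ = g := inv_eq_of_mul_eq_one_left hg
  rw [Subgroup.mem_normalizer_iff]
  intro k
  refine ⟨h1 k, fun hk => ?_⟩
  have := h1 _ hk
  rw [hgi] at this
  have e : g * (g * k * g) * g = k := by
    calc g * (g * k * g) * g = (g * g) * k * (g * g) := by group
      _ = k := by rw [hg, one_mul, mul_one]
  rwa [e] at this

theorem isPGroup_two_zpowers (x : G) (n : ℕ) (hx : orderOf x = 2 ^ n) :
    IsPGroup 2 (Subgroup.zpowers x) := by
  apply IsPGroup.of_card (n := n)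
  rw [Nat.card_zpowers, hx]

theorem orderOf_conj_eq (g x : G) : orderOf (g * x * g⁻¹) = orderOf x := by
  have := orderOf_injective (MulAut.conj g).toMonoidHom (MulAut.conj g).injective x
  simpa [MulAut.conj_apply] using this

theorem exists_orderOf_eq_of_dvd_card [Finite G] [IsCyclic G] (d : ℕ) (hd : d ∣ Nat.card G) :
    ∃ x : G, orderOf x = d := by
  obtain ⟨g, hg⟩ := IsCyclic.exists_ofOrder_eq_natCard (α := G)
  obtain ⟨e, he⟩ := hd
  have hpos : 0 < Nat.card G := Nat.card_pos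
  have hd0 : d ≠ 0 := by rintro rfl; simp at he; omega
  have he0 : e ≠ 0 := by rintro rfl; simp at he; omega
  refine ⟨g ^ e, ?_⟩
  rw [orderOf_pow_of_dvd he0 (by rw [hg, he]; exact dvd_mul_left _ _), hg, he]
  exact Nat.mul_div_cancel _ (Nat.pos_of_ne_zero he0)

theorem conj_map_sup_zpowers (z x y : G) (hx : z * x * z⁻¹ = y)
    (hy : z * y * z⁻¹ = x) (k : G) (hk : k ∈ Subgroup.zpowers x ⊔ Subgroup.zpowers y) :
    z * k * z⁻¹ ∈ Subgroup.zpowers x ⊔ Subgroup.zpowers y := by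
  have h1 : (Subgroup.zpowers x ⊔ Subgroup.zpowers y).map (MulAut.conj z).toMonoidHom =
      Subgroup.zpowers x ⊔ Subgroup.zpowers y := by
    rw [Subgroup.map_sup, MonoidHom.map_zpowers, MonoidHom.map_zpowers]
    simp only [MulEquiv.coe_toMonoidHom, MulAut.conj_apply, hx, hy]
    exact sup_comm _ _
  have h2 : (MulAut.conj z).toMonoidHom k ∈
      (Subgroup.zpowers x ⊔ Subgroup.zpowers y).map (MulAut.conj z).toMonoidHom :=
    Subgroup.mem_map_of_mem _ hk
  rw [h1] at h2
  simpa [MulAut.conj_apply] using h2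

/-- Wreathed Sylow 2-subgroups from explicit elements. -/
theorem isWreathed_sylow_of_elements [Finite G] (P : Sylow 2 G) (n : ℕ) (hn : 2 ≤ n)
    (hcard : (Nat.card G).factorization 2 = 2 * n + 1)
    (x y z : G) (hox : orderOf x = 2 ^ n) (hxy : x * y = y * x)
    (hdisj : Subgroup.zpowers x ⊓ Subgroup.zpowers y = ⊥) (hzz : z * z = 1) (hz1 : z ≠ 1)
    (hzx : z * x * z⁻¹ = y) : Cfsg.IsWreathed (P : Subgroup G) := by
  classical
  have hzi : z⁻¹ = z := inv_eq_of_mul_eq_one_left hzz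
  have hzy : z * y * z⁻¹ = x := by
    rw [← hzx, hzi]
    calc z * (z * x * z) * z = (z * z) * x * (z * z) := by group
      _ = x := by rw [hzz, one_mul, mul_one]
  have hoy : orderOf y = 2 ^ n := by rw [← hzx, orderOf_conj_eq, hox]
  have hoz : orderOf z = 2 := orderOf_eq_prime (by rw [pow_two]; exact hzz) hz1
  have hD : IsPGroup 2 (Subgroup.zpowers x ⊔ Subgroup.zpowers y : Subgroup G) := by
    apply IsPGroup.to_sup_of_normal_right' (isPGroup_two_zpowers x n hox)
      (isPGroup_two_zpowers y n hoy)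
    refine le_trans ?_ (Subgroup.centralizer_le_normalizer _)
    rw [Subgroup.zpowers_le]
    rw [Subgroup.mem_centralizer_iff]
    intro k hk
    obtain ⟨j, rfl⟩ := hk
    exact ((Commute.zpow_right (show Commute x y from hxy) j).eq).symm
  have hH : IsPGroup 2 (Subgroup.zpowers z ⊔ (Subgroup.zpowers x ⊔ Subgroup.zpowers y) :
      Subgroup G) := by
    apply IsPGroup.to_sup_of_normal_right' (isPGroup_two_zpowers z 1 (by rw [hoz]; rfl)) hD
    rw [Subgroup.zpowers_le]
    exact mem_normalizer_of_invol' _ z hzz (conj_map_sup_zpowers z x y hzx hzy)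
  obtain ⟨g, hg⟩ := sylow2_exists_conj_mem P _ hH
  have hxH : x ∈ (Subgroup.zpowers z ⊔ (Subgroup.zpowers x ⊔ Subgroup.zpowers y) :
      Subgroup G) :=
    le_sup_right (a := Subgroup.zpowers z)
      (le_sup_left (a := Subgroup.zpowers x) (Subgroup.mem_zpowers x))
  have hyH : y ∈ (Subgroup.zpowers z ⊔ (Subgroup.zpowers x ⊔ Subgroup.zpowers y) :
      Subgroup G) :=
    le_sup_right (a := Subgroup.zpowers z)
      (le_sup_right (a := Subgroup.zpowers x) (Subgroup.mem_zpowers y))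
  have hzH : z ∈ (Subgroup.zpowers z ⊔ (Subgroup.zpowers x ⊔ Subgroup.zpowers y) :
      Subgroup G) :=
    le_sup_left (a := Subgroup.zpowers z) (Subgroup.mem_zpowers z)
  refine ⟨n, hn, ?_, ⟨g * x * g⁻¹, hg x hxH⟩, ⟨g * y * g⁻¹, hg y hyH⟩, ⟨g * z * g⁻¹, hg z hzH⟩,
    ?_, ?_, ?_, ?_, ?_⟩
  · rw [Sylow.card_eq_multiplicity, hcard]
  · rw [Subgroup.orderOf_mk, orderOf_conj_eq, hox]
  · apply Subtype.ext
    simp only [Subgroup.coe_mul]
    calc g * x * g⁻¹ * (g * y * g⁻¹) = g * (x * y) * g⁻¹ := by group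
      _ = g * (y * x) * g⁻¹ := by rw [hxy]
      _ = g * y * g⁻¹ * (g * x * g⁻¹) := by group
  · rw [eq_bot_iff]
    intro w hw
    obtain ⟨⟨i, hi⟩, ⟨j, hj⟩⟩ := hw
    rw [Subgroup.mem_bot]
    change (⟨g * x * g⁻¹, hg x hxH⟩ : ↥(P : Subgroup G)) ^ i = w at hi
    change (⟨g * y * g⁻¹, hg y hyH⟩ : ↥(P : Subgroup G)) ^ j = w at hj
    have hi' := congrArg Subtype.val hi
    have hj' := congrArg Subtype.val hj
    simp only [Subgroup.coe_zpow] at hi' hj'
    have ci : (g * x * g⁻¹) ^ i = g * x ^ i * g⁻¹ := by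
      have := map_zpow (MulAut.conj g).toMonoidHom x i
      simpa [MulAut.conj_apply] using this.symm
    have cj : (g * y * g⁻¹) ^ j = g * y ^ j * g⁻¹ := by
      have := map_zpow (MulAut.conj g).toMonoidHom y j
      simpa [MulAut.conj_apply] using this.symm
    have e : x ^ i = y ^ j := by
      have : g * x ^ i * g⁻¹ = g * y ^ j * g⁻¹ := by rw [← ci, ← cj, hi', hj']
      simpa using this
    have hmem : x ^ i ∈ Subgroup.zpowers x ⊓ Subgroup.zpowers y :=
      ⟨⟨i, rfl⟩, ⟨j, e.symm⟩⟩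
    rw [hdisj, Subgroup.mem_bot] at hmem
    apply Subtype.ext
    rw [← hi', ci, hmem]
    simp
  · rw [Subgroup.orderOf_mk, orderOf_conj_eq, hoz]
  · apply Subtype.ext
    simp only [Subgroup.coe_mul, Subgroup.coe_inv]
    rw [← hzx]
    group

/-- Quasi-dihedral Sylow 2-subgroups from explicit elements. -/
theorem isQuasiDihedral_sylow_of_elements [Finite G] (P : Sylow 2 G) (n : ℕ) (hn : 3 ≤ n)
    (hcard : (Nat.card G).factorization 2 = n + 1)
    (x y : G) (hox : orderOf x = 2 ^ n) (hyy : y * y = 1) (hy1 : y ≠ 1)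
    (hyx : y * x * y⁻¹ = x ^ (2 ^ (n - 1) - 1)) : Cfsg.IsQuasiDihedral (P : Subgroup G) := by
  classical
  have hoy : orderOf y = 2 := orderOf_eq_prime (by rw [pow_two]; exact hyy) hy1
  have hH : IsPGroup 2 (Subgroup.zpowers y ⊔ Subgroup.zpowers x : Subgroup G) := by
    apply IsPGroup.to_sup_of_normal_right' (isPGroup_two_zpowers y 1 (by rw [hoy]; rfl))
      (isPGroup_two_zpowers x n hox)
    rw [Subgroup.zpowers_le]
    apply mem_normalizer_of_invol' _ y hyy
    intro k hk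
    obtain ⟨i, rfl⟩ := hk
    have ci : y * x ^ i * y⁻¹ = (y * x * y⁻¹) ^ i := by
      have := map_zpow (MulAut.conj y).toMonoidHom x i
      simpa [MulAut.conj_apply] using this
    change y * x ^ i * y⁻¹ ∈ Subgroup.zpowers x
    rw [ci, hyx]
    exact Subgroup.zpow_mem _ (Subgroup.pow_mem _ (Subgroup.mem_zpowers x) _) _
  obtain ⟨g, hg⟩ := sylow2_exists_conj_mem P _ hH
  have hxH : x ∈ (Subgroup.zpowers y ⊔ Subgroup.zpowers x : Subgroup G) :=
    le_sup_right (a := Subgroup.zpowers y) (Subgroup.mem_zpowers x)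
  have hyH : y ∈ (Subgroup.zpowers y ⊔ Subgroup.zpowers x : Subgroup G) :=
    le_sup_left (a := Subgroup.zpowers y) (Subgroup.mem_zpowers y)
  refine ⟨n, hn, ?_, ⟨g * x * g⁻¹, hg x hxH⟩, ⟨g * y * g⁻¹, hg y hyH⟩, ?_, ?_, ?_⟩
  · rw [Sylow.card_eq_multiplicity, hcard]
  · rw [Subgroup.orderOf_mk, orderOf_conj_eq, hox]
  · rw [Subgroup.orderOf_mk, orderOf_conj_eq, hoy]
  · apply Subtype.ext
    simp only [Subgroup.coe_mul, Subgroup.coe_inv, Subgroup.coe_pow]
    have cp : (g * x * g⁻¹) ^ (2 ^ (n - 1) - 1) = g * x ^ (2 ^ (n - 1) - 1) * g⁻¹ := by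
      have := map_pow (MulAut.conj g).toMonoidHom x (2 ^ (n - 1) - 1)
      simpa [MulAut.conj_apply] using this.symm
    rw [cp, ← hyx]
    group

end grp

end Cfsg.Agent.Lib.Helper99
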