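import Mathlib
import Cfsg.Prelude.Def_GeometricClasses
import Cfsg.Agent.Lib.Helper99.Symp4C
import Cfsg.Agent.Lib.Helper99.Symp4G
import Cfsg.Agent.Lib.Helper99.Symp4H
import Cfsg.Agent.Lib.Helper99.Symp4I
import Cfsg.Agent.Lib.Helper99.Symp4J

set_option autoImplicit false

namespace Cfsg.Agent.Lib.Helper99.Symp4K

open scoped Matrix
open Cfsg.Agent.Lib.Helper99.Symp4C Cfsg.Agent.Lib.Helper99.Symp4G Cfsg.Agent.Lib.Helper99.Symp4H
open Cfsg.Agent.Lib.Helper99.Symp4I Cfsg.Agent.Lib.Helper99.Symp4J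

variable {F : Type*} [Field F]

section elements

variable [Finite F] {i h : F}

theorem exists_sG (h2e : 2 * h = 1) :
    ∃ s : GL (Fin 4) F, (s : Matrix (Fin 4) (Fin 4) F) = sM h ∧
      s ∈ Subgroup.normalizer (R0 F : Set (GL (Fin 4) F)) := by
  refine ⟨⟨sM h, sM h, sM_sq h2e, sM_sq h2e⟩, rfl, ?_⟩
  apply mem_normalizer_of_gens
  · exact ⟨-1, 1, 2, by norm_num, sM_rel10⟩
  · exact ⟨-1, 2, 1, by norm_num, sM_rel20⟩
  · exact ⟨1, 0, 1, by norm_num, sM_rel01⟩
  · exact ⟨1, 0, 2, by norm_num, sM_rel02⟩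

theorem exists_pG :
    ∃ s : GL (Fin 4) F, (s : Matrix (Fin 4) (Fin 4) F) = pM ∧
      s ∈ Subgroup.normalizer (R0 F : Set (GL (Fin 4) F)) := by
  have h1 : (pM : Matrix (Fin 4) (Fin 4) F) * (pM * pM) = 1 := by rw [← mul_assoc]; exact pM_cube
  refine ⟨⟨pM, pM * pM, h1, pM_cube⟩, rfl, ?_⟩
  apply mem_normalizer_of_gens
  · exact ⟨1, 3, 0, by norm_num, pM_rel10⟩
  · exact ⟨1, 1, 0, by norm_num, pM_rel20⟩
  · exact ⟨1, 0, 2, by norm_num, pM_rel01⟩
  · exact ⟨1, 0, 3, by norm_num, pM_rel02⟩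

theorem exists_tG (hi : i * i = -1) (h2e : 2 * h = 1) :
    ∃ s : GL (Fin 4) F, (s : Matrix (Fin 4) (Fin 4) F) = tM i h ∧
      s ∈ Subgroup.normalizer (R0 F : Set (GL (Fin 4) F)) := by
  have hq := tM_quad hi h2e
  have h1 : tM i h * (-(tM i h) - 1) = 1 := by
    have : tM i h * (-(tM i h) - 1) = -(tM i h * tM i h + tM i h + 1) + 1 := by noncomm_ring
    rw [this, hq]; simp
  have h2 : (-(tM i h) - 1) * tM i h = 1 := by
    have : (-(tM i h) - 1) * tM i h = -(tM i h * tM i h + tM i h + 1) + 1 := by noncomm_ring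
    rw [this, hq]; simp
  have hi4 : (-i) ^ 4 = 1 := by
    have : (-i) ^ 4 = (i * i) * (i * i) := by ring
    rw [this, hi]; ring
  refine ⟨⟨tM i h, -(tM i h) - 1, h1, h2⟩, rfl, ?_⟩
  apply mem_normalizer_of_gens
  · exact ⟨-i, 1, 1, hi4, tM_rel10 hi⟩
  · exact ⟨1, 2, 0, by norm_num, tM_rel20⟩
  · exact ⟨1, 1, 0, by norm_num, tM_rel01⟩
  · exact ⟨1, 0, 2, by norm_num, tM_rel02⟩

theorem exists_yG (hi : i * i = -1) (h2e : 2 * h = 1) :
    ∃ s : GL (Fin 4) F, (s : Matrix (Fin 4) (Fin 4) F) = yM i h ∧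
      s ∈ Subgroup.normalizer (R0 F : Set (GL (Fin 4) F)) := by
  have h1 := yM4_mul hi h2e
  have h2 : yM i h * yM4 i h = 1 := mul_eq_one_comm.mp h1
  have hi4 : i ^ 4 = 1 := by
    have : i ^ 4 = (i * i) * (i * i) := by ring
    rw [this, hi]; ring
  refine ⟨⟨yM i h, yM4 i h, h2, h1⟩, rfl, ?_⟩
  apply mem_normalizer_of_gens
  · exact ⟨1, 0, 1, by norm_num, yM_rel10⟩
  · exact ⟨-1, 2, 1, by norm_num, yM_rel20⟩
  · exact ⟨-1, 3, 3, by norm_num, yM_rel01⟩
  · exact ⟨i, 2, 2, hi4, yM_rel02 hi⟩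

end elements

section cases

variable [Fintype F] {i h : F}

omit [Fintype F] in
theorem pow_four_of_det {x : GL (Fin 4) F} (hdet : (x : Matrix (Fin 4) (Fin 4) F).det = 1) {r : ℕ} {z : F}
    (hz : ((x ^ r : GL (Fin 4) F) : Matrix (Fin 4) (Fin 4) F) = z • (1 : Matrix (Fin 4) (Fin 4) F)) :
    z ^ 4 = 1 := by
  have := congrArg Matrix.det hz
  rw [Units.val_pow_eq_pow_val, Matrix.det_pow, hdet, one_pow, Matrix.det_smul, Matrix.det_one] at this
  simpa using this.symm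

omit [Fintype F] in
theorem ne_zero_of_pow_four {z : F} (hz : z ^ 4 = 1) : z ≠ 0 := by
  intro h0; rw [h0] at hz; norm_num at hz

theorem case_five {p : ℕ} [Fact p.Prime] [CharP F p] (hirr : Irreducible (Polynomial.cyclotomic 5 F))
    (hi : i * i = -1) (h2e : 2 * h = 1) (P : GL (Fin 4) F) {x : GL (Fin 4) F}
    (hdet : (x : Matrix (Fin 4) (Fin 4) F).det = 1)
    (hns : ∀ z : F, (x : Matrix (Fin 4) (Fin 4) F) ≠ z • (1 : Matrix (Fin 4) (Fin 4) F)) {z : F}
    (hz : ((x ^ 5 : GL (Fin 4) F) : Matrix (Fin 4) (Fin 4) F) = z • (1 : Matrix (Fin 4) (Fin 4) F)) :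
    ∃ g : GL (Fin 4) F, (g : Matrix (Fin 4) (Fin 4) F).det = 1 ∧
      P⁻¹ * (g⁻¹ * x * g) * P ∈ Subgroup.normalizer (R0 F : Set (GL (Fin 4) F)) := by
  have hz4 := pow_four_of_det hdet hz
  have hz0 := ne_zero_of_pow_four hz4
  have hl0 : z ^ 3 ≠ 0 := pow_ne_zero _ hz0
  have hx5 : (z ^ 3 • (x : Matrix (Fin 4) (Fin 4) F)) ^ 5 = 1 := by
    rw [smul_pow, ← Units.val_pow_eq_pow_val, hz, smul_smul]
    have : (z ^ 3) ^ 5 * z = (z ^ 4) ^ 4 := by ring
    rw [this, hz4, one_pow, one_smul]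
  have hx1 : z ^ 3 • (x : Matrix (Fin 4) (Fin 4) F) ≠ 1 := by
    intro h1
    apply hns (z ^ 3)⁻¹
    rw [← h1, smul_smul, inv_mul_cancel₀ hl0, one_smul]
  obtain ⟨y, hyv, hyN⟩ := exists_yG (F := F) hi h2e
  have hy5 : (yM i h) ^ 5 = 1 := by
    have : (yM i h) ^ 5 = ((yM i h * yM i h) * (yM i h * yM i h)) * yM i h := by
      simp only [pow_succ, pow_zero, one_mul, mul_assoc]
    rw [this, yM_sq hi h2e, yM2_sq hi h2e, yM4_mul hi h2e]
  have hy1 : yM i h ≠ 1 := by
    intro h1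
    have := congrFun (congrFun h1 0) 0
    simp [yM] at this
  obtain ⟨k, _, hk⟩ := exists_conj_C5 (p := p) hirr hy5 hy1 (one_ne_zero (α := F))
  refine reduce' P hyN hl0 (C5 F) (fun δ hδ => exists_conj_C5 (p := p) hirr hx5 hx1 hδ) ⟨k, ?_⟩
  rw [hyv]; exact hk

theorem case_three (h2 : (2 : F) ≠ 0) (h3 : (3 : F) ≠ 0) (hroot : ∀ t : F, t * t ≠ (-1) * t + (-1))
    (hi : i * i = -1) (h2e : 2 * h = 1) (P : GL (Fin 4) F) {x : GL (Fin 4) F}
    (hdet : (x : Matrix (Fin 4) (Fin 4) F).det = 1)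
    (hns : ∀ z : F, (x : Matrix (Fin 4) (Fin 4) F) ≠ z • (1 : Matrix (Fin 4) (Fin 4) F)) {z : F}
    (hz : ((x ^ 3 : GL (Fin 4) F) : Matrix (Fin 4) (Fin 4) F) = z • (1 : Matrix (Fin 4) (Fin 4) F)) :
    ∃ g : GL (Fin 4) F, (g : Matrix (Fin 4) (Fin 4) F).det = 1 ∧
      P⁻¹ * (g⁻¹ * x * g) * P ∈ Subgroup.normalizer (R0 F : Set (GL (Fin 4) F)) := by
  have hz4 := pow_four_of_det hdet hz
  have hz0 := ne_zero_of_pow_four hz4
  set x' : Matrix (Fin 4) (Fin 4) F := z • (x : Matrix (Fin 4) (Fin 4) F) with hx'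
  have hx3 : x' * x' * x' = 1 := by
    have : x' * x' * x' = x' ^ 3 := by simp only [pow_succ, pow_zero, one_mul]
    rw [this, hx', smul_pow, ← Units.val_pow_eq_pow_val, hz, smul_smul]
    have : z ^ 3 * z = z ^ 4 := by ring
    rw [this, hz4, one_smul]
  have hx1 : x' ≠ 1 := by
    intro h1
    apply hns z⁻¹
    rw [← h1, hx', smul_smul, inv_mul_cancel₀ hz0, one_smul]
  by_cases hE : 1 + x' + x' * x' = 0
  · have hq : x' * x' = (-1 : F) • x' + (-1 : F) • (1 : Matrix (Fin 4) (Fin 4) F) := by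
      have : x' * x' = (1 + x' + x' * x') - 1 - x' := by abel
      rw [this, hE]; module
    obtain ⟨P', hP'⟩ := exists_quad hroot hq
    obtain ⟨y, hyv, hyN⟩ := exists_tG (F := F) hi h2e
    have hqt : tM i h * tM i h = (-1 : F) • tM i h + (-1 : F) • (1 : Matrix (Fin 4) (Fin 4) F) := by
      have := tM_quad hi h2e
      have h' : tM i h * tM i h = (tM i h * tM i h + tM i h + 1) - 1 - tM i h := by abel
      rw [h', this]; module
    obtain ⟨k, hk⟩ := exists_quad hroot hqt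
    refine reduce' P hyN hz0 (QC (-1 : F) (-1))
      (adjust_det hP' (fun a ha => centralizer_QC h2 h3 a ha)) ⟨k, ?_⟩
    rw [hyv]; exact hk
  · obtain ⟨P', hP'⟩ := exists_t3a h3 hroot hx3 hx1 hE
    obtain ⟨y, hyv, hyN⟩ := exists_pG (F := F)
    have hp1 : (pM : Matrix (Fin 4) (Fin 4) F) ≠ 1 := by
      intro h1
      have := congrFun (congrFun h1 1) 1
      simp [pM] at this
    have hpE : (1 : Matrix (Fin 4) (Fin 4) F) + pM + pM * pM ≠ 0 := by
      intro h1
      have := congrFun (congrFun h1 0) 0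
      simp [pM, Matrix.mul_apply, Fin.sum_univ_four] at this
      apply h3
      linear_combination this
    obtain ⟨k, hk⟩ := exists_t3a h3 hroot (pM_cube (F := F)) hp1 hpE
    refine reduce' P hyN hz0 (TC F) (adjust_det hP' (fun a ha => centralizer_TC a ha)) ⟨k, ?_⟩
    rw [hyv]; exact hk

omit [Fintype F] in
theorem Dm_two : Dm F 2 = W 2 0 := by
  ext k l
  fin_cases k <;> fin_cases l <;> simp [Dm, W_apply, xr, sg, sb, Matrix.diagonal_apply]

omit [Fintype F] in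
theorem det_Dm (m : Fin 5) : (Dm F m).det = if m = 0 ∨ m = 2 ∨ m = 4 then 1 else -1 := by
  unfold Dm
  rw [Matrix.det_diagonal, Fin.prod_univ_four]
  fin_cases m <;> simp

omit [Fintype F] in
theorem trace_Dm (m : Fin 5) : Matrix.trace (Dm F m) = 2 * (m.val : F) - 4 := by
  unfold Dm
  rw [Matrix.trace_diagonal, Fin.sum_univ_four]
  fin_cases m <;> simp <;> ring

omit [Fintype F] in
theorem scalar_of_conj_scalar {x' : Matrix (Fin 4) (Fin 4) F} {P' : GL (Fin 4) F} {c : F}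
    (h : x' * (P' : Matrix (Fin 4) (Fin 4) F) = (P' : Matrix (Fin 4) (Fin 4) F) * (c • 1)) : x' = c • 1 := by
  have h1 : x' * (P' : Matrix (Fin 4) (Fin 4) F) = (c • (1 : Matrix (Fin 4) (Fin 4) F)) * (P' : Matrix (Fin 4) (Fin 4) F) := by
    rw [h]; simp
  have := congrArg (fun X => X * ((P'⁻¹ : GL (Fin 4) F) : Matrix (Fin 4) (Fin 4) F)) h1
  simpa [mul_assoc, val_mul_inv] using this

omit [Fintype F] in
theorem trace_of_conj {x' D : Matrix (Fin 4) (Fin 4) F} {P' : GL (Fin 4) F}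
    (h : x' * (P' : Matrix (Fin 4) (Fin 4) F) = (P' : Matrix (Fin 4) (Fin 4) F) * D) :
    Matrix.trace x' = Matrix.trace D := by
  have h1 : x' = (P' : Matrix (Fin 4) (Fin 4) F) * D * ((P'⁻¹ : GL (Fin 4) F) : Matrix (Fin 4) (Fin 4) F) := by
    rw [← h, mul_assoc, val_mul_inv, mul_one]
  rw [h1, Matrix.trace_mul_comm, ← mul_assoc, val_inv_mul, one_mul]

omit [Fintype F] in
theorem det_of_conj {x' D : Matrix (Fin 4) (Fin 4) F} {P' : GL (Fin 4) F}
    (h : x' * (P' : Matrix (Fin 4) (Fin 4) F) = (P' : Matrix (Fin 4) (Fin 4) F) * D) :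
    x'.det = D.det := by
  have := congrArg Matrix.det h
  rw [Matrix.det_mul, Matrix.det_mul, mul_comm] at this
  exact mul_left_cancel₀ (det_val_ne_zero P') this

/-- the explicit eigenbasis of the reflection -/
def kM (F : Type*) [Field F] : Matrix (Fin 4) (Fin 4) F :=
  !![-1, -1, -1, 1; 1, 0, 0, 1; 0, 1, 0, 1; 0, 0, 1, 1]

omit [Fintype F] in
theorem exists_kG (h2e : 2 * h = 1) :
    ∃ k : GL (Fin 4) F, sM h * (k : Matrix (Fin 4) (Fin 4) F) = (k : Matrix (Fin 4) (Fin 4) F) * Dm F 3 := by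
  have h1 : kM F * ((h * h) • !![-1, 3, -1, -1; -1, -1, 3, -1; -1, -1, -1, 3; 1, 1, 1, 1]) = 1 := by
    ext k l
    fin_cases k <;> fin_cases l <;>
      simp [kM, Matrix.mul_apply, Fin.sum_univ_four, Matrix.one_apply] <;> grind
  refine ⟨⟨kM F, _, h1, mul_eq_one_comm.mp h1⟩, ?_⟩
  show sM h * kM F = kM F * Dm F 3
  ext k l
  fin_cases k <;> fin_cases l <;>
    simp [kM, sM, Dm, Matrix.mul_apply, Fin.sum_univ_four, Matrix.diagonal_apply] <;> grind

theorem case_two (h4 : (4 : F) ≠ 0) (hi : i * i = -1) (h2e : 2 * h = 1) (P : GL (Fin 4) F)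
    {x : GL (Fin 4) F} (hdet : (x : Matrix (Fin 4) (Fin 4) F).det = 1)
    (hns : ∀ z : F, (x : Matrix (Fin 4) (Fin 4) F) ≠ z • (1 : Matrix (Fin 4) (Fin 4) F)) {z : F}
    (hz : ((x ^ 2 : GL (Fin 4) F) : Matrix (Fin 4) (Fin 4) F) = z • (1 : Matrix (Fin 4) (Fin 4) F)) :
    ∃ g : GL (Fin 4) F, (g : Matrix (Fin 4) (Fin 4) F).det = 1 ∧
      P⁻¹ * (g⁻¹ * x * g) * P ∈ Subgroup.normalizer (R0 F : Set (GL (Fin 4) F)) := by
  have h2 : (2 : F) ≠ 0 := by
    intro h0; apply h4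
    have : (4 : F) = 2 * 2 := by norm_num
    rw [this, h0, mul_zero]
  have h1ne : (1 : F) ≠ -1 := by
    intro h0; apply h2; linear_combination h0
  have hz4 := pow_four_of_det hdet hz
  have hz0 := ne_zero_of_pow_four hz4
  have hxx : (x : Matrix (Fin 4) (Fin 4) F) * (x : Matrix (Fin 4) (Fin 4) F) = z • 1 := by
    rw [← hz, pow_two, Units.val_mul]
  have hsq : ∀ l : F, (l • (x : Matrix (Fin 4) (Fin 4) F)) * (l • (x : Matrix (Fin 4) (Fin 4) F)) =
      (l * l * z) • (1 : Matrix (Fin 4) (Fin 4) F) := by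
    intro l
    rw [Matrix.smul_mul, Matrix.mul_smul, hxx, smul_smul, smul_smul]
  have hdetl : ∀ l : F, (l • (x : Matrix (Fin 4) (Fin 4) F)).det = l ^ 4 := by
    intro l
    rw [Matrix.det_smul, hdet]; simp
  have hzz : z * z = 1 ∨ z * z = -1 := by
    have : (z * z) * (z * z) = 1 := by rw [← hz4]; ring
    exact mul_self_eq_one_iff.mp this
  rcases hzz with hzz | hzz
  · -- z = ±1
    obtain ⟨l, hl0, hl2, hl4⟩ : ∃ l : F, l ≠ 0 ∧ l * l * z = 1 ∧ l ^ 4 = 1 := by
      rcases mul_self_eq_one_iff.mp hzz with h1 | h1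
      · exact ⟨1, one_ne_zero, by rw [h1]; ring, by ring⟩
      · refine ⟨i, ?_, by rw [h1, hi]; ring, ?_⟩
        · intro h0; rw [h0] at hi; simp at hi
        · have : i ^ 4 = (i * i) * (i * i) := by ring
          rw [this, hi]; ring
    have hinv : (l • (x : Matrix (Fin 4) (Fin 4) F)) * (l • (x : Matrix (Fin 4) (Fin 4) F)) = 1 := by
      rw [hsq, hl2, one_smul]
    obtain ⟨P', m, hP'⟩ := exists_sorted_involution h2 hinv
    have hdm : (Dm F m).det = 1 := by rw [← det_of_conj hP', hdetl, hl4]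
    have hm2 : m = 2 := by
      rw [det_Dm] at hdm
      by_cases hm : m = 0 ∨ m = 2 ∨ m = 4
      · rcases hm with rfl | rfl | rfl
        · exfalso
          have : Dm F 0 = (-1 : F) • (1 : Matrix (Fin 4) (Fin 4) F) := by
            ext k l'
            fin_cases k <;> fin_cases l' <;> simp [Dm, Matrix.diagonal_apply]
          rw [this] at hP'
          have := scalar_of_conj_scalar hP'
          apply hns (l⁻¹ * (-1))
          rw [mul_smul, ← this, smul_smul, inv_mul_cancel₀ hl0, one_smul]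
        · rfl
        · exfalso
          have : Dm F 4 = (1 : F) • (1 : Matrix (Fin 4) (Fin 4) F) := by
            ext k l'
            fin_cases k <;> fin_cases l' <;> simp [Dm, Matrix.diagonal_apply]
          rw [this] at hP'
          have := scalar_of_conj_scalar hP'
          apply hns (l⁻¹ * 1)
          rw [mul_smul, ← this, smul_smul, inv_mul_cancel₀ hl0, one_smul]
      · rw [if_neg hm] at hdm
        exact absurd hdm.symm h1ne
    subst hm2
    have hyN : (Wg 2 0 : GL (Fin 4) F) ∈ Subgroup.normalizer (R0 F : Set (GL (Fin 4) F)) :=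
      Subgroup.le_normalizer (Wg_mem_R0 2 0)
    refine reduce' P hyN hl0 (Dm F 2)
      (adjust_det hP' (fun a ha => centralizer_diag _ a ha)) ⟨1, ?_⟩
    rw [Wg_val, Dm_two]; simp
  · -- z = ±i
    by_cases hsqz : ∃ μ : F, μ * μ = z
    · obtain ⟨μ, hμ⟩ := hsqz
      have hμ0 : μ ≠ 0 := by
        intro h0; rw [h0, mul_zero] at hμ; exact hz0 hμ.symm
      have hμ4 : μ ^ 4 = -1 := by
        have : μ ^ 4 = (μ * μ) * (μ * μ) := by ring
        rw [this, hμ, hzz]
      obtain ⟨y, hyv, hyN⟩ := exists_sG (F := F) h2e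
      obtain ⟨k, hk⟩ := exists_kG (F := F) h2e
      -- the two candidates
      have key : ∀ l : F, l ≠ 0 → l * l * z = 1 → l ^ 4 = -1 →
          ∃ (P' : GL (Fin 4) F) (m : Fin 5), (m = 1 ∨ m = 3) ∧
          (l • (x : Matrix (Fin 4) (Fin 4) F)) * (P' : Matrix (Fin 4) (Fin 4) F) =
            (P' : Matrix (Fin 4) (Fin 4) F) * Dm F m := by
        intro l hl0 hl2 hl4
        have hinv : (l • (x : Matrix (Fin 4) (Fin 4) F)) * (l • (x : Matrix (Fin 4) (Fin 4) F)) = 1 := by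
          rw [hsq, hl2, one_smul]
        obtain ⟨P', m, hP'⟩ := exists_sorted_involution h2 hinv
        refine ⟨P', m, ?_, hP'⟩
        have hdm : (Dm F m).det = -1 := by rw [← det_of_conj hP', hdetl, hl4]
        rw [det_Dm] at hdm
        by_cases hm : m = 0 ∨ m = 2 ∨ m = 4
        · rw [if_pos hm] at hdm
          exact absurd hdm h1ne
        · fin_cases m <;> simp at hm ⊢
      have hl1 : μ⁻¹ * μ⁻¹ * z = 1 := by
        rw [← hμ]; field_simp
      have hl1' : (-μ⁻¹) * (-μ⁻¹) * z = 1 := by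
        rw [← hμ]; field_simp
      have hl14 : μ⁻¹ ^ 4 = -1 := by
        rw [inv_pow, hμ4]; norm_num
      have hl14' : (-μ⁻¹) ^ 4 = -1 := by
        have : (-μ⁻¹) ^ 4 = μ⁻¹ ^ 4 := by ring
        rw [this, hl14]
      obtain ⟨P1, m1, hm1, hP1⟩ := key μ⁻¹ (inv_ne_zero hμ0) hl1 hl14
      obtain ⟨P2, m2, hm2, hP2⟩ := key (-μ⁻¹) (neg_ne_zero.mpr (inv_ne_zero hμ0)) hl1' hl14'
      have finish : ∀ (l : F) (P' : GL (Fin 4) F), l ≠ 0 →
          (l • (x : Matrix (Fin 4) (Fin 4) F)) * (P' : Matrix (Fin 4) (Fin 4) F) =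
            (P' : Matrix (Fin 4) (Fin 4) F) * Dm F 3 →
          ∃ g : GL (Fin 4) F, (g : Matrix (Fin 4) (Fin 4) F).det = 1 ∧
            P⁻¹ * (g⁻¹ * x * g) * P ∈ Subgroup.normalizer (R0 F : Set (GL (Fin 4) F)) := by
        intro l P' hl0 hP'
        refine reduce' P hyN hl0 (Dm F 3)
          (adjust_det hP' (fun a ha => centralizer_diag _ a ha)) ⟨k, ?_⟩
        rw [hyv]; exact hk
      rcases hm1 with rfl | rfl
      · rcases hm2 with rfl | rfl
        · exfalso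
          have t1 := trace_of_conj hP1
          have t2 := trace_of_conj hP2
          rw [trace_Dm, Matrix.trace_smul] at t1 t2
          have : (-μ⁻¹) • Matrix.trace (x : Matrix (Fin 4) (Fin 4) F) =
              -(μ⁻¹ • Matrix.trace (x : Matrix (Fin 4) (Fin 4) F)) := by
            rw [neg_smul]
          rw [this, t1] at t2
          apply h4
          have : ((1 : Fin 5).val : F) = 1 := by simp
          rw [this] at t2
          linear_combination t2
        · exact finish _ P2 (neg_ne_zero.mpr (inv_ne_zero hμ0)) hP2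
      · exact finish _ P1 (inv_ne_zero hμ0) hP1
    · -- z is not a square: impossible
      exfalso
      push Not at hsqz
      have hroot : ∀ t : F, t * t ≠ (0 : F) * t + z := by
        intro t ht
        apply hsqz t
        rw [ht]; ring
      have hq : (x : Matrix (Fin 4) (Fin 4) F) * (x : Matrix (Fin 4) (Fin 4) F) =
          (0 : F) • (x : Matrix (Fin 4) (Fin 4) F) + z • (1 : Matrix (Fin 4) (Fin 4) F) := by
        rw [hxx, zero_smul, zero_add]
      obtain ⟨P', hP'⟩ := exists_quad hroot hq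
      have hd := det_of_conj hP'
      rw [hdet] at hd
      have : (QC (0 : F) z).det = z * z := by
        simp [QC, Matrix.det_succ_row_zero, Fin.sum_univ_succ, Fin.succAbove, Matrix.submatrix]
      rw [this, hzz] at hd
      exact h1ne hd

end cases

end Cfsg.Agent.Lib.Helper99.Symp4K
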