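import Mathlib

set_option autoImplicit false

namespace Cfsg.Agent.Lib.Helper99

/-- `n = 2 ^ v₂(n) * n'` with `n'` odd. -/
lemma two_adic_decomp (n : ℕ) (hn : n ≠ 0) : ∃ n', Odd n' ∧ n = 2 ^ padicValNat 2 n * n' := by
  refine ⟨n / 2 ^ padicValNat 2 n, ?_, ?_⟩
  · have h := Nat.not_dvd_ordCompl Nat.prime_two hn
    rw [Nat.factorization_def n Nat.prime_two] at h
    rw [Nat.odd_iff]
    omega
  · have h := Nat.ordProj_mul_ordCompl_eq_self n 2
    rw [Nat.factorization_def n Nat.prime_two] at h
    exact h.symm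

section field

variable {F : Type*} [Field F] [Fintype F]

lemma neg_one_ne_one_of_odd_card (h : Odd (Fintype.card F)) : (-1 : F) ≠ 1 := by
  apply Ring.neg_one_ne_one_of_char_ne_two
  intro h2
  have := FiniteField.even_card_iff_char_two.mp h2
  rw [Nat.odd_iff] at h
  omega

/-- In a finite field of odd order `q`, a generator `g` of the unit group satisfies
`g ^ ((q - 1) / 2) = -1`. -/
lemma generator_pow_half (hodd : Odd (Fintype.card F)) (g : Fˣ) (hg : ∀ x, x ∈ Subgroup.zpowers g) :
    ((g ^ ((Fintype.card F - 1) / 2) : Fˣ) : F) = -1 := by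
  classical
  have hord : orderOf g = Fintype.card F - 1 := by
    rw [orderOf_eq_card_of_forall_mem_zpowers hg, Nat.card_eq_fintype_card, Fintype.card_units]
  have hq : 2 ∣ Fintype.card F - 1 := by
    rw [Nat.odd_iff] at hodd
    omega
  have hq1 : 1 < Fintype.card F := Fintype.one_lt_card
  have h1 : (((g ^ ((Fintype.card F - 1) / 2) : Fˣ) : F)) * ((g ^ ((Fintype.card F - 1) / 2) : Fˣ) : F) = 1 := by
    rw [← Units.val_mul, ← pow_add]
    have : (Fintype.card F - 1) / 2 + (Fintype.card F - 1) / 2 = Fintype.card F - 1 := by omega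
    rw [this, ← hord, pow_orderOf_eq_one, Units.val_one]
  rcases mul_self_eq_one_iff.mp h1 with h | h
  · exfalso
    have h' : g ^ ((Fintype.card F - 1) / 2) = 1 := Units.ext (by simpa using h)
    have hdvd := orderOf_dvd_of_pow_eq_one h'
    rw [hord] at hdvd
    have hle := Nat.le_of_dvd (by omega) hdvd
    omega
  · exact h

end field

end Cfsg.Agent.Lib.Helper99
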