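import Mathlib
import Cfsg.Agent.S2904

set_option autoImplicit false

namespace Cfsg.Agent.Lib.Helper99.UTorusA

/-- the alternating geometric sum is congruent to `± m` modulo divisors of `q + 1` -/
theorem alt_dvd_iff (q m d M : ℕ) (hd : d ∣ q + 1)
    (hM : (M : ℤ) * ((q : ℤ) + 1) = (q : ℤ) ^ m - (-1) ^ m) : d ∣ M ↔ d ∣ m := by
  have hgs := geom_sum₂_mul (q : ℤ) (-1) m
  have hq1 : ((q : ℤ) + 1) ≠ 0 := by positivity
  have hMsum : (M : ℤ) = ∑ i ∈ Finset.range m, (q : ℤ) ^ i * (-1) ^ (m - 1 - i) := by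
    have : (M : ℤ) * ((q : ℤ) + 1) =
        (∑ i ∈ Finset.range m, (q : ℤ) ^ i * (-1) ^ (m - 1 - i)) * ((q : ℤ) + 1) := by
      rw [hM, ← hgs]; ring
    exact mul_right_cancel₀ hq1 this
  have hqd : (q : ℤ) ≡ -1 [ZMOD (d : ℤ)] := by
    have h1 : (d : ℤ) ∣ (q : ℤ) + 1 := by exact_mod_cast hd
    have : (q : ℤ) - (-1) = (q : ℤ) + 1 := by ring
    exact (Int.modEq_iff_dvd.mpr (by rw [this]; exact h1)).symm
  have hsum : (∑ i ∈ Finset.range m, (q : ℤ) ^ i * (-1) ^ (m - 1 - i)) ≡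
      ∑ i ∈ Finset.range m, (-1 : ℤ) ^ (m - 1) [ZMOD (d : ℤ)] := by
    apply Int.ModEq.sum
    intro i hi
    have hi' : i < m := Finset.mem_range.mp hi
    have h1 : (q : ℤ) ^ i ≡ (-1) ^ i [ZMOD (d : ℤ)] := hqd.pow i
    have h2 : (-1 : ℤ) ^ i * (-1) ^ (m - 1 - i) = (-1) ^ (m - 1) := by
      rw [← pow_add]; congr 1; omega
    rw [← h2]
    exact h1.mul_right _
  rw [Finset.sum_const, Finset.card_range, nsmul_eq_mul] at hsum
  have key : (d : ℤ) ∣ (M : ℤ) ↔ (d : ℤ) ∣ (m : ℤ) * (-1) ^ (m - 1) := by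
    rw [hMsum]
    exact hsum.dvd_iff
  have hunit : IsUnit ((-1 : ℤ) ^ (m - 1)) := (isUnit_one.neg).pow _
  rw [← Int.natCast_dvd_natCast, key, hunit.dvd_mul_right, Int.natCast_dvd_natCast]

/-- two-adic bookkeeping: if `o ∣ X`, but `o ∤ X / 2` for even `X`, then the two-part of `X`
divides `o` -/
theorem two_part_dvd (o X : ℕ) (hX0 : X ≠ 0) (_hX : 2 ∣ X) (ho : o ∣ X) (hno : ¬ o ∣ X / 2) :
    2 ^ padicValNat 2 X ∣ o := by
  obtain ⟨c, hc⟩ := ho
  have ho0 : o ≠ 0 := by rintro rfl; simp at hc; exact hX0 hc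
  have hc0 : c ≠ 0 := by rintro rfl; simp at hc; exact hX0 hc
  have hcodd : ¬ 2 ∣ c := by
    rintro ⟨c', rfl⟩
    apply hno
    refine ⟨c', ?_⟩
    rw [hc]
    rw [show o * (2 * c') = 2 * (o * c') by ring]
    exact Nat.mul_div_cancel_left _ (by norm_num)
  have hv : padicValNat 2 X = padicValNat 2 o := by
    rw [hc, padicValNat.mul ho0 hc0, padicValNat.eq_zero_of_not_dvd hcodd, add_zero]
  rw [hv]
  exact pow_padicValNat_dvd

/-- the key arithmetic step of the necessity direction -/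
theorem two_part_dvd_cofactor {E : Type*} [Field E] (α : E) (q N M : ℕ) (_hq : Odd q)
    (hN0 : N ≠ 0) (hM0 : M ≠ 0) (hN2 : 2 ∣ N)
    (h1 : α ^ (N * (q + 1)) = 1) (h2 : α ^ (N / 2 * (q + 1)) ≠ 1) (h3 : α ^ (N * M) = 1) :
    2 ^ padicValNat 2 (q + 1) ∣ M := by
  have hα0 : α ≠ 0 := by
    rintro rfl
    rw [zero_pow (by positivity)] at h1
    exact zero_ne_one h1
  have ho1 : orderOf α ∣ N * (q + 1) := orderOf_dvd_of_pow_eq_one h1
  have ho3 : orderOf α ∣ N * M := orderOf_dvd_of_pow_eq_one h3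
  have ho2 : ¬ orderOf α ∣ (N * (q + 1)) / 2 := by
    intro h
    apply h2
    have : N * (q + 1) / 2 = N / 2 * (q + 1) := by
      obtain ⟨c, rfl⟩ := hN2
      rw [mul_assoc, Nat.mul_div_cancel_left _ (by norm_num), Nat.mul_div_cancel_left _ (by norm_num)]
    rw [this] at h
    exact orderOf_dvd_iff_pow_eq_one.mp h
  have hX0 : N * (q + 1) ≠ 0 := by positivity
  have hd := two_part_dvd (orderOf α) (N * (q + 1)) hX0 (Dvd.dvd.mul_right hN2 _) ho1 ho2
  have hd2 : 2 ^ padicValNat 2 (N * (q + 1)) ∣ N * M := dvd_trans hd ho3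
  have hv1 : padicValNat 2 (N * (q + 1)) = padicValNat 2 N + padicValNat 2 (q + 1) :=
    padicValNat.mul hN0 (by omega)
  have hv2 : padicValNat 2 (N * M) = padicValNat 2 N + padicValNat 2 M := padicValNat.mul hN0 hM0
  have hle : padicValNat 2 (N * (q + 1)) ≤ padicValNat 2 (N * M) :=
    (padicValNat_dvd_iff_le (by positivity)).mp hd2
  have : padicValNat 2 (q + 1) ≤ padicValNat 2 M := by omega
  exact (padicValNat_dvd_iff_le hM0).mpr this

/-- the primitive prime divisor needed for the unitary torus of `GU_{2m}(q)` -/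
theorem exists_ppd_unitary (q m : ℕ) (hq : Odd q) (hq1 : 1 < q) (hm : 2 ≤ m) :
    ∃ r : ℕ, r.Prime ∧ r ∣ (if Even m then q ^ m + 1 else q ^ m - 1) ∧ Nat.Coprime r q ∧
      ∀ k : ℕ, 0 < k → k < 2 * m → (Even k → ¬ r ∣ q ^ k - 1) ∧ (Odd k → ¬ r ∣ q ^ k + 1) := by
  have hq2 : q ≠ 2 := by rintro rfl; exact absurd hq (by decide)
  have hcop : ∀ r k : ℕ, r.Prime → 0 < k → r ∣ q ^ k - 1 → Nat.Coprime r q := by
    intro r k hr hk hd
    rw [Nat.Prime.coprime_iff_not_dvd hr]
    intro hrq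
    have h1 : r ∣ q ^ k := dvd_pow hrq hk.ne'
    have h2 : 1 ≤ q ^ k := Nat.one_le_pow _ _ (by omega)
    have h3 : r ∣ q ^ k - (q ^ k - 1) := Nat.dvd_sub h1 hd
    have h4 : q ^ k - (q ^ k - 1) = 1 := by omega
    rw [h4] at h3
    exact hr.one_lt.ne' (Nat.dvd_one.mp h3)
  have hsq : ∀ k : ℕ, q ^ (2 * k) - 1 = (q ^ k - 1) * (q ^ k + 1) := by
    intro k
    have h1 : 1 ≤ q ^ k := Nat.one_le_pow _ _ (by omega)
    rw [mul_comm 2 k, pow_mul]
    zify [h1, Nat.one_le_pow 2 (q ^ k) (by omega)]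
    ring
  -- divisibility pattern of a primitive prime divisor
  have hpat : ∀ r d : ℕ, r.Prime → 0 < d → r ∣ q ^ d - 1 →
      (∀ k : ℕ, 0 < k → k < d → ¬ r ∣ q ^ k - 1) → ∀ k : ℕ, r ∣ q ^ k - 1 → d ∣ k := by
    intro r d hr hd hrd hmin k hk
    have : Fact r.Prime := ⟨hr⟩
    have hcast : ∀ j : ℕ, ((q : ZMod r)) ^ j = 1 ↔ r ∣ q ^ j - 1 := by
      intro j
      have h1 : 1 ≤ q ^ j := Nat.one_le_pow _ _ (by omega)
      rw [← ZMod.natCast_eq_zero_iff, Nat.cast_sub h1, Nat.cast_pow, Nat.cast_one, sub_eq_zero]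
    have hord : orderOf (q : ZMod r) = d := by
      apply Nat.dvd_antisymm
      · exact orderOf_dvd_of_pow_eq_one ((hcast d).mpr hrd)
      · by_contra hnd
        have hpos : 0 < orderOf (q : ZMod r) := by
          apply orderOf_pos_iff.mpr
          exact isOfFinOrder_iff_pow_eq_one.mpr ⟨d, hd, (hcast d).mpr hrd⟩
        have hle : orderOf (q : ZMod r) ≤ d :=
          Nat.le_of_dvd hd (orderOf_dvd_of_pow_eq_one ((hcast d).mpr hrd))
        have hlt : orderOf (q : ZMod r) < d := by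
          rcases Nat.lt_or_ge (orderOf (q : ZMod r)) d with h | h
          · exact h
          · exfalso; apply hnd; rw [le_antisymm hle h]
        exact hmin _ hpos hlt ((hcast _).mp (pow_orderOf_eq_one _))
    rw [← hord]
    exact orderOf_dvd_of_pow_eq_one ((hcast k).mpr hk)
  by_cases hev : Even m
  · -- primitive prime divisor of `q ^ (2 m) - 1`
    obtain ⟨r, hr, hrd, hmin⟩ := Cfsg.Agent.S2904.result q (2 * m) hq1 (by omega)
      (by rintro ⟨h, _⟩; exact hq2 h) (by rintro ⟨h, _⟩; omega)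
    refine ⟨r, hr, ?_, hcop r (2 * m) hr (by omega) hrd, ?_⟩
    · rw [if_pos hev]
      rw [hsq] at hrd
      rcases (Nat.Prime.dvd_mul hr).mp hrd with h | h
      · exact absurd h (hmin m (by omega) (by omega))
      · exact h
    · intro k hk0 hk
      refine ⟨fun _ => hmin k hk0 hk, ?_⟩
      intro hodd hdvd
      have h1 : r ∣ q ^ (2 * k) - 1 := by rw [hsq]; exact Dvd.dvd.mul_left hdvd _
      have h2 := hpat r (2 * m) hr (by omega) hrd hmin (2 * k) h1
      have h3 : m ∣ k := (Nat.mul_dvd_mul_iff_left (by norm_num)).mp h2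
      obtain ⟨c, rfl⟩ := h3
      exact (Nat.not_even_iff_odd.mpr hodd) (hev.mul_right c)
  · -- primitive prime divisor of `q ^ m - 1`
    have hm3 : 3 ≤ m := by
      rcases Nat.lt_or_ge m 3 with h | h
      · exfalso; apply hev; have : m = 2 := by omega
        rw [this]; exact even_two
      · exact h
    obtain ⟨r, hr, hrd, hmin⟩ := Cfsg.Agent.S2904.result q m hq1 (by omega)
      (by rintro ⟨h, _⟩; exact hq2 h) (by rintro ⟨h, _⟩; omega)
    have hoddm : Odd m := Nat.not_even_iff_odd.mp hev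
    refine ⟨r, hr, ?_, hcop r m hr (by omega) hrd, ?_⟩
    · rw [if_neg hev]; exact hrd
    · intro k hk0 hk
      constructor
      · intro hke hdvd
        have h2 := hpat r m hr (by omega) hrd hmin k hdvd
        obtain ⟨c, rfl⟩ := h2
        rcases hke with ⟨a, ha⟩
        rcases hoddm with ⟨b, rfl⟩
        have hc : c = 1 := by
          rcases Nat.lt_or_ge c 2 with h | h
          · rcases Nat.eq_zero_or_pos c with rfl | h0
            · simp at hk0
            · omega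
          · exfalso
            have : (2 * b + 1) * 2 ≤ (2 * b + 1) * c := Nat.mul_le_mul_left _ h
            omega
        subst hc
        omega
      · intro hko hdvd
        have h1 : r ∣ q ^ (2 * k) - 1 := by rw [hsq]; exact Dvd.dvd.mul_left hdvd _
        have h2 := hpat r m hr (by omega) hrd hmin (2 * k) h1
        have h3 : m ∣ k := by
          have hcop2 : Nat.Coprime m 2 := Nat.coprime_two_right.mpr hoddm
          exact hcop2.dvd_of_dvd_mul_left h2
        have h4 : r ∣ q ^ k - 1 := by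
          obtain ⟨c, rfl⟩ := h3
          have h5 : q ^ m - 1 ∣ q ^ (m * c) - 1 := by
            rw [pow_mul]; exact Nat.sub_one_dvd_pow_sub_one (q ^ m) c
          exact dvd_trans hrd h5
        have h6 : r ∣ (q ^ k + 1) - (q ^ k - 1) := Nat.dvd_sub hdvd h4
        have h7 : 1 ≤ q ^ k := Nat.one_le_pow _ _ (by omega)
        have h8 : (q ^ k + 1) - (q ^ k - 1) = 2 := by omega
        rw [h8] at h6
        have hr2 : r = 2 := (Nat.prime_dvd_prime_iff_eq hr Nat.prime_two).mp h6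
        subst hr2
        -- `2 ∣ q - 1`, contradicting primitivity
        apply hmin 1 (by omega) (by omega)
        rw [pow_one]
        rcases hq with ⟨a, rfl⟩
        exact ⟨a, by omega⟩

end Cfsg.Agent.Lib.Helper99.UTorusA
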