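import Mathlib

set_option autoImplicit false

namespace Cfsg.Agent.Lib.Helper99.UTorusB

open scoped Matrix
open Polynomial

section eig

variable {E : Type*} [Field E] {n : ℕ}

theorem scalar_mulVec (α : E) (v : Fin n → E) : Matrix.scalar (Fin n) α *ᵥ v = α • v := by
  rw [Matrix.scalar_apply, ← Matrix.smul_one_eq_diagonal, Matrix.smul_mulVec, Matrix.one_mulVec]

theorem exists_eigvec_of_isRoot (A : Matrix (Fin n) (Fin n) E) (α : E)
    (h : A.charpoly.IsRoot α) : ∃ v : Fin n → E, v ≠ 0 ∧ A *ᵥ v = α • v := by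
  rw [IsRoot.def, Matrix.eval_charpoly] at h
  obtain ⟨v, hv0, hv⟩ := Matrix.exists_mulVec_eq_zero_iff.mpr h
  refine ⟨v, hv0, ?_⟩
  rw [Matrix.sub_mulVec, sub_eq_zero, scalar_mulVec] at hv
  exact hv.symm

theorem isRoot_of_eigvec (A : Matrix (Fin n) (Fin n) E) (α : E) (v : Fin n → E) (hv0 : v ≠ 0)
    (hv : A *ᵥ v = α • v) : A.charpoly.IsRoot α := by
  rw [IsRoot.def, Matrix.eval_charpoly]
  apply Matrix.exists_mulVec_eq_zero_iff.mp
  refine ⟨v, hv0, ?_⟩
  rw [Matrix.sub_mulVec, hv, scalar_mulVec, sub_self]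

theorem pow_mulVec_eigvec (A : Matrix (Fin n) (Fin n) E) (α : E) (v : Fin n → E)
    (hv : A *ᵥ v = α • v) (k : ℕ) : (A ^ k) *ᵥ v = α ^ k • v := by
  induction k with
  | zero => simp
  | succ k ih =>
    rw [pow_succ, ← Matrix.mulVec_mulVec, hv, Matrix.mulVec_smul, ih, smul_smul, pow_succ,
      mul_comm]

/-- a root of the characteristic polynomial whose `e`-th power is not one -/
theorem exists_root_pow_ne_one [IsAlgClosed E] (p : ℕ) [Fact p.Prime] [CharP E p] [NeZero n]
    (A : Matrix (Fin n) (Fin n) E) (e r : ℕ) (hr : Nat.Coprime r p)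
    (hAr : (A ^ e) ^ r = 1) (hA1 : A ^ e ≠ 1) : ∃ α, A.charpoly.IsRoot α ∧ α ^ e ≠ 1 := by
  by_contra hcon
  push Not at hcon
  apply hA1
  have hsplit : A.charpoly = (A.charpoly.roots.map (X - C ·)).prod :=
    (IsAlgClosed.splits A.charpoly).eq_prod_roots_of_monic A.charpoly_monic
  have hcard : Multiset.card A.charpoly.roots = n := by
    rw [← (IsAlgClosed.splits A.charpoly).natDegree_eq_card_roots,
      Matrix.charpoly_natDegree_eq_dim, Fintype.card_fin]
  have hdvd : A.charpoly ∣ (X ^ e - 1 : E[X]) ^ n := by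
    have h1 := Multiset.prod_dvd_prod_of_dvd (S := A.charpoly.roots) (fun a => X - C a)
      (fun _ => (X ^ e - 1 : E[X])) (by
        intro a ha
        rw [dvd_iff_isRoot, IsRoot.def, eval_sub, eval_pow, eval_X, eval_one, sub_eq_zero]
        exact hcon a (isRoot_of_mem_roots ha))
    rw [Multiset.map_const', Multiset.prod_replicate, hcard] at h1
    rw [hsplit]
    exact h1
  have hnil : (A ^ e - 1) ^ n = 0 := by
    obtain ⟨Q, hQ⟩ := hdvd
    have h1 := congrArg (aeval A) hQ
    rw [map_mul, Matrix.aeval_self_charpoly, zero_mul, map_pow, map_sub, map_one, aeval_X_pow] at h1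
    exact h1
  have hnil2 : (A ^ e - 1) ^ p ^ n = 0 :=
    pow_eq_zero_of_le (Nat.lt_pow_self (Fact.out : p.Prime).one_lt).le hnil
  rw [sub_pow_char_pow_of_commute p n (Commute.one_right _), one_pow, sub_eq_zero] at hnil2
  have hg := (pow_gcd_eq_one (a := A ^ e) (m := r) (n := p ^ n)).mpr ⟨hAr, hnil2⟩
  rw [Nat.Coprime.pow_right n hr, pow_one] at hg
  exact hg

/-- `n` distinct roots are all the roots -/
theorem roots_eq_of_distinct (A : Matrix (Fin n) (Fin n) E) (f : ℕ → E)
    (hroot : ∀ j < n, A.charpoly.IsRoot (f j))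
    (hinj : ∀ i < n, ∀ j < n, f i = f j → i = j) :
    A.charpoly.roots = (Multiset.range n).map f := by
  classical
  symm
  apply Multiset.eq_of_le_of_card_le
  · rw [Multiset.le_iff_subset]
    · intro a ha
      rw [Multiset.mem_map] at ha
      obtain ⟨j, hj, rfl⟩ := ha
      rw [Multiset.mem_range] at hj
      exact (mem_roots A.charpoly_monic.ne_zero).mpr (hroot j hj)
    · apply Multiset.Nodup.map_on
      · intro i hi j hj hij
        rw [Multiset.mem_range] at hi hj
        exact hinj i hi j hj hij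
      · exact Multiset.nodup_range n
  · rw [Multiset.card_map, Multiset.card_range]
    calc Multiset.card A.charpoly.roots ≤ A.charpoly.natDegree := card_roots' _
      _ = n := by rw [Matrix.charpoly_natDegree_eq_dim, Fintype.card_fin]

theorem det_eq_prod_of_distinct (A : Matrix (Fin n) (Fin n) E) (f : ℕ → E)
    (hroot : ∀ j < n, A.charpoly.IsRoot (f j))
    (hinj : ∀ i < n, ∀ j < n, f i = f j → i = j) :
    A.det = ∏ j ∈ Finset.range n, f j := by
  have hroots := roots_eq_of_distinct A f hroot hinj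
  have hsplit : A.charpoly.Splits := by
    rw [splits_iff_card_roots, hroots, Multiset.card_map, Multiset.card_range,
      Matrix.charpoly_natDegree_eq_dim, Fintype.card_fin]
  rw [Matrix.det_eq_prod_roots_charpoly_of_splits hsplit, hroots]
  rfl

theorem pow_eq_scalar_of_distinct (A : Matrix (Fin n) (Fin n) E) (f : ℕ → E)
    (hroot : ∀ j < n, A.charpoly.IsRoot (f j))
    (hinj : ∀ i < n, ∀ j < n, f i = f j → i = j) (k : ℕ) (hk0 : 0 < k) (c : E)
    (hk : ∀ j < n, f j ^ k = c) : A ^ k = Matrix.scalar (Fin n) c := by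
  classical
  have hroots := roots_eq_of_distinct A f hroot hinj
  have hsplit : A.charpoly.Splits := by
    rw [splits_iff_card_roots, hroots, Multiset.card_map, Multiset.card_range,
      Matrix.charpoly_natDegree_eq_dim, Fintype.card_fin]
  have hP0 : (X ^ k - C c : E[X]) ≠ 0 := X_pow_sub_C_ne_zero hk0 c
  have hdvd : A.charpoly ∣ (X ^ k - C c : E[X]) := by
    rw [hsplit.eq_prod_roots_of_monic A.charpoly_monic, hroots]
    rw [Multiset.prod_X_sub_C_dvd_iff_le_roots hP0, Multiset.le_iff_subset]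
    · intro a ha
      rw [Multiset.mem_map] at ha
      obtain ⟨j, hj, rfl⟩ := ha
      rw [Multiset.mem_range] at hj
      rw [mem_roots hP0, IsRoot.def, eval_sub, eval_pow, eval_X, eval_C, hk j hj, sub_self]
    · apply Multiset.Nodup.map_on
      · intro i hi j hj hij
        rw [Multiset.mem_range] at hi hj
        exact hinj i hi j hj hij
      · exact Multiset.nodup_range n
  obtain ⟨Q, hQ⟩ := hdvd
  have h1 := congrArg (aeval A) hQ
  rw [map_mul, Matrix.aeval_self_charpoly, zero_mul, map_sub, aeval_X_pow, aeval_C,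
    sub_eq_zero] at h1
  rw [h1]
  rfl

end eig

end Cfsg.Agent.Lib.Helper99.UTorusB
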