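import Mathlib
import Cfsg.Agent.Lib.Helper99.UTorusB

set_option autoImplicit false

namespace Cfsg.Agent.Lib.Helper99.UTorusC

open scoped Matrix
open Polynomial
open Cfsg.Agent.Lib.Helper99.UTorusB

section field

variable {F K : Type*} [Field F] [Fintype F] [Field K] [Algebra F K]

/-- elements fixed by the `|F|`-power map lie in the subfield -/
theorem mem_range_of_pow_card (x : K) (hx : x ^ Fintype.card F = x) :
    ∃ c : F, algebraMap F K c = x := by
  classical
  have hq : 1 < Fintype.card F := Fintype.one_lt_card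
  set P : K[X] := X ^ Fintype.card F - X with hP
  have hP0 : P ≠ 0 := FiniteField.X_pow_card_sub_X_ne_zero K hq
  have hdeg : P.natDegree = Fintype.card F := FiniteField.X_pow_card_sub_X_natDegree_eq K hq
  set T : Finset K := P.roots.toFinset with hT
  set S : Finset K := Finset.univ.image (algebraMap F K) with hS
  have hcS : S.card = Fintype.card F := by
    rw [hS, Finset.card_image_of_injective _ (algebraMap F K).injective, Finset.card_univ]
  have hcT : T.card ≤ Fintype.card F := by
    calc T.card ≤ Multiset.card P.roots := Multiset.toFinset_card_le _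
      _ ≤ P.natDegree := Polynomial.card_roots' P
      _ = Fintype.card F := hdeg
  have hroot : ∀ y : K, y ∈ T ↔ y ^ Fintype.card F = y := by
    intro y
    rw [hT, Multiset.mem_toFinset, Polynomial.mem_roots hP0, hP, Polynomial.IsRoot.def,
      Polynomial.eval_sub, Polynomial.eval_pow, Polynomial.eval_X, sub_eq_zero]
  have hST : S ⊆ T := by
    intro y hy
    rw [hS, Finset.mem_image] at hy
    obtain ⟨c, _, rfl⟩ := hy
    rw [hroot, ← map_pow, FiniteField.pow_card]
  have heq : S = T := Finset.eq_of_subset_of_card_le hST (by rw [hcS]; exact hcT)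
  have hxT : x ∈ T := (hroot x).mpr hx
  rw [← heq, hS, Finset.mem_image] at hxT
  obtain ⟨c, _, hc⟩ := hxT
  exact ⟨c, hc⟩

/-- the `q`-power map of an extension of the field with `q ^ 2` elements is a ring
homomorphism -/
theorem exists_frobE {q : ℕ} (hF : Fintype.card F = q ^ 2) :
    ∃ (p : ℕ) (_ : Fact p.Prime) (_ : CharP K p) (_ : p ∣ q) (φ : K →+* K), ∀ x, φ x = x ^ q := by
  obtain ⟨p, hp⟩ := CharP.exists F
  have hpp : p.Prime := CharP.char_is_prime F p
  have : Fact p.Prime := ⟨hpp⟩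
  have : CharP K p := charP_of_injective_algebraMap (algebraMap F K).injective p
  obtain ⟨k, hk⟩ := FiniteField.card F p
  have hq2 : q ^ 2 = p ^ (k : ℕ) := by rw [← hF, hk.2]
  have hqd : q ∣ p ^ (k : ℕ) := by rw [← hq2]; exact dvd_pow_self q (by norm_num)
  obtain ⟨j, _, hj⟩ := (Nat.dvd_prime_pow hpp).mp hqd
  have hj0 : j ≠ 0 := by
    rintro rfl
    rw [pow_zero] at hj
    have := Fintype.one_lt_card (α := F)
    rw [hF, hj] at this
    norm_num at this
  refine ⟨p, ⟨hpp⟩, inferInstance, ?_, iterateFrobenius K p j, ?_⟩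
  · rw [hj]; exact dvd_pow_self p hj0
  · intro x
    rw [iterateFrobenius_def, hj]

end field

section psi

variable {E : Type*} [Field E]

/-- the map `x ↦ x ^ (-q)` -/
def psi (q : ℕ) (x : E) : E := (x ^ q)⁻¹

theorem psi_psi (q : ℕ) (x : E) : psi q (psi q x) = x ^ (q ^ 2) := by
  unfold psi
  rw [inv_pow, inv_inv, ← pow_mul, pow_two]

theorem psi_iter_even (q : ℕ) (x : E) (i : ℕ) : (psi q)^[2 * i] x = x ^ (q ^ (2 * i)) := by
  induction i with
  | zero => simp
  | succ i ih =>
    rw [show 2 * (i + 1) = 2 * i + 1 + 1 by ring, Function.iterate_succ_apply',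
      Function.iterate_succ_apply', ih, psi_psi, ← pow_mul, ← pow_add]

theorem psi_iter_odd (q : ℕ) (x : E) (i : ℕ) :
    (psi q)^[2 * i + 1] x = (x ^ (q ^ (2 * i + 1)))⁻¹ := by
  rw [Function.iterate_succ_apply', psi_iter_even]
  unfold psi
  rw [← pow_mul, ← pow_succ]

theorem psi_pow (q : ℕ) (x : E) (k : ℕ) : psi q (x ^ k) = (psi q x) ^ k := by
  unfold psi
  rw [← pow_mul, mul_comm, pow_mul, inv_pow]

theorem psi_iter_pow (q : ℕ) (x : E) (k j : ℕ) : (psi q)^[j] (x ^ k) = ((psi q)^[j] x) ^ k := by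
  induction j with
  | zero => simp
  | succ j ih => rw [Function.iterate_succ_apply', Function.iterate_succ_apply', ih, psi_pow]

theorem psi_iter_fixed (q : ℕ) (c : E) (hc : psi q c = c) (j : ℕ) : (psi q)^[j] c = c :=
  Function.iterate_fixed hc j

theorem psi_fixed_of_pow (q : ℕ) (c : E) (hc : c ^ (q + 1) = 1) : psi q c = c := by
  unfold psi
  have hc0 : c ≠ 0 := by
    rintro rfl
    rw [zero_pow (by omega)] at hc
    exact zero_ne_one hc
  rw [pow_succ] at hc
  exact inv_eq_of_mul_eq_one_right hc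

theorem psi_injective (q : ℕ) (φ : E →+* E) (hφ : ∀ x, φ x = x ^ q) :
    Function.Injective (psi q : E → E) := by
  intro x y hxy
  unfold psi at hxy
  rw [inv_inj, ← hφ, ← hφ] at hxy
  exact φ.injective hxy

/-- an element of prime order `r` is moved by the `k`-th iterate, when `r` is a primitive prime
divisor in the unitary sense -/
theorem psi_iter_ne (q : ℕ) (hq : 1 ≤ q) (l : E) (r : ℕ) (hr : r.Prime) (hl : orderOf l = r)
    (k : ℕ) (hppd : (Even k → ¬ r ∣ q ^ k - 1) ∧ (Odd k → ¬ r ∣ q ^ k + 1)) :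
    (psi q)^[k] l ≠ l := by
  have hlr : l ^ r = 1 := by rw [← hl]; exact pow_orderOf_eq_one l
  have hl0 : l ≠ 0 := by
    rintro rfl
    rw [zero_pow hr.ne_zero] at hlr
    exact zero_ne_one hlr
  intro h
  rcases Nat.even_or_odd' k with ⟨i, rfl | rfl⟩
  · rw [psi_iter_even] at h
    have h1 : 1 ≤ q ^ (2 * i) := Nat.one_le_pow _ _ hq
    have h2 : l ^ (q ^ (2 * i) - 1) = 1 := by
      have h3 : l ^ (q ^ (2 * i) - 1) * l = l := by
        rw [← pow_succ, Nat.sub_add_cancel h1, h]
      exact mul_right_cancel₀ hl0 (by rw [h3, one_mul])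
    apply hppd.1 (even_two_mul i)
    rw [← hl]
    exact orderOf_dvd_of_pow_eq_one h2
  · rw [psi_iter_odd] at h
    have h2 : l ^ (q ^ (2 * i + 1) + 1) = 1 := by
      rw [pow_succ]
      have h3 : l ^ q ^ (2 * i + 1) ≠ 0 := pow_ne_zero _ hl0
      calc l ^ q ^ (2 * i + 1) * l = l ^ q ^ (2 * i + 1) * (l ^ q ^ (2 * i + 1))⁻¹ := by rw [h]
        _ = 1 := mul_inv_cancel₀ h3
    apply hppd.2 (odd_two_mul_add_one i)
    rw [← hl]
    exact orderOf_dvd_of_pow_eq_one h2

/-- the product of the first `2 m` iterates -/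
theorem prod_psi_iter (q : ℕ) (x : E) (hx : x ≠ 0) (m : ℕ) :
    (∏ j ∈ Finset.range (2 * m), (psi q)^[j] x) * x ^ (q * ∑ i ∈ Finset.range m, q ^ (2 * i)) =
      x ^ (∑ i ∈ Finset.range m, q ^ (2 * i)) := by
  induction m with
  | zero => simp
  | succ m ih =>
    have h3 : x ^ q ^ (2 * m + 1) ≠ 0 := pow_ne_zero _ hx
    have h4 : q * q ^ (2 * m) = q ^ (2 * m + 1) := by rw [pow_succ]; ring
    have e1 : x ^ (q * (∑ i ∈ Finset.range m, q ^ (2 * i) + q ^ (2 * m))) =
        x ^ (q * ∑ i ∈ Finset.range m, q ^ (2 * i)) * x ^ q ^ (2 * m + 1) := by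
      rw [mul_add, pow_add, h4]
    have e2 : x ^ (∑ i ∈ Finset.range m, q ^ (2 * i) + q ^ (2 * m)) =
        x ^ (∑ i ∈ Finset.range m, q ^ (2 * i)) * x ^ q ^ (2 * m) := pow_add _ _ _
    rw [show 2 * (m + 1) = 2 * m + 1 + 1 by ring, Finset.prod_range_succ, Finset.prod_range_succ,
      psi_iter_even, psi_iter_odd, Finset.sum_range_succ, e1, e2, ← ih]
    generalize (∏ j ∈ Finset.range (2 * m), (psi q)^[j] x) = P
    generalize x ^ q ^ (2 * m + 1) = b at h3 ⊢
    generalize x ^ q ^ (2 * m) = a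
    generalize x ^ (q * ∑ i ∈ Finset.range m, q ^ (2 * i)) = c
    field_simp

end psi

section unitary

variable {F : Type*} [Field F] [Fintype F] {q : ℕ} {E : Type*} [Field E] [Algebra F E] {n : ℕ}

/-- eigenvalues of a unitary matrix are closed under `x ↦ x ^ (-q)` -/
theorem root_closed (hF : Fintype.card F = q ^ 2) (G : Matrix (Fin n) (Fin n) F)
    (hG : Gᵀ * G.map (fun x => x ^ q) = 1) (α : E)
    (hα : (G.map (algebraMap F E)).charpoly.IsRoot α) :
    α ≠ 0 ∧ (G.map (algebraMap F E)).charpoly.IsRoot (psi q α) := by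
  obtain ⟨p, _, _, _, φ, hφ⟩ := exists_frobE (K := E) hF
  obtain ⟨v, hv0, hv⟩ := exists_eigvec_of_isRoot _ α hα
  set v' : Fin n → E := fun i => φ (v i) with hv'
  have hv'0 : v' ≠ 0 := by
    intro h
    apply hv0
    funext i
    have := congrFun h i
    rw [hv', Pi.zero_apply] at this
    exact (map_eq_zero φ).mp this
  have h1 : ((G.map (fun x => x ^ q)).map (algebraMap F E)) *ᵥ v' = φ α • v' := by
    funext i
    have h2 := congrFun hv i
    rw [Matrix.mulVec, dotProduct] at h2 ⊢
    rw [Pi.smul_apply, smul_eq_mul] at h2 ⊢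
    simp only [Matrix.map_apply] at h2 ⊢
    rw [hv']
    simp only
    rw [← map_mul, ← h2, map_sum]
    apply Finset.sum_congr rfl
    intro j _
    rw [map_mul, hφ (algebraMap F E (G i j)), map_pow]
  have h2 : (Gᵀ.map (algebraMap F E)) *ᵥ (((G.map (fun x => x ^ q)).map (algebraMap F E)) *ᵥ v')
      = v' := by
    rw [Matrix.mulVec_mulVec]
    have : Gᵀ.map (algebraMap F E) * (G.map (fun x => x ^ q)).map (algebraMap F E) = 1 := by
      rw [← Matrix.map_mul, hG, Matrix.map_one _ (map_zero _) (map_one _)]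
    rw [this, Matrix.one_mulVec]
  rw [h1, Matrix.mulVec_smul] at h2
  have hφα : φ α ≠ 0 := by
    intro h0
    rw [h0, zero_smul] at h2
    exact hv'0 h2.symm
  have hα0 : α ≠ 0 := by
    rintro rfl
    exact hφα (map_zero φ)
  refine ⟨hα0, ?_⟩
  have h3 : (G.map (algebraMap F E))ᵀ *ᵥ v' = psi q α • v' := by
    have h4 : (G.map (algebraMap F E))ᵀ = Gᵀ.map (algebraMap F E) := by
      rw [Matrix.transpose_map]
    rw [h4]
    unfold psi
    rw [← hφ]
    exact (eq_inv_smul_iff₀ hφα).mpr h2
  have h5 := isRoot_of_eigvec _ _ v' hv'0 h3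
  rwa [Matrix.charpoly_transpose] at h5

omit [Fintype F] in
theorem map_scalar (c : F) : (Matrix.scalar (Fin n) c).map (algebraMap F E) =
    Matrix.scalar (Fin n) (algebraMap F E c) := by
  rw [Matrix.scalar_apply, Matrix.scalar_apply, Matrix.diagonal_map (map_zero _)]

theorem exists_ne_zero_coord (v : Fin n → E) (hv : v ≠ 0) : ∃ i, v i ≠ 0 := by
  by_contra h
  push Not at h
  exact hv (funext h)

/-- the eigenvalue analysis of a unitary matrix of even degree `2 m` one of whose powers has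
order a primitive prime divisor -/
theorem key (hF : Fintype.card F = q ^ 2) [IsAlgClosed E] (m : ℕ) (hm : 0 < m)
    (G : Matrix (Fin (2 * m)) (Fin (2 * m)) F)
    (hG : Gᵀ * G.map (fun x => x ^ q) = 1) (hdet : G.det = 1)
    (r e : ℕ) (hr : r.Prime) (hrq : Nat.Coprime r q)
    (hppd : ∀ k, 0 < k → k < 2 * m → (Even k → ¬ r ∣ q ^ k - 1) ∧ (Odd k → ¬ r ∣ q ^ k + 1))
    (hGe1 : G ^ e ≠ 1) (hGer : (G ^ e) ^ r = 1) :
    ∃ α : E, α ≠ 0 ∧ α ^ ((q - 1) * ∑ i ∈ Finset.range m, q ^ (2 * i)) = 1 ∧
      (∀ (k : ℕ) (c : F), G ^ k = Matrix.scalar _ c → α ^ k = algebraMap F E c) ∧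
      (∀ k : ℕ, 0 < k → α ^ (k * (q + 1)) = 1 → ∃ c : F, G ^ k = Matrix.scalar _ c) := by
  classical
  obtain ⟨p, hp, hcp, hpq, φ, hφ⟩ := exists_frobE (K := E) hF
  have hq1 : 1 ≤ q := by
    rcases Nat.eq_zero_or_pos q with rfl | h
    · have := Fintype.one_lt_card (α := F)
      rw [hF] at this
      norm_num at this
    · exact h
  have : NeZero (2 * m) := ⟨by omega⟩
  set Φ : Matrix (Fin (2 * m)) (Fin (2 * m)) F →+* Matrix (Fin (2 * m)) (Fin (2 * m)) E :=
    (algebraMap F E).mapMatrix with hΦdef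
  have hΦ : ∀ M, Φ M = M.map (algebraMap F E) := fun _ => rfl
  have hΦinj : Function.Injective Φ := by
    intro A B h
    ext i j
    have := congrFun (congrFun h i) j
    rw [hΦ, hΦ, Matrix.map_apply, Matrix.map_apply] at this
    exact (algebraMap F E).injective this
  set A := G.map (algebraMap F E) with hA
  have hAG : A = Φ G := rfl
  have hAe1 : A ^ e ≠ 1 := by
    intro h
    apply hGe1
    apply hΦinj
    rw [map_pow, map_one, ← hAG]
    exact h
  have hAer : (A ^ e) ^ r = 1 := by
    have := congrArg Φ hGer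
    rwa [map_pow, map_pow, map_one, ← hAG] at this
  have hrp : Nat.Coprime r p := Nat.Coprime.coprime_dvd_right hpq hrq
  obtain ⟨α, hα, hαe⟩ := exists_root_pow_ne_one p A e r hrp hAer hAe1
  obtain ⟨v, hv0, hv⟩ := exists_eigvec_of_isRoot A α hα
  obtain ⟨i₀, hi₀⟩ := exists_ne_zero_coord v hv0
  have hscal : ∀ a b : E, a • v = b • v → a = b := by
    intro a b hab
    have h2 := congrFun hab i₀
    rw [Pi.smul_apply, Pi.smul_apply, smul_eq_mul, smul_eq_mul] at h2
    exact mul_right_cancel₀ hi₀ h2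
  set l := α ^ e with hl
  have hlr : l ^ r = 1 := by
    have h1 := pow_mulVec_eigvec A α v hv (e * r)
    rw [pow_mul, hAer, Matrix.one_mulVec] at h1
    rw [hl, ← pow_mul]
    apply hscal
    rw [one_smul]
    exact h1.symm
  have hlord : orderOf l = r := by
    have : Fact r.Prime := ⟨hr⟩
    exact orderOf_eq_prime hlr hαe
  set f : ℕ → E := fun j => (psi q)^[j] α with hf
  have hroot : ∀ j, A.charpoly.IsRoot (f j) := by
    intro j
    induction j with
    | zero => exact hα
    | succ j ih =>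
      rw [show f (j + 1) = psi q (f j) from Function.iterate_succ_apply' _ _ _]
      exact (root_closed hF G hG _ ih).2
  have hinj_psi := psi_injective q φ hφ
  have hlt : ∀ i j, i < j → j < 2 * m → f i ≠ f j := by
    intro i j hij hj h
    have h1 : f j = (psi q)^[i] ((psi q)^[j - i] α) := by
      show (psi q)^[j] α = _
      rw [← Function.iterate_add_apply]
      congr 1
      omega
    rw [h1] at h
    have h2 := (hinj_psi.iterate i) h
    have h3 : (psi q)^[j - i] l = l := by
      rw [hl, psi_iter_pow, ← h2]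
    exact psi_iter_ne q hq1 l r hr hlord (j - i) (hppd (j - i) (by omega) (by omega)) h3
  have hinj : ∀ i < 2 * m, ∀ j < 2 * m, f i = f j → i = j := by
    intro i hi j hj h
    rcases Nat.lt_trichotomy i j with h1 | h1 | h1
    · exact absurd h (hlt i j h1 hj)
    · exact h1
    · exact absurd h.symm (hlt j i h1 hi)
  have hα0 : α ≠ 0 := (root_closed hF G hG α hα).1
  refine ⟨α, hα0, ?_, ?_, ?_⟩
  · have hdetA : A.det = 1 := by
      have := congrArg (algebraMap F E) hdet
      rw [RingHom.map_det, map_one] at this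
      exact this
    have h1 := det_eq_prod_of_distinct A f (fun j _ => hroot j) hinj
    rw [hdetA] at h1
    have h2 := prod_psi_iter q α hα0 m
    rw [← h1, one_mul] at h2
    set S := ∑ i ∈ Finset.range m, q ^ (2 * i) with hS
    have h3 : α ^ ((q - 1) * S) * α ^ S = α ^ S := by
      rw [← pow_add]
      have h4 : (q - 1) * S + S = q * S := by
        obtain ⟨t, rfl⟩ : ∃ t, q = t + 1 := ⟨q - 1, by omega⟩
        simp only [Nat.add_sub_cancel]
        ring
      rw [h4, h2]
    exact mul_right_cancel₀ (pow_ne_zero _ hα0) (by rw [h3, one_mul])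
  · intro k c hk
    have h1 := pow_mulVec_eigvec A α v hv k
    have h2 : A ^ k = Matrix.scalar _ (algebraMap F E c) := by
      have := congrArg Φ hk
      rw [map_pow, ← hAG, hΦ, map_scalar] at this
      exact this
    rw [h2, scalar_mulVec] at h1
    exact (hscal _ _ h1).symm
  · intro k hk0 hk
    set c := α ^ k with hc
    have hc1 : c ^ (q + 1) = 1 := by rw [hc, ← pow_mul]; exact hk
    have hfix := psi_fixed_of_pow q c hc1
    have h1 : ∀ j < 2 * m, f j ^ k = c := by
      intro j _
      show ((psi q)^[j] α) ^ k = c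
      rw [← psi_iter_pow]
      exact psi_iter_fixed q c hfix j
    have h2 := pow_eq_scalar_of_distinct A f (fun j _ => hroot j) hinj k hk0 c h1
    have hcF : c ^ Fintype.card F = c := by
      rw [hF]
      have : q ^ 2 = (q + 1) * (q - 1) + 1 := by
        obtain ⟨t, rfl⟩ : ∃ t, q = t + 1 := ⟨q - 1, by omega⟩
        simp only [Nat.add_sub_cancel]
        ring
      rw [this, pow_succ, pow_mul, hc1, one_pow, one_mul]
    obtain ⟨c0, hc0⟩ := mem_range_of_pow_card (F := F) c hcF
    refine ⟨c0, ?_⟩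
    apply hΦinj
    rw [map_pow, ← hAG, h2, hΦ, map_scalar, hc0]

end unitary

end Cfsg.Agent.Lib.Helper99.UTorusC
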