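import Mathlib
import Cfsg.Prelude.Def_Classical
import Cfsg.Agent.Lib.Helper99.HermONB

set_option autoImplicit false

namespace Cfsg.Agent.Lib.Helper99.UTorusD

open Cfsg.Agent.Lib.Helper19 (frobQ frobQ_apply frobQ_frobQ pow_q_pow_q add_pow_q sum_pow_q q_pos
  one_lt_q)
open Cfsg.Agent.Lib.Helper99.HermONB

universe u

open scoped Matrix

section dict

variable {F : Type*} [Field F] [Fintype F] {q : ℕ} {n : ℕ}

/-- the dictionary for `PSU_n` -/
theorem mk_pow_eq_one_iff_PSU_n (hF : Fintype.card F = q ^ 2) (hn0 : 0 < n)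
    (g : Cfsg.SU n F q) (j : ℕ) :
    (QuotientGroup.mk g : Cfsg.PSU n F q) ^ j = 1 ↔
      ∃ c : F, ((g : Matrix.SpecialLinearGroup (Fin n) F) : Matrix (Fin n) (Fin n) F) ^ j =
        Matrix.scalar (Fin n) c := by
  rw [← QuotientGroup.mk_pow, QuotientGroup.eq_one_iff]
  have hcoe : (((g ^ j : Cfsg.SU n F q) : Matrix.SpecialLinearGroup (Fin n) F) :
      Matrix (Fin n) (Fin n) F) =
      ((g : Matrix.SpecialLinearGroup (Fin n) F) : Matrix (Fin n) (Fin n) F) ^ j := by
    rw [Subgroup.coe_pow, Matrix.SpecialLinearGroup.coe_pow]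
  constructor
  · intro hz
    obtain ⟨c, _, _, hc⟩ := Cfsg.Agent.Lib.Helper08.center_SU_scalar hF hn0 (g ^ j) hz
    exact ⟨c, by rw [← hcoe, hc, Matrix.scalar_apply]⟩
  · rintro ⟨c, hc⟩
    rw [Matrix.scalar_apply] at hc
    have hc1 : c * c ^ q = 1 := by
      have h := (Cfsg.Agent.Lib.Helper08.mem_SU_iff (g ^ j).1).mp (g ^ j).2
        (Pi.single ⟨0, hn0⟩ 1) (Pi.single ⟨0, hn0⟩ 1)
      rw [Cfsg.Agent.Lib.Helper19.hermForm_single_single hF, if_pos rfl, hcoe, hc] at h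
      unfold Cfsg.hermForm at h
      rw [Finset.sum_eq_single (⟨0, hn0⟩ : Fin n)] at h
      · simpa [Matrix.mulVec_diagonal] using h
      · intro i _ hi
        simp [Matrix.mulVec_diagonal, hi]
      · intro h'; exact absurd (Finset.mem_univ _) h'
    have hcn : c ^ n = 1 := by
      have hdet := (g ^ j).1.2
      rw [hcoe, hc, Matrix.det_diagonal, Finset.prod_const, Finset.card_univ,
        Fintype.card_fin] at hdet
      exact hdet
    obtain ⟨z, hz, hzc⟩ := Cfsg.Agent.Lib.Helper08.scalar_mem_SU_center (q := q) (n := n) c hc1 hcn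
    have : z = g ^ j := by
      apply Subtype.ext
      apply Subtype.ext
      rw [hzc, hcoe, hc]
    rw [← this]
    exact hz

/-- an isometry of determinant one of an `n`-dimensional hermitian space gives an element of
`SU_n` with the same scalar powers -/
theorem exists_SU_of_isometry_n (hF : Fintype.card F = q ^ 2) (h2 : (2 : F) ≠ 0)
    {V : Type u} [AddCommGroup V] [Module F V] [FiniteDimensional F V] (hn0 : 0 < n)
    (hV : Module.finrank F V = n) (h : V → V → F) (hh : HForm q h) (T : V →ₗ[F] V)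
    (hT : ∀ x y, h (T x) (T y) = h x y) (hdet : LinearMap.det T = 1) :
    ∃ g : Cfsg.SU n F q, ∀ (j : ℕ) (c : F),
      ((g : Matrix.SpecialLinearGroup (Fin n) F) : Matrix (Fin n) (Fin n) F) ^ j =
        Matrix.scalar (Fin n) c ↔ T ^ j = algebraMap F (Module.End F V) c := by
  classical
  obtain ⟨b, hb⟩ := exists_basis hF h2 h hh n hn0 hV
  obtain ⟨M, hM⟩ : ∃ M, M = LinearMap.toMatrixAlgEquiv b T := ⟨_, rfl⟩
  have hM' : M = LinearMap.toMatrix b b T := hM
  have hMdet : M.det = 1 := by rw [hM', LinearMap.det_toMatrix, hdet]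
  have hmem : ∀ u v : Fin n → F, Cfsg.hermForm n F q (M *ᵥ u) (M *ᵥ v) =
      Cfsg.hermForm n F q u v := by
    intro u v
    have hu : ⇑(b.repr (b.equivFun.symm u)) = u := by
      rw [← Module.Basis.equivFun_apply]; exact b.equivFun.apply_symm_apply u
    have hv : ⇑(b.repr (b.equivFun.symm v)) = v := by
      rw [← Module.Basis.equivFun_apply]; exact b.equivFun.apply_symm_apply v
    rw [← hu, ← hv, hM', LinearMap.toMatrix_mulVec_repr, LinearMap.toMatrix_mulVec_repr,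
      ← form_eq_hermForm hh b hb, ← form_eq_hermForm hh b hb, hT]
  refine ⟨⟨⟨M, hMdet⟩, (Cfsg.Agent.Lib.Helper08.mem_SU_iff _).mpr hmem⟩, ?_⟩
  intro j c
  show M ^ j = Matrix.scalar (Fin n) c ↔ _
  have h1 : M ^ j = LinearMap.toMatrixAlgEquiv b (T ^ j) := by rw [map_pow, hM]
  have h3 : Matrix.scalar (Fin n) c =
      LinearMap.toMatrixAlgEquiv b (algebraMap F (Module.End F V) c) := by
    rw [AlgEquiv.commutes]; rfl
  rw [h1, h3]
  exact (LinearMap.toMatrixAlgEquiv b).injective.eq_iff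

end dict

section hyp

variable {F : Type*} [Field F] [Fintype F] {q : ℕ} {m : ℕ}

/-- the hyperbolic hermitian form on `F ^ m ⊕ F ^ m` -/
def hypForm (q : ℕ) (x y : Fin m ⊕ Fin m → F) : F :=
  ∑ i, (x (Sum.inl i) * (y (Sum.inr i)) ^ q + x (Sum.inr i) * (y (Sum.inl i)) ^ q)

theorem hypForm_hform (hF : Fintype.card F = q ^ 2) :
    HForm q (hypForm (F := F) (m := m) q) := by
  classical
  refine ⟨?_, ?_, ?_, ?_⟩
  · intro x x' y
    unfold hypForm
    rw [← Finset.sum_add_distrib]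
    apply Finset.sum_congr rfl
    intro i _
    simp only [Pi.add_apply]
    ring
  · intro c x y
    unfold hypForm
    rw [Finset.mul_sum]
    apply Finset.sum_congr rfl
    intro i _
    simp only [Pi.smul_apply, smul_eq_mul]
    ring
  · intro x y
    unfold hypForm
    rw [sum_pow_q hF]
    apply Finset.sum_congr rfl
    intro i _
    rw [add_pow_q hF, mul_pow, mul_pow, pow_q_pow_q hF, pow_q_pow_q hF]
    ring
  · intro x hx
    funext k
    rcases k with i | i
    · have := hx (Pi.single (Sum.inr i) 1)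
      unfold hypForm at this
      rw [Finset.sum_eq_single i] at this
      · simpa [(q_pos hF).ne'] using this
      · intro j _ hji
        simp [hji, (q_pos hF).ne']
      · intro h'; exact absurd (Finset.mem_univ _) h'
    · have := hx (Pi.single (Sum.inl i) 1)
      unfold hypForm at this
      rw [Finset.sum_eq_single i] at this
      · simpa [(q_pos hF).ne'] using this
      · intro j _ hji
        simp [hji, (q_pos hF).ne']
      · intro h'; exact absurd (Finset.mem_univ _) h'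

theorem hypForm_eq (hF : Fintype.card F = q ^ 2) (x y : Fin m ⊕ Fin m → F) :
    hypForm q x y = (x ∘ Sum.inl) ⬝ᵥ (frobQ hF ∘ (y ∘ Sum.inr)) +
      (x ∘ Sum.inr) ⬝ᵥ (frobQ hF ∘ (y ∘ Sum.inl)) := by
  unfold hypForm dotProduct
  rw [← Finset.sum_add_distrib]
  apply Finset.sum_congr rfl
  intro i _
  simp only [Function.comp_apply, frobQ_apply]

/-- block diagonal isometries of the hyperbolic form -/
theorem hypForm_blocks (hF : Fintype.card F = q ^ 2) (A B : Matrix (Fin m) (Fin m) F)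
    (h1 : Aᵀ * B.map (frobQ hF) = 1) (h2 : Bᵀ * A.map (frobQ hF) = 1)
    (x y : Fin m ⊕ Fin m → F) :
    hypForm q (Matrix.fromBlocks A 0 0 B *ᵥ x) (Matrix.fromBlocks A 0 0 B *ᵥ y) =
      hypForm q x y := by
  rw [hypForm_eq hF, hypForm_eq hF, Matrix.fromBlocks_mulVec, Matrix.fromBlocks_mulVec]
  simp only [Matrix.zero_mulVec, add_zero, zero_add]
  have e1 : ∀ z : Fin m ⊕ Fin m → F,
      (Sum.elim (A *ᵥ (z ∘ Sum.inl)) (B *ᵥ (z ∘ Sum.inr)) : Fin m ⊕ Fin m → F) ∘ Sum.inl =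
        A *ᵥ (z ∘ Sum.inl) := fun z => rfl
  have e2 : ∀ z : Fin m ⊕ Fin m → F,
      (Sum.elim (A *ᵥ (z ∘ Sum.inl)) (B *ᵥ (z ∘ Sum.inr)) : Fin m ⊕ Fin m → F) ∘ Sum.inr =
        B *ᵥ (z ∘ Sum.inr) := fun z => rfl
  rw [e1, e2, e1, e2]
  have e3 : ∀ (M : Matrix (Fin m) (Fin m) F) (w : Fin m → F),
      frobQ hF ∘ (M *ᵥ w) = M.map (frobQ hF) *ᵥ (frobQ hF ∘ w) := by
    intro M w
    funext i
    exact RingHom.map_mulVec (frobQ hF) M w i
  rw [e3, e3]
  have e4 : ∀ (M N : Matrix (Fin m) (Fin m) F) (a b : Fin m → F), Mᵀ * N = 1 →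
      (M *ᵥ a) ⬝ᵥ (N *ᵥ b) = a ⬝ᵥ b := by
    intro M N a b hMN
    rw [← Matrix.vecMul_transpose, ← Matrix.dotProduct_mulVec, Matrix.mulVec_mulVec, hMN,
      Matrix.one_mulVec]
  rw [e4 A _ _ _ h1, e4 B _ _ _ h2]

/-- an element of `SU_{2m}` from a pair of blocks -/
theorem exists_SU_of_blocks (hF : Fintype.card F = q ^ 2) (h2 : (2 : F) ≠ 0) (hm : 0 < m)
    (A B : Matrix (Fin m) (Fin m) F)
    (h1 : Aᵀ * B.map (frobQ hF) = 1) (h2' : Bᵀ * A.map (frobQ hF) = 1)
    (hdet : A.det * B.det = 1) :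
    ∃ g : Cfsg.SU (2 * m) F q, ∀ (j : ℕ) (c : F),
      ((g : Matrix.SpecialLinearGroup (Fin (2 * m)) F) : Matrix (Fin (2 * m)) (Fin (2 * m)) F) ^ j =
        Matrix.scalar (Fin (2 * m)) c ↔
        (A ^ j = Matrix.scalar (Fin m) c ∧ B ^ j = Matrix.scalar (Fin m) c) := by
  classical
  set M : Matrix (Fin m ⊕ Fin m) (Fin m ⊕ Fin m) F := Matrix.fromBlocks A 0 0 B with hM
  set T : (Fin m ⊕ Fin m → F) →ₗ[F] (Fin m ⊕ Fin m → F) := Matrix.toLinAlgEquiv' M with hT
  have hV : Module.finrank F (Fin m ⊕ Fin m → F) = 2 * m := by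
    rw [Module.finrank_fintype_fun_eq_card, Fintype.card_sum, Fintype.card_fin]
    ring
  have hTiso : ∀ x y, hypForm q (T x) (T y) = hypForm q x y := by
    intro x y
    have e : ∀ z, T z = M *ᵥ z := fun z => rfl
    rw [e, e]
    exact hypForm_blocks hF A B h1 h2' x y
  have hTdet : LinearMap.det T = 1 := by
    have : T = Matrix.toLin' M := rfl
    rw [this, LinearMap.det_toLin', hM, Matrix.det_fromBlocks_zero₁₂, hdet]
  obtain ⟨g, hg⟩ := exists_SU_of_isometry_n hF h2 (n := 2 * m) (by omega) hV (hypForm q)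
    (hypForm_hform hF) T hTiso hTdet
  refine ⟨g, ?_⟩
  intro j c
  rw [hg j c]
  have e1 : T ^ j = Matrix.toLinAlgEquiv' (M ^ j) := by rw [map_pow]
  have e2 : algebraMap F (Module.End F (Fin m ⊕ Fin m → F)) c =
      Matrix.toLinAlgEquiv' (algebraMap F (Matrix (Fin m ⊕ Fin m) (Fin m ⊕ Fin m) F) c) := by
    rw [AlgEquiv.commutes]
  rw [e1, e2, (Matrix.toLinAlgEquiv' (R := F) (n := Fin m ⊕ Fin m)).injective.eq_iff, hM,
    Matrix.fromBlocks_diagonal_pow]
  have e3 : algebraMap F (Matrix (Fin m ⊕ Fin m) (Fin m ⊕ Fin m) F) c =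
      Matrix.fromBlocks (Matrix.scalar (Fin m) c) 0 0 (Matrix.scalar (Fin m) c) := by
    rw [Matrix.scalar_apply, Matrix.fromBlocks_diagonal, Matrix.algebraMap_eq_diagonal]
    congr 1
    funext k
    rcases k with i | i <;> rfl
  rw [e3, Matrix.fromBlocks_inj]
  constructor
  · rintro ⟨ha, _, _, hb⟩
    exact ⟨ha, hb⟩
  · rintro ⟨ha, hb⟩
    exact ⟨ha, rfl, rfl, hb⟩

end hyp

end Cfsg.Agent.Lib.Helper99.UTorusD
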