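import Mathlib
import Cfsg.Prelude.Def_GeometricClasses
import Cfsg.Agent.Lib.Helper99.Uni4A
import Cfsg.Agent.Lib.Helper99.Symp4B
import Cfsg.Agent.Lib.Helper99.Symp4E

/-!
# The unitary structure theorem: `R` is conjugate to the standard group by a unitary matrix
-/

set_option autoImplicit false

namespace Cfsg.Agent.Lib.Helper99.Uni4B

open Cfsg.Agent.Lib.Helper19 (frobQ frobQ_apply pow_q_pow_q add_pow_q sum_pow_q q_pos one_lt_q)
open Cfsg.Agent.Lib.Helper99.Uni4A Cfsg.Agent.Lib.Helper99.Symp4A Cfsg.Agent.Lib.Helper99.Symp4B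
open Cfsg.Agent.Lib.Helper99.Symp4C Cfsg.Agent.Lib.Helper99.Symp4E
open scoped Matrix

variable {F : Type*} [Field F] [Fintype F] {p : ℕ}

/-- the hypotheses in the unitary setting give the working hypotheses -/
theorem hyp_of_unitary {R : Subgroup (GL (Fin 4) F)} (hRs : Cfsg.Geo.IsSymplecticTypeGroup 2 R)
    (hRi : Cfsg.Geo.ActsAbsolutelyIrreducibly (Cfsg.Geo.matrixSet R))
    (hR6 : Nat.card R = 2 ^ 6) (hcen : Nat.card (Subgroup.center R) = 4) (h2 : (2 : F) ≠ 0) : Hyp R := by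
  have hexp : ∀ x : ↥R, x ^ 4 = 1 := by
    intro x
    have h1 := hRs.exponent_eq
    have h2 : Monoid.exponent ↥R = 4 := by rw [h1]; rfl
    have h3 := Monoid.pow_exponent_eq_one x
    rw [h2] at h3
    exact h3
  refine ⟨?_, ?_, ?_, ?_, by rw [hR6]; norm_num, h2⟩
  · intro g hg
    obtain ⟨hgR, hcomm⟩ := mem_Zr.mp hg
    apply hRi.2
    rintro s ⟨h, hh, rfl⟩
    have := hcomm h hh
    have h3 := congrArg Units.val this
    simp only [Units.val_mul] at h3
    exact h3.symm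
  · intro g hg
    have := hexp ⟨g, hg⟩
    exact congrArg Subtype.val this
  · intro x hx hc
    have hle := centralizer_critSub_le (G := ↥R) hRs.pGroup hexp
      hRs.cyclic_of_characteristic hcen
    have : (⟨x, hx⟩ : ↥R) ∈ Subgroup.centralizer (critSub ↥R : Set ↥R) := by
      rw [Subgroup.mem_centralizer_iff]
      intro c hcc
      apply Subtype.ext
      have := hc c.1 ⟨c, hcc, rfl⟩
      simpa using this.symm
    exact ⟨⟨x, hx⟩, hle this, rfl⟩
  · rw [card_Zr, hcen]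

omit [Fintype F] in
theorem sg_pow_odd (hp : Odd p) (e k : Fin 4) : (sg e k : F) ^ p = sg e k := by
  rcases sg_eq_or (F := F) e k with h | h <;> rw [h]
  · exact one_pow _
  · exact hp.neg_one_pow

omit [Fintype F] in
theorem W_transpose (e f : Fin 4) :
    (W e f : Matrix (Fin 4) (Fin 4) F)ᵀ = (sg e f : F) • W e f := by
  ext k l
  simp only [Matrix.transpose_apply, W_apply, Matrix.smul_apply, smul_eq_mul]
  by_cases h : l = xr k f
  · have h' : k = xr l f := by rw [h, xr_xr_cancel]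
    rw [if_pos h, if_pos h']
    rw [h, sg_xr_right]
    exact mul_comm _ _
  · have h' : ¬ k = xr l f := by
      intro hk; apply h; rw [hk, xr_xr_cancel]
    rw [if_neg h, if_neg h', mul_zero]

variable (hF : Fintype.card F = p ^ 2)

theorem ct_W (hp : Odd p) (e f : Fin 4) :
    ct hF (W e f : Matrix (Fin 4) (Fin 4) F) = (sg e f : F) • W e f := by
  rw [← W_transpose]
  ext k l
  rw [ct_apply, Matrix.transpose_apply, W_apply]
  split_ifs
  · exact sg_pow_odd hp _ _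
  · exact zero_pow (q_pos hF).ne'

theorem ct_W_mul (hp : Odd p) (e f : Fin 4) :
    ct hF (W e f : Matrix (Fin 4) (Fin 4) F) * W e f = 1 := by
  rw [ct_W hF hp, Matrix.smul_mul, W_sq, smul_smul, sg_mul_self, one_smul]

theorem Wg_mem_GU (hF : Fintype.card F = p ^ 2) (hp : Odd p) (e f : Fin 4) : (Wg e f : GL (Fin 4) F) ∈ Cfsg.GU 4 F p := by
  rw [mem_GU_iff_ct hF, Wg_val]
  exact ct_W_mul hF hp e f

/-- scalar elements of the general linear group -/
def scalarGL (μ : F) (hμ : μ ≠ 0) : GL (Fin 4) F :=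
  ⟨μ • 1, μ⁻¹ • 1, by rw [Matrix.smul_mul, Matrix.mul_smul, Matrix.mul_one, smul_smul, mul_inv_cancel₀ hμ, one_smul],
    by rw [Matrix.smul_mul, Matrix.mul_smul, Matrix.mul_one, smul_smul, inv_mul_cancel₀ hμ, one_smul]⟩

omit [Fintype F] in
theorem scalarGL_val (μ : F) (hμ : μ ≠ 0) :
    ((scalarGL μ hμ : GL (Fin 4) F) : Matrix (Fin 4) (Fin 4) F) = μ • 1 := rfl

omit [Fintype F] in
theorem scalarGL_comm (μ : F) (hμ : μ ≠ 0) (g : GL (Fin 4) F) :
    scalarGL μ hμ * g = g * scalarGL μ hμ := by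
  apply Units.ext
  rw [Units.val_mul, Units.val_mul, scalarGL_val]
  simp

/-- the unitary structure theorem -/
theorem structure_unitary (hF : Fintype.card F = p ^ 2) {R : Subgroup (GL (Fin 4) F)} (H : Hyp R) (hRU : R ≤ Cfsg.GU 4 F p)
    (hp : Odd p) :
    ∃ (i : F) (P : GL (Fin 4) F), i * i = -1 ∧ P ∈ Cfsg.GU 4 F p ∧
      ∀ g : GL (Fin 4) F, g ∈ R ↔ P⁻¹ * g * P ∈ R0 F := by
  obtain ⟨i, P, hi, hP⟩ := structure_thm H
  have h4 : (4 : F) ≠ 0 := by
    have : (4 : F) = 2 * 2 := by norm_num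
    rw [this]; exact mul_ne_zero H.two_ne H.two_ne
  set Pm : Matrix (Fin 4) (Fin 4) F := (P : Matrix (Fin 4) (Fin 4) F) with hPm
  set Pi : Matrix (Fin 4) (Fin 4) F := ((P⁻¹ : GL (Fin 4) F) : Matrix (Fin 4) (Fin 4) F) with hPi
  have hPPi : Pm * Pi = 1 := by rw [hPm, hPi, ← Units.val_mul, mul_inv_cancel, Units.val_one]
  have hPiP : Pi * Pm = 1 := by rw [hPm, hPi, ← Units.val_mul, inv_mul_cancel, Units.val_one]
  set Hm : Matrix (Fin 4) (Fin 4) F := ct hF Pm * Pm with hHm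
  have hcomm : ∀ v : V, Hm * Wv v = Wv v * Hm := by
    intro v
    have hgR : P * Wg v.1 v.2 * P⁻¹ ∈ R := by
      rw [hP]
      have : P⁻¹ * (P * Wg v.1 v.2 * P⁻¹) * P = Wg v.1 v.2 := by group
      rw [this]; exact Wg_mem_R0 _ _
    have hgU := (mem_GU_iff_ct hF _).mp (hRU hgR)
    rw [Units.val_mul, Units.val_mul, Wg_val, ← hPm, ← hPi, ct_mul, ct_mul, ct_W hF hp] at hgU
    -- ct Pi * (sg • W * ct Pm) * (Pm * W * Pi) = 1
    have h1 : ct hF Pm * (ct hF Pi * ((sg v.1 v.2 : F) • W v.1 v.2 * ct hF Pm) * (Pm * W v.1 v.2 * Pi)) * Pm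
        = ct hF Pm * 1 * Pm := by rw [hgU]
    have hcc : ct hF Pm * ct hF Pi = 1 := by rw [← ct_mul, hPiP, ct_one]
    have h2 : ct hF Pm * (ct hF Pi * ((sg v.1 v.2 : F) • W v.1 v.2 * ct hF Pm) * (Pm * W v.1 v.2 * Pi)) * Pm
        = (ct hF Pm * ct hF Pi) * ((sg v.1 v.2 : F) • W v.1 v.2) * (ct hF Pm * Pm) * W v.1 v.2 * (Pi * Pm) := by
      simp only [mul_assoc]
    rw [h2, hcc, hPiP, one_mul, mul_one, mul_one] at h1
    -- (sg • W) * Hm * W = Hm
    show Hm * W v.1 v.2 = W v.1 v.2 * Hm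
    have h3 : W v.1 v.2 * ((sg v.1 v.2 : F) • W v.1 v.2 * Hm * W v.1 v.2) = W v.1 v.2 * Hm := by
      rw [hHm, h1]
    rw [← h3]
    simp only [Matrix.smul_mul, Matrix.mul_smul, ← mul_assoc, W_sq]
    rw [smul_smul, sg_mul_self, one_smul, Matrix.one_mul]
  obtain ⟨lam, hlam⟩ := scalar_of_commute h4 hcomm
  have hlam0 : lam ≠ 0 := by
    intro h0
    have hdet : Hm.det ≠ 0 := by
      rw [hHm, Matrix.det_mul, det_ct]
      have hd : Pm.det ≠ 0 := by
        intro hd0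
        have := congrArg Matrix.det hPPi
        rw [Matrix.det_mul, hd0, zero_mul, Matrix.det_one] at this
        exact zero_ne_one this
      exact mul_ne_zero (pow_ne_zero _ hd) hd
    apply hdet
    rw [hlam, h0, zero_smul]
    simp
  have hlamp : lam ^ p = lam := by
    have h1 : ct hF Hm = Hm := by rw [hHm, ct_mul, ct_ct]
    rw [hlam, ct_smul, ct_one] at h1
    have := congrFun (congrFun h1 0) 0
    simpa using this
  obtain ⟨μ, hμ0, hμ⟩ := exists_norm_eq hF (inv_ne_zero hlam0) (by rw [inv_pow, hlamp])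
  refine ⟨i, scalarGL μ hμ0 * P, hi, ?_, ?_⟩
  · rw [mem_GU_iff_ct hF, Units.val_mul, scalarGL_val, Matrix.smul_mul, Matrix.one_mul, ct_smul,
      Matrix.smul_mul, Matrix.mul_smul, smul_smul, ← hPm, ← hHm, hlam, smul_smul]
    have : μ ^ p * μ * lam = 1 := by
      rw [mul_comm (μ ^ p) μ, hμ, inv_mul_cancel₀ hlam0]
    rw [this, one_smul]
  · intro g
    rw [hP g]
    have hs : (scalarGL μ hμ0)⁻¹ * g * scalarGL μ hμ0 = g := by
      rw [mul_assoc, ← scalarGL_comm μ hμ0 g, ← mul_assoc, inv_mul_cancel, one_mul]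
    have : (scalarGL μ hμ0 * P)⁻¹ * g * (scalarGL μ hμ0 * P) = P⁻¹ * g * P := by
      calc (scalarGL μ hμ0 * P)⁻¹ * g * (scalarGL μ hμ0 * P)
          = P⁻¹ * ((scalarGL μ hμ0)⁻¹ * g * scalarGL μ hμ0) * P := by group
        _ = P⁻¹ * g * P := by rw [hs]
    rw [this]

end Cfsg.Agent.Lib.Helper99.Uni4B
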