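import Mathlib
import Cfsg.Agent.Lib.Helper99.Uni4E
import Cfsg.Agent.Lib.Helper99.Symp4K

/-!
# The explicit normalizing elements are unitary; the three positive cases
-/

set_option autoImplicit false

namespace Cfsg.Agent.Lib.Helper99.Uni4F

open Cfsg.Agent.Lib.Helper19 (frobQ frobQ_apply pow_q_pow_q add_pow_q sum_pow_q q_pos one_lt_q)
open Cfsg.Agent.Lib.Helper99.HermONB Cfsg.Agent.Lib.Helper99.Uni4A Cfsg.Agent.Lib.Helper99.Uni4D
open Cfsg.Agent.Lib.Helper99.Uni4E
open Cfsg.Agent.Lib.Helper99.Symp4C Cfsg.Agent.Lib.Helper99.Symp4G Cfsg.Agent.Lib.Helper99.Symp4H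
open Cfsg.Agent.Lib.Helper99.Symp4J Cfsg.Agent.Lib.Helper99.Symp4K Cfsg.Agent.Lib.Helper99.Symp4L
open scoped Matrix

variable {F : Type*} [Field F] [Fintype F] {p : ℕ} {i h : F}

section explicit

theorem ct_sM (hF : Fintype.card F = p ^ 2) (h2e : 2 * h = 1) : ct hF (sM h) * sM h = 1 := by
  have hhp := half_pow hF h2e
  have hct : ct hF (sM h) = sM h := by
    ext j k
    fin_cases j <;> fin_cases k <;> simp [ct_apply, sM, neg_pow_p hF, hhp]
  rw [hct, sM_sq h2e]

theorem ct_pM (hF : Fintype.card F = p ^ 2) : ct hF (pM : Matrix (Fin 4) (Fin 4) F) * pM = 1 := by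
  have hp0 : p ≠ 0 := (q_pos hF).ne'
  have hct : ct hF (pM : Matrix (Fin 4) (Fin 4) F) = pM * pM := by
    ext j k
    fin_cases j <;> fin_cases k <;> simp [ct_apply, pM, hp0, Matrix.mul_apply, Fin.sum_univ_four]
  rw [hct, pM_cube]

theorem ct_tM (hF : Fintype.card F = p ^ 2) (hi : i * i = -1) (hip : i ^ p = -i) (h2e : 2 * h = 1) :
    ct hF (tM i h) * tM i h = 1 := by
  have hhp := half_pow hF h2e
  have hp0 : p ≠ 0 := (q_pos hF).ne'
  have hct : ct hF (tM i h) =
      !![-h + h * i, h + h * i, 0, 0; -h + h * i, -h - h * i, 0, 0;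
         0, 0, -h + h * i, h + h * i; 0, 0, -h + h * i, -h - h * i] := by
    ext j k
    fin_cases j <;> fin_cases k <;>
      simp [ct_apply, tM, neg_pow_p hF, sub_pow_p hF, add_pow_q hF, mul_pow, hhp, hip, hp0] <;> ring
  rw [hct]
  ext j k
  fin_cases j <;> fin_cases k <;>
    simp [tM, Matrix.mul_apply, Fin.sum_univ_four, Matrix.one_apply] <;> grind

theorem ct_yM (hF : Fintype.card F = p ^ 2) (hi : i * i = -1) (hip : i ^ p = -i) (h2e : 2 * h = 1) :
    ct hF (yM i h) * yM i h = 1 := by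
  have hhp := half_pow hF h2e
  have hp0 : p ≠ 0 := (q_pos hF).ne'
  have hct : ct hF (yM i h) =
      !![0, 0, -h + h * i, -h + h * i; h - h * i, -h + h * i, 0, 0;
         h + h * i, h + h * i, 0, 0; 0, 0, h + h * i, -h - h * i] := by
    ext j k
    fin_cases j <;> fin_cases k <;>
      simp [ct_apply, yM, neg_pow_p hF, sub_pow_p hF, add_pow_q hF, mul_pow, hhp, hip, hp0] <;> ring
  rw [hct]
  ext j k
  fin_cases j <;> fin_cases k <;>
    simp [yM, Matrix.mul_apply, Fin.sum_univ_four, Matrix.one_apply] <;> grind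

/-- the Hadamard eigenframe of the reflection -/
def hM (h : F) : Matrix (Fin 4) (Fin 4) F :=
  !![h, h, h, h; h, -h, -h, h; -h, h, -h, h; -h, -h, h, h]

theorem sM_frame (hF : Fintype.card F = p ^ 2) (h2e : 2 * h = 1) :
    ct hF (hM h) * hM h = 1 ∧ sM h * hM h = hM h * Dm F 3 := by
  have hhp := half_pow hF h2e
  constructor
  · have hct : ct hF (hM h) = !![h, h, -h, -h; h, -h, h, -h; h, -h, -h, h; h, h, h, h] := by
      ext j k
      fin_cases j <;> fin_cases k <;> simp [ct_apply, hM, neg_pow_p hF, hhp]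
    rw [hct]
    ext j k
    fin_cases j <;> fin_cases k <;>
      simp [hM, Matrix.mul_apply, Fin.sum_univ_four, Matrix.one_apply] <;> grind
  · ext j k
    fin_cases j <;> fin_cases k <;>
      simp [hM, sM, Dm, Matrix.mul_apply, Fin.sum_univ_four, Matrix.diagonal_apply] <;> grind

end explicit

section helpers

theorem smul_unitary (hF : Fintype.card F = p ^ 2) {l : F} (hl : l ^ p * l = 1)
    {X : Matrix (Fin 4) (Fin 4) F} (hX : ct hF X * X = 1) : ct hF (l • X) * (l • X) = 1 := by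
  rw [ct_smul, Matrix.smul_mul, Matrix.mul_smul, smul_smul, hX, hl, one_smul]

omit [Fintype F] in
theorem norm_of_pow_four (hp4 : p % 4 = 3) {z : F} (hz4 : z ^ 4 = 1) : z ^ p * z = 1 := by
  have hp : p + 1 = 4 * ((p + 1) / 4) := by omega
  rw [← pow_succ, hp, pow_mul, hz4, one_pow]

theorem sqrt_of_pow_four (hF : Fintype.card F = p ^ 2) (hp4 : p % 4 = 3) {z : F} (hz4 : z ^ 4 = 1) :
    ∃ μ : F, μ * μ = z := by
  have hz0 : z ≠ 0 := ne_zero_of_pow_four hz4
  obtain ⟨k, hk⟩ : ∃ k, p = 4 * k + 3 := ⟨p / 4, by omega⟩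
  have hcard : Nat.card Fˣ = 2 * (4 * ((k + 1) * (2 * k + 1))) := by
    rw [Cfsg.Agent.Lib.Helper46.card_units_eq hF, hk]
    have : 4 * k + 3 - 1 = 4 * k + 2 := by omega
    rw [this]; ring
  have hy : (Units.mk0 z hz0) ^ (4 * ((k + 1) * (2 * k + 1))) = 1 := by
    apply Units.ext
    rw [Units.val_pow_eq_pow_val, Units.val_mk0, Units.val_one, pow_mul, hz4, one_pow]
  obtain ⟨u, hu⟩ := Cfsg.Agent.Lib.Helper46.exists_pow_eq_of_pow_eq_one (C := Fˣ) 2 _ hcard _ hy
  refine ⟨(u : F), ?_⟩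
  have := congrArg Units.val hu
  rw [Units.val_pow_eq_pow_val, Units.val_mk0] at this
  rw [← this, pow_two]

/-- the cyclic permutation matrix -/
def cyc (F : Type*) [Field F] : Matrix (Fin 4) (Fin 4) F :=
  !![0, 0, 0, 1; 1, 0, 0, 0; 0, 1, 0, 0; 0, 0, 1, 0]

theorem flip_frame (hF : Fintype.card F = p ^ 2) {X B : Matrix (Fin 4) (Fin 4) F}
    (hBB : ct hF B * B = 1) (hXB : X * B = B * Dm F 1) :
    ∃ B2 : Matrix (Fin 4) (Fin 4) F, ct hF B2 * B2 = 1 ∧ (-X) * B2 = B2 * Dm F 3 := by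
  have hp0 : p ≠ 0 := (q_pos hF).ne'
  have hcc : ct hF (cyc F) * cyc F = 1 := by
    have hct : ct hF (cyc F) = !![0, 1, 0, 0; 0, 0, 1, 0; 0, 0, 0, 1; 1, 0, 0, 0] := by
      ext j k
      fin_cases j <;> fin_cases k <;> simp [ct_apply, cyc, hp0]
    rw [hct]
    ext j k
    fin_cases j <;> fin_cases k <;> simp [cyc, Matrix.mul_apply, Fin.sum_univ_four, Matrix.one_apply]
  have hDc : -(Dm F 1) * cyc F = cyc F * Dm F 3 := by
    ext j k
    fin_cases j <;> fin_cases k <;>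
      simp [cyc, Dm, Matrix.mul_apply, Fin.sum_univ_four, Matrix.diagonal_apply]
  refine ⟨B * cyc F, ?_, ?_⟩
  · rw [ct_mul]
    calc ct hF (cyc F) * ct hF B * (B * cyc F) = ct hF (cyc F) * (ct hF B * B) * cyc F := by
          simp only [mul_assoc]
      _ = 1 := by rw [hBB, mul_one, hcc]
  · calc -X * (B * cyc F) = -(X * B) * cyc F := by rw [← mul_assoc, neg_mul]
      _ = B * (-(Dm F 1) * cyc F) := by rw [hXB, ← mul_assoc, mul_neg]
      _ = B * cyc F * Dm F 3 := by rw [hDc, mul_assoc]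

omit [Fintype F] in
theorem trace_of_frame {X B D : Matrix (Fin 4) (Fin 4) F} (hBd : B.det ≠ 0) (h : X * B = B * D) :
    Matrix.trace X = Matrix.trace D := by
  obtain ⟨B', hB'⟩ := exists_gl_of_det hBd
  rw [← hB'] at h
  exact trace_of_conj h

omit [Fintype F] in
theorem det_of_frame {X B D : Matrix (Fin 4) (Fin 4) F} (hBd : B.det ≠ 0) (h : X * B = B * D) :
    X.det = D.det := by
  obtain ⟨B', hB'⟩ := exists_gl_of_det hBd
  rw [← hB'] at h
  exact det_of_conj h

omit [Fintype F] in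
theorem scalar_of_frame {X B : Matrix (Fin 4) (Fin 4) F} {c : F} (hBd : B.det ≠ 0)
    (h : X * B = B * (c • 1)) : X = c • 1 := by
  obtain ⟨B', hB'⟩ := exists_gl_of_det hBd
  rw [← hB'] at h
  exact scalar_of_conj_scalar h

end helpers

section cases

variable {R : Subgroup (GL (Fin 4) F)} {P : GL (Fin 4) F}

theorem case_fiveU (hF : Fintype.card F = p ^ 2) (hp4 : p % 4 = 3) (h2 : (2 : F) ≠ 0)
    (hi : i * i = -1) (h2e : 2 * h = 1)
    {t s : F} (ht : t * t + t - 1 = 0) (hts : t + s = -1) (htp : t ^ p = s) (hsp : s ^ p = t)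
    (h5 : (5 : F) ≠ 0) (hirr : ∀ c : F, c * c - t * c + 1 ≠ 0)
    (hPU : P ∈ Cfsg.GU 4 F p) (hP : ∀ g : GL (Fin 4) F, g ∈ R ↔ P⁻¹ * g * P ∈ R0 F)
    {x : GL (Fin 4) F} (hxU : x ∈ Cfsg.GU 4 F p)
    (hdet : (x : Matrix (Fin 4) (Fin 4) F).det = 1)
    (hns : ∀ z : F, (x : Matrix (Fin 4) (Fin 4) F) ≠ z • (1 : Matrix (Fin 4) (Fin 4) F)) {z : F}
    (hz : ((x ^ 5 : GL (Fin 4) F) : Matrix (Fin 4) (Fin 4) F) = z • (1 : Matrix (Fin 4) (Fin 4) F)) :
    ∃ g ∈ Cfsg.GU 4 F p ⊓ Cfsg.Geo.specialLinear (Fin 4) F,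
      g⁻¹ * x * g ∈ Cfsg.Geo.subgroupNormalizer R := by
  have hxu := (mem_GU_iff_ct hF x).mp hxU
  have hip := i_pow hi hp4
  have hz4 := pow_four_of_det hdet hz
  have hz0 := ne_zero_of_pow_four hz4
  have hl0 : z ^ 3 ≠ 0 := pow_ne_zero _ hz0
  have hl4 : (z ^ 3) ^ 4 = 1 := by rw [← pow_mul, mul_comm, pow_mul, hz4, one_pow]
  have hlp := norm_of_pow_four hp4 hl4
  have hx5 : (z ^ 3 • (x : Matrix (Fin 4) (Fin 4) F)) ^ 5 = 1 := by
    rw [smul_pow, ← Units.val_pow_eq_pow_val, hz, smul_smul]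
    have : (z ^ 3) ^ 5 * z = (z ^ 4) ^ 4 := by ring
    rw [this, hz4, one_pow, one_smul]
  have hx1 : z ^ 3 • (x : Matrix (Fin 4) (Fin 4) F) ≠ 1 := by
    intro h1
    apply hns (z ^ 3)⁻¹
    rw [← h1, smul_smul, inv_mul_cancel₀ hl0, one_smul]
  have hU := smul_unitary hF hlp hxu
  obtain ⟨y, hyv, hyN⟩ := exists_yG (F := F) hi h2e
  have hy5 : (yM i h) ^ 5 = 1 := by
    have : (yM i h) ^ 5 = ((yM i h * yM i h) * (yM i h * yM i h)) * yM i h := by
      simp only [pow_succ, pow_zero, one_mul, mul_assoc]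
    rw [this, yM_sq hi h2e, yM2_sq hi h2e, yM4_mul hi h2e]
  have hy1 : yM i h ≠ 1 := by
    intro h1
    have := congrFun (congrFun h1 0) 0
    simp [yM] at this
  obtain ⟨B, hBB, hXB⟩ := unitary_frame5 hF ht hts htp hsp h5 hirr hU hx5 hx1
  obtain ⟨B0, hBB0, hYB0⟩ := unitary_frame5 hF ht hts htp hsp h5 hirr (ct_yM hF hi hip h2e) hy5 hy1
  exact reduceU hF hPU hP hyN hl0 (by rw [G2_det]; exact one_ne_zero) hBB hBB0 hXB
    (by rw [hyv]; exact hYB0) (fun δ hδ => delta_D5 hF h2 ht htp hsp h5 δ hδ)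

theorem case_threeU (hF : Fintype.card F = p ^ 2) (hp4 : p % 4 = 3) (h2 : (2 : F) ≠ 0)
    (h3 : (3 : F) ≠ 0) (hi : i * i = -1) (h2e : 2 * h = 1)
    {ω : F} (hω : ω * ω + ω + 1 = 0) (hωp : ω ^ p = ω)
    (hPU : P ∈ Cfsg.GU 4 F p) (hP : ∀ g : GL (Fin 4) F, g ∈ R ↔ P⁻¹ * g * P ∈ R0 F)
    {x : GL (Fin 4) F} (hxU : x ∈ Cfsg.GU 4 F p)
    (hdet : (x : Matrix (Fin 4) (Fin 4) F).det = 1)
    (hns : ∀ z : F, (x : Matrix (Fin 4) (Fin 4) F) ≠ z • (1 : Matrix (Fin 4) (Fin 4) F)) {z : F}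
    (hz : ((x ^ 3 : GL (Fin 4) F) : Matrix (Fin 4) (Fin 4) F) = z • (1 : Matrix (Fin 4) (Fin 4) F)) :
    ∃ g ∈ Cfsg.GU 4 F p ⊓ Cfsg.Geo.specialLinear (Fin 4) F,
      g⁻¹ * x * g ∈ Cfsg.Geo.subgroupNormalizer R := by
  have hxu := (mem_GU_iff_ct hF x).mp hxU
  have hip := i_pow hi hp4
  have hz4 := pow_four_of_det hdet hz
  have hz0 := ne_zero_of_pow_four hz4
  have hlp := norm_of_pow_four hp4 hz4
  set x' : Matrix (Fin 4) (Fin 4) F := z • (x : Matrix (Fin 4) (Fin 4) F) with hx'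
  have hx3 : x' * x' * x' = 1 := by
    have : x' * x' * x' = x' ^ 3 := by simp only [pow_succ, pow_zero, one_mul]
    rw [this, hx', smul_pow, ← Units.val_pow_eq_pow_val, hz, smul_smul]
    have : z ^ 3 * z = z ^ 4 := by ring
    rw [this, hz4, one_smul]
  have hx1 : x' ≠ 1 := by
    intro h1
    apply hns z⁻¹
    rw [← h1, hx', smul_smul, inv_mul_cancel₀ hz0, one_smul]
  have hU : ct hF x' * x' = 1 := smul_unitary hF hlp hxu
  have hG1d : (G1 F).det ≠ 0 := by
    rw [G1_det]; exact neg_ne_zero.mpr one_ne_zero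
  have hG2d : (G2 F).det ≠ 0 := by
    rw [G2_det]; exact one_ne_zero
  have htrA : Matrix.trace (Matrix.diagonal ![1, 1, ω, ω * ω] : Matrix (Fin 4) (Fin 4) F) = 1 := by
    rw [Matrix.trace_diagonal, Fin.sum_univ_four]
    simp
    linear_combination hω
  have htrB : Matrix.trace (Matrix.diagonal ![ω, ω, ω * ω, ω * ω] : Matrix (Fin 4) (Fin 4) F) = -2 := by
    rw [Matrix.trace_diagonal, Fin.sum_univ_four]
    simp
    linear_combination 2 * hω
  rcases unitary_frame3 hF h2 h3 hω hωp hU hx3 hx1 with ⟨B, hBB, hXB⟩ | ⟨B, hBB, hXB⟩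
  · obtain ⟨y, hyv, hyN⟩ := exists_pG (F := F)
    have hp1 : (pM : Matrix (Fin 4) (Fin 4) F) ≠ 1 := by
      intro h1
      have := congrFun (congrFun h1 1) 1
      simp [pM] at this
    have htr : Matrix.trace (pM : Matrix (Fin 4) (Fin 4) F) = 1 := by
      rw [Matrix.trace, Fin.sum_univ_four]
      simp [pM]
    rcases unitary_frame3 hF h2 h3 hω hωp (ct_pM hF) (pM_cube (F := F)) hp1 with
      ⟨B0, hBB0, hYB0⟩ | ⟨B0, hBB0, hYB0⟩
    · exact reduceU hF hPU hP hyN hz0 hG1d hBB hBB0 hXB (by rw [hyv]; exact hYB0)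
        (fun δ hδ => delta_G1 hF _ δ hδ)
    · exfalso
      have := trace_of_frame (det_ne_zero_of_gram hF hBB0 hG2d) hYB0
      rw [htr, htrB] at this
      apply h3
      linear_combination this
  · obtain ⟨y, hyv, hyN⟩ := exists_tG (F := F) hi h2e
    have ht1 : tM i h ≠ 1 := by
      intro h1
      have := congrFun (congrFun h1 0) 2
      have h02 := congrFun (congrFun h1 0) 0
      have h00 : -h - h * i = 1 := by simpa [tM] using h02
      have h01 := congrFun (congrFun h1 0) 1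
      have h01' : -h - h * i = 0 := by simpa [tM] using h01
      rw [h01'] at h00
      exact zero_ne_one h00
    have ht3 : tM i h * tM i h * tM i h = 1 := by
      have hq := tM_quad hi h2e
      have : tM i h * tM i h * tM i h = (tM i h - 1) * (tM i h * tM i h + tM i h + 1) + 1 := by
        noncomm_ring
      rw [this, hq, mul_zero, zero_add]
    have htr : Matrix.trace (tM i h) = -2 := by
      rw [Matrix.trace, Fin.sum_univ_four]
      simp [tM]
      linear_combination (-2 : F) * h2e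
    rcases unitary_frame3 hF h2 h3 hω hωp (ct_tM hF hi hip h2e) ht3 ht1 with
      ⟨B0, hBB0, hYB0⟩ | ⟨B0, hBB0, hYB0⟩
    · exfalso
      have := trace_of_frame (det_ne_zero_of_gram hF hBB0 hG1d) hYB0
      rw [htr, htrA] at this
      apply h3
      linear_combination -this
    · exact reduceU hF hPU hP hyN hz0 hG2d hBB hBB0 hXB (by rw [hyv]; exact hYB0)
        (fun δ hδ => delta_G2 hF _ δ hδ)

omit [Fintype F] in
theorem Dm_cases {m : Fin 5} {c : F} (h1ne : (1 : F) ≠ -1) (hdm : (Dm F m).det = c) :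
    (c = 1 ∧ (m = 0 ∨ m = 2 ∨ m = 4)) ∨ (c = -1 ∧ (m = 1 ∨ m = 3)) := by
  rw [det_Dm] at hdm
  by_cases hm : m = 0 ∨ m = 2 ∨ m = 4
  · rw [if_pos hm] at hdm
    exact Or.inl ⟨hdm.symm, hm⟩
  · rw [if_neg hm] at hdm
    refine Or.inr ⟨hdm.symm, ?_⟩
    fin_cases m <;> simp at hm ⊢

theorem case_twoU (hF : Fintype.card F = p ^ 2) (hp4 : p % 4 = 3) (h4 : (4 : F) ≠ 0)
    (hi : i * i = -1) (h2e : 2 * h = 1)
    (hPU : P ∈ Cfsg.GU 4 F p) (hP : ∀ g : GL (Fin 4) F, g ∈ R ↔ P⁻¹ * g * P ∈ R0 F)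
    {x : GL (Fin 4) F} (hxU : x ∈ Cfsg.GU 4 F p)
    (hdet : (x : Matrix (Fin 4) (Fin 4) F).det = 1)
    (hns : ∀ z : F, (x : Matrix (Fin 4) (Fin 4) F) ≠ z • (1 : Matrix (Fin 4) (Fin 4) F)) {z : F}
    (hz : ((x ^ 2 : GL (Fin 4) F) : Matrix (Fin 4) (Fin 4) F) = z • (1 : Matrix (Fin 4) (Fin 4) F)) :
    ∃ g ∈ Cfsg.GU 4 F p ⊓ Cfsg.Geo.specialLinear (Fin 4) F,
      g⁻¹ * x * g ∈ Cfsg.Geo.subgroupNormalizer R := by
  have h2 : (2 : F) ≠ 0 := by
    intro h0; apply h4
    have : (4 : F) = 2 * 2 := by norm_num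
    rw [this, h0, mul_zero]
  have h1ne : (1 : F) ≠ -1 := by
    intro h0; apply h2; linear_combination h0
  have hxu := (mem_GU_iff_ct hF x).mp hxU
  have hip := i_pow hi hp4
  have hz4 := pow_four_of_det hdet hz
  have hz0 := ne_zero_of_pow_four hz4
  have hxx : (x : Matrix (Fin 4) (Fin 4) F) * (x : Matrix (Fin 4) (Fin 4) F) = z • 1 := by
    rw [← hz, pow_two, Units.val_mul]
  have hsq : ∀ l : F, (l • (x : Matrix (Fin 4) (Fin 4) F)) * (l • (x : Matrix (Fin 4) (Fin 4) F)) =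
      (l * l * z) • (1 : Matrix (Fin 4) (Fin 4) F) := by
    intro l
    rw [Matrix.smul_mul, Matrix.mul_smul, hxx, smul_smul, smul_smul]
  have hdetl : ∀ l : F, (l • (x : Matrix (Fin 4) (Fin 4) F)).det = l ^ 4 := by
    intro l
    rw [Matrix.det_smul, hdet]; simp
  have h1d : (1 : Matrix (Fin 4) (Fin 4) F).det ≠ 0 := by
    rw [Matrix.det_one]; exact one_ne_zero
  have hzz : z * z = 1 ∨ z * z = -1 := by
    have : (z * z) * (z * z) = 1 := by rw [← hz4]; ring
    exact mul_self_eq_one_iff.mp this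
  rcases hzz with hzz | hzz
  · -- z = ±1
    obtain ⟨l, hl0, hl2, hl4, hlp⟩ : ∃ l : F, l ≠ 0 ∧ l * l * z = 1 ∧ l ^ 4 = 1 ∧ l ^ p * l = 1 := by
      rcases mul_self_eq_one_iff.mp hzz with h1 | h1
      · exact ⟨1, one_ne_zero, by rw [h1]; ring, by ring, by rw [one_pow, one_mul]⟩
      · refine ⟨i, ?_, by rw [h1, hi]; ring, ?_, ?_⟩
        · intro h0; rw [h0] at hi; simp at hi
        · have : i ^ 4 = (i * i) * (i * i) := by ring
          rw [this, hi]; ring
        · rw [hip]; linear_combination -hi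
    have hinv : (l • (x : Matrix (Fin 4) (Fin 4) F)) * (l • (x : Matrix (Fin 4) (Fin 4) F)) = 1 := by
      rw [hsq, hl2, one_smul]
    have hU := smul_unitary hF hlp hxu
    obtain ⟨m, B, hBB, hXB⟩ := unitary_frame2 hF h2 hU hinv
    have hBd := det_ne_zero_of_gram hF hBB h1d
    have hdm : (Dm F m).det = 1 := by rw [← det_of_frame hBd hXB, hdetl, hl4]
    have hm2 : m = 2 := by
      rcases Dm_cases h1ne hdm with ⟨_, hm⟩ | ⟨hc, _⟩
      · rcases hm with rfl | rfl | rfl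
        · exfalso
          have : Dm F 0 = (-1 : F) • (1 : Matrix (Fin 4) (Fin 4) F) := by
            ext k l'
            fin_cases k <;> fin_cases l' <;> simp [Dm, Matrix.diagonal_apply]
          rw [this] at hXB
          have := scalar_of_frame hBd hXB
          apply hns (l⁻¹ * (-1))
          rw [mul_smul, ← this, smul_smul, inv_mul_cancel₀ hl0, one_smul]
        · rfl
        · exfalso
          have : Dm F 4 = (1 : F) • (1 : Matrix (Fin 4) (Fin 4) F) := by
            ext k l'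
            fin_cases k <;> fin_cases l' <;> simp [Dm, Matrix.diagonal_apply]
          rw [this] at hXB
          have := scalar_of_frame hBd hXB
          apply hns (l⁻¹ * 1)
          rw [mul_smul, ← this, smul_smul, inv_mul_cancel₀ hl0, one_smul]
      · exact absurd hc h1ne
    subst hm2
    have hyN : (Wg 2 0 : GL (Fin 4) F) ∈ Subgroup.normalizer (R0 F : Set (GL (Fin 4) F)) :=
      Subgroup.le_normalizer (Wg_mem_R0 2 0)
    exact reduceU hF hPU hP hyN hl0 (B0 := 1) h1d hBB (by rw [ct_one, one_mul]) hXB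
      (by rw [Wg_val, Dm_two]; simp) (fun δ hδ => delta_one hF _ δ hδ)
  · -- z = ±i
    obtain ⟨μ, hμ⟩ := sqrt_of_pow_four hF hp4 hz4
    have hμ0 : μ ≠ 0 := by
      intro h0; rw [h0, mul_zero] at hμ; exact hz0 hμ.symm
    have hμ4 : μ ^ 4 = -1 := by
      have : μ ^ 4 = (μ * μ) * (μ * μ) := by ring
      rw [this, hμ, hzz]
    set l : F := μ⁻¹ with hl
    have hl0 : l ≠ 0 := inv_ne_zero hμ0
    have hl2 : l * l * z = 1 := by
      rw [hl, ← hμ]; field_simp
    have hl4 : l ^ 4 = -1 := by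
      rw [hl, inv_pow, hμ4]; norm_num
    have hinv : (l • (x : Matrix (Fin 4) (Fin 4) F)) * (l • (x : Matrix (Fin 4) (Fin 4) F)) = 1 := by
      rw [hsq, hl2, one_smul]
    have hzp := norm_of_pow_four hp4 hz4
    have hν : (l ^ p * l) * (l ^ p * l) = 1 := by
      have h1 : (l ^ p * l) * (l ^ p * l) * (z ^ p * z) = 1 := by
        have : (l ^ p * l) * (l ^ p * l) * (z ^ p * z) = (l * l * z) ^ p * (l * l * z) := by ring
        rw [this, hl2, one_pow, one_mul]
      rw [hzp, mul_one] at h1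
      exact h1
    rcases mul_self_eq_one_iff.mp hν with hν1 | hν1
    · have hU := smul_unitary hF hν1 hxu
      obtain ⟨m, B, hBB, hXB⟩ := unitary_frame2 hF h2 hU hinv
      have hBd := det_ne_zero_of_gram hF hBB h1d
      have hdm : (Dm F m).det = -1 := by rw [← det_of_frame hBd hXB, hdetl, hl4]
      obtain ⟨y, hyv, hyN⟩ := exists_sG (F := F) h2e
      obtain ⟨hH1, hH2⟩ := sM_frame hF h2e
      rcases Dm_cases h1ne hdm with ⟨hc, _⟩ | ⟨_, hm⟩
      · exact absurd hc.symm h1ne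
      · rcases hm with rfl | rfl
        · obtain ⟨B2, hB2, hXB2⟩ := flip_frame hF hBB hXB
          exact reduceU hF hPU hP hyN (neg_ne_zero.mpr hl0) h1d hB2 hH1 (by rw [neg_smul]; exact hXB2)
            (by rw [hyv]; exact hH2) (fun δ hδ => delta_one hF _ δ hδ)
        · exact reduceU hF hPU hP hyN hl0 h1d hBB hH1 hXB
            (by rw [hyv]; exact hH2) (fun δ hδ => delta_one hF _ δ hδ)
    · -- the norm is `-1`: impossible
      exfalso
      set x' : Matrix (Fin 4) (Fin 4) F := l • (x : Matrix (Fin 4) (Fin 4) F) with hx'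
      have hneg : ct hF x' * x' = -1 := by
        rw [hx', ct_smul, Matrix.smul_mul, Matrix.mul_smul, smul_smul, hxu, hν1]
        simp
      have hct : ct hF x' = -x' := by
        calc ct hF x' = ct hF x' * (x' * x') := by rw [hinv, mul_one]
          _ = (ct hF x' * x') * x' := by rw [mul_assoc]
          _ = -x' := by rw [hneg]; simp
      obtain ⟨P', m, hP'⟩ := exists_sorted_involution h2 hinv
      have htr : Matrix.trace x' = 2 * (m.val : F) - 4 := by rw [trace_of_conj hP', trace_Dm]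
      have hdm : (Dm F m).det = -1 := by rw [← det_of_conj hP', hdetl, hl4]
      have hpw : (2 * (m.val : F) - 4) ^ p = 2 * (m.val : F) - 4 := by
        rw [sub_pow_p hF, mul_pow, ofNat_pow hF, natCast_pow hF, ofNat_pow hF]
      have htr2 : 2 * (m.val : F) - 4 = -(2 * (m.val : F) - 4) := by
        have := congrArg Matrix.trace hct
        rw [trace_ct, Matrix.trace_neg, htr, hpw] at this
        exact this
      rcases Dm_cases h1ne hdm with ⟨hc, _⟩ | ⟨_, hm⟩
      · exact absurd hc.symm h1ne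
      · rcases hm with rfl | rfl
        · apply h4
          have : ((1 : Fin 5).val : F) = 1 := by simp
          rw [this] at htr2
          linear_combination -htr2
        · apply h4
          have : ((3 : Fin 5).val : F) = 3 := by simp
          rw [this] at htr2
          linear_combination htr2

end cases

end Cfsg.Agent.Lib.Helper99.Uni4F
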