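import Mathlib
import Cfsg.Agent.Lib.Helper99.Uni4A

/-!
# Arithmetic of the field with `p²` elements needed for the unitary case
-/

set_option autoImplicit false

namespace Cfsg.Agent.Lib.Helper99.Uni4G

open Cfsg.Agent.Lib.Helper19 (frobQ frobQ_apply pow_q_pow_q add_pow_q sum_pow_q q_pos one_lt_q)
open Cfsg.Agent.Lib.Helper99.Uni4A

variable {F : Type*} [Field F] [Fintype F] {p : ℕ}

/-- nonzero elements fixed by the conjugation are squares -/
theorem sqrt_of_fixed (hF : Fintype.card F = p ^ 2) (hodd : p % 2 = 1) {a : F} (ha0 : a ≠ 0)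
    (hap : a ^ p = a) : ∃ s : F, s * s = a := by
  have hp1 : 1 < p := one_lt_q hF
  have haq1 : a ^ (p - 1) = 1 := by
    have h1 : a ^ (p - 1) * a = 1 * a := by
      rw [← pow_succ, Nat.sub_add_cancel (by omega), hap, one_mul]
    exact mul_right_cancel₀ ha0 h1
  obtain ⟨k, hk⟩ : ∃ k, p + 1 = 2 * k := ⟨(p + 1) / 2, by omega⟩
  have hcard : Nat.card Fˣ = 2 * (k * (p - 1)) := by
    rw [Cfsg.Agent.Lib.Helper46.card_units_eq hF, hk]; ring
  have hy : (Units.mk0 a ha0) ^ (k * (p - 1)) = 1 := by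
    apply Units.ext
    rw [Units.val_pow_eq_pow_val, Units.val_mk0, Units.val_one, mul_comm, pow_mul, haq1, one_pow]
  obtain ⟨u, hu⟩ := Cfsg.Agent.Lib.Helper46.exists_pow_eq_of_pow_eq_one (C := Fˣ) 2 _ hcard _ hy
  refine ⟨(u : F), ?_⟩
  have := congrArg Units.val hu
  rw [Units.val_pow_eq_pow_val, Units.val_mk0] at this
  rw [← this, pow_two]

/-- an element of multiplicative order dividing `n` from a divisor of the number of units -/
theorem exists_root_of_unity (hF : Fintype.card F = p ^ 2) (n : ℕ) [Fact n.Prime]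
    (hn : n ∣ p ^ 2 - 1) : ∃ c : F, c ^ n = 1 ∧ c ≠ 1 := by
  have hdvd : n ∣ Nat.card Fˣ := by
    rw [Nat.card_units, Nat.card_eq_fintype_card, hF]; exact hn
  obtain ⟨u, hu⟩ := exists_prime_orderOf_dvd_card' n hdvd
  refine ⟨(u : F), ?_, ?_⟩
  · have := pow_orderOf_eq_one u
    rw [hu] at this
    have := congrArg Units.val this
    simpa using this
  · intro h1
    have : u = 1 := Units.ext h1
    rw [this, orderOf_one] at hu
    exact (Fact.out : n.Prime).one_lt.ne hu

/-- no root of unity of prime order `n` when `n` does not divide `p² - 1` -/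
theorem no_root_of_unity (hF : Fintype.card F = p ^ 2) (n : ℕ) [Fact n.Prime]
    (hn : ¬ n ∣ p ^ 2 - 1) {c : F} (hc : c ^ n = 1) : c = 1 := by
  by_contra h1
  have hc0 : c ≠ 0 := by
    intro h0
    rw [h0, zero_pow (Fact.out : n.Prime).ne_zero] at hc
    exact zero_ne_one hc
  have hord : orderOf (Units.mk0 c hc0) = n := by
    apply orderOf_eq_prime
    · apply Units.ext; simpa using hc
    · intro h; apply h1; simpa using congrArg Units.val h
  have hdvd : n ∣ Nat.card Fˣ := by rw [← hord]; exact orderOf_dvd_natCard _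
  rw [Nat.card_units, Nat.card_eq_fintype_card, hF] at hdvd
  exact hn hdvd

omit [Fintype F] in
theorem omega_of_root {ω : F} (h3 : ω ^ 3 = 1) (h1 : ω ≠ 1) : ω * ω + ω + 1 = 0 := by
  have : (ω - 1) * (ω * ω + ω + 1) = 0 := by linear_combination h3
  rcases mul_eq_zero.mp this with h | h
  · exact absurd (sub_eq_zero.mp h) h1
  · exact h

/-- a primitive cube root of unity of norm one when `p ≡ 2 (mod 3)` -/
theorem omega_norm_one (hF : Fintype.card F = p ^ 2) (hp3 : p % 3 = 2) :
    ∃ ω : F, ω * ω + ω + 1 = 0 ∧ ω ^ p * ω = 1 := by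
  have : Fact (Nat.Prime 3) := ⟨by norm_num⟩
  have hdvd : 3 ∣ p ^ 2 - 1 := by
    have h1 : p ^ 2 % 3 = 1 := by rw [Nat.pow_mod, hp3]
    have h2 : 1 ≤ p ^ 2 := Nat.one_le_pow _ _ (q_pos hF)
    omega
  obtain ⟨ω, hω3, hω1⟩ := exists_root_of_unity hF 3 hdvd
  refine ⟨ω, omega_of_root hω3 hω1, ?_⟩
  have hp : p + 1 = 3 * ((p + 1) / 3) := by omega
  rw [← pow_succ, hp, pow_mul, hω3, one_pow]

/-- a primitive cube root of unity in the prime field when `p ≡ 1 (mod 3)` -/
theorem omega_fixed (hF : Fintype.card F = p ^ 2) (hp3 : p % 3 = 1) :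
    ∃ ω : F, ω * ω + ω + 1 = 0 ∧ ω ^ p = ω := by
  have : Fact (Nat.Prime 3) := ⟨by norm_num⟩
  have hp1 : 1 < p := one_lt_q hF
  have hdvd : 3 ∣ p ^ 2 - 1 := by
    have h1 : p ^ 2 % 3 = 1 := by rw [Nat.pow_mod, hp3]
    have h2 : 1 ≤ p ^ 2 := Nat.one_le_pow _ _ (q_pos hF)
    omega
  obtain ⟨ω, hω3, hω1⟩ := exists_root_of_unity hF 3 hdvd
  refine ⟨ω, omega_of_root hω3 hω1, ?_⟩
  have hp : p = 3 * (p / 3) + 1 := by omega
  rw [hp, pow_succ, pow_mul, hω3, one_pow, one_mul]

/-- the golden ratio data when `5 ∤ p² - 1` -/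
theorem golden_conj (hF : Fintype.card F = p ^ 2) (hodd : p % 2 = 1) (h5 : (5 : F) ≠ 0)
    (hn5 : ¬ 5 ∣ p ^ 2 - 1) :
    ∃ t s : F, t * t + t - 1 = 0 ∧ t + s = -1 ∧ t ^ p = s ∧ s ^ p = t ∧
      ∀ c : F, c * c - t * c + 1 ≠ 0 := by
  have : Fact (Nat.Prime 5) := ⟨by norm_num⟩
  have h2 : (2 : F) ≠ 0 := by
    intro h0
    have hcard : Fintype.card F % 2 = 1 := by rw [hF, Nat.pow_mod, hodd]
    have : ringChar F = 2 := by
      have h2' : ((2 : ℕ) : F) = 0 := by exact_mod_cast h0
      have hd := (ringChar.spec F 2).mp h2'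
      exact ((Nat.prime_dvd_prime_iff_eq (CharP.char_is_prime F (ringChar F)) Nat.prime_two).mp hd)
    have := FiniteField.even_card_iff_char_two.mp this
    omega
  obtain ⟨h, h2e⟩ : ∃ h : F, 2 * h = 1 := ⟨2⁻¹, mul_inv_cancel₀ h2⟩
  have hhp := half_pow hF h2e
  obtain ⟨s', hs'⟩ := sqrt_of_fixed hF hodd h5 (ofNat_pow hF 5)
  set t : F := (s' - 1) * h with htdef
  have ht : t * t + t - 1 = 0 := by rw [htdef]; grind
  have hirr : ∀ c : F, c * c - t * c + 1 ≠ 0 := by
    intro c hc
    have hc5 : c ^ 5 = 1 := by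
      have h2c : c * c = t * c - 1 := by linear_combination hc
      have : c ^ 5 = (c * c) * (c * c) * c := by ring
      rw [this, h2c]
      have e1 : (t * c - 1) * (t * c - 1) * c = t * t * (c * c) * c - 2 * t * (c * c) + c := by ring
      rw [e1, h2c]
      have e2 : t * t * (t * c - 1) * c - 2 * t * (t * c - 1) + c =
          t * t * t * (c * c) - 3 * (t * t) * c + 2 * t + c := by ring
      rw [e2, h2c]
      have ht2 : t * t = 1 - t := by linear_combination ht
      have e3 : t * t * t * (t * c - 1) - 3 * (t * t) * c + 2 * t + c =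
          (t * t) * (t * t) * c - (t * t) * t - 3 * (t * t) * c + 2 * t + c := by ring
      rw [e3, ht2]
      have e4 : (1 - t) * (1 - t) * c - (1 - t) * t - 3 * (1 - t) * c + 2 * t + c =
          (t * t) * c + (t * t) + t * c + t - c := by ring
      rw [e4, ht2]; ring
    have hc1 := no_root_of_unity hF 5 hn5 hc5
    rw [hc1] at hc
    apply h5
    have ht2 : t = 2 := by linear_combination -hc
    rw [ht2] at ht
    linear_combination ht
  have ht4 : t * t - 4 ≠ 0 := by
    intro h4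
    apply h5
    have h1 : t = -3 := by linear_combination ht - h4
    rw [h1] at ht
    linear_combination ht
  have htp : t ^ p ≠ t := by
    intro hfix
    have hd : (t * t - 4) ^ p = t * t - 4 := by
      rw [sub_pow_p hF, mul_pow, hfix, ofNat_pow hF]
    obtain ⟨e, he⟩ := sqrt_of_fixed hF hodd ht4 hd
    apply hirr ((t + e) * h)
    linear_combination (h * h) * he + ((t * t + t * e) * h - 1 - 2 * h) * h2e
  have hroot : (t ^ p) * (t ^ p) + t ^ p - 1 = 0 := by
    have := congrArg (fun x => x ^ p) ht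
    simp only [sub_pow_p hF, add_pow_q hF, mul_pow, one_pow] at this
    rw [this, zero_pow (q_pos hF).ne']
  have hts : t ^ p = -1 - t := by
    have : (t ^ p - t) * (t ^ p - (-1 - t)) = 0 := by linear_combination hroot - ht
    rcases mul_eq_zero.mp this with h0 | h0
    · exact absurd (sub_eq_zero.mp h0) htp
    · exact sub_eq_zero.mp h0
  refine ⟨t, -1 - t, ht, by ring, hts, ?_, hirr⟩
  rw [← hts, pow_q_pow_q hF]

/-- the golden ratio lies in the fixed field when `p ≡ ±1 (mod 5)` -/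
theorem golden_fixed (hF : Fintype.card F = p ^ 2) (hp5 : p % 5 = 1 ∨ p % 5 = 4) :
    ∃ t : F, t * t + t - 1 = 0 ∧ t ^ p = t := by
  have : Fact (Nat.Prime 5) := ⟨by norm_num⟩
  have hdvd : 5 ∣ p ^ 2 - 1 := by
    have h1 : p ^ 2 % 5 = 1 := by
      rcases hp5 with h | h <;> rw [Nat.pow_mod, h]
    have h2 : 1 ≤ p ^ 2 := Nat.one_le_pow _ _ (q_pos hF)
    omega
  obtain ⟨c, hc5, hc1⟩ := exists_root_of_unity hF 5 hdvd
  have hc0 : c ≠ 0 := by
    intro h0
    rw [h0] at hc5
    norm_num at hc5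
  have hc4 : c ^ 4 + c ^ 3 + c ^ 2 + c + 1 = 0 := by
    have : (c - 1) * (c ^ 4 + c ^ 3 + c ^ 2 + c + 1) = 0 := by linear_combination hc5
    rcases mul_eq_zero.mp this with h | h
    · exact absurd (sub_eq_zero.mp h) hc1
    · exact h
  refine ⟨c + c⁻¹, ?_, ?_⟩
  · field_simp
    linear_combination hc4
  · rw [add_pow_q hF, inv_pow]
    rcases hp5 with h | h
    · have hp : p = 5 * (p / 5) + 1 := by omega
      have hcp : c ^ p = c := by rw [hp, pow_succ, pow_mul, hc5, one_pow, one_mul]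
      rw [hcp]
    · have hp : p = 5 * (p / 5) + 4 := by omega
      have hcp : c ^ p = c⁻¹ := by
        rw [hp, pow_add, pow_mul, hc5, one_pow, one_mul]
        apply eq_inv_of_mul_eq_one_left
        rw [← pow_succ]; exact hc5
      rw [hcp, inv_inv, add_comm]

end Cfsg.Agent.Lib.Helper99.Uni4G
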